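import Cfsg.Agent.Lib.Helper77.PPow
import Cfsg.Agent.Lib.Helper3.Omega
import Cfsg.Prelude.Def_BlockRank

/-!
# Decomposition of a sum over a finite group along its `p`-sections
-/

set_option autoImplicit false

universe u

namespace Cfsg.Agent.Lib.Helper75

open Cfsg Cfsg.Agent.Lib.Helper77

variable {G : Type u} [Group G] [Fintype G] {p : ℕ}

/-- With `N` an exponent computing `p`-parts and `x` a `p`-element: the `p`-part of `x * u` is `x`
exactly when `u` is a `p`-regular element of the centralizer of `x`. -/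
theorem mul_pow_eq_iff (hp : p.Prime) {K r N : ℕ} (hcard : Nat.card G = p ^ K * r)
    (hpr : ¬ p ∣ r) (hrN : r ∣ N) (hN1 : N ≡ 1 [MOD p ^ K]) {x : G}
    (hx : ∃ k : ℕ, orderOf x = p ^ k) (u : G) :
    (x * u) ^ N = x ↔ u ∈ Subgroup.centralizer ({x} : Set G) ∧ ¬ p ∣ orderOf u := by
  constructor
  · intro h
    have h1 := isPPart_pow hp hcard hpr hrN hN1 (x * u)
    rw [h] at h1
    obtain ⟨y, hy1, hy2, -, hy4⟩ := h1
    have hyu : y = u := mul_left_cancel hy1
    subst hyu
    refine ⟨?_, hy4⟩
    rw [Subgroup.mem_centralizer_singleton_iff]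
    exact hy2.eq.symm
  · rintro ⟨h1, h2⟩
    apply pow_eq_of_isPPart hp hcard hpr hrN hN1
    refine ⟨u, rfl, ?_, hx, h2⟩
    rw [Subgroup.mem_centralizer_singleton_iff] at h1
    exact h1.symm

open Classical in
/-- The sum of `F` over the elements with `p`-part `x` is the sum of `F (x * c)` over the
`p`-regular elements `c` of the centralizer of `x`. -/
theorem sum_pPart_eq (hp : p.Prime) {K r N : ℕ} (hcard : Nat.card G = p ^ K * r)
    (hpr : ¬ p ∣ r) (hrN : r ∣ N) (hN1 : N ≡ 1 [MOD p ^ K]) {x : G}
    (hx : ∃ k : ℕ, orderOf x = p ^ k) [Fintype (Subgroup.centralizer ({x} : Set G))]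
    (F : G → ℂ) :
    ∑ g : G, (if g ^ N = x then F g else 0) =
      ∑ c : Subgroup.centralizer ({x} : Set G),
        pRegularPart p (fun c : Subgroup.centralizer ({x} : Set G) => F (x * (c : G))) c := by
  have h0 : ∑ g : G, (if g ^ N = x then F g else 0) =
      ∑ u : G, (if (x * u) ^ N = x then F (x * u) else 0) :=
    (Fintype.sum_equiv (Equiv.mulLeft x) (fun u => if (x * u) ^ N = x then F (x * u) else 0)
      (fun g => if g ^ N = x then F g else 0) (fun u => rfl)).symm
  rw [h0]
  have h1 : ∀ u : G, (if (x * u) ^ N = x then F (x * u) else 0) =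
      if u ∈ Subgroup.centralizer ({x} : Set G) then (if ¬ p ∣ orderOf u then F (x * u) else 0)
        else 0 := by
    intro u
    rw [mul_pow_eq_iff hp hcard hpr hrN hN1 hx u]
    by_cases h1 : u ∈ Subgroup.centralizer ({x} : Set G)
    · by_cases h2 : p ∣ orderOf u
      · rw [if_neg (fun h => h.2 h2), if_pos h1, if_neg (fun h => h h2)]
      · rw [if_pos ⟨h1, h2⟩, if_pos h1, if_pos h2]
    · rw [if_neg (fun h => h1 h.1), if_neg h1]
  rw [Finset.sum_congr rfl fun u _ => h1 u, ← Finset.sum_filter]
  rw [Finset.sum_subtype (Finset.univ.filter fun u : G => u ∈ Subgroup.centralizer ({x} : Set G))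
    (p := fun u : G => u ∈ Subgroup.centralizer ({x} : Set G))
    (fun u => by simp)]
  refine Finset.sum_congr rfl fun c _ => ?_
  unfold pRegularPart IsPRegular
  rw [Subgroup.orderOf_coe]
  by_cases h2 : p ∣ orderOf c
  · rw [if_neg (fun h => h h2), if_neg (fun h => h h2)]
  · rw [if_pos h2, if_pos h2]

open Classical in
/-- **Decomposition along `p`-sections.**  If `X` is a set of representatives of the conjugacy
classes of `p`-elements, the sum of a class function `F` over the group is the sum over `x ∈ X` of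
the class size of `x` times the sum of `F (x * c)` over the `p`-regular `c` in the centralizer
of `x`. -/
theorem sum_eq_sum_sections (hp : p.Prime) (X : Finset G)
    (hX : ∀ x ∈ X, ∃ k : ℕ, orderOf x = p ^ k)
    (hXrep : ∀ g : G, (∃ k : ℕ, orderOf g = p ^ k) → ∃! x, x ∈ X ∧ IsConj g x)
    (F : G → ℂ) (hF : IsClassFunction G F) :
    ∑ g : G, F g = ∑ x ∈ X, ((Subgroup.centralizer ({x} : Set G)).index : ℂ) *
      ∑ᶠ c : Subgroup.centralizer ({x} : Set G),
        pRegularPart p (fun c : Subgroup.centralizer ({x} : Set G) => F (x * (c : G))) c := by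
  obtain ⟨K, r, N, hcard, hpr, hrN, hN1⟩ := exists_ppart_exponent G p hp
  -- the `p`-part function
  have hpp : ∀ g : G, ∃ k : ℕ, orderOf (g ^ N) = p ^ k := by
    intro g
    obtain ⟨y, -, -, h3, -⟩ := isPPart_pow hp hcard hpr hrN hN1 g
    exact h3
  -- `H a` : the sum of `F` over the elements with `p`-part `a`
  set H : G → ℂ := fun a => ∑ g : G, (if g ^ N = a then F g else 0) with hH
  have hHcl : IsClassFunction G H := by
    intro a t
    show ∑ g : G, (if g ^ N = t * a * t⁻¹ then F g else 0) =
      ∑ g : G, (if g ^ N = a then F g else 0)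
    rw [← Equiv.sum_comp (MulAut.conj t).toEquiv]
    refine Finset.sum_congr rfl fun g _ => ?_
    have e1 : (MulAut.conj t).toEquiv g = t * g * t⁻¹ := rfl
    rw [e1, conj_pow, hF g t]
    have e2 : t * g ^ N * t⁻¹ = t * a * t⁻¹ ↔ g ^ N = a := by
      constructor
      · intro h
        exact mul_left_cancel (mul_right_cancel h)
      · intro h
        rw [h]
    simp only [e2]
  have h1 : ∀ g : G, F g = ∑ x ∈ X, (if IsConj (g ^ N) x then F g else 0) := by
    intro g
    obtain ⟨x, ⟨hxX, hxc⟩, hxu⟩ := hXrep (g ^ N) (hpp g)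
    rw [Finset.sum_eq_single x]
    · rw [if_pos hxc]
    · intro x' hx' hne
      rw [if_neg]
      intro hc
      exact hne (hxu x' ⟨hx', hc⟩)
    · intro hnot
      exact absurd hxX hnot
  rw [Finset.sum_congr rfl fun g _ => h1 g, Finset.sum_comm]
  refine Finset.sum_congr rfl fun x hx => ?_
  have h2 : ∑ g : G, (if IsConj (g ^ N) x then F g else 0) =
      ∑ a : G, (if IsConj a x then (1 : ℂ) else 0) * H a := by
    simp only [hH, Finset.mul_sum]
    rw [Finset.sum_comm]
    refine Finset.sum_congr rfl fun g _ => ?_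
    rw [Finset.sum_eq_single (g ^ N)]
    · rw [if_pos rfl]
      split_ifs <;> simp
    · intro a _ hne
      rw [if_neg (fun h : g ^ N = a => hne h.symm), mul_zero]
    · intro hnot
      exact absurd (Finset.mem_univ _) hnot
  rw [h2, Cfsg.Agent.Lib.Helper3.sum_indicator_mul x hHcl]
  congr 1
  have : Fintype (Subgroup.centralizer ({x} : Set G)) := Fintype.ofFinite _
  rw [finsum_eq_sum_of_fintype]
  exact sum_pPart_eq hp hcard hpr hrN hN1 (hX x hx) F

end Cfsg.Agent.Lib.Helper75
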