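import Cfsg.Agent.Lib.Helper75.SectionOrth
import Cfsg.Agent.Lib.Helper75.SectionSum
import Cfsg.Agent.S0923
import Cfsg.Agent.Lib.Helper74.BR2
import Cfsg.Agent.Lib.Helper77.ExtFirstMain
import Cfsg.Agent.Lib.Helper77.BlockDecomp2

/-!
# Block orthogonality on a `p`-section and Brauer's count `k(B) = ∑ l(b)`
-/

set_option autoImplicit false

universe u

namespace Cfsg.Agent.Lib.Helper75

open Cfsg Cfsg.Agent.Lib.Helper77
open scoped ComplexConjugate

section blocksum

variable {C : Type u} [Group C] [Fintype C] [Fintype (IrrCharacter C)]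

open Classical in
/-- The finite set of all blocks of `C`. -/
noncomputable def blocksFinset (M : Ideal AlgInt) (C : Type u) [Group C] [Fintype (IrrCharacter C)] :
    Finset (Set (IrrCharacter C)) :=
  Finset.univ.image (fun ψ : IrrCharacter C => blockOf M (ψ : C → ℂ))

open Classical in
theorem mem_blocksFinset {M : Ideal AlgInt} {b : Set (IrrCharacter C)} :
    b ∈ blocksFinset M C ↔ IsPBlock M b := by
  unfold blocksFinset IsPBlock
  simp only [Finset.mem_image, Finset.mem_univ, true_and]
  constructor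
  · rintro ⟨ψ, h⟩
    exact ⟨ψ, h.symm⟩
  · rintro ⟨ψ, h⟩
    exact ⟨ψ, h.symm⟩

open Classical in
/-- A sum over the irreducible characters whose block satisfies `P` is the sum over the blocks
satisfying `P` of the sums over their members. -/
theorem sum_filter_blockOf {M : Ideal AlgInt} (hM : M.IsPrime)
    (P : Set (IrrCharacter C) → Prop) [DecidablePred P]
    [DecidablePred (fun ψ : IrrCharacter C => P (blockOf M (ψ : C → ℂ)))]
    (f : IrrCharacter C → ℂ) :
    ∑ ψ ∈ Finset.univ.filter (fun ψ : IrrCharacter C => P (blockOf M (ψ : C → ℂ))), f ψ =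
    ∑ b ∈ (blocksFinset M C).filter P,
      ∑ ψ ∈ Finset.univ.filter (fun ψ : IrrCharacter C => ψ ∈ b), f ψ := by
  let gmap : IrrCharacter C → Set (IrrCharacter C) := fun ψ => blockOf M (ψ : C → ℂ)
  rw [← Finset.sum_fiberwise_of_maps_to
    (s := Finset.univ.filter (fun ψ : IrrCharacter C => P (blockOf M (ψ : C → ℂ))))
    (t := (blocksFinset M C).filter P) (g := gmap)
    (fun ψ hψ => Finset.mem_filter.mpr
      ⟨mem_blocksFinset.mpr ⟨ψ, rfl⟩, (Finset.mem_filter.mp hψ).2⟩)]
  refine Finset.sum_congr rfl fun b hb => ?_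
  obtain ⟨hb1, hb2⟩ := Finset.mem_filter.mp hb
  obtain ⟨ψ₁, rfl⟩ := mem_blocksFinset.mp hb1
  apply Finset.sum_congr
  · ext ψ
    simp only [Finset.mem_filter, Finset.mem_univ, true_and, gmap]
    constructor
    · rintro ⟨-, h⟩
      rw [← h]
      exact self_mem_blockOf hM ψ
    · intro h
      have h1 := blockOf_eq_of_mem hM h
      exact ⟨by rw [h1]; exact hb2, h1⟩
  · intro ψ _
    rfl

end blocksum

variable {G : Type u} [Group G] [Fintype G]

theorem isClassFunction_shift (ζ : IrrCharacter G) (x : G) :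
    IsClassFunction (Subgroup.centralizer ({x} : Set G))
      (fun c : Subgroup.centralizer ({x} : Set G) => (ζ : G → ℂ) (x * (c : G))) := by
  intro c h
  have hcl := Cfsg.Agent.Lib.Helper3.IsCharacter.isClassFunction
    (Cfsg.Agent.Lib.Helper3.IsIrrCharacter.isCharacter ζ.2)
  have hh : (h : G) * x = x * (h : G) := Subgroup.mem_centralizer_singleton_iff.mp h.2
  show (ζ : G → ℂ) (x * ((h : G) * (c : G) * (h : G)⁻¹)) = (ζ : G → ℂ) (x * (c : G))
  rw [← hcl (x * (c : G)) (h : G)]
  rw [← mul_assoc, ← mul_assoc, ← mul_assoc, hh]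

open Classical in
/-- **Block orthogonality on a `p`-section.**  For a `p`-element `x` with centralizer `C`, a block
`B` of `G` and a `p`-regular `y ∈ C`: the squared norms of the values at `x y` of the members of
`B` add up to the squared norms of the values at `y` of the irreducible characters of `C` lying
in blocks that induce `B`. -/
theorem sum_block_section [Fintype (IrrCharacter G)] {p : ℕ} [Fact p.Prime]
    {M : Ideal AlgInt} (hM : IsPModular p M) {x : G} (hx : ∃ k : ℕ, orderOf x = p ^ k)
    [Fintype (Subgroup.centralizer ({x} : Set G))]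
    [Fintype (IrrCharacter (Subgroup.centralizer ({x} : Set G)))]
    {B : Set (IrrCharacter G)} (hB : IsPBlock M B)
    (y : Subgroup.centralizer ({x} : Set G)) (hy : ¬ p ∣ orderOf y) :
    ∑ χ ∈ Finset.univ.filter (fun χ : IrrCharacter G => χ ∈ B),
      (χ : G → ℂ) (x * (y : G)) * conj ((χ : G → ℂ) (x * (y : G))) =
    ∑ ψ ∈ Finset.univ.filter (fun ψ : IrrCharacter (Subgroup.centralizer ({x} : Set G)) =>
        IsInducedBlock M (Subgroup.centralizer ({x} : Set G))
          (blockOf M (ψ : Subgroup.centralizer ({x} : Set G) → ℂ)) B),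
      (ψ : Subgroup.centralizer ({x} : Set G) → ℂ) y *
        conj ((ψ : Subgroup.centralizer ({x} : Set G) → ℂ) y) := by
  have hp : p.Prime := Fact.out
  have hMp : M.IsPrime := hM.2.1.isPrime
  set S := Finset.univ.filter (fun ψ : IrrCharacter (Subgroup.centralizer ({x} : Set G)) =>
        IsInducedBlock M (Subgroup.centralizer ({x} : Set G))
          (blockOf M (ψ : Subgroup.centralizer ({x} : Set G) → ℂ)) B) with hS
  -- the `S`-part
  set sp : IrrCharacter G → ℂ := fun ζ =>
    ∑ ψ ∈ S, classInner (fun c : Subgroup.centralizer ({x} : Set G) => (ζ : G → ℂ) (x * (c : G)))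
          (ψ : Subgroup.centralizer ({x} : Set G) → ℂ) *
          (ψ : Subgroup.centralizer ({x} : Set G) → ℂ) y with hsp
  -- `S`-part as a sum of block parts
  have hsp1 : ∀ ζ : IrrCharacter G, sp ζ =
      ∑ b ∈ (blocksFinset M (Subgroup.centralizer ({x} : Set G))).filter
          (fun b => IsInducedBlock M (Subgroup.centralizer ({x} : Set G)) b B),
        blockPart b (fun c : Subgroup.centralizer ({x} : Set G) => (ζ : G → ℂ) (x * (c : G))) y := by
    intro ζ
    rw [hsp, hS]
    show ∑ ψ ∈ Finset.univ.filter (fun ψ : IrrCharacter (Subgroup.centralizer ({x} : Set G)) =>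
        IsInducedBlock M (Subgroup.centralizer ({x} : Set G))
          (blockOf M (ψ : Subgroup.centralizer ({x} : Set G) → ℂ)) B), _ = _
    rw [sum_filter_blockOf hMp (fun b => IsInducedBlock M (Subgroup.centralizer ({x} : Set G)) b B)]
    refine Finset.sum_congr rfl fun b _ => ?_
    rw [blockPart_eq_sum]
  -- the complement
  have hsp2 : ∀ ζ : IrrCharacter G, (ζ : G → ℂ) (x * (y : G)) = sp ζ +
      ∑ b ∈ (blocksFinset M (Subgroup.centralizer ({x} : Set G))).filter
          (fun b => ¬ IsInducedBlock M (Subgroup.centralizer ({x} : Set G)) b B),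
        blockPart b (fun c : Subgroup.centralizer ({x} : Set G) => (ζ : G → ℂ) (x * (c : G))) y := by
    intro ζ
    have h1 := congrFun (Cfsg.Agent.Lib.Helper3.classFunction_eq_sum (isClassFunction_shift ζ x)) y
    rw [Finset.sum_apply] at h1
    simp only [Pi.smul_apply, smul_eq_mul] at h1
    rw [h1, ← Finset.sum_filter_add_sum_filter_not Finset.univ
      (fun ψ : IrrCharacter (Subgroup.centralizer ({x} : Set G)) =>
        IsInducedBlock M (Subgroup.centralizer ({x} : Set G))
          (blockOf M (ψ : Subgroup.centralizer ({x} : Set G) → ℂ)) B)]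
    congr 1
    rw [sum_filter_blockOf hMp
      (fun b => ¬ IsInducedBlock M (Subgroup.centralizer ({x} : Set G)) b B)]
    refine Finset.sum_congr rfl fun b _ => ?_
    rw [blockPart_eq_sum]
  -- (a)
  have ha : ∀ ζ : IrrCharacter G, ζ ∈ B → (ζ : G → ℂ) (x * (y : G)) = sp ζ := by
    intro ζ hζ
    rw [hsp2 ζ, Finset.sum_eq_zero, add_zero]
    intro b hb
    obtain ⟨hb1, hb2⟩ := Finset.mem_filter.mp hb
    exact Cfsg.Agent.S0923.result p M hM x hx B hB ζ hζ b (mem_blocksFinset.mp hb1) hb2 y hy
  -- (b)
  have hb : ∀ ζ : IrrCharacter G, ζ ∉ B → sp ζ = 0 := by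
    intro ζ hζ
    rw [hsp1 ζ]
    refine Finset.sum_eq_zero fun b hb => ?_
    obtain ⟨hb1, hb2⟩ := Finset.mem_filter.mp hb
    refine Cfsg.Agent.S0923.result p M hM x hx (blockOf M (ζ : G → ℂ)) ⟨ζ, rfl⟩ ζ
      (self_mem_blockOf hMp ζ) b (mem_blocksFinset.mp hb1) ?_ y hy
    intro hind
    apply hζ
    rw [isInducedBlock_unique hMp hb2 hind]
    exact self_mem_blockOf hMp ζ
  -- (c)
  have hS0 : ∀ c : Subgroup.centralizer ({x} : Set G), p ∣ orderOf c →
      ∑ ψ ∈ S, (ψ : Subgroup.centralizer ({x} : Set G) → ℂ) c *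
        conj ((ψ : Subgroup.centralizer ({x} : Set G) → ℂ) y) = 0 := by
    intro c hc
    rw [hS, sum_filter_blockOf hMp (fun b => IsInducedBlock M (Subgroup.centralizer ({x} : Set G)) b B)]
    refine Finset.sum_eq_zero fun b hb => ?_
    obtain ⟨hb1, -⟩ := Finset.mem_filter.mp hb
    obtain ⟨ψ₁, rfl⟩ := mem_blocksFinset.mp hb1
    have h1 := Cfsg.Agent.Lib.Helper16.weak_block_orthogonality_finset hM ψ₁ hy hc
    have h2 := congrArg (starRingEnd ℂ) h1
    rw [map_sum, map_zero] at h2
    rw [← h2]
    refine Finset.sum_congr rfl fun χ _ => ?_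
    rw [map_mul, Complex.conj_conj, mul_comm]
  have hc := sum_setPart_mul_conj hp hx S y hS0
  rw [← hc]
  rw [Finset.sum_filter]
  refine Finset.sum_congr rfl fun ζ _ => ?_
  by_cases hζ : ζ ∈ B
  · rw [if_pos hζ, ha ζ hζ]
  · rw [if_neg hζ]
    have := hb ζ hζ
    rw [hsp] at this
    simp only at this
    rw [this, zero_mul]

open Classical in
/-- The sum over the `p`-regular elements `c` of the centralizer `C` of a `p`-element `x` of the
squared norms at `x c` of the members of a block `B` is `|C|` times the sum of the `p`-regular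
ranks of the blocks of `C` inducing `B`. -/
theorem sum_pRegularPart_section [Fintype (IrrCharacter G)] {p : ℕ} [Fact p.Prime]
    {M : Ideal AlgInt} (hM : IsPModular p M) {x : G} (hx : ∃ k : ℕ, orderOf x = p ^ k)
    [Fintype (Subgroup.centralizer ({x} : Set G))]
    [Fintype (IrrCharacter (Subgroup.centralizer ({x} : Set G)))]
    {B : Set (IrrCharacter G)} (hB : IsPBlock M B) :
    ∑ c : Subgroup.centralizer ({x} : Set G),
      pRegularPart p (fun c : Subgroup.centralizer ({x} : Set G) =>
        ∑ χ ∈ Finset.univ.filter (fun χ : IrrCharacter G => χ ∈ B),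
          (χ : G → ℂ) (x * (c : G)) * conj ((χ : G → ℂ) (x * (c : G)))) c =
    (Nat.card (Subgroup.centralizer ({x} : Set G)) : ℂ) *
      ((∑ᶠ b ∈ {b : Set (IrrCharacter (Subgroup.centralizer ({x} : Set G))) |
          IsInducedBlock M (Subgroup.centralizer ({x} : Set G)) b B}, blockRank p b : ℕ) : ℂ) := by
  have hMp : M.IsPrime := hM.2.1.isPrime
  -- step 1
  have h1 : ∀ c : Subgroup.centralizer ({x} : Set G),
      pRegularPart p (fun c : Subgroup.centralizer ({x} : Set G) =>
        ∑ χ ∈ Finset.univ.filter (fun χ : IrrCharacter G => χ ∈ B),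
          (χ : G → ℂ) (x * (c : G)) * conj ((χ : G → ℂ) (x * (c : G)))) c =
      ∑ ψ ∈ Finset.univ.filter (fun ψ : IrrCharacter (Subgroup.centralizer ({x} : Set G)) =>
        IsInducedBlock M (Subgroup.centralizer ({x} : Set G))
          (blockOf M (ψ : Subgroup.centralizer ({x} : Set G) → ℂ)) B),
        pRegularPart p (ψ : Subgroup.centralizer ({x} : Set G) → ℂ) c *
          (ψ : Subgroup.centralizer ({x} : Set G) → ℂ) c⁻¹ := by
    intro c
    by_cases hc : p ∣ orderOf c
    · rw [Cfsg.Agent.Lib.Helper74.pRegularPart_apply, if_neg (fun h => h hc)]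
      symm
      refine Finset.sum_eq_zero fun ψ _ => ?_
      rw [Cfsg.Agent.Lib.Helper74.pRegularPart_apply, if_neg (fun h => h hc), zero_mul]
    · rw [Cfsg.Agent.Lib.Helper74.pRegularPart_apply, if_pos hc]
      rw [sum_block_section hM hx hB c hc]
      refine Finset.sum_congr rfl fun ψ _ => ?_
      rw [Cfsg.Agent.Lib.Helper74.pRegularPart_apply, if_pos hc,
        Cfsg.Agent.Lib.Helper3.IsCharacter.inv
          (Cfsg.Agent.Lib.Helper3.IsIrrCharacter.isCharacter ψ.2)]
  rw [Finset.sum_congr rfl fun c _ => h1 c]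
  -- step 2
  have h2 : ∀ c : Subgroup.centralizer ({x} : Set G),
      ∑ ψ ∈ Finset.univ.filter (fun ψ : IrrCharacter (Subgroup.centralizer ({x} : Set G)) =>
        IsInducedBlock M (Subgroup.centralizer ({x} : Set G))
          (blockOf M (ψ : Subgroup.centralizer ({x} : Set G) → ℂ)) B),
        pRegularPart p (ψ : Subgroup.centralizer ({x} : Set G) → ℂ) c *
          (ψ : Subgroup.centralizer ({x} : Set G) → ℂ) c⁻¹ =
      ∑ b ∈ (blocksFinset M (Subgroup.centralizer ({x} : Set G))).filter
          (fun b => IsInducedBlock M (Subgroup.centralizer ({x} : Set G)) b B),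
        ∑ ψ ∈ Finset.univ.filter
            (fun ψ : IrrCharacter (Subgroup.centralizer ({x} : Set G)) => ψ ∈ b),
          pRegularPart p (ψ : Subgroup.centralizer ({x} : Set G) → ℂ) c *
            (ψ : Subgroup.centralizer ({x} : Set G) → ℂ) c⁻¹ := by
    intro c
    rw [sum_filter_blockOf hMp
      (fun b => IsInducedBlock M (Subgroup.centralizer ({x} : Set G)) b B)]
  rw [Finset.sum_congr rfl fun c _ => h2 c, Finset.sum_comm]
  have h3 : ∀ b ∈ (blocksFinset M (Subgroup.centralizer ({x} : Set G))).filter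
          (fun b => IsInducedBlock M (Subgroup.centralizer ({x} : Set G)) b B),
      ∑ c : Subgroup.centralizer ({x} : Set G),
        ∑ ψ ∈ Finset.univ.filter
            (fun ψ : IrrCharacter (Subgroup.centralizer ({x} : Set G)) => ψ ∈ b),
          pRegularPart p (ψ : Subgroup.centralizer ({x} : Set G) → ℂ) c *
            (ψ : Subgroup.centralizer ({x} : Set G) → ℂ) c⁻¹ =
      (Nat.card (Subgroup.centralizer ({x} : Set G)) : ℂ) * (blockRank p b : ℂ) := by
    intro b hb
    obtain ⟨hb1, -⟩ := Finset.mem_filter.mp hb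
    obtain ⟨ψ₁, rfl⟩ := mem_blocksFinset.mp hb1
    rw [Cfsg.Agent.Lib.Helper74.card_mul_blockRank p M hM ψ₁]
  rw [Finset.sum_congr rfl h3, ← Finset.mul_sum]
  congr 1
  -- step 3
  have h4 : {b : Set (IrrCharacter (Subgroup.centralizer ({x} : Set G))) |
      IsInducedBlock M (Subgroup.centralizer ({x} : Set G)) b B} =
      (((blocksFinset M (Subgroup.centralizer ({x} : Set G))).filter
          (fun b => IsInducedBlock M (Subgroup.centralizer ({x} : Set G)) b B) :
        Finset (Set (IrrCharacter (Subgroup.centralizer ({x} : Set G))))) :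
        Set (Set (IrrCharacter (Subgroup.centralizer ({x} : Set G))))) := by
    ext b
    simp only [Set.mem_setOf_eq, Finset.coe_filter, mem_blocksFinset]
    constructor
    · intro h
      exact ⟨h.1, h⟩
    · intro h
      exact h.2
  rw [h4, finsum_mem_coe_finset, Nat.cast_sum]

end Cfsg.Agent.Lib.Helper75
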