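import Cfsg.Agent.Lib.Helper75.DefectOne1
import Cfsg.Agent.S4511

/-!
# Counting consequences of Brauer's formula `k(B) = ∑ l(b)`: uniqueness of the inducing block
when `k(B) ≤ 2`
-/

set_option autoImplicit false

universe u

namespace Cfsg.Agent.Lib.Helper75

open Cfsg Cfsg.Agent.Lib.Helper77
open scoped ComplexConjugate

variable {G : Type u} [Group G] [Finite G]

/-- The contribution of the `p`-section of `x` to `k(B)`. -/
noncomputable def sectionTerm (p : ℕ) (M : Ideal AlgInt) (B : Set (IrrCharacter G)) (x : G) : ℕ :=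
  ∑ᶠ b ∈ {b : Set (IrrCharacter (Subgroup.centralizer ({x} : Set G))) |
    IsInducedBlock M (Subgroup.centralizer ({x} : Set G)) b B}, blockRank p b

theorem blockRank_le_sectionTerm (p : ℕ) (M : Ideal AlgInt) (B : Set (IrrCharacter G)) (x : G)
    {b : Set (IrrCharacter (Subgroup.centralizer ({x} : Set G)))}
    (hb : IsInducedBlock M (Subgroup.centralizer ({x} : Set G)) b B) :
    blockRank p b ≤ sectionTerm p M B x := by
  classical
  unfold sectionTerm
  have hfin : {b : Set (IrrCharacter (Subgroup.centralizer ({x} : Set G))) |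
    IsInducedBlock M (Subgroup.centralizer ({x} : Set G)) b B}.Finite := Set.toFinite _
  rw [finsum_mem_eq_finite_toFinset_sum _ hfin]
  have hsub : ({b} : Finset (Set (IrrCharacter (Subgroup.centralizer ({x} : Set G))))) ⊆
      hfin.toFinset := by
    intro c hc
    rw [Finset.mem_singleton] at hc
    rw [hc, Set.Finite.mem_toFinset]
    exact hb
  have := Finset.sum_le_sum_of_subset (f := fun b => blockRank p b) hsub
  rwa [Finset.sum_singleton] at this

theorem blockRank_add_le_sectionTerm (p : ℕ) (M : Ideal AlgInt) (B : Set (IrrCharacter G)) (x : G)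
    {b b' : Set (IrrCharacter (Subgroup.centralizer ({x} : Set G)))}
    (hb : IsInducedBlock M (Subgroup.centralizer ({x} : Set G)) b B)
    (hb' : IsInducedBlock M (Subgroup.centralizer ({x} : Set G)) b' B) (hne : b ≠ b') :
    blockRank p b + blockRank p b' ≤ sectionTerm p M B x := by
  classical
  unfold sectionTerm
  have hfin : {b : Set (IrrCharacter (Subgroup.centralizer ({x} : Set G))) |
    IsInducedBlock M (Subgroup.centralizer ({x} : Set G)) b B}.Finite := Set.toFinite _
  rw [finsum_mem_eq_finite_toFinset_sum _ hfin]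
  have hsub : ({b, b'} : Finset (Set (IrrCharacter (Subgroup.centralizer ({x} : Set G))))) ⊆
      hfin.toFinset := by
    intro c hc
    rw [Finset.mem_insert, Finset.mem_singleton] at hc
    rw [Set.Finite.mem_toFinset]
    rcases hc with rfl | rfl
    · exact hb
    · exact hb'
  have := Finset.sum_le_sum_of_subset (f := fun b => blockRank p b) hsub
  rwa [Finset.sum_pair hne] at this

/-- The `p`-section of the identity contributes at least one to `k(B)`. -/
theorem one_le_sectionTerm_one (p : ℕ) [Fact p.Prime] (M : Ideal AlgInt) (hM : IsPModular p M)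
    (B : Set (IrrCharacter G)) (hB : IsPBlock M B) : 1 ≤ sectionTerm p M B 1 := by
  classical
  haveI : Fintype G := Fintype.ofFinite G
  haveI : Fintype (IrrCharacter G) := Fintype.ofFinite _
  haveI : Fintype (Subgroup.centralizer ({(1 : G)} : Set G)) := Fintype.ofFinite _
  haveI : Fintype (IrrCharacter (Subgroup.centralizer ({(1 : G)} : Set G))) := Fintype.ofFinite _
  have hp : p.Prime := Fact.out
  have hMp : M.IsPrime := hM.2.1.isPrime
  obtain ⟨χ₀, hB0⟩ := hB
  have hχ₀ : χ₀ ∈ B := by rw [hB0]; exact self_mem_blockOf hMp χ₀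
  have h1 := sum_block_section hM (x := (1 : G)) ⟨0, by rw [orderOf_one, pow_zero]⟩ ⟨χ₀, hB0⟩
    (1 : Subgroup.centralizer ({(1 : G)} : Set G)) (by rw [orderOf_one]; exact hp.one_lt.ne' ∘ Nat.dvd_one.mp)
  -- the left side is nonzero
  have hL : ∑ χ ∈ Finset.univ.filter (fun χ : IrrCharacter G => χ ∈ B),
      (χ : G → ℂ) (1 * ((1 : Subgroup.centralizer ({(1 : G)} : Set G)) : G)) *
        conj ((χ : G → ℂ) (1 * ((1 : Subgroup.centralizer ({(1 : G)} : Set G)) : G))) ≠ 0 := by
    have hdeg : ∀ ψ : IrrCharacter G, ∃ d : ℕ, 0 < d ∧ (ψ : G → ℂ) 1 = (d : ℂ) := fun ψ => by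
      obtain ⟨d, h1, h2⟩ := Cfsg.Agent.Lib.Helper81.irr_apply_one ψ
      exact ⟨d, Nat.pos_of_ne_zero h1, h2⟩
    choose d hd0 hd1 using hdeg
    have h2 : ∀ χ ∈ Finset.univ.filter (fun χ : IrrCharacter G => χ ∈ B),
        (χ : G → ℂ) (1 * ((1 : Subgroup.centralizer ({(1 : G)} : Set G)) : G)) *
        conj ((χ : G → ℂ) (1 * ((1 : Subgroup.centralizer ({(1 : G)} : Set G)) : G))) =
        ((d χ ^ 2 : ℕ) : ℂ) := by
      intro χ _
      rw [Subgroup.coe_one, mul_one, hd1 χ, map_natCast]
      push_cast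
      ring
    rw [Finset.sum_congr rfl h2, ← Nat.cast_sum]
    have h3 : 0 < ∑ χ ∈ Finset.univ.filter (fun χ : IrrCharacter G => χ ∈ B), d χ ^ 2 := by
      apply Finset.sum_pos'
      · intro χ _
        exact Nat.zero_le _
      · exact ⟨χ₀, Finset.mem_filter.mpr ⟨Finset.mem_univ _, hχ₀⟩, by have := hd0 χ₀; positivity⟩
    exact_mod_cast h3.ne'
  rw [h1] at hL
  have hne : (Finset.univ.filter (fun ψ : IrrCharacter (Subgroup.centralizer ({(1 : G)} : Set G)) =>
        IsInducedBlock M (Subgroup.centralizer ({(1 : G)} : Set G))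
          (blockOf M (ψ : Subgroup.centralizer ({(1 : G)} : Set G) → ℂ)) B)).Nonempty := by
    by_contra hcon
    rw [Finset.not_nonempty_iff_eq_empty] at hcon
    rw [hcon, Finset.sum_empty] at hL
    exact hL rfl
  obtain ⟨ψ, hψ⟩ := hne
  have hind := (Finset.mem_filter.mp hψ).2
  have h4 := blockRank_le_sectionTerm p M B 1 hind
  have h5 := one_le_blockRank p hp (self_mem_blockOf hMp ψ)
  omega

/-- If `k(B) ≤ 2` then `k(B) = 2` and at most one block of the centralizer of a nonidentity
`p`-element `x` induces `B`, as soon as one does. -/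
theorem unique_induced_of_card_le_two (p : ℕ) [Fact p.Prime] (M : Ideal AlgInt)
    (hM : IsPModular p M) (B : Set (IrrCharacter G)) (hB : IsPBlock M B) (hk : Nat.card B ≤ 2)
    (x : G) (hx : ∃ k : ℕ, orderOf x = p ^ k) (hx1 : x ≠ 1)
    (b : Set (IrrCharacter (Subgroup.centralizer ({x} : Set G))))
    (hb : IsInducedBlock M (Subgroup.centralizer ({x} : Set G)) b B) :
    Nat.card B = 2 ∧ ∀ b' : Set (IrrCharacter (Subgroup.centralizer ({x} : Set G))),
      IsInducedBlock M (Subgroup.centralizer ({x} : Set G)) b' B → b' = b := by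
  classical
  haveI : Fintype (Subgroup.centralizer ({x} : Set G)) := Fintype.ofFinite _
  have hp : p.Prime := Fact.out
  have hMp : M.IsPrime := hM.2.1.isPrime
  obtain ⟨X, h1X, hxX, hX, hXrep⟩ := exists_pElement_reps p x hx
  have hcount := Cfsg.Agent.S4511.result p M hM B hB X hX hXrep
  have hcount' : Nat.card B = ∑ x' ∈ X, sectionTerm p M B x' := hcount
  have hsub : ({1, x} : Finset G) ⊆ X := by
    intro g hg
    rw [Finset.mem_insert, Finset.mem_singleton] at hg
    rcases hg with rfl | rfl
    · exact h1X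
    · exact hxX
  have h2 : sectionTerm p M B 1 + sectionTerm p M B x ≤ Nat.card B := by
    rw [hcount']
    have := Finset.sum_le_sum_of_subset (f := fun x' => sectionTerm p M B x') hsub
    rwa [Finset.sum_pair (Ne.symm hx1)] at this
  have h3 := one_le_sectionTerm_one p M hM B hB
  obtain ⟨ψ, hbψ⟩ := hb.1
  have hψb : ψ ∈ b := by rw [hbψ]; exact self_mem_blockOf hMp ψ
  have h4 := one_le_blockRank p hp hψb
  have h5 := blockRank_le_sectionTerm p M B x hb
  refine ⟨by omega, ?_⟩
  intro b' hb'
  by_contra hne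
  obtain ⟨ψ', hbψ'⟩ := hb'.1
  have hψb' : ψ' ∈ b' := by rw [hbψ']; exact self_mem_blockOf hMp ψ'
  have h6 := one_le_blockRank p hp hψb'
  have h7 := blockRank_add_le_sectionTerm p M B x hb hb' (Ne.symm hne)
  omega

end Cfsg.Agent.Lib.Helper75
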