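import Cfsg.Agent.Lib.Helper75.DefectOne2
import Cfsg.Agent.Lib.Helper75.DefectOne3
import Cfsg.Agent.Lib.Helper74.PReg6
import Cfsg.Agent.Lib.Helper77.StrongOrth
import Cfsg.Agent.S0908

/-!
# 2-blocks of defect one
-/

set_option autoImplicit false

universe u

namespace Cfsg.Agent.Lib.Helper75

open Cfsg Cfsg.Agent.Lib.Helper77 Cfsg.Agent.Lib.Helper76
open scoped ComplexConjugate

variable {G : Type u} [Group G] [Fintype G]

open Classical in
/-- The value of a member `ζ` of the block `B` at `x y`, for a `p`-element `x` and a `p`-regular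
`y` in its centralizer `C`, only involves the irreducible characters of `C` in blocks inducing
`B` (a form of the second main theorem). -/
theorem section_value_eq [Fintype (IrrCharacter G)] {p : ℕ} [Fact p.Prime]
    {M : Ideal AlgInt} (hM : IsPModular p M) {x : G} (hx : ∃ k : ℕ, orderOf x = p ^ k)
    [Fintype (Subgroup.centralizer ({x} : Set G))]
    [Fintype (IrrCharacter (Subgroup.centralizer ({x} : Set G)))]
    {B : Set (IrrCharacter G)} (hB : IsPBlock M B) (ζ : IrrCharacter G) (hζ : ζ ∈ B)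
    (y : Subgroup.centralizer ({x} : Set G)) (hy : ¬ p ∣ orderOf y) :
    (ζ : G → ℂ) (x * (y : G)) =
    ∑ ψ ∈ Finset.univ.filter (fun ψ : IrrCharacter (Subgroup.centralizer ({x} : Set G)) =>
        IsInducedBlock M (Subgroup.centralizer ({x} : Set G))
          (blockOf M (ψ : Subgroup.centralizer ({x} : Set G) → ℂ)) B),
      classInner (fun c : Subgroup.centralizer ({x} : Set G) => (ζ : G → ℂ) (x * (c : G)))
          (ψ : Subgroup.centralizer ({x} : Set G) → ℂ) *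
          (ψ : Subgroup.centralizer ({x} : Set G) → ℂ) y := by
  have hMp : M.IsPrime := hM.2.1.isPrime
  have h1 := congrFun (Cfsg.Agent.Lib.Helper3.classFunction_eq_sum (isClassFunction_shift ζ x)) y
  rw [Finset.sum_apply] at h1
  simp only [Pi.smul_apply, smul_eq_mul] at h1
  rw [h1, ← Finset.sum_filter_add_sum_filter_not Finset.univ
    (fun ψ : IrrCharacter (Subgroup.centralizer ({x} : Set G)) =>
      IsInducedBlock M (Subgroup.centralizer ({x} : Set G))
        (blockOf M (ψ : Subgroup.centralizer ({x} : Set G) → ℂ)) B)]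
  rw [add_eq_left]
  rw [sum_filter_blockOf hMp
    (fun b => ¬ IsInducedBlock M (Subgroup.centralizer ({x} : Set G)) b B)]
  refine Finset.sum_eq_zero fun b hb => ?_
  obtain ⟨hb1, hb2⟩ := Finset.mem_filter.mp hb
  rw [← blockPart_eq_sum]
  exact Cfsg.Agent.S0923.result p M hM x hx B hB ζ hζ b (mem_blocksFinset.mp hb1) hb2 y hy

theorem int_sq_eq_one_of_add {a₁ a₂ : ℤ} (h : a₁ ^ 2 + a₂ ^ 2 = 2) (h1 : a₁ ≠ 0) (h2 : a₂ ≠ 0) :
    a₁ ^ 2 = 1 ∧ a₂ ^ 2 = 1 := by
  have p1 : 1 ≤ a₁ ^ 2 := by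
    have : 0 < a₁ ^ 2 := by positivity
    omega
  have p2 : 1 ≤ a₂ ^ 2 := by
    have : 0 < a₂ ^ 2 := by positivity
    omega
  constructor <;> omega

open Classical in
/-- **Blocks of defect one for `p = 2`.** -/
theorem defect_one_main [Fintype (IrrCharacter G)] {M : Ideal AlgInt} (hM : IsPModular 2 M)
    (x : G) (hx : orderOf x = 2)
    (B : Set (IrrCharacter G)) (hB : IsPBlock M B)
    (hBD : IsDefectGroup 2 M B (Subgroup.zpowers x))
    (b : Set (IrrCharacter (Subgroup.centralizer ({x} : Set G))))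
    (hb : IsInducedBlock M (Subgroup.centralizer ({x} : Set G)) b B)
    (θ : IrrCharacter (Subgroup.centralizer ({x} : Set G))) (hθ : θ ∈ b)
    (hθx : ∀ z : Subgroup.centralizer ({x} : Set G), (z : G) = x →
      (θ : Subgroup.centralizer ({x} : Set G) → ℂ) z =
        (θ : Subgroup.centralizer ({x} : Set G) → ℂ) 1) :
    Nat.card B = 2 ∧ (∀ χ ∈ B, ∀ ψ ∈ B, ∀ g : G, ¬ 2 ∣ orderOf g →
      (χ : G → ℂ) g = (ψ : G → ℂ) g) ∧
      ∃ χ₁ ∈ B, ∃ χ₂ ∈ B, χ₁ ≠ χ₂ ∧ ∃ ε₁ ε₂ : ℤ, (ε₁ = 1 ∨ ε₁ = -1) ∧ (ε₂ = 1 ∨ ε₂ = -1) ∧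
        ε₁ * ε₂ = -1 ∧
        ∀ y : Subgroup.centralizer ({x} : Set G), ¬ 2 ∣ orderOf y →
          (χ₁ : G → ℂ) (x * y) = (ε₁ : ℂ) * (θ : Subgroup.centralizer ({x} : Set G) → ℂ) y ∧
          (χ₂ : G → ℂ) (x * y) = (ε₂ : ℂ) * (θ : Subgroup.centralizer ({x} : Set G) → ℂ) y := by
  haveI : Fact (Nat.Prime 2) := ⟨Nat.prime_two⟩
  haveI : Fintype (Subgroup.centralizer ({x} : Set G)) := Fintype.ofFinite _
  haveI : Fintype (IrrCharacter (Subgroup.centralizer ({x} : Set G))) := Fintype.ofFinite _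
  have hMp : M.IsPrime := hM.2.1.isPrime
  have hx1 : x ≠ 1 := by
    intro h
    rw [h, orderOf_one] at hx
    norm_num at hx
  have hxp : ∃ k : ℕ, orderOf x = 2 ^ k := ⟨1, by rw [hx, pow_one]⟩
  -- the central involution of `C`
  let xh : Subgroup.centralizer ({x} : Set G) :=
    ⟨x, Subgroup.mem_centralizer_singleton_iff.mpr rfl⟩
  have hxhc : xh ∈ Subgroup.center (Subgroup.centralizer ({x} : Set G)) := by
    rw [Subgroup.mem_center_iff]
    intro c
    apply Subtype.ext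
    show (c : G) * x = x * (c : G)
    exact Subgroup.mem_centralizer_singleton_iff.mp c.2
  have hxh2 : orderOf xh = 2 := by
    rw [← Subgroup.orderOf_coe]
    exact hx
  -- defects
  have hdB : blockDefect 2 B = 1 := by
    have h1 := Cfsg.Agent.S0908.result 2 M hM B hB (Subgroup.zpowers x) hBD
    rw [Nat.card_zpowers, hx] at h1
    have h2 : (2 : ℕ) ^ 1 = 2 ^ blockDefect 2 B := by rw [← h1, pow_one]
    exact (Nat.pow_right_injective (le_refl 2) h2).symm
  have hdb : blockDefect 2 b ≤ 1 := by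
    rw [← hdB]
    exact blockDefect_le_of_induced hM hb
  obtain ⟨θ', hθ'b, hθ'ne, hball, hθ'1, hθ'z, hθ'y⟩ :=
    central_defect_one hM hxhc hxh2 hb.1 hdb hθ (hθx xh rfl)
  -- `k(B) = 2` and uniqueness of `b`
  have hkB : Nat.card B ≤ 2 := by
    have h1 := Cfsg.Agent.S4494.result 2 M hM B hB
    rw [hdB] at h1
    omega
  obtain ⟨hk2, huniq⟩ := unique_induced_of_card_le_two 2 M hM B hB hkB x hxp hx1 b hb
  -- the set of characters of `C` in blocks inducing `B`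
  have hS : Finset.univ.filter (fun ψ : IrrCharacter (Subgroup.centralizer ({x} : Set G)) =>
        IsInducedBlock M (Subgroup.centralizer ({x} : Set G))
          (blockOf M (ψ : Subgroup.centralizer ({x} : Set G) → ℂ)) B) = {θ, θ'} := by
    ext ψ
    simp only [Finset.mem_filter, Finset.mem_univ, true_and, Finset.mem_insert,
      Finset.mem_singleton]
    constructor
    · intro h
      have h1 := huniq _ h
      have h2 : ψ ∈ b := by rw [← h1]; exact self_mem_blockOf hMp ψ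
      exact hball ψ h2
    · rintro (h | h)
      · rw [h, ← Cfsg.Agent.Lib.Helper16.eq_blockOf_of_mem hMp hb.1 hθ]
        exact hb
      · rw [h, ← Cfsg.Agent.Lib.Helper16.eq_blockOf_of_mem hMp hb.1 hθ'b]
        exact hb
  -- degrees
  have hdeg : ∀ ψ : IrrCharacter G, ∃ d : ℕ, 0 < d ∧ (ψ : G → ℂ) 1 = (d : ℂ) := fun ψ => by
    obtain ⟨d, h1, h2⟩ := Cfsg.Agent.Lib.Helper81.irr_apply_one ψ
    exact ⟨d, Nat.pos_of_ne_zero h1, h2⟩
  choose d hd0 hd1 using hdeg
  obtain ⟨dθ, hdθ0, hdθ1⟩ := Cfsg.Agent.Lib.Helper81.irr_apply_one θ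
  have hdθC : (dθ : ℂ) ≠ 0 := by exact_mod_cast hdθ0
  -- restriction multiplicities
  have hmult : ∀ (χ : IrrCharacter G) (ψ : IrrCharacter (Subgroup.centralizer ({x} : Set G))),
      ∃ m : ℕ, classInner (fun c : Subgroup.centralizer ({x} : Set G) => (χ : G → ℂ) (c : G))
        (ψ : Subgroup.centralizer ({x} : Set G) → ℂ) = (m : ℂ) := fun χ ψ =>
    Cfsg.Agent.Lib.Helper3.IsCharacter.classInner_irr_nat
      (Cfsg.Agent.Lib.Helper3.IsCharacter.restrict
        (Cfsg.Agent.Lib.Helper3.IsIrrCharacter.isCharacter χ.2) _) ψ.2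
  choose m hm using hmult
  have homθ : om θ xh = 1 := by
    unfold om
    rw [hθx xh rfl]
    exact div_self (Cfsg.Agent.Lib.Helper81.irr_apply_one_ne_zero θ)
  have homθ' : om θ' xh = -1 := by
    unfold om
    rw [hθ'z, neg_div, div_self (Cfsg.Agent.Lib.Helper81.irr_apply_one_ne_zero θ')]
  have htw : ∀ (χ : IrrCharacter G) (ψ : IrrCharacter (Subgroup.centralizer ({x} : Set G))),
      classInner (fun c : Subgroup.centralizer ({x} : Set G) => (χ : G → ℂ) (x * (c : G)))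
        (ψ : Subgroup.centralizer ({x} : Set G) → ℂ) = om ψ xh * (m χ ψ : ℂ) := by
    intro χ ψ
    rw [← hm χ ψ]
    exact Cfsg.Agent.Lib.Helper74.classInner_twist
      (fun c : Subgroup.centralizer ({x} : Set G) => (χ : G → ℂ) (c : G)) ψ xh hxhc
  let a : IrrCharacter G → ℤ := fun χ => (m χ θ : ℤ) - (m χ θ' : ℤ)
  -- values on the section
  have hval : ∀ χ : IrrCharacter G, χ ∈ B → ∀ y : Subgroup.centralizer ({x} : Set G),
      ¬ 2 ∣ orderOf y → (χ : G → ℂ) (x * (y : G)) =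
        ((a χ : ℤ) : ℂ) * (θ : Subgroup.centralizer ({x} : Set G) → ℂ) y := by
    intro χ hχ y hy
    rw [section_value_eq hM hxp hB χ hχ y hy, hS, Finset.sum_pair hθ'ne.symm, htw χ θ, htw χ θ',
      homθ, homθ', hθ'y y hy]
    show _ = (((m χ θ : ℤ) - (m χ θ' : ℤ) : ℤ) : ℂ) * _
    push_cast
    ring
  have hvalx : ∀ χ : IrrCharacter G, χ ∈ B → (χ : G → ℂ) x = ((a χ : ℤ) : ℂ) * (dθ : ℂ) := by
    intro χ hχ
    have h1 := hval χ hχ 1 (by rw [orderOf_one]; norm_num)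
    rw [Subgroup.coe_one, mul_one, hdθ1] at h1
    exact h1
  -- the two characters
  set BF := Finset.univ.filter (fun χ : IrrCharacter G => χ ∈ B) with hBF
  have hBFcard : BF.card = 2 := by
    rw [← hk2, Nat.card_eq_fintype_card, Fintype.card_subtype]
  obtain ⟨χ₁, χ₂, h12, hBF2⟩ := Finset.card_eq_two.mp hBFcard
  have hχ₁B : χ₁ ∈ B := by
    have : χ₁ ∈ BF := by rw [hBF2]; simp
    exact (Finset.mem_filter.mp this).2
  have hχ₂B : χ₂ ∈ B := by
    have : χ₂ ∈ BF := by rw [hBF2]; simp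
    exact (Finset.mem_filter.mp this).2
  obtain ⟨χ₀, hB0⟩ := hB
  -- section orthogonality at `y = 1`
  have hsq : (a χ₁) ^ 2 + (a χ₂) ^ 2 = 2 := by
    have h1 := sum_block_section hM hxp ⟨χ₀, hB0⟩
      (1 : Subgroup.centralizer ({x} : Set G)) (by rw [orderOf_one]; norm_num)
    rw [hS, Finset.sum_pair hθ'ne.symm, ← hBF, hBF2, Finset.sum_pair h12] at h1
    simp only [Subgroup.coe_one, mul_one] at h1
    rw [hvalx χ₁ hχ₁B, hvalx χ₂ hχ₂B, hθ'1, hdθ1] at h1
    simp only [map_mul, map_intCast, map_natCast] at h1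
    have h2 : (((a χ₁) ^ 2 + (a χ₂) ^ 2 : ℤ) : ℂ) * ((dθ : ℂ) * (dθ : ℂ)) =
        ((2 : ℤ) : ℂ) * ((dθ : ℂ) * (dθ : ℂ)) := by
      push_cast
      linear_combination h1
    have h3 := mul_right_cancel₀ (mul_ne_zero hdθC hdθC) h2
    exact_mod_cast h3
  -- weak block orthogonality at `(1, x)`
  have hwbo : (d χ₁ : ℤ) * a χ₁ + (d χ₂ : ℤ) * a χ₂ = 0 := by
    have h1 := Cfsg.Agent.Lib.Helper16.weak_block_orthogonality_finset hM χ₀
      (x := (1 : G)) (y := x) (by rw [orderOf_one]; norm_num) (by rw [hx])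
    rw [← hB0, ← hBF, hBF2, Finset.sum_pair h12, hvalx χ₁ hχ₁B, hvalx χ₂ hχ₂B, hd1 χ₁,
      hd1 χ₂] at h1
    simp only [map_mul, map_intCast, map_natCast] at h1
    have h2 : ((((d χ₁ : ℤ) * a χ₁ + (d χ₂ : ℤ) * a χ₂ : ℤ)) : ℂ) * (dθ : ℂ) = 0 := by
      push_cast
      linear_combination h1
    have h3 := (mul_eq_zero.mp h2).resolve_right hdθC
    exact_mod_cast h3
  have hd1pos : (0 : ℤ) < (d χ₁ : ℤ) := by exact_mod_cast hd0 χ₁
  have hd2pos : (0 : ℤ) < (d χ₂ : ℤ) := by exact_mod_cast hd0 χ₂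
  have ha1ne : a χ₁ ≠ 0 := by
    intro h0
    rw [h0, mul_zero, zero_add] at hwbo
    have h2 : a χ₂ = 0 := (mul_eq_zero.mp hwbo).resolve_left hd2pos.ne'
    rw [h0, h2] at hsq
    norm_num at hsq
  have ha2ne : a χ₂ ≠ 0 := by
    intro h0
    rw [h0, mul_zero, add_zero] at hwbo
    have h2 : a χ₁ = 0 := (mul_eq_zero.mp hwbo).resolve_left hd1pos.ne'
    exact ha1ne h2
  obtain ⟨hs1, hs2⟩ := int_sq_eq_one_of_add hsq ha1ne ha2ne
  have hpm1 : a χ₁ = 1 ∨ a χ₁ = -1 := by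
    have h4 : (a χ₁ - 1) * (a χ₁ + 1) = 0 := by ring_nf; rw [hs1]; ring
    rcases mul_eq_zero.mp h4 with h | h
    · left; omega
    · right; omega
  have hpm2 : a χ₂ = 1 ∨ a χ₂ = -1 := by
    have h4 : (a χ₂ - 1) * (a χ₂ + 1) = 0 := by ring_nf; rw [hs2]; ring
    rcases mul_eq_zero.mp h4 with h | h
    · left; omega
    · right; omega
  have hopp : a χ₂ = - a χ₁ := by
    rcases hpm1 with h1 | h1 <;> rcases hpm2 with h2 | h2
    · exfalso; rw [h1, h2] at hwbo; omega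
    · rw [h1, h2]
    · rw [h1, h2]; norm_num
    · exfalso; rw [h1, h2] at hwbo; omega
  have hprod : a χ₁ * a χ₂ = -1 := by
    rw [hopp]
    have : a χ₁ * -a χ₁ = -(a χ₁ ^ 2) := by ring
    rw [this, hs1]
  -- equality on `2`-regular elements
  have heq : ∀ g : G, ¬ 2 ∣ orderOf g → (χ₁ : G → ℂ) g = (χ₂ : G → ℂ) g := by
    intro g hg
    have hpg : IsPPart 2 g 1 :=
      ⟨g, one_mul g, Commute.one_left g, ⟨0, by rw [orderOf_one, pow_zero]⟩, hg⟩
    have hpx : IsPPart 2 x x :=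
      ⟨1, mul_one x, Commute.one_right x, hxp, by rw [orderOf_one]; norm_num⟩
    have hnc : ¬ IsConj (1 : G) x := fun h => hx1 (eq_one_of_isConj_one h.symm)
    have h1 := Cfsg.Agent.Lib.Helper77.IdemTrace.strong_block_orthogonality_finset hM χ₀
      hpg hpx hnc
    rw [← hB0, ← hBF, hBF2, Finset.sum_pair h12, hvalx χ₁ hχ₁B, hvalx χ₂ hχ₂B, hopp] at h1
    simp only [map_mul, map_intCast, map_natCast] at h1
    have ha1C : ((a χ₁ : ℤ) : ℂ) ≠ 0 := by exact_mod_cast ha1ne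
    have h2 : ((χ₁ : G → ℂ) g - (χ₂ : G → ℂ) g) * (((a χ₁ : ℤ) : ℂ) * (dθ : ℂ)) = 0 := by
      push_cast at h1 ⊢
      linear_combination h1
    have h3 := (mul_eq_zero.mp h2).resolve_right (mul_ne_zero ha1C hdθC)
    exact sub_eq_zero.mp h3
  have hmemB : ∀ χ : IrrCharacter G, χ ∈ B → χ = χ₁ ∨ χ = χ₂ := by
    intro χ hχ
    have : χ ∈ BF := Finset.mem_filter.mpr ⟨Finset.mem_univ _, hχ⟩
    rw [hBF2, Finset.mem_insert, Finset.mem_singleton] at this
    exact this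
  refine ⟨hk2, ?_, χ₁, hχ₁B, χ₂, hχ₂B, h12, a χ₁, a χ₂, hpm1, hpm2, hprod, ?_⟩
  · intro χ hχ ψ hψ g hg
    rcases hmemB χ hχ with rfl | rfl <;> rcases hmemB ψ hψ with rfl | rfl
    · rfl
    · exact heq g hg
    · exact (heq g hg).symm
    · rfl
  · intro y hy
    exact ⟨hval χ₁ hχ₁B y hy, hval χ₂ hχ₂B y hy⟩

end Cfsg.Agent.Lib.Helper75
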