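import Mathlib
import Cfsg.Prelude.Def_Characters
import Cfsg.Agent.Lib.Helper3.Complete
import Cfsg.Agent.Lib.Helper25.Ind
import Cfsg.Agent.Lib.Helper79.Abelian
import Cfsg.Agent.Lib.Helper79.Basic

set_option autoImplicit false
set_option linter.style.haveILetI false
set_option linter.unusedSectionVars false

namespace Cfsg.Agent.Lib.Helper75

open Cfsg
open scoped ComplexConjugate

universe u

variable {G : Type u} [Group G]

/-- The conjugate `n ↦ θ (g n g⁻¹)` of a function on a normal subgroup. -/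
def conjFun (N : Subgroup G) [hN : N.Normal] (g : G) (θ : N → ℂ) : N → ℂ :=
  fun n => θ ⟨g * n * g⁻¹, hN.conj_mem n n.2 g⟩

theorem conjFun_apply (N : Subgroup G) [hN : N.Normal] (g : G) (θ : N → ℂ) (n : N) :
    conjFun N g θ n = θ ⟨g * n * g⁻¹, hN.conj_mem n n.2 g⟩ := rfl

theorem conjFun_eq_comp (N : Subgroup G) [hN : N.Normal] (g : G) (θ : N → ℂ) :
    conjFun N g θ = fun n => θ (MulAut.conjNormal g n) := by
  funext n
  rw [conjFun_apply]
  congr 1

theorem conjFun_one (N : Subgroup G) [hN : N.Normal] (θ : N → ℂ) : conjFun N 1 θ = θ := by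
  funext n
  rw [conjFun_apply]
  congr 1
  apply Subtype.ext
  simp

theorem conjFun_conjFun (N : Subgroup G) [hN : N.Normal] (g h : G) (θ : N → ℂ) :
    conjFun N g (conjFun N h θ) = conjFun N (h * g) θ := by
  funext n
  simp only [conjFun_apply]
  congr 1
  apply Subtype.ext
  simp [mul_assoc]

theorem conjFun_isIrrCharacter (N : Subgroup G) [hN : N.Normal] (g : G) {θ : N → ℂ}
    (hθ : IsIrrCharacter N θ) : IsIrrCharacter N (conjFun N g θ) := by
  rw [conjFun_eq_comp]
  exact Cfsg.Agent.Lib.Helper79.isIrrCharacter_comp_surjective hθ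
    (MulAut.conjNormal g : N ≃* N).toMonoidHom (MulAut.conjNormal g : N ≃* N).surjective

theorem conjFun_of_mem (N : Subgroup G) [hN : N.Normal] {g : G} (hg : g ∈ N) {θ : N → ℂ}
    (hθ : IsClassFunction N θ) : conjFun N g θ = θ := by
  funext n
  rw [conjFun_apply]
  have := hθ n ⟨g, hg⟩
  rw [← this]
  congr 1

theorem conjFun_restrict (N : Subgroup G) [hN : N.Normal] (g : G) {χ : G → ℂ}
    (hχ : IsClassFunction G χ) : conjFun N g (fun n : N => χ n) = fun n : N => χ n := by
  funext n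
  rw [conjFun_apply]
  exact hχ n g

theorem classInner_conjFun (N : Subgroup G) [hN : N.Normal] [Fintype N] (g : G) (φ ψ : N → ℂ) :
    classInner (conjFun N g φ) (conjFun N g ψ) = classInner φ ψ := by
  unfold classInner
  congr 1
  rw [conjFun_eq_comp, conjFun_eq_comp]
  exact Fintype.sum_equiv (MulAut.conjNormal g : N ≃* N).toEquiv _ _ (fun n => rfl)

theorem conjFun_pow (N : Subgroup G) [hN : N.Normal] (g : G) (θ : N → ℂ) (k : ℕ) :
    conjFun N g (fun n => θ (n ^ k)) = fun n => conjFun N g θ (n ^ k) := by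
  funext n
  simp only [conjFun_apply]
  congr 1
  apply Subtype.ext
  simp [conj_pow]

/-- The restriction to a normal subgroup of an induced function is the average of the
conjugates. -/
theorem indFun_restrict_normal [Fintype G] (N : Subgroup G) [hN : N.Normal] (θ : N → ℂ) (n : N) :
    indFun N θ n = (Nat.card N : ℂ)⁻¹ * ∑ x : G, conjFun N x⁻¹ θ n := by
  rw [Cfsg.Agent.Lib.Helper25.indFun_apply]
  congr 1
  apply Finset.sum_congr rfl
  intro x _
  have hmem : x⁻¹ * (n : G) * x ∈ N := by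
    have := hN.conj_mem n n.2 x⁻¹
    simpa using this
  rw [Cfsg.Agent.Lib.Helper25.extendByZero_of_mem N θ hmem, conjFun_apply]
  congr 1
  apply Subtype.ext
  simp

/-- **Clifford**: two irreducible constituents of the restriction of an irreducible character to
a normal subgroup are conjugate. -/
theorem clifford_conj [Fintype G] (N : Subgroup G) [hN : N.Normal] [Fintype N] {χ : G → ℂ}
    (hχ : IsIrrCharacter G χ) {θ θ' : N → ℂ} (hθ : IsIrrCharacter N θ)
    (hθ' : IsIrrCharacter N θ')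
    (h : classInner (fun n : N => χ n) θ ≠ 0) (h' : classInner (fun n : N => χ n) θ' ≠ 0) :
    ∃ g : G, θ' = conjFun N g θ := by
  classical
  open Cfsg.Agent.Lib.Helper3 in
  haveI : Finite (IrrCharacter G) := irrCharacter_finite
  haveI := Fintype.ofFinite (IrrCharacter G)
  by_contra hcon
  simp only [not_exists] at hcon
  -- the induced function and its expansion
  have hΦcf : IsClassFunction G (indFun N θ) := Cfsg.Agent.Lib.Helper25.indFun_isClassFunction N θ
  have hexp := Cfsg.Agent.Lib.Helper3.classFunction_eq_sum hΦcf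
  have hθc : IsCharacter N θ := Cfsg.Agent.Lib.Helper3.IsIrrCharacter.isCharacter hθ
  have hθ'c : IsCharacter N θ' := Cfsg.Agent.Lib.Helper3.IsIrrCharacter.isCharacter hθ'
  have hres : ∀ ψ : IrrCharacter G, IsCharacter N (fun n : N => (ψ : G → ℂ) n) := fun ψ =>
    Cfsg.Agent.Lib.Helper79.isCharacter_restrict
      (Cfsg.Agent.Lib.Helper3.IsIrrCharacter.isCharacter ψ.2) N
  have hcf : ∀ ψ : IrrCharacter G, IsClassFunction G (ψ : G → ℂ) := fun ψ =>
    Cfsg.Agent.Lib.Helper3.IsCharacter.isClassFunction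
      (Cfsg.Agent.Lib.Helper3.IsIrrCharacter.isCharacter ψ.2)
  -- multiplicities
  have ha : ∀ ψ : IrrCharacter G, ∃ a : ℕ, classInner (indFun N θ) (ψ : G → ℂ) = (a : ℂ) := by
    intro ψ
    rw [Cfsg.Agent.Lib.Helper25.frobenius_reciprocity N θ _ (hcf ψ)]
    exact Cfsg.Agent.Lib.Helper79.classInner_character_eq_natCast hθc (hres ψ)
  have hb : ∀ ψ : IrrCharacter G, ∃ b : ℕ, classInner (fun n : N => (ψ : G → ℂ) n) θ' = (b : ℂ) :=
    fun ψ => Cfsg.Agent.Lib.Helper79.classInner_character_eq_natCast (hres ψ) hθ'c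
  choose a ha using ha
  choose b hb using hb
  -- restrict the expansion to N and pair with θ'
  have hΦN : (fun n : N => indFun N θ n) =
      ∑ ψ : IrrCharacter G, (a ψ : ℂ) • (fun n : N => (ψ : G → ℂ) n) := by
    funext n
    have := congrFun hexp n
    rw [this]
    simp only [Finset.sum_apply, Pi.smul_apply, ha]
  have hpair : classInner (fun n : N => indFun N θ n) θ' = ((∑ ψ : IrrCharacter G, a ψ * b ψ : ℕ) : ℂ) := by
    rw [hΦN, Cfsg.Agent.Lib.Helper3.classInner_sum_left]
    push_cast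
    apply Finset.sum_congr rfl
    intro ψ _
    rw [Cfsg.Agent.Lib.Helper3.classInner_smul_left, hb]
  -- the pairing is nonzero
  have hχa : a ⟨χ, hχ⟩ ≠ 0 := by
    intro h0
    have h1 := ha ⟨χ, hχ⟩
    rw [h0, Cfsg.Agent.Lib.Helper25.frobenius_reciprocity N θ _ (hcf ⟨χ, hχ⟩)] at h1
    apply h
    rw [Cfsg.Agent.Lib.Helper3.classInner_conj_symm, h1]
    simp
  have hχb : b ⟨χ, hχ⟩ ≠ 0 := by
    intro h0
    have h1 := hb ⟨χ, hχ⟩
    rw [h0] at h1
    apply h'
    simpa using h1
  have hpos : 0 < ∑ ψ : IrrCharacter G, a ψ * b ψ := by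
    have : a ⟨χ, hχ⟩ * b ⟨χ, hχ⟩ ≤ ∑ ψ : IrrCharacter G, a ψ * b ψ :=
      Finset.single_le_sum (f := fun ψ => a ψ * b ψ) (fun _ _ => Nat.zero_le _)
        (Finset.mem_univ _)
    have h2 : 0 < a ⟨χ, hχ⟩ * b ⟨χ, hχ⟩ := Nat.mul_pos (Nat.pos_of_ne_zero hχa) (Nat.pos_of_ne_zero hχb)
    omega
  -- but the pairing vanishes when no conjugate equals θ'
  have hzero : classInner (fun n : N => indFun N θ n) θ' = 0 := by
    have h1 : (fun n : N => indFun N θ n) =
        (Nat.card N : ℂ)⁻¹ • ∑ x : G, conjFun N x⁻¹ θ := by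
      funext n
      rw [indFun_restrict_normal]
      simp only [Pi.smul_apply, Finset.sum_apply, smul_eq_mul]
    rw [h1, Cfsg.Agent.Lib.Helper3.classInner_smul_left,
      Cfsg.Agent.Lib.Helper3.classInner_sum_left]
    rw [Finset.sum_eq_zero, mul_zero]
    intro x _
    rw [Cfsg.Agent.Lib.Helper3.classInner_irr (conjFun_isIrrCharacter N x⁻¹ hθ) hθ', if_neg]
    exact fun h => hcon x⁻¹ h.symm
  rw [hzero] at hpair
  have : (∑ ψ : IrrCharacter G, a ψ * b ψ : ℕ) = 0 := by exact_mod_cast hpair.symm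
  omega

end Cfsg.Agent.Lib.Helper75
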