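import Mathlib
import Cfsg.Prelude.Def_Characters
import Cfsg.Agent.Lib.Helper3.CharOps
import Cfsg.Agent.Lib.Helper3.Induced
import Cfsg.Agent.Lib.Helper25.Ind
import Cfsg.Agent.Lib.Helper79.Basic
import Cfsg.Agent.Lib.Helper79.Abelian
import Cfsg.Agent.Lib.Helper79.Classes
import Cfsg.Agent.S0193
import Cfsg.Agent.S0147

set_option autoImplicit false
set_option linter.style.haveILetI false
set_option linter.unusedSectionVars false

namespace Cfsg.Agent.Lib.Helper75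

open Cfsg Cfsg.Agent.Lib.Helper3
open scoped ComplexConjugate

/-- Abstract counting core of the Clifford correspondence. -/
theorem nat_gram_core {ι : Type*} [Fintype ι] [DecidableEq ι] (m : ι → ℕ) (c : ι → ι → ℕ)
    (hc : ∀ i, m i ≠ 0 → 1 ≤ c i i)
    (h : ∑ i, ∑ j, m i * m j * c i j = ∑ i, m i ^ 2) :
    (∀ i, m i ≠ 0 → c i i = 1) ∧ (∀ i j, i ≠ j → m i ≠ 0 → m j ≠ 0 → c i j = 0) := by
  have hsplit : ∀ i, ∑ j, m i * m j * c i j =
      m i ^ 2 * c i i + ∑ j ∈ Finset.univ.erase i, m i * m j * c i j := by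
    intro i
    rw [← Finset.add_sum_erase Finset.univ _ (Finset.mem_univ i)]
    ring
  simp only [hsplit, Finset.sum_add_distrib] at h
  have h1 : ∀ i ∈ (Finset.univ : Finset ι), m i ^ 2 ≤ m i ^ 2 * c i i := by
    intro i _
    by_cases hi : m i = 0
    · simp [hi]
    · exact Nat.le_mul_of_pos_right _ (hc i hi)
  have h2 : ∑ i, m i ^ 2 ≤ ∑ i, m i ^ 2 * c i i := Finset.sum_le_sum h1
  have h3 : ∑ i, ∑ j ∈ Finset.univ.erase i, m i * m j * c i j = 0 := by omega
  have h4 : ∑ i, m i ^ 2 * c i i = ∑ i, m i ^ 2 := by omega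
  constructor
  · intro i hi
    have := (Finset.sum_eq_sum_iff_of_le h1).1 h4.symm i (Finset.mem_univ i)
    have hpos : 0 < m i ^ 2 := by positivity
    nlinarith
  · intro i j hij hi hj
    rw [Finset.sum_eq_zero_iff] at h3
    have h5 := h3 i (Finset.mem_univ i)
    rw [Finset.sum_eq_zero_iff] at h5
    have h6 := h5 j (Finset.mem_erase.2 ⟨hij.symm, Finset.mem_univ j⟩)
    rcases Nat.mul_eq_zero.1 h6 with h7 | h7
    · rcases Nat.mul_eq_zero.1 h7 with h8 | h8
      · exact absurd h8 hi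
      · exact absurd h8 hj
    · exact h7

universe u

section
variable {G : Type u} [Group G]

/-- Restriction of a function on `H` to `H.subgroupOf T` (the copy of `H` inside `T`). -/
def resSub (H T : Subgroup G) (θ : H → ℂ) : H.subgroupOf T → ℂ :=
  fun x => θ ⟨(x : T), Subgroup.mem_subgroupOf.mp x.2⟩

theorem isIrrCharacter_resSub {H T : Subgroup G} (hHT : H ≤ T) {θ : H → ℂ}
    (hθ : IsIrrCharacter H θ) : IsIrrCharacter (H.subgroupOf T) (resSub H T θ) :=
  Cfsg.Agent.Lib.Helper79.isIrrCharacter_comp_surjective hθ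
    (Subgroup.subgroupOfEquivOfLe hHT).toMonoidHom (Subgroup.subgroupOfEquivOfLe hHT).surjective

theorem classInner_self_ne_zero [Fintype G] {f : G → ℂ} {g : G} (hg : f g ≠ 0) :
    classInner f f ≠ 0 := by
  unfold classInner
  have hN0 : (Nat.card G : ℂ) ≠ 0 := by exact_mod_cast Nat.card_pos.ne'
  apply mul_ne_zero (inv_ne_zero hN0)
  have h1 : ∑ x : G, f x * conj (f x) = ((∑ x : G, Complex.normSq (f x) : ℝ) : ℂ) := by
    push_cast
    apply Finset.sum_congr rfl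
    intro x _
    rw [Complex.mul_conj]
  rw [h1]
  have h2 : 0 < ∑ x : G, Complex.normSq (f x) := by
    apply Finset.sum_pos' (fun x _ => Complex.normSq_nonneg _)
    exact ⟨g, Finset.mem_univ g, Complex.normSq_pos.2 hg⟩
  exact_mod_cast h2.ne'

theorem indFun_apply_one [Fintype G] (N : Subgroup G) (ϑ : N → ℂ) :
    indFun N ϑ 1 = (N.index : ℂ) * ϑ 1 := by
  rw [Cfsg.Agent.Lib.Helper25.indFun_apply]
  have h1 : ∀ x : G, extendByZero N ϑ (x⁻¹ * 1 * x) = ϑ 1 := by
    intro x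
    have hmem : x⁻¹ * 1 * x ∈ N := by simp
    rw [Cfsg.Agent.Lib.Helper25.extendByZero_of_mem N ϑ hmem]
    congr 1
    apply Subtype.ext
    simp
  rw [Finset.sum_congr rfl (fun x _ => h1 x), Finset.sum_const, Finset.card_univ,
    ← Nat.card_eq_fintype_card, nsmul_eq_mul, ← Subgroup.card_mul_index N]
  have hN : (Nat.card N : ℂ) ≠ 0 := by exact_mod_cast Nat.card_pos.ne'
  push_cast
  field_simp

end

section Corr

variable {G : Type u} [Group G] [Fintype G] (H T : Subgroup G) [hN : H.Normal] [Fintype T]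
  (θ : H → ℂ)

theorem card_mul_norm_indFun_G (hθ : IsIrrCharacter H θ)
    (hT : ∀ g : G, g ∈ T ↔ ∀ h : H, θ ⟨g * h * g⁻¹, hN.conj_mem h h.2 g⟩ = θ h) :
    (Nat.card H : ℂ) * classInner (indFun H θ) (indFun H θ) = (Nat.card T : ℂ) := by
  rw [Cfsg.Agent.S0193.result H θ hθ]
  congr 1
  exact Nat.card_congr (Equiv.subtypeEquivRight (fun g => (hT g).symm))

theorem card_mul_norm_indFun_T (hθ : IsIrrCharacter H θ)
    (hT : ∀ g : G, g ∈ T ↔ ∀ h : H, θ ⟨g * h * g⁻¹, hN.conj_mem h h.2 g⟩ = θ h) (hHT : H ≤ T) :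
    (Nat.card H : ℂ) * classInner (indFun (H.subgroupOf T) (resSub H T θ))
      (indFun (H.subgroupOf T) (resSub H T θ)) = (Nat.card T : ℂ) := by
  haveI : (H.subgroupOf T).Normal := Subgroup.normal_subgroupOf
  have h1 := Cfsg.Agent.S0193.result (H.subgroupOf T) (resSub H T θ) (isIrrCharacter_resSub hHT hθ)
  have h2 : Nat.card (H.subgroupOf T) = Nat.card H :=
    Nat.card_congr (Subgroup.subgroupOfEquivOfLe hHT).toEquiv
  rw [h2] at h1
  rw [h1]
  congr 1
  apply Nat.card_congr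
  refine Equiv.subtypeUnivEquiv ?_
  intro g h
  have := (hT g.1).1 g.2 ⟨h.1.1, Subgroup.mem_subgroupOf.mp h.2⟩
  exact this

/-- **Clifford correspondence, core form.** Let `θ ∈ Irr(H)`, `H ⊴ G`, with inertia group `T`.
Write `θ^T = ∑ m_ψ ψ`.  Then `θ^G = ∑ m_ψ ψ^G`, the `ψ^G` with `m_ψ ≠ 0` are irreducible and
pairwise orthogonal. -/
theorem clifford_core_full [Fintype (IrrCharacter T)] (hθ : IsIrrCharacter H θ)
    (hT : ∀ g : G, g ∈ T ↔ ∀ h : H, θ ⟨g * h * g⁻¹, hN.conj_mem h h.2 g⟩ = θ h) (hHT : H ≤ T) :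
    ∃ m : IrrCharacter T → ℕ,
      (∀ ψ : IrrCharacter T,
        classInner (indFun (H.subgroupOf T) (resSub H T θ)) (ψ : T → ℂ) = (m ψ : ℂ)) ∧
      indFun (H.subgroupOf T) (resSub H T θ) = ∑ ψ : IrrCharacter T, (m ψ : ℂ) • (ψ : T → ℂ) ∧
      (∑ ψ : IrrCharacter T, m ψ ^ 2) * Nat.card H = Nat.card T ∧
      indFun H θ = ∑ ψ : IrrCharacter T, (m ψ : ℂ) • indFun T (ψ : T → ℂ) ∧
      (∀ ψ : IrrCharacter T, m ψ ≠ 0 → IsIrrCharacter G (indFun T (ψ : T → ℂ))) ∧
      (∀ ψ ψ' : IrrCharacter T, ψ ≠ ψ' → m ψ ≠ 0 → m ψ' ≠ 0 →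
        classInner (indFun T (ψ : T → ℂ)) (indFun T (ψ' : T → ℂ)) = 0) := by
  classical
  have hθ' := isIrrCharacter_resSub hHT hθ
  have hindT : IsCharacter T (indFun (H.subgroupOf T) (resSub H T θ)) :=
    isCharacter_indFun _ (IsIrrCharacter.isCharacter hθ')
  obtain ⟨m, hm, hsum⟩ := IsCharacter.exists_mult hindT
  have hindψ : ∀ ψ : IrrCharacter T, IsCharacter G (indFun T (ψ : T → ℂ)) := fun ψ =>
    isCharacter_indFun T (IsIrrCharacter.isCharacter ψ.2)
  have hG : indFun H θ = ∑ ψ : IrrCharacter T, (m ψ : ℂ) • indFun T (ψ : T → ℂ) := by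
    rw [← Cfsg.Agent.S0147.result H T hHT θ]
    show indFun T (indFun (H.subgroupOf T) (resSub H T θ)) = _
    conv_lhs => rw [hsum]
    rw [Cfsg.Agent.Lib.Helper25.indFun_sum]
    apply Finset.sum_congr rfl
    intro ψ _
    rw [Cfsg.Agent.Lib.Helper25.indFun_smul]
  have hc : ∀ ψ ψ' : IrrCharacter T, ∃ c : ℕ,
      classInner (indFun T (ψ : T → ℂ)) (indFun T (ψ' : T → ℂ)) = (c : ℂ) := fun ψ ψ' =>
    Cfsg.Agent.Lib.Helper79.classInner_character_eq_natCast (hindψ ψ) (hindψ ψ')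
  choose c hc using hc
  have hcpos : ∀ ψ : IrrCharacter T, m ψ ≠ 0 → 1 ≤ c ψ ψ := by
    intro ψ _
    have h1 : indFun T (ψ : T → ℂ) 1 ≠ 0 := by
      rw [indFun_apply_one]
      apply mul_ne_zero
      · have : T.index ≠ 0 := Subgroup.index_ne_zero_of_finite
        exact_mod_cast this
      · exact Cfsg.Agent.Lib.Helper79.irr_one_ne_zero ψ
    have h2 := classInner_self_ne_zero h1
    rw [hc] at h2
    have : c ψ ψ ≠ 0 := by
      intro h0
      apply h2
      rw [h0]; simp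
    omega
  have hH0 : (Nat.card H : ℂ) ≠ 0 := by exact_mod_cast Nat.card_pos.ne'
  have hnorm : classInner (indFun H θ) (indFun H θ) =
      classInner (indFun (H.subgroupOf T) (resSub H T θ))
        (indFun (H.subgroupOf T) (resSub H T θ)) := by
    have h1 := card_mul_norm_indFun_G H T θ hθ hT
    have h2 := card_mul_norm_indFun_T H T θ hθ hT hHT
    exact mul_left_cancel₀ hH0 (h1.trans h2.symm)
  have hnormT : classInner (indFun (H.subgroupOf T) (resSub H T θ))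
      (indFun (H.subgroupOf T) (resSub H T θ)) = ((∑ ψ : IrrCharacter T, m ψ ^ 2 : ℕ) : ℂ) := by
    conv_lhs => rw [hsum]
    rw [classInner_sum_sum]
    push_cast
    apply Finset.sum_congr rfl
    intro ψ _
    rw [Complex.conj_natCast, sq]
  have hnormG : classInner (indFun H θ) (indFun H θ) =
      ((∑ ψ : IrrCharacter T, ∑ ψ' : IrrCharacter T, m ψ * m ψ' * c ψ ψ' : ℕ) : ℂ) := by
    conv_lhs => rw [hG]
    rw [classInner_sum_left]
    push_cast
    apply Finset.sum_congr rfl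
    intro ψ _
    rw [classInner_smul_left, classInner_sum_right, Finset.mul_sum]
    apply Finset.sum_congr rfl
    intro ψ' _
    rw [classInner_smul_right, hc, Complex.conj_natCast]
    ring
  have hkey : ∑ ψ : IrrCharacter T, ∑ ψ' : IrrCharacter T, m ψ * m ψ' * c ψ ψ' =
      ∑ ψ : IrrCharacter T, m ψ ^ 2 := by
    have : ((∑ ψ : IrrCharacter T, ∑ ψ' : IrrCharacter T, m ψ * m ψ' * c ψ ψ' : ℕ) : ℂ) =
        ((∑ ψ : IrrCharacter T, m ψ ^ 2 : ℕ) : ℂ) := by
      rw [← hnormG, ← hnormT, hnorm]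
    exact_mod_cast this
  obtain ⟨hdiag, hoff⟩ := nat_gram_core m c hcpos hkey
  have hcard : (∑ ψ : IrrCharacter T, m ψ ^ 2) * Nat.card H = Nat.card T := by
    have h2 := card_mul_norm_indFun_T H T θ hθ hT hHT
    rw [hnormT] at h2
    have : (((∑ ψ : IrrCharacter T, m ψ ^ 2) * Nat.card H : ℕ) : ℂ) = (Nat.card T : ℂ) := by
      rw [← h2]; push_cast; ring
    exact_mod_cast this
  refine ⟨m, hm, hsum, hcard, hG, ?_, ?_⟩
  · intro ψ hψ
    apply isIrrCharacter_of_classInner_self_eq_one (hindψ ψ)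
    rw [hc, hdiag ψ hψ]
    simp
  · intro ψ ψ' hne hψ hψ'
    rw [hc, hoff ψ ψ' hne hψ hψ']
    simp

/-- Short form of `clifford_core_full`. -/
theorem clifford_core [Fintype (IrrCharacter T)] (hθ : IsIrrCharacter H θ)
    (hT : ∀ g : G, g ∈ T ↔ ∀ h : H, θ ⟨g * h * g⁻¹, hN.conj_mem h h.2 g⟩ = θ h) (hHT : H ≤ T) :
    ∃ m : IrrCharacter T → ℕ,
      (∀ ψ : IrrCharacter T,
        classInner (indFun (H.subgroupOf T) (resSub H T θ)) (ψ : T → ℂ) = (m ψ : ℂ)) ∧
      indFun H θ = ∑ ψ : IrrCharacter T, (m ψ : ℂ) • indFun T (ψ : T → ℂ) ∧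
      (∀ ψ : IrrCharacter T, m ψ ≠ 0 → IsIrrCharacter G (indFun T (ψ : T → ℂ))) ∧
      (∀ ψ ψ' : IrrCharacter T, ψ ≠ ψ' → m ψ ≠ 0 → m ψ' ≠ 0 →
        classInner (indFun T (ψ : T → ℂ)) (indFun T (ψ' : T → ℂ)) = 0) := by
  obtain ⟨m, h1, -, -, h4, h5, h6⟩ := clifford_core_full H T θ hθ hT hHT
  exact ⟨m, h1, h4, h5, h6⟩

end Corr

theorem classInner_comp_mulEquiv {A B : Type*} [Group A] [Group B] [Fintype A] [Fintype B]
    (e : A ≃* B) (f g : B → ℂ) :
    classInner (fun a => f (e a)) (fun a => g (e a)) = classInner f g := by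
  unfold classInner
  rw [Nat.card_congr e.toEquiv]
  congr 1
  exact Fintype.sum_equiv e.toEquiv _ _ (fun a => rfl)

section Corr2

variable {G : Type u} [Group G] [Fintype G] (H T : Subgroup G) [hN : H.Normal] [Fintype T]
  (θ : H → ℂ)

/-- **Clifford correspondence (injectivity / irreducibility).** -/
theorem clifford_corr_induction (hθ : IsIrrCharacter H θ)
    (hT : ∀ g : G, g ∈ T ↔ ∀ h : H, θ ⟨g * h * g⁻¹, hN.conj_mem h h.2 g⟩ = θ h) (hHT : H ≤ T)
    (ψ ψ' : T → ℂ) (hψ : IsIrrCharacter T ψ) (hψ' : IsIrrCharacter T ψ')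
    (hc : classInner (indFun (H.subgroupOf T) (resSub H T θ)) ψ ≠ 0)
    (hc' : classInner (indFun (H.subgroupOf T) (resSub H T θ)) ψ' ≠ 0) :
    IsIrrCharacter G (indFun T ψ) ∧ (indFun T ψ = indFun T ψ' → ψ = ψ') := by
  classical
  haveI : Finite (IrrCharacter T) := irrCharacter_finite
  haveI := Fintype.ofFinite (IrrCharacter T)
  obtain ⟨m, hm, -, hirr, horth⟩ := clifford_core H T θ hθ hT hHT
  have hmψ : m ⟨ψ, hψ⟩ ≠ 0 := by
    intro h0
    apply hc
    rw [hm ⟨ψ, hψ⟩, h0]; simp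
  have hmψ' : m ⟨ψ', hψ'⟩ ≠ 0 := by
    intro h0
    apply hc'
    rw [hm ⟨ψ', hψ'⟩, h0]; simp
  refine ⟨hirr ⟨ψ, hψ⟩ hmψ, ?_⟩
  intro heq
  by_contra hne
  have h1 := horth ⟨ψ, hψ⟩ ⟨ψ', hψ'⟩ (fun h => hne (congrArg Subtype.val h)) hmψ hmψ'
  have h2 := classInner_irr (hirr ⟨ψ, hψ⟩ hmψ) (hirr ⟨ψ, hψ⟩ hmψ)
  rw [if_pos rfl] at h2
  simp only at h1 h2
  rw [← heq, h2] at h1
  exact one_ne_zero h1

/-- **Clifford correspondence (surjectivity).** -/
theorem clifford_corr_surjective [Fintype H] (hθ : IsIrrCharacter H θ)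
    (hT : ∀ g : G, g ∈ T ↔ ∀ h : H, θ ⟨g * h * g⁻¹, hN.conj_mem h h.2 g⟩ = θ h) (hHT : H ≤ T)
    (χ : G → ℂ) (hχ : IsIrrCharacter G χ) (hcon : classInner (fun n : H => χ n) θ ≠ 0) :
    ∃ ψ : T → ℂ, IsIrrCharacter T ψ ∧ indFun T ψ = χ ∧
      classInner (indFun (H.subgroupOf T) (resSub H T θ)) ψ ≠ 0 ∧
      classInner (fun n : H => ψ ⟨(n : G), hHT n.2⟩) θ = classInner (fun n : H => χ n) θ := by
  classical
  haveI : Finite (IrrCharacter T) := irrCharacter_finite
  haveI := Fintype.ofFinite (IrrCharacter T)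
  haveI : Fintype (H.subgroupOf T) := Fintype.ofFinite _
  obtain ⟨m, hm, hG, hirr, horth⟩ := clifford_core H T θ hθ hT hHT
  have hχcf : IsClassFunction G χ := IsCharacter.isClassFunction (IsIrrCharacter.isCharacter hχ)
  -- ⟨χ, θ^G⟩ = ⟨χ_H, θ⟩
  have hfrob : classInner χ (indFun H θ) = classInner (fun n : H => χ n) θ :=
    Cfsg.Agent.Lib.Helper25.frobenius_reciprocity' H θ χ hχcf
  have hexp : classInner χ (indFun H θ) =
      ∑ ψ : IrrCharacter T, (m ψ : ℂ) * classInner χ (indFun T (ψ : T → ℂ)) := by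
    conv_lhs => rw [hG]
    rw [classInner_sum_right]
    apply Finset.sum_congr rfl
    intro ψ _
    rw [classInner_smul_right, Complex.conj_natCast]
  -- some term is nonzero
  have hex : ∃ ψ : IrrCharacter T, (m ψ : ℂ) * classInner χ (indFun T (ψ : T → ℂ)) ≠ 0 := by
    by_contra hall
    simp only [not_exists, not_not] at hall
    apply hcon
    rw [← hfrob, hexp]
    exact Finset.sum_eq_zero (fun ψ _ => hall ψ)
  obtain ⟨ψ, hψ⟩ := hex
  have hmψ : m ψ ≠ 0 := by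
    intro h0
    apply hψ
    rw [h0]; simp
  have hψirr := hirr ψ hmψ
  have hχψ : χ = indFun T (ψ : T → ℂ) := by
    by_contra hne
    apply hψ
    rw [classInner_irr hχ hψirr, if_neg hne, mul_zero]
  refine ⟨ψ, ψ.2, hχψ.symm, ?_, ?_⟩
  · rw [hm ψ]
    exact_mod_cast hmψ
  · -- both sides equal m ψ
    have hR : classInner (fun n : H => χ n) θ = (m ψ : ℂ) := by
      rw [← hfrob, hexp, Finset.sum_eq_single ψ]
      · rw [hχψ, classInner_irr hψirr hψirr, if_pos rfl, mul_one]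
      · intro ψ' _ hne
        by_cases h0 : m ψ' = 0
        · rw [h0]; simp
        · rw [hχψ, horth ψ ψ' (Ne.symm hne) hmψ h0, mul_zero]
      · intro h; exact absurd (Finset.mem_univ _) h
    rw [hR]
    have hψcf : IsClassFunction T (ψ : T → ℂ) :=
      IsCharacter.isClassFunction (IsIrrCharacter.isCharacter ψ.2)
    have h1 := hm ψ
    rw [Cfsg.Agent.Lib.Helper25.frobenius_reciprocity (H.subgroupOf T) (resSub H T θ) _ hψcf] at h1
    have h2 := classInner_comp_mulEquiv (Subgroup.subgroupOfEquivOfLe hHT)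
      (fun n : H => (ψ : T → ℂ) ⟨(n : G), hHT n.2⟩) θ
    rw [classInner_conj_symm] at h1
    have h3 : classInner (fun h : H.subgroupOf T => (ψ : T → ℂ) h) (resSub H T θ) =
        classInner (fun n : H => (ψ : T → ℂ) ⟨(n : G), hHT n.2⟩) θ := by
      rw [← h2]
      rfl
    rw [h3] at h1
    have h4 := congrArg conj h1
    rw [Complex.conj_conj, Complex.conj_natCast] at h4
    exact h4

end Corr2

end Cfsg.Agent.Lib.Helper75
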