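import Mathlib
import Cfsg.Prelude.Def_Characters
import Cfsg.Agent.Lib.Helper3.OddOrder
import Cfsg.Agent.Lib.Helper75.CliffordCorr
import Cfsg.Agent.Lib.Helper75.Clifford

set_option autoImplicit false
set_option linter.style.haveILetI false
set_option linter.unusedSectionVars false

namespace Cfsg.Agent.Lib.Helper75

open Cfsg Cfsg.Agent.Lib.Helper3
open scoped ComplexConjugate

universe u

section Twist

variable {G : Type u} [Group G] [Fintype G] (N : Subgroup G) [hN : N.Normal]

/-- The function induced from the trivial character of a normal subgroup. -/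
theorem indFun_const_one_apply [DecidablePred (· ∈ N)] (g : G) :
    indFun N (fun _ => (1 : ℂ)) g = if g ∈ N then (N.index : ℂ) else 0 := by
  rw [Cfsg.Agent.S0193.indFun_eq N _ g]
  split_ifs with hg
  · have h1 : ∀ x : G, Cfsg.Agent.S0193.conjFun N (fun _ => (1 : ℂ)) x ⟨g, hg⟩ = 1 := fun x => rfl
    rw [Finset.sum_congr rfl (fun x _ => h1 x), Finset.sum_const, Finset.card_univ,
      ← Nat.card_eq_fintype_card, nsmul_eq_mul, mul_one, ← Subgroup.card_mul_index N]
    have hN0 : (Nat.card N : ℂ) ≠ 0 := by exact_mod_cast Nat.card_pos.ne'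
    push_cast
    field_simp
  · rfl

/-- Pairing of restrictions to a normal subgroup, computed on `G`. -/
theorem classInner_restrict_eq [Fintype N] (φ ψ : G → ℂ) :
    classInner (fun n : N => φ n) (fun n : N => ψ n) =
      classInner φ (ψ * indFun N (fun _ => (1 : ℂ))) := by
  classical
  unfold classInner
  have hN0 : (Nat.card N : ℂ) ≠ 0 := by exact_mod_cast Nat.card_pos.ne'
  have hG : (Nat.card G : ℂ) = (Nat.card N : ℂ) * (N.index : ℂ) := by
    rw [← Subgroup.card_mul_index N]; push_cast; ring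
  have hI0 : (N.index : ℂ) ≠ 0 := by
    have : N.index ≠ 0 := Subgroup.index_ne_zero_of_finite
    exact_mod_cast this
  have h1 : ∀ g : G, φ g * conj ((ψ * indFun N (fun _ => (1 : ℂ))) g) =
      if hg : g ∈ N then (N.index : ℂ) * (φ g * conj (ψ g)) else 0 := by
    intro g
    rw [Pi.mul_apply, indFun_const_one_apply]
    split_ifs with hg
    · rw [map_mul, Complex.conj_natCast]; ring
    · simp
  rw [Finset.sum_congr rfl (fun g _ => h1 g), Finset.sum_dite, Finset.sum_const_zero, add_zero]
  have h2 : ∑ x : {x // x ∈ (Finset.univ : Finset G).filter (· ∈ N)},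
      (N.index : ℂ) * (φ x * conj (ψ x)) = ∑ n : N, (N.index : ℂ) * (φ n * conj (ψ n)) := by
    refine Fintype.sum_equiv (Equiv.subtypeEquivRight (fun g => by simp)) _ _ ?_
    intro h
    rfl
  rw [h2, ← Finset.mul_sum, hG]
  field_simp

/-- Restriction of an irreducible character to a normal subgroup, over an invariant constituent,
is a multiple of that constituent. -/
theorem restrict_eq_smul_of_invariant' [Fintype N] {χ : G → ℂ} (hχ : IsIrrCharacter G χ)
    {ϑ : N → ℂ} (hϑ : IsIrrCharacter N ϑ) (hcon : classInner (fun n : N => χ n) ϑ ≠ 0)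
    (hinv : ∀ (g : G) (n : N), ϑ ⟨g * n * g⁻¹, hN.conj_mem (n : G) n.2 g⟩ = ϑ n) :
    ∃ e : ℕ, e ≠ 0 ∧ classInner (fun n : N => χ n) ϑ = (e : ℂ) ∧
      (fun n : N => χ n) = (e : ℂ) • ϑ := by
  classical
  haveI : Finite (IrrCharacter N) := irrCharacter_finite
  haveI := Fintype.ofFinite (IrrCharacter N)
  have hres : IsCharacter N (fun n : N => χ n) :=
    IsCharacter.restrict (IsIrrCharacter.isCharacter hχ) N
  obtain ⟨m, hm, hdec⟩ := IsCharacter.exists_mult hres
  refine ⟨m ⟨ϑ, hϑ⟩, ?_, hm ⟨ϑ, hϑ⟩, ?_⟩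
  · intro h0
    apply hcon
    rw [hm ⟨ϑ, hϑ⟩, h0]; simp
  · conv_lhs => rw [hdec]
    rw [Finset.sum_eq_single (⟨ϑ, hϑ⟩ : IrrCharacter N)]
    · intro φ _ hφ
      have hmφ : m φ = 0 := by
        by_contra h0
        have h' : classInner (fun n : N => χ n) (φ : N → ℂ) ≠ 0 := by
          rw [hm φ]; exact_mod_cast h0
        obtain ⟨g, hg⟩ := clifford_conj N hχ hϑ φ.2 hcon h'
        apply hφ
        apply Subtype.ext
        rw [hg]
        funext n
        exact hinv g n
      rw [hmφ]; simp
    · intro h; exact absurd (Finset.mem_univ _) h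

/-- An irreducible character whose restriction to the normal subgroup `N` contains the trivial
character has `N` in its kernel. -/
theorem apply_eq_one_of_classInner_one_ne_zero [Fintype N] {β : G → ℂ} (hβ : IsIrrCharacter G β)
    (h : classInner (fun n : N => β n) (fun _ => (1 : ℂ)) ≠ 0) : ∀ n ∈ N, β n = β 1 := by
  obtain ⟨e, -, -, he⟩ := restrict_eq_smul_of_invariant' N hβ (isIrrCharacter_one (G := N)) h
    (fun _ _ => rfl)
  intro n hn
  have h1 := congrFun he ⟨n, hn⟩
  have h2 := congrFun he 1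
  simp only [Pi.smul_apply, smul_eq_mul, mul_one] at h1 h2
  rw [h1]
  exact h2.symm

/-- **Twisting lemma (general form).** If the restrictions of two irreducible characters `χ, η`
of `G` to the normal subgroup `N` are not orthogonal, then `χ` is a constituent of `β η` for some
irreducible character `β` of `G` with `N` in its kernel. -/
theorem exists_twist [Fintype N] {χ η : G → ℂ}
    (h : classInner (fun n : N => χ n) (fun n : N => η n) ≠ 0) :
    ∃ β : G → ℂ, IsIrrCharacter G β ∧ (∀ n ∈ N, β n = β 1) ∧ classInner χ (η * β) ≠ 0 := by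
  classical
  haveI : Finite (IrrCharacter G) := irrCharacter_finite
  haveI := Fintype.ofFinite (IrrCharacter G)
  have hρ : IsCharacter G (indFun N (fun _ => (1 : ℂ))) :=
    isCharacter_indFun N IsCharacter.one
  obtain ⟨a, ha, hdec⟩ := IsCharacter.exists_mult hρ
  rw [classInner_restrict_eq] at h
  have hexp : classInner χ (η * indFun N (fun _ => (1 : ℂ))) =
      ∑ β : IrrCharacter G, (a β : ℂ) * classInner χ (η * (β : G → ℂ)) := by
    conv_lhs => rw [hdec, Finset.mul_sum, classInner_sum_right]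
    apply Finset.sum_congr rfl
    intro β _
    have : η * ((a β : ℂ) • (β : G → ℂ)) = (a β : ℂ) • (η * (β : G → ℂ)) := by
      funext g; simp only [Pi.mul_apply, Pi.smul_apply, smul_eq_mul]; ring
    rw [this, classInner_smul_right, Complex.conj_natCast]
  have hex : ∃ β : IrrCharacter G, (a β : ℂ) * classInner χ (η * (β : G → ℂ)) ≠ 0 := by
    by_contra hall
    simp only [not_exists, not_not] at hall
    apply h
    rw [hexp]
    exact Finset.sum_eq_zero (fun β _ => hall β)
  obtain ⟨β, hβ⟩ := hex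
  have haβ : (a β : ℂ) ≠ 0 := left_ne_zero_of_mul hβ
  refine ⟨β, β.2, ?_, right_ne_zero_of_mul hβ⟩
  apply apply_eq_one_of_classInner_one_ne_zero N β.2
  have hβcf : IsClassFunction G (β : G → ℂ) :=
    IsCharacter.isClassFunction (IsIrrCharacter.isCharacter β.2)
  have h1 := ha β
  rw [Cfsg.Agent.Lib.Helper25.frobenius_reciprocity N _ _ hβcf, classInner_conj_symm] at h1
  intro h0
  rw [h0] at h1
  apply haβ
  rw [← h1]; simp

/-- A linear character times an irreducible character is irreducible. -/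
theorem isIrrCharacter_mul_of_linear {β η : G → ℂ} (hβ : IsCharacter G β) (hβ1 : β 1 = 1)
    (hη : IsIrrCharacter G η) : IsIrrCharacter G (η * β) := by
  obtain ⟨φ, hφ⟩ := Cfsg.Agent.Lib.Helper79.exists_monoidHom_of_isCharacter_of_one hβ hβ1
  apply isIrrCharacter_of_classInner_self_eq_one (IsCharacter.mul (IsIrrCharacter.isCharacter hη) hβ)
  have h1 := classInner_irr hη hη
  rw [if_pos rfl] at h1
  rw [← h1]
  unfold classInner
  congr 1
  apply Finset.sum_congr rfl
  intro g _
  have hnorm : β g * conj (β g) = 1 := by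
    rw [Complex.mul_conj, Complex.normSq_eq_norm_sq]
    have hpow : (β g) ^ (Nat.card G) = 1 := by
      rw [hφ g, ← Units.val_pow_eq_pow_val, ← map_pow, pow_card_eq_one', map_one, Units.val_one]
    have := Complex.norm_eq_one_of_pow_eq_one hpow Nat.card_pos.ne'
    rw [this]; simp
  simp only [Pi.mul_apply, map_mul]
  calc η g * β g * (conj (η g) * conj (β g)) = η g * conj (η g) * (β g * conj (β g)) := by ring
    _ = η g * conj (η g) := by rw [hnorm, mul_one]

/-- **Twisting lemma (abelian quotient).** If `G / N` is abelian and the restrictions of the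
irreducible characters `χ, η` to `N` are not orthogonal, then `χ = η β` for a linear character
`β` of `G` trivial on `N`. -/
theorem exists_linear_twist [Fintype N] (hab : ∀ x y : G, x * y * x⁻¹ * y⁻¹ ∈ N)
    {χ η : G → ℂ} (hχ : IsIrrCharacter G χ) (hη : IsIrrCharacter G η)
    (h : classInner (fun n : N => χ n) (fun n : N => η n) ≠ 0) :
    ∃ β : G → ℂ, IsIrrCharacter G β ∧ β 1 = 1 ∧ (∀ n ∈ N, β n = 1) ∧ χ = η * β := by
  obtain ⟨β, hβ, hβN, hβχ⟩ := exists_twist N h
  haveI : IsMulCommutative (G ⧸ N) := by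
    refine ⟨⟨?_⟩⟩
    intro a b
    obtain ⟨x, rfl⟩ := QuotientGroup.mk_surjective a
    obtain ⟨y, rfl⟩ := QuotientGroup.mk_surjective b
    rw [← QuotientGroup.mk_mul, ← QuotientGroup.mk_mul, QuotientGroup.eq]
    have := hab y⁻¹ x⁻¹
    have h2 : (x * y)⁻¹ * (y * x) = y⁻¹ * x⁻¹ * y⁻¹⁻¹ * x⁻¹⁻¹ := by group
    rw [h2]
    exact this
  obtain ⟨βq, hβq, hβq'⟩ := Cfsg.Agent.Lib.Helper79.isIrrCharacter_deflate hβ N hβN
  have hβ1 : β 1 = 1 := by
    have := Cfsg.Agent.Lib.Helper79.irr_one_eq_one_of_comm (⟨βq, hβq⟩ : IrrCharacter (G ⧸ N))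
    simp only at this
    rw [← hβq' 1]
    exact this
  refine ⟨β, hβ, hβ1, fun n hn => by rw [hβN n hn, hβ1], ?_⟩
  have hirr := isIrrCharacter_mul_of_linear (IsIrrCharacter.isCharacter hβ) hβ1 hη
  by_contra hne
  apply hβχ
  rw [classInner_irr hχ hirr, if_neg hne]

end Twist

end Cfsg.Agent.Lib.Helper75
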