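import Cfsg.Agent.Lib.Helper75.D4gDefs

set_option autoImplicit false
set_option maxRecDepth 100000

namespace Cfsg.Agent.Lib.Helper75.D4g

open Cfsg Cfsg.Lie Cfsg.Agent.Lib.Helper36

section stack
variable {K : Type*} [Field K] (φ : K →+* K)

theorem d4gconj_append (l₁ l₂ : List ℕ) :
    nWordGL chevD4 hD4 K (l₁ ++ l₂) = nWordGL chevD4 hD4 K l₁ * nWordGL chevD4 hD4 K l₂ := by
  unfold nWordGL
  rw [List.map_append, List.prod_append]

theorem d4gconj_sq : nC K ^ 2 = nWordGL chevD4 hD4 K (cox ++ cox) := by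
  rw [d4gconj_append, pow_two]; rfl

theorem d4gconj_cube : nC K ^ 3 = nWordGL chevD4 hD4 K (cox ++ (cox ++ cox)) := by
  rw [d4gconj_append, d4gconj_append, pow_succ, pow_two, mul_assoc]; rfl

theorem d4gconj_three {G : Type*} [Group G] (n a b c : G) :
    n * (a * b * c) * n⁻¹ = (n * a * n⁻¹) * (n * b * n⁻¹) * (n * c * n⁻¹) := by group

theorem d4gconj_lt2 : ∀ i ∈ cox ++ cox, i < chevD4.rank := by decide
theorem d4gconj_lt3 : ∀ i ∈ cox ++ (cox ++ cox), i < chevD4.rank := by decide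

theorem nC2_conj_xS (t : K) : nC K ^ 2 * xS K φ t * (nC K ^ 2)⁻¹ = xSL K φ t := by
  rw [d4gconj_sq]
  unfold xS xSL xg
  rw [d4gconj_three,
    nWordGL_conj_sign chevD4 hD4 K _ d4gconj_lt2 18 (by decide),
    nWordGL_conj_sign chevD4 hD4 K _ d4gconj_lt2 13 (by decide),
    nWordGL_conj_sign chevD4 hD4 K _ d4gconj_lt2 12 (by decide)]
  have r1 : wRoot chevD4 (cox ++ cox) 18 = 19 := by decide
  have r2 : wRoot chevD4 (cox ++ cox) 13 = 16 := by decide
  have r3 : wRoot chevD4 (cox ++ cox) 12 = 15 := by decide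
  have s1 : wSign chevD4 (cox ++ cox) 18 = -1 := by decide
  have s2 : wSign chevD4 (cox ++ cox) 13 = 1 := by decide
  have s3 : wSign chevD4 (cox ++ cox) 12 = 1 := by decide
  rw [r1, r2, r3, s1, s2, s3]
  simp

theorem nC3_conj_xS (t : K) : nC K ^ 3 * xS K φ t * (nC K ^ 3)⁻¹ = xSn K φ (-t) := by
  rw [d4gconj_cube]
  unfold xS xSn xg
  rw [d4gconj_three,
    nWordGL_conj_sign chevD4 hD4 K _ d4gconj_lt3 18 (by decide),
    nWordGL_conj_sign chevD4 hD4 K _ d4gconj_lt3 13 (by decide),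
    nWordGL_conj_sign chevD4 hD4 K _ d4gconj_lt3 12 (by decide)]
  have r1 : wRoot chevD4 (cox ++ (cox ++ cox)) 18 = 5 := by decide
  have r2 : wRoot chevD4 (cox ++ (cox ++ cox)) 13 = 10 := by decide
  have r3 : wRoot chevD4 (cox ++ (cox ++ cox)) 12 = 11 := by decide
  have s1 : wSign chevD4 (cox ++ (cox ++ cox)) 18 = -1 := by decide
  have s2 : wSign chevD4 (cox ++ (cox ++ cox)) 13 = -1 := by decide
  have s3 : wSign chevD4 (cox ++ (cox ++ cox)) 12 = -1 := by decide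
  rw [r1, r2, r3, s1, s2, s3]
  simp

theorem nC3_conj_x14 (s : K) : nC K ^ 3 * xg K 14 s * (nC K ^ 3)⁻¹ = xg K 9 (-s) := by
  rw [d4gconj_cube]
  unfold xg
  rw [nWordGL_conj_sign chevD4 hD4 K _ d4gconj_lt3 14 (by decide)]
  have r1 : wRoot chevD4 (cox ++ (cox ++ cox)) 14 = 9 := by decide
  have s1 : wSign chevD4 (cox ++ (cox ++ cox)) 14 = -1 := by decide
  rw [r1, s1]
  simp

end stack

end Cfsg.Agent.Lib.Helper75.D4g
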