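import Cfsg.Agent.Lib.Helper75.D4gDefs

set_option autoImplicit false
set_option linter.unusedVariables false

namespace Cfsg.Agent.Lib.Helper75.D4g

open Cfsg Cfsg.Lie Cfsg.Agent.Lib.Helper36

section mem
variable {K : Type*} [Field K] [Fintype K] {q : ℕ}

theorem d4gmem_frob_cube (hK : Fintype.card K = q ^ 3) (φ : K →+* K) (hφ : ∀ t : K, φ t = t ^ q) (t : K) :
    φ (φ (φ t)) = t := by
  rw [hφ, hφ, hφ, ← pow_mul, ← pow_mul, show q * (q * q) = q ^ 3 by ring, ← hK]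
  exact FiniteField.pow_card t

theorem tA_mem (hK : Fintype.card K = q ^ 3) (φ : K →+* K) (hφ : ∀ t : K, φ t = t ^ q) (z : K) (hz : z ≠ 0) :
    tA K φ z ∈ twistedD4 K q := by
  rw [twistedD4_eq K q φ hφ hK]
  have h := hw_LJ_mem chevD4 hD4 graphD4 orbsD4 fundD4 stepsD4 twOK_D4 K φ [0, 2, 3] (by simp [fundD4]) z
    (by
      show φ (φ (φ z)) = z
      exact d4gmem_frob_cube hK φ hφ z)
  have e : hw chevD4 hD4 K (LJ chevD4 K φ [0, 2, 3]) z = tA K φ z := by
    unfold hw LJ LB pBlock tA hg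
    simp [mul_assoc]
    rfl
  rw [← e]
  exact h

theorem gB_mem (hK : Fintype.card K = q ^ 3) (φ : K →+* K) (hφ : ∀ t : K, φ t = t ^ q) :
    gB K φ ∈ twistedD4 K q := by
  unfold gB
  apply mul_mem
  · -- `x_S(1)` is a defining generator
    unfold twistedD4 ChevalleyDatum.genSubgroup
    apply Subgroup.subset_closure
    refine ⟨[(d4p1, (1 : K)), (d4p3, (1 : K) ^ q), (d4p4, (1 : K) ^ (q ^ 2))],
      Or.inr ⟨1, (d4p1, d4p3, d4p4), by simp, rfl⟩, ?_⟩
    rw [← wordGL_coe chevD4 hD4]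
    congr 1
    unfold xS xg
    simp [wordGL, d4p1, d4p3, d4p4, mul_assoc]
  · rw [twistedD4_eq K q φ hφ hK]
    have h1 := nWord_fund_mem chevD4 hD4 graphD4 orbsD4 fundD4 K φ chkOrb_D4 chkFund_D4 [0, 2, 3] (by simp [fundD4])
    have h2 := nWord_fund_mem chevD4 hD4 graphD4 orbsD4 fundD4 K φ chkOrb_D4 chkFund_D4 [1] (by simp [fundD4])
    have e : nC K = nWordGL chevD4 hD4 K [0, 2, 3] * nWordGL chevD4 hD4 K [1] := by
      unfold nC cox nWordGL
      simp [mul_assoc]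
    rw [e]
    exact mul_mem h1 h2

end mem

end Cfsg.Agent.Lib.Helper75.D4g
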