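import Cfsg.Agent.Lib.Helper12.D3Defs
import Cfsg.Agent.Lib.Helper65.D4gCOMM

/-! # D3 hive (S2183, helper12), leaf D3-NB (helper75): the reflection `n_b` swaps `a ↔ a+b`, `3a+b ↔ 3a+2b` -/

set_option autoImplicit false
set_option maxRecDepth 100000

namespace Cfsg.Agent.Lib.Helper12.D3

open Cfsg Cfsg.Lie Cfsg.Agent.Lib.Helper36 Cfsg.Agent.Lib.Helper75.D4g

variable (K : Type*) [Field K] (φ : K →+* K)

theorem d3nb_lt : ∀ i ∈ [1], i < chevD4.rank := by decide

/-- in characteristic 2 the sign disappears -/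
theorem d3nb_conj [CharP K 2] (r r' : ℕ) (hr : r < chevD4.nroots) (hr' : wRoot chevD4 [1] r = r') (t : K) :
    nWordGL chevD4 hD4 K [1] * xg K r t * (nWordGL chevD4 hD4 K [1])⁻¹ = xg K r' t := by
  unfold xg
  rw [nWordGL_conj_sign chevD4 hD4 K [1] d3nb_lt r hr t, hr']
  have h2 : (-1 : K) = 1 := by
    have h : (2 : K) = 0 := by
      have := CharP.cast_eq_zero K 2
      exact_mod_cast this
    linear_combination (-1 : K) * h
  have hs : ((wSign chevD4 [1] r : ℤ) : K) = 1 := by
    have hsign : ∀ r < chevD4.nroots, wSign chevD4 [1] r = 1 ∨ wSign chevD4 [1] r = -1 := by decide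
    rcases hsign r hr with h | h <;> rw [h] <;> simp [h2]
  rw [hs, one_mul]

theorem d3nb_two {G : Type*} [Group G] (n a b : G) :
    n * (a * b) * n⁻¹ = (n * a * n⁻¹) * (n * b * n⁻¹) := by group

/-- D3-NB : the reflection `n_b` swaps `a ↔ a+b`, `3a+b ↔ 3a+2b` -/
theorem conj_nb [Fintype K] [CharP K 2] {q : ℕ} (hK : Fintype.card K = q ^ 3) (hφ : ∀ t : K, φ t = t ^ q) :
    ∃ n ∈ twistedD4 K q, ∀ S c d e : K, n * V K φ 0 S c d e * n⁻¹ = W K φ S 0 0 c e d := by
  refine ⟨nWordGL chevD4 hD4 K [1], ?_, ?_⟩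
  · rw [twistedD4_eq K q φ hφ hK]
    exact nWord_fund_mem chevD4 hD4 graphD4 orbsD4 fundD4 K φ chkOrb_D4 chkFund_D4 [1] (by simp [fundD4])
  · intro S c d e
    have z14 : xg K 14 (0 : K) = 1 := xGL_zero chevD4 hD4 K 14
    have z19 : xg K 19 (0 : K) = 1 := xGL_zero chevD4 hD4 K 19
    have z16 : xg K 16 (0 : K) = 1 := xGL_zero chevD4 hD4 K 16
    have z15 : xg K 15 (0 : K) = 1 := xGL_zero chevD4 hD4 K 15
    have hcomm : xg K 23 d * xg K 22 e = xg K 22 e * xg K 23 d :=
      d4gcomm_nil (K := K) 23 22 (by decide) (by decide) (by decide) (by decide) (by decide) d e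
    unfold W V T xa xab x2ab
    rw [z14, map_zero, map_zero, z19, z16, z15]
    simp only [one_mul, mul_one]
    simp only [d3nb_two]
    rw [d3nb_conj K 19 18 (by decide) (by decide), d3nb_conj K 16 13 (by decide) (by decide),
      d3nb_conj K 15 12 (by decide) (by decide), d3nb_conj K 21 21 (by decide) (by decide),
      d3nb_conj K 17 17 (by decide) (by decide), d3nb_conj K 20 20 (by decide) (by decide),
      d3nb_conj K 22 23 (by decide) (by decide), d3nb_conj K 23 22 (by decide) (by decide)]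
    simp only [mul_assoc]
    rw [hcomm]

end Cfsg.Agent.Lib.Helper12.D3
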