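import Mathlib

set_option autoImplicit false

namespace Cfsg.Agent.Lib.Helper75

/-- Every automorphism of a subfield of an algebraically closed field extends to the whole field. -/
theorem exists_ringEquiv_extending {F K : Type*} [Field F] [Field K] [Algebra F K] [IsAlgClosed K]
    (τ : F ≃+* F) :
    ∃ σ : K ≃+* K, ∀ x : F, σ (algebraMap F K x) = algebraMap F K (τ x) := by
  obtain ⟨ι, v, hv⟩ := exists_isTranscendenceBasis' F (A := K)
  have := IsAlgClosed.isAlgClosure_of_transcendence_basis v hv
  let a : MvPolynomial ι F ≃ₐ[F] Algebra.adjoin F (Set.range v) := hv.1.aevalEquiv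
  let e : Algebra.adjoin F (Set.range v) ≃+* Algebra.adjoin F (Set.range v) :=
    a.symm.toRingEquiv.trans ((MvPolynomial.mapEquiv ι τ).trans a.toRingEquiv)
  refine ⟨IsAlgClosure.equivOfEquiv K K e, ?_⟩
  intro x
  have h1 : algebraMap F K x =
      algebraMap (Algebra.adjoin F (Set.range v)) K (algebraMap F _ x) := rfl
  rw [h1, IsAlgClosure.equivOfEquiv_algebraMap]
  have h2 : e (algebraMap F (Algebra.adjoin F (Set.range v)) x) =
      algebraMap F (Algebra.adjoin F (Set.range v)) (τ x) := by
    simp only [e, RingEquiv.trans_apply, AlgEquiv.coe_ringEquiv]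
    rw [AlgEquiv.commutes a.symm x]
    rw [MvPolynomial.algebraMap_eq, MvPolynomial.mapEquiv_apply, MvPolynomial.map_C,
      ← MvPolynomial.algebraMap_eq, AlgEquiv.commutes]
    rfl
  rw [h2]
  rfl

end Cfsg.Agent.Lib.Helper75
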