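import Mathlib
import Cfsg.Agent.Lib.Helper75.GaloisExt

set_option autoImplicit false

namespace Cfsg.Agent.Lib.Helper75

open Polynomial

/-- For `k` coprime to `n`, there is a field automorphism of `ℂ` raising every `n`-th root of unity
to its `k`-th power. -/
theorem exists_ringEquiv_pow_rootsOfUnity (n k : ℕ) (hn : 0 < n) (hk : Nat.Coprime k n) :
    ∃ σ : ℂ ≃+* ℂ, ∀ μ : ℂ, μ ^ n = 1 → σ μ = μ ^ k := by
  haveI : NeZero n := ⟨hn.ne'⟩
  have hex : ∀ m ∈ ({n} : Set ℕ), m ≠ 0 → ∃ r : ℂ, IsPrimitiveRoot r m := by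
    intro m hm hm0
    exact ⟨_, Complex.isPrimitiveRoot_exp m hm0⟩
  let F : IntermediateField ℚ ℂ :=
    IntermediateField.adjoin ℚ {b : ℂ | ∃ m ∈ ({n} : Set ℕ), m ≠ 0 ∧ b ^ m = 1}
  haveI hcyc : IsCyclotomicExtension {n} ℚ F :=
    IntermediateField.isCyclotomicExtension_adjoin_of_exists_isPrimitiveRoot {n} ℚ ℂ hex
  have hirr : Irreducible (cyclotomic n ℚ) := cyclotomic.irreducible_rat hn
  have hz : IsPrimitiveRoot (IsCyclotomicExtension.zeta n ℚ F) n :=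
    IsCyclotomicExtension.zeta_spec n ℚ F
  have hzk : IsPrimitiveRoot ((IsCyclotomicExtension.zeta n ℚ F) ^ k) n := hz.pow_of_coprime k hk
  let τ : F ≃ₐ[ℚ] F := IsCyclotomicExtension.fromZetaAut hzk hirr
  have hτ : τ (IsCyclotomicExtension.zeta n ℚ F) = (IsCyclotomicExtension.zeta n ℚ F) ^ k :=
    IsCyclotomicExtension.fromZetaAut_spec hzk hirr
  obtain ⟨σ, hσ⟩ := exists_ringEquiv_extending (F := F) (K := ℂ) τ.toRingEquiv
  refine ⟨σ, ?_⟩
  set z : ℂ := ((IsCyclotomicExtension.zeta n ℚ F : F) : ℂ) with hzdef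
  have hzC : IsPrimitiveRoot z n := hz.map_of_injective (f := algebraMap F ℂ) (algebraMap F ℂ).injective
  have hσz : σ z = z ^ k := by
    have := hσ (IsCyclotomicExtension.zeta n ℚ F)
    have h2 : τ.toRingEquiv (IsCyclotomicExtension.zeta n ℚ F) = τ (IsCyclotomicExtension.zeta n ℚ F) := rfl
    rw [h2, hτ, map_pow] at this
    exact this
  intro μ hμ
  obtain ⟨i, _, rfl⟩ := hzC.eq_pow_of_pow_eq_one hμ
  rw [map_pow, hσz, ← pow_mul, ← pow_mul, mul_comm]

end Cfsg.Agent.Lib.Helper75
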