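import Mathlib
import Cfsg.Prelude.Def_Characters
import Cfsg.Agent.Lib.Helper3.CharBasic
import Cfsg.Agent.Lib.Helper75.GaloisCyc

set_option autoImplicit false

namespace Cfsg.Agent.Lib.Helper75

open Cfsg Cfsg.Agent.Lib.Helper3

section Twist

variable {G : Type*} [Monoid G] {m : ℕ}

/-- The entrywise Galois twist of a matrix representation by a field automorphism of `ℂ`. -/
noncomputable def twistRep (σ : ℂ ≃+* ℂ) (ρ : Representation ℂ G (Fin m → ℂ)) :
    Representation ℂ G (Fin m → ℂ) :=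
  ((Matrix.toLinAlgEquiv' : Matrix (Fin m) (Fin m) ℂ ≃ₐ[ℂ] _).toRingEquiv.toRingHom.comp
    ((σ.toRingHom.mapMatrix).comp
      (LinearMap.toMatrixAlgEquiv' : _ ≃ₐ[ℂ] Matrix (Fin m) (Fin m) ℂ).toRingEquiv.toRingHom)
    : Module.End ℂ (Fin m → ℂ) →* Module.End ℂ (Fin m → ℂ)).comp ρ

theorem twistRep_apply (σ : ℂ ≃+* ℂ) (ρ : Representation ℂ G (Fin m → ℂ)) (g : G) :
    twistRep σ ρ g = Matrix.toLin' ((LinearMap.toMatrix' (ρ g)).map σ) := rfl

theorem twistRep_apply_vec (σ : ℂ ≃+* ℂ) (ρ : Representation ℂ G (Fin m → ℂ)) (g : G)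
    (v : Fin m → ℂ) :
    twistRep σ ρ g (fun i => σ (v i)) = fun i => σ (ρ g v i) := by
  rw [twistRep_apply, Matrix.toLin'_apply]
  funext i
  have h1 : ρ g v = Matrix.mulVec (LinearMap.toMatrix' (ρ g)) v := by
    rw [← Matrix.toLin'_apply, Matrix.toLin'_toMatrix']
  rw [h1]
  simp only [Matrix.mulVec, dotProduct, Matrix.map_apply, map_sum, map_mul]

theorem twistRep_character (σ : ℂ ≃+* ℂ) (ρ : Representation ℂ G (Fin m → ℂ)) (g : G) :
    (twistRep σ ρ).character g = σ (ρ.character g) := by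
  unfold Representation.character
  rw [twistRep_apply, Matrix.trace_toLin'_eq,
    LinearMap.trace_eq_matrix_trace ℂ (Pi.basisFun ℂ (Fin m)) (ρ g),
    LinearMap.toMatrix_eq_toMatrix']
  simp only [Matrix.trace, Matrix.diag, Matrix.map_apply, map_sum]

theorem twistRep_isIrreducible (σ : ℂ ≃+* ℂ) (ρ : Representation ℂ G (Fin m → ℂ))
    (h : ρ.IsIrreducible) : (twistRep σ ρ).IsIrreducible := by
  rw [isIrreducible_iff] at h ⊢
  obtain ⟨hV, h⟩ := h
  refine ⟨hV, ?_⟩
  intro S hS
  -- pull back `S` along the semilinear bijection `v ↦ σ ∘ v`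
  let S' : Submodule ℂ (Fin m → ℂ) :=
    { carrier := {v | (fun i => σ (v i)) ∈ S}
      add_mem' := by
        intro a b ha hb
        have : (fun i => σ ((a + b) i)) = (fun i => σ (a i)) + (fun i => σ (b i)) := by
          funext i; simp
        simp only [Set.mem_ofPred_eq] at ha hb ⊢
        rw [this]
        exact S.add_mem ha hb
      zero_mem' := by
        have : (fun i => σ ((0 : Fin m → ℂ) i)) = 0 := by
          funext i; simp
        simp only [Set.mem_ofPred_eq]
        rw [this]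
        exact S.zero_mem
      smul_mem' := by
        intro c a ha
        have : (fun i => σ ((c • a) i)) = σ c • (fun i => σ (a i)) := by
          funext i; simp
        simp only [Set.mem_ofPred_eq] at ha ⊢
        rw [this]
        exact S.smul_mem _ ha }
  have hS' : ∀ g : G, ∀ v ∈ S', ρ g v ∈ S' := by
    intro g v hv
    show (fun i => σ (ρ g v i)) ∈ S
    rw [← twistRep_apply_vec]
    exact hS g _ hv
  have hmem : ∀ w : Fin m → ℂ, w ∈ S ↔ (fun i => σ.symm (w i)) ∈ S' := by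
    intro w
    show w ∈ S ↔ (fun i => σ (σ.symm (w i))) ∈ S
    simp
  rcases h S' hS' with h1 | h1
  · left
    rw [eq_bot_iff]
    intro w hw
    have := (hmem w).1 hw
    rw [h1, Submodule.mem_bot] at this
    rw [Submodule.mem_bot]
    funext i
    have := congrFun this i
    simpa using this
  · right
    rw [eq_top_iff]
    intro w _
    rw [hmem w, h1]
    trivial

end Twist

section Char

variable {G : Type*} [Group G]

theorem isCharacter_ringEquiv_comp (σ : ℂ ≃+* ℂ) {χ : G → ℂ} (h : IsCharacter G χ) :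
    IsCharacter G (fun g => σ (χ g)) := by
  obtain ⟨n, ρ, rfl⟩ := h
  exact ⟨n, twistRep σ ρ, funext (twistRep_character σ ρ)⟩

theorem isIrrCharacter_ringEquiv_comp (σ : ℂ ≃+* ℂ) {χ : G → ℂ} (h : IsIrrCharacter G χ) :
    IsIrrCharacter G (fun g => σ (χ g)) := by
  obtain ⟨n, ρ, hρ, rfl⟩ := h
  exact ⟨n, twistRep σ ρ, twistRep_isIrreducible σ ρ hρ, funext (twistRep_character σ ρ)⟩

/-- If `σ` raises all `N`-th roots of unity to the `k`-th power and `g ^ N = 1`, then
`σ (χ g) = χ (g ^ k)`. -/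
theorem ringEquiv_character_eq_pow [Finite G] {n : ℕ} (ρ : Representation ℂ G (Fin n → ℂ))
    (σ : ℂ ≃+* ℂ) (N k : ℕ) (hσ : ∀ μ : ℂ, μ ^ N = 1 → σ μ = μ ^ k) (g : G) (hg : g ^ N = 1) :
    σ (ρ.character g) = ρ.character (g ^ k) := by
  classical
  obtain ⟨b, μ, h1, h2⟩ := exists_eigenbasis_rep ρ g
  have hμ : ∀ i, μ i ≠ 0 := fun i h0 => by
    have := h2 i
    rw [h0, zero_pow (orderOf_pos g).ne'] at this
    exact zero_ne_one this
  have hμN : ∀ i, μ i ^ N = 1 := by
    intro i
    obtain ⟨c, hc⟩ := orderOf_dvd_of_pow_eq_one hg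
    rw [hc, pow_mul, h2 i, one_pow]
  have h3 := character_zpow_eq_sum_eigen ρ g b μ hμ h1 (k : ℤ)
  rw [zpow_natCast] at h3
  rw [h3, character_eq_sum_eigen ρ g b μ h1, map_sum]
  apply Finset.sum_congr rfl
  intro i _
  rw [zpow_natCast]
  exact hσ _ (hμN i)

theorem exists_ringEquiv_character_pow [Finite G] (k : ℕ) (hk : Nat.Coprime k (Nat.card G)) :
    ∃ σ : ℂ ≃+* ℂ, ∀ (n : ℕ) (ρ : Representation ℂ G (Fin n → ℂ)) (g : G),
      σ (ρ.character g) = ρ.character (g ^ k) := by
  obtain ⟨σ, hσ⟩ := exists_ringEquiv_pow_rootsOfUnity (Nat.card G) k Nat.card_pos hk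
  exact ⟨σ, fun n ρ g => ringEquiv_character_eq_pow ρ σ (Nat.card G) k hσ g (pow_card_eq_one')⟩

/-- Power maps coprime to the group order send characters to characters. -/
theorem isCharacter_pow [Finite G] {χ : G → ℂ} (h : IsCharacter G χ) (k : ℕ)
    (hk : Nat.Coprime k (Nat.card G)) : IsCharacter G (fun g => χ (g ^ k)) := by
  obtain ⟨σ, hσ⟩ := exists_ringEquiv_character_pow (G := G) k hk
  obtain ⟨n, ρ, rfl⟩ := h
  have := isCharacter_ringEquiv_comp σ (⟨n, ρ, rfl⟩ : IsCharacter G ρ.character)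
  convert this using 2 with g
  exact (hσ n ρ g).symm

/-- Power maps coprime to the group order send irreducible characters to irreducible characters. -/
theorem isIrrCharacter_pow [Finite G] {χ : G → ℂ} (h : IsIrrCharacter G χ) (k : ℕ)
    (hk : Nat.Coprime k (Nat.card G)) : IsIrrCharacter G (fun g => χ (g ^ k)) := by
  obtain ⟨σ, hσ⟩ := exists_ringEquiv_character_pow (G := G) k hk
  obtain ⟨n, ρ, hρ, rfl⟩ := h
  have := isIrrCharacter_ringEquiv_comp σ (⟨n, ρ, hρ, rfl⟩ : IsIrrCharacter G ρ.character)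
  convert this using 2 with g
  exact (hσ n ρ g).symm

end Char

end Cfsg.Agent.Lib.Helper75
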