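import Mathlib
import Cfsg.Agent.Lib.Helper75.GaloisTwist
import Cfsg.Agent.Lib.Helper3.Degree

set_option autoImplicit false

namespace Cfsg.Agent.Lib.Helper75

open Cfsg Cfsg.Agent.Lib.Helper3

/-- A complex number algebraic over `ℚ` and fixed by every field automorphism of `ℂ` is rational. -/
theorem exists_rat_eq_of_forall_ringEquiv_eq (x : ℂ) (hx : IsAlgebraic ℚ x)
    (hfix : ∀ τ : ℂ ≃+* ℂ, τ x = x) : ∃ q : ℚ, (q : ℂ) = x := by
  have hxA : x ∈ algebraicClosure ℚ ℂ := (mem_algebraicClosure_iff).2 hx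
  have : IsAlgClosure ℚ (algebraicClosure ℚ ℂ) := algebraicClosure.isAlgClosure ℚ ℂ
  have : IsGalois ℚ (algebraicClosure ℚ ℂ) := inferInstance
  have h : (⟨x, hxA⟩ : algebraicClosure ℚ ℂ) ∈ Set.range (algebraMap ℚ (algebraicClosure ℚ ℂ)) := by
    rw [InfiniteGalois.mem_range_algebraMap_iff_fixed]
    intro f
    obtain ⟨σ, hσ⟩ := exists_ringEquiv_extending (F := algebraicClosure ℚ ℂ) (K := ℂ) f.toRingEquiv
    have h1 := hσ ⟨x, hxA⟩
    apply Subtype.ext
    have h2 : algebraMap (algebraicClosure ℚ ℂ) ℂ ⟨x, hxA⟩ = x := rfl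
    rw [h2, hfix] at h1
    exact h1.symm
  obtain ⟨q, hq⟩ := h
  exact ⟨q, by simpa using congrArg Subtype.val hq⟩

/-- An algebraic integer in `ℂ` fixed by every field automorphism of `ℂ` is a rational integer. -/
theorem exists_int_eq_of_forall_ringEquiv_eq (x : ℂ) (hx : IsIntegral ℤ x)
    (hfix : ∀ τ : ℂ ≃+* ℂ, τ x = x) : ∃ z : ℤ, (z : ℂ) = x := by
  have hx' : IsAlgebraic ℚ x := (hx.tower_top (A := ℚ)).isAlgebraic
  obtain ⟨q, rfl⟩ := exists_rat_eq_of_forall_ringEquiv_eq x hx' hfix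
  obtain ⟨z, rfl⟩ := int_of_isIntegral_ratCast hx
  exact ⟨z, by push_cast; rfl⟩

/-- Every field automorphism of `ℂ` acts on the `N`-th roots of unity as a power map with
exponent coprime to `N`. -/
theorem exists_pow_of_ringEquiv (τ : ℂ ≃+* ℂ) (N : ℕ) (hN : 0 < N) :
    ∃ j : ℕ, Nat.Coprime j N ∧ ∀ μ : ℂ, μ ^ N = 1 → τ μ = μ ^ j := by
  have : NeZero N := ⟨hN.ne'⟩
  have hz : IsPrimitiveRoot (Complex.exp (2 * Real.pi * Complex.I / N)) N :=
    Complex.isPrimitiveRoot_exp N hN.ne'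
  set z := Complex.exp (2 * Real.pi * Complex.I / N)
  have hτz : IsPrimitiveRoot (τ z) N := hz.map_of_injective τ.injective
  obtain ⟨j, _, hj⟩ := hz.eq_pow_of_pow_eq_one hτz.pow_eq_one
  have hcop : Nat.Coprime j N := by
    have : IsPrimitiveRoot (z ^ j) N := hj ▸ hτz
    exact (hz.pow_iff_coprime hN j).1 this
  refine ⟨j, hcop, ?_⟩
  intro μ hμ
  obtain ⟨i, _, rfl⟩ := hz.eq_pow_of_pow_eq_one hμ
  rw [map_pow, ← hj, ← pow_mul, ← pow_mul, mul_comm]

variable {G : Type*} [Group G] [Finite G]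

/-- The "Galois norm" of a character value: the product of `χ (g ^ u)` over the units `u`
modulo `|G|`. -/
noncomputable def galProd (χ : G → ℂ) (g : G) : ℂ :=
  ∏ u : (ZMod (Nat.card G))ˣ, χ (g ^ (u : ZMod (Nat.card G)).val)

theorem pow_val_mul (g : G) (u v : (ZMod (Nat.card G))ˣ) :
    g ^ ((u * v : (ZMod (Nat.card G))ˣ) : ZMod (Nat.card G)).val =
      (g ^ (u : ZMod (Nat.card G)).val) ^ (v : ZMod (Nat.card G)).val := by
  have : NeZero (Nat.card G) := ⟨Nat.card_pos.ne'⟩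
  rw [← pow_mul, pow_eq_pow_iff_modEq]
  have h1 : (orderOf g) ∣ Nat.card G := orderOf_dvd_natCard g
  apply Nat.ModEq.of_dvd h1
  rw [Units.val_mul, ZMod.val_mul]
  exact Nat.mod_modEq _ _

theorem ringEquiv_galProd {χ : G → ℂ} (h : IsCharacter G χ) (τ : ℂ ≃+* ℂ) (g : G) :
    τ (galProd χ g) = galProd χ g := by
  have : NeZero (Nat.card G) := ⟨Nat.card_pos.ne'⟩
  obtain ⟨n, ρ, rfl⟩ := h
  obtain ⟨j, hj, hτ⟩ := exists_pow_of_ringEquiv τ (Nat.card G) Nat.card_pos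
  unfold galProd
  rw [map_prod]
  let ju : (ZMod (Nat.card G))ˣ := ZMod.unitOfCoprime j hj
  have hju : g ^ ((ju : ZMod (Nat.card G))).val = g ^ j := by
    rw [pow_eq_pow_iff_modEq]
    apply Nat.ModEq.of_dvd (orderOf_dvd_natCard g)
    rw [ZMod.coe_unitOfCoprime, ZMod.val_natCast]
    exact Nat.mod_modEq _ _
  rw [← Equiv.prod_comp (Equiv.mulRight ju)
    (fun u : (ZMod (Nat.card G))ˣ => ρ.character (g ^ (u : ZMod (Nat.card G)).val))]
  apply Finset.prod_congr rfl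
  intro u _
  rw [ringEquiv_character_eq_pow ρ τ (Nat.card G) j hτ _ pow_card_eq_one']
  congr 1
  rw [Equiv.coe_mulRight, pow_val_mul]
  have : ∀ x : G, x ^ ((ju : ZMod (Nat.card G))).val = x ^ j := by
    intro x
    rw [pow_eq_pow_iff_modEq]
    apply Nat.ModEq.of_dvd (orderOf_dvd_natCard x)
    rw [ZMod.coe_unitOfCoprime, ZMod.val_natCast]
    exact Nat.mod_modEq _ _
  rw [this]

theorem isIntegral_galProd {χ : G → ℂ} (h : IsCharacter G χ) (g : G) :
    IsIntegral ℤ (galProd χ g) :=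
  IsIntegral.prod _ (fun _ _ => Cfsg.Agent.Lib.Helper3.IsCharacter.isIntegral h _)

/-- The Galois norm of a character value is a rational integer. -/
theorem exists_int_eq_galProd {χ : G → ℂ} (h : IsCharacter G χ) (g : G) :
    ∃ z : ℤ, (z : ℂ) = galProd χ g :=
  exists_int_eq_of_forall_ringEquiv_eq _ (isIntegral_galProd h g) (fun τ => ringEquiv_galProd h τ g)

end Cfsg.Agent.Lib.Helper75
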