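import Mathlib
import Cfsg.Agent.Lib.Helper75.GaloisNorm

set_option autoImplicit false

namespace Cfsg.Agent.Lib.Helper75

open Cfsg Cfsg.Agent.Lib.Helper3

/-- AM-GM in the form: nonnegative reals with product at least one have sum at least their
number. -/
theorem card_le_sum_of_one_le_prod {ι : Type*} (s : Finset ι) (z : ι → ℝ)
    (hz : ∀ i ∈ s, 0 ≤ z i) (h : 1 ≤ ∏ i ∈ s, z i) : (s.card : ℝ) ≤ ∑ i ∈ s, z i := by
  rcases s.eq_empty_or_nonempty with rfl | hne
  · simp
  have hc : (0 : ℝ) < s.card := by exact_mod_cast hne.card_pos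
  have key := Real.geom_mean_le_arith_mean_weighted s (fun _ => (s.card : ℝ)⁻¹) z
    (fun _ _ => (inv_pos.2 hc).le) (by simp [hc.ne']) hz
  rw [Real.finsetProd_rpow s z hz, ← Finset.mul_sum] at key
  have h1 : (1 : ℝ) ≤ (∏ i ∈ s, z i) ^ (s.card : ℝ)⁻¹ := Real.one_le_rpow h (inv_pos.2 hc).le
  have h2 : (1 : ℝ) ≤ (s.card : ℝ)⁻¹ * ∑ i ∈ s, z i := h1.trans key
  rw [inv_mul_eq_div, le_div_iff₀ hc, one_mul] at h2
  exact h2

variable {G : Type*} [Group G] [Finite G]

/-- If `χ g ≠ 0` then `χ (g ^ k) ≠ 0` for every `k` coprime to `|G|` (Galois conjugates). -/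
theorem character_pow_ne_zero {χ : G → ℂ} (h : IsCharacter G χ) {g : G} (hg : χ g ≠ 0) (k : ℕ)
    (hk : Nat.Coprime k (Nat.card G)) : χ (g ^ k) ≠ 0 := by
  obtain ⟨σ, hσ⟩ := exists_ringEquiv_character_pow (G := G) k hk
  obtain ⟨n, ρ, rfl⟩ := h
  rw [← hσ n ρ g]
  exact fun h0 => hg (by simpa using h0)

/-- **Burnside–Gallagher, per-element form**: if `χ g ≠ 0` then the sum of `|χ (g ^ u)|²` over the
units `u` modulo `|G|` is at least the number `φ(|G|)` of those units. -/
theorem card_units_le_sum_normSq {χ : G → ℂ} (h : IsCharacter G χ) (g : G) (hg : χ g ≠ 0) :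
    (Fintype.card (ZMod (Nat.card G))ˣ : ℝ) ≤
      ∑ u : (ZMod (Nat.card G))ˣ, Complex.normSq (χ (g ^ (u : ZMod (Nat.card G)).val)) := by
  have h1 := card_le_sum_of_one_le_prod (Finset.univ : Finset (ZMod (Nat.card G))ˣ)
    (fun u => Complex.normSq (χ (g ^ (u : ZMod (Nat.card G)).val)))
    (fun _ _ => Complex.normSq_nonneg _) ?_
  · simpa using h1
  · obtain ⟨z, hz⟩ := exists_int_eq_galProd h g
    have hprod : ∏ u : (ZMod (Nat.card G))ˣ,
        Complex.normSq (χ (g ^ (u : ZMod (Nat.card G)).val)) = Complex.normSq (galProd χ g) := by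
      unfold galProd
      rw [map_prod]
    rw [hprod, ← hz]
    have hz0 : z ≠ 0 := by
      intro h0
      rw [h0, Int.cast_zero] at hz
      have := hz.symm
      unfold galProd at this
      rw [Finset.prod_eq_zero_iff] at this
      obtain ⟨u, _, hu⟩ := this
      exact character_pow_ne_zero h hg _ (ZMod.val_coe_unit_coprime u) hu
    rw [Complex.normSq_intCast]
    have : (1 : ℤ) ≤ z * z := by
      have := Int.one_le_abs hz0
      nlinarith [abs_mul_abs_self z]
    exact_mod_cast this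

/-- **Burnside–Gallagher, set form**: if a finite set `S` of elements of `G` is closed under the
power maps `g ↦ g ^ k` for `k` coprime to `|G|`, and the character `χ` has no zero on `S`, then
`|S| ≤ ∑_{g ∈ S} |χ g|²`. -/
theorem card_le_sum_normSq_of_pow_closed {χ : G → ℂ} (h : IsCharacter G χ) (S : Finset G)
    (hS : ∀ g ∈ S, ∀ k : ℕ, Nat.Coprime k (Nat.card G) → g ^ k ∈ S)
    (hne : ∀ g ∈ S, χ g ≠ 0) :
    (S.card : ℝ) ≤ ∑ g ∈ S, Complex.normSq (χ g) := by
  classical
  have hN : NeZero (Nat.card G) := ⟨Nat.card_pos.ne'⟩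
  have hperm : ∀ u : (ZMod (Nat.card G))ˣ,
      ∑ g ∈ S, Complex.normSq (χ (g ^ (u : ZMod (Nat.card G)).val)) =
        ∑ g ∈ S, Complex.normSq (χ g) := by
    intro u
    have hc : (Nat.card G).Coprime (u : ZMod (Nat.card G)).val :=
      (ZMod.val_coe_unit_coprime u).symm
    have himg : S.image (powCoprime hc) = S := by
      apply Finset.eq_of_subset_of_card_le
      · intro x hx
        obtain ⟨g, hg, rfl⟩ := Finset.mem_image.1 hx
        exact hS g hg _ hc.symm
      · rw [Finset.card_image_of_injective _ (powCoprime hc).injective]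
    conv_rhs => rw [← himg]
    rw [Finset.sum_image (fun x _ y _ hxy => (powCoprime hc).injective hxy)]
    rfl
  have hφ : (0 : ℝ) < Fintype.card (ZMod (Nat.card G))ˣ := by exact_mod_cast Fintype.card_pos
  have h1 : (S.card : ℝ) * Fintype.card (ZMod (Nat.card G))ˣ ≤
      ∑ g ∈ S, ∑ u : (ZMod (Nat.card G))ˣ,
        Complex.normSq (χ (g ^ (u : ZMod (Nat.card G)).val)) := by
    rw [← nsmul_eq_mul]
    exact Finset.card_nsmul_le_sum _ _ _ (fun g hg => card_units_le_sum_normSq h g (hne g hg))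
  rw [Finset.sum_comm] at h1
  simp only [hperm] at h1
  rw [Finset.sum_const, Finset.card_univ, nsmul_eq_mul, mul_comm] at h1
  exact le_of_mul_le_mul_left h1 hφ

/-- Norm-squared version of `card_le_sum_normSq_of_pow_closed`. -/
theorem card_le_sum_norm_sq_of_pow_closed {χ : G → ℂ} (h : IsCharacter G χ) (S : Finset G)
    (hS : ∀ g ∈ S, ∀ k : ℕ, Nat.Coprime k (Nat.card G) → g ^ k ∈ S)
    (hne : ∀ g ∈ S, χ g ≠ 0) :
    (S.card : ℝ) ≤ ∑ g ∈ S, ‖χ g‖ ^ 2 := by
  have := card_le_sum_normSq_of_pow_closed h S hS hne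
  simpa only [Complex.normSq_eq_norm_sq] using this

end Cfsg.Agent.Lib.Helper75
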