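import Mathlib
import Cfsg.Agent.Lib.Helper41.SpBNDefs

/-! S2545 SpBN hive (helper41), leaf SQ (helper75). -/

set_option autoImplicit false

namespace Cfsg.Agent.Lib.Helper41.SpBN

open Matrix Cfsg Cfsg.Agent.Lib.Helper13

variable {F : Type*} [Field F] {m : ℕ}

/-- the simple generators are involutions -/
theorem sq_simple_mul_self {σ : Equiv.Perm (Idx m)} (h : IsSimpleGen σ) : σ * σ = 1 := by
  rcases h with ⟨k, k', -, rfl⟩ | ⟨k, -, rfl⟩
  · unfold simpleShort
    have hd : Equiv.Perm.Disjoint (Equiv.swap (Sum.inl k : Idx m) (Sum.inl k'))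
        (Equiv.swap (Sum.inr k) (Sum.inr k')) := by
      intro x
      rcases x with i | i
      · right; exact Equiv.swap_apply_of_ne_of_ne (by simp) (by simp)
      · left; exact Equiv.swap_apply_of_ne_of_ne (by simp) (by simp)
    rw [hd.commute.symm.mul_mul_mul_comm, Equiv.swap_mul_self, Equiv.swap_mul_self, one_mul]
  · unfold simpleLong
    exact Equiv.swap_mul_self _ _

/-- LEAF SQ: `s * s` is diagonal (`= 1` for the short reflections, `diag(.., -1, .., -1, ..)` for the long one). -/
theorem S_sq_mem : ∀ s ∈ Ssp F m, s * s ∈ Bsp F m := by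
  rintro s ⟨σ, hσ, hs⟩
  have hmono : IsMono s.1 σ (monoCoeff σ 1) := by rw [hs]; exact monoMat_isMono σ 1
  have h2 := isMono_mul hmono hmono
  rw [sq_simple_mul_self hσ] at h2
  rw [mem_Bsp_iff]
  constructor
  · intro i j hji
    have h3 := h2 (Sum.inl i) (Sum.inl j)
    rw [Equiv.Perm.one_apply, if_neg] at h3
    · exact h3
    · intro h
      have := Sum.inl.inj h
      subst this
      omega
  · intro i j
    have h3 := h2 (Sum.inr i) (Sum.inl j)
    rw [Equiv.Perm.one_apply, if_neg (by simp)] at h3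
    exact h3

end Cfsg.Agent.Lib.Helper41.SpBN
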