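import Mathlib

/-! # We hive (helper14, S2347), leaf WE-DETQ (helper75): the normalising function `β` -/

set_option autoImplicit false
set_option linter.unusedSectionVars false

namespace Cfsg.Agent.Lib.Helper14.We

variable {W : Type*} [AddCommGroup W] [Module ℂ W] [FiniteDimensional ℂ W]

/-- an endomorphism commuting with `P` preserves `ker (P - a)` -/
theorem detq_map_ker (P S : Module.End ℂ W) (h : S * P = P * S) (a : ℂ) :
    ∀ x ∈ LinearMap.ker (P - a • (1 : Module.End ℂ W)), S x ∈ LinearMap.ker (P - a • (1 : Module.End ℂ W)) := by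
  intro x hx
  rw [LinearMap.mem_ker] at hx ⊢
  have h1 : (P - a • (1 : Module.End ℂ W)) (S x) = S ((P - a • (1 : Module.End ℂ W)) x) := by
    have h2 := congrArg (fun A : Module.End ℂ W => A x) h
    simp only [Module.End.mul_apply] at h2
    simp only [LinearMap.sub_apply, LinearMap.smul_apply, Module.End.one_apply, map_sub, map_smul, h2]
  rw [h1, hx, map_zero]

/-- dimensions of the eigenspaces of an involution with trace one -/
theorem detq_finrank (P : Module.End ℂ W) (hP2 : P * P = 1) (htr : LinearMap.trace ℂ W P = 1) :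
    Module.finrank ℂ (LinearMap.ker (P - (1 : ℂ) • (1 : Module.End ℂ W))) =
      Module.finrank ℂ (LinearMap.ker (P - (-1 : ℂ) • (1 : Module.End ℂ W))) + 1 := by
  set Wp := LinearMap.ker (P - (1 : ℂ) • (1 : Module.End ℂ W)) with hWp
  set Wm := LinearMap.ker (P - (-1 : ℂ) • (1 : Module.End ℂ W)) with hWm
  have hPP : ∀ x, P (P x) = x := fun x => by
    have := congrArg (fun A : Module.End ℂ W => A x) hP2
    simpa [Module.End.mul_apply] using this
  have hp : LinearMap.IsProj Wp ((2 : ℂ)⁻¹ • (1 + P)) := by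
    refine ⟨fun x => ?_, fun x hx => ?_⟩
    · rw [hWp, LinearMap.mem_ker]
      show P ((2 : ℂ)⁻¹ • (x + P x)) - (1 : ℂ) • ((2 : ℂ)⁻¹ • (x + P x)) = 0
      rw [map_smul, map_add, hPP, one_smul, ← smul_sub, add_comm (P x) x, sub_self, smul_zero]
    · rw [hWp, LinearMap.mem_ker] at hx
      have hx' : P x - (1 : ℂ) • x = 0 := hx
      rw [one_smul, sub_eq_zero] at hx'
      show (2 : ℂ)⁻¹ • (x + P x) = x
      rw [hx', ← two_smul ℂ x, smul_smul, inv_mul_cancel₀ (two_ne_zero), one_smul]
  have hm : LinearMap.IsProj Wm ((2 : ℂ)⁻¹ • (1 - P)) := by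
    refine ⟨fun x => ?_, fun x hx => ?_⟩
    · rw [hWm, LinearMap.mem_ker]
      show P ((2 : ℂ)⁻¹ • (x - P x)) - (-1 : ℂ) • ((2 : ℂ)⁻¹ • (x - P x)) = 0
      rw [map_smul, map_sub, hPP, neg_smul, one_smul, sub_neg_eq_add, ← smul_add]
      have : P x - x + (x - P x) = 0 := by abel
      rw [this, smul_zero]
    · rw [hWm, LinearMap.mem_ker] at hx
      have hx' : P x - (-1 : ℂ) • x = 0 := hx
      rw [neg_smul, one_smul, sub_neg_eq_add] at hx'
      have hx'' : P x = -x := eq_neg_of_add_eq_zero_left hx'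
      show (2 : ℂ)⁻¹ • (x - P x) = x
      rw [hx'', sub_neg_eq_add, ← two_smul ℂ x, smul_smul, inv_mul_cancel₀ (two_ne_zero), one_smul]
  have h1 := hp.trace
  have h2 := hm.trace
  have h3 : P = (2 : ℂ)⁻¹ • (1 + P) - (2 : ℂ)⁻¹ • (1 - P) := by
    rw [← smul_sub]
    have : (1 + P) - (1 - P) = (2 : ℂ) • P := by rw [two_smul]; abel
    rw [this, smul_smul, inv_mul_cancel₀ (two_ne_zero), one_smul]
  have h4 : LinearMap.trace ℂ W P = (Module.finrank ℂ Wp : ℂ) - (Module.finrank ℂ Wm : ℂ) := by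
    conv_lhs => rw [h3]
    rw [map_sub, h1, h2]
  rw [htr] at h4
  have h5 : (Module.finrank ℂ Wp : ℂ) = ((Module.finrank ℂ Wm + 1 : ℕ) : ℂ) := by
    push_cast
    linear_combination -h4
  exact_mod_cast h5

/-- restriction to an invariant subspace is multiplicative -/
theorem detq_restrict_mul (S S' : Module.End ℂ W) (N : Submodule ℂ W)
    (h : ∀ x ∈ N, S x ∈ N) (h' : ∀ x ∈ N, S' x ∈ N) (h'' : ∀ x ∈ N, (S * S') x ∈ N) :
    (S * S').restrict h'' = S.restrict h * S'.restrict h' := by
  apply LinearMap.ext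
  intro x
  apply Subtype.ext
  rfl

theorem detq_restrict_smul (c : ℂ) (S : Module.End ℂ W) (N : Submodule ℂ W)
    (h : ∀ x ∈ N, S x ∈ N) (h' : ∀ x ∈ N, (c • S) x ∈ N) :
    (c • S).restrict h' = c • S.restrict h := by
  apply LinearMap.ext
  intro x
  apply Subtype.ext
  rfl

theorem detq_restrict_one (N : Submodule ℂ W) (h : ∀ x ∈ N, (1 : Module.End ℂ W) x ∈ N) :
    (1 : Module.End ℂ W).restrict h = 1 := by
  apply LinearMap.ext
  intro x
  apply Subtype.ext
  rfl

open Classical in
/-- WE-DETQ -/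
theorem exists_beta (P : Module.End ℂ W) (hP2 : P * P = 1) (htr : LinearMap.trace ℂ W P = 1) :
    ∃ β : Module.End ℂ W → ℂ,
      (∀ S S' : Module.End ℂ W, S * P = P * S → S' * P = P * S' → β (S * S') = β S * β S') ∧
      (∀ (c : ℂ) (S : Module.End ℂ W), c ≠ 0 → S * P = P * S → β (c • S) = c * β S) ∧
      (∀ S : Module.End ℂ W, IsUnit S → S * P = P * S → β S ≠ 0) := by
  have hdim := detq_finrank P hP2 htr
  let β : Module.End ℂ W → ℂ := fun S =>
    if h : S * P = P * S then
      LinearMap.det (S.restrict (detq_map_ker P S h 1)) /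
        LinearMap.det (S.restrict (detq_map_ker P S h (-1)))
    else 0
  have hβ : ∀ (S : Module.End ℂ W) (h : S * P = P * S), β S =
      LinearMap.det (S.restrict (detq_map_ker P S h 1)) /
        LinearMap.det (S.restrict (detq_map_ker P S h (-1))) := fun S h => dif_pos h
  have hmulcomm : ∀ S S' : Module.End ℂ W, S * P = P * S → S' * P = P * S' →
      (S * S') * P = P * (S * S') := by
    intro S S' h h'
    rw [mul_assoc, h', ← mul_assoc, h, mul_assoc]
  have hmul : ∀ S S' : Module.End ℂ W, S * P = P * S → S' * P = P * S' →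
      β (S * S') = β S * β S' := by
    intro S S' h h'
    rw [hβ _ (hmulcomm S S' h h'), hβ S h, hβ S' h',
      detq_restrict_mul S S' _ (detq_map_ker P S h 1) (detq_map_ker P S' h' 1),
      detq_restrict_mul S S' _ (detq_map_ker P S h (-1)) (detq_map_ker P S' h' (-1)),
      map_mul, map_mul, mul_div_mul_comm]
  have hone : β 1 = 1 := by
    have h1 : (1 : Module.End ℂ W) * P = P * 1 := by rw [one_mul, mul_one]
    rw [hβ 1 h1, detq_restrict_one, detq_restrict_one, map_one, map_one, div_one]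
  refine ⟨β, hmul, ?_, ?_⟩
  · intro c S hc h
    have hcS : (c • S) * P = P * (c • S) := by rw [smul_mul_assoc, mul_smul_comm, h]
    rw [hβ _ hcS, hβ S h, detq_restrict_smul c S _ (detq_map_ker P S h 1),
      detq_restrict_smul c S _ (detq_map_ker P S h (-1)), LinearMap.det_smul, LinearMap.det_smul,
      hdim, pow_succ]
    have key : ∀ (A B c : ℂ) (k : ℕ), c ≠ 0 → c ^ k * c * A / (c ^ k * B) = c * (A / B) := by
      intro A B c k hc
      by_cases hB : B = 0
      · simp [hB]
      · field_simp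
    exact key _ _ _ _ hc
  · intro S hS h
    obtain ⟨u, rfl⟩ := hS
    have hinv : ((u⁻¹ : (Module.End ℂ W)ˣ) : Module.End ℂ W) * P = P * ((u⁻¹ : (Module.End ℂ W)ˣ) : Module.End ℂ W) := by
      have h1 : ((u⁻¹ : (Module.End ℂ W)ˣ) : Module.End ℂ W) * ((u : Module.End ℂ W) * P) * ((u⁻¹ : (Module.End ℂ W)ˣ) : Module.End ℂ W) =
          ((u⁻¹ : (Module.End ℂ W)ˣ) : Module.End ℂ W) * (P * (u : Module.End ℂ W)) * ((u⁻¹ : (Module.End ℂ W)ˣ) : Module.End ℂ W) := by rw [h]
      rw [← mul_assoc, Units.inv_mul, one_mul, mul_assoc, mul_assoc, Units.mul_inv, mul_one] at h1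
      exact h1.symm
    have h2 := hmul _ _ h hinv
    rw [Units.mul_inv, hone] at h2
    intro h0
    rw [h0, zero_mul] at h2
    exact one_ne_zero h2

end Cfsg.Agent.Lib.Helper14.We
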