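import Mathlib

/-!
# Weighted fixed-point congruence for `p`-group actions

If a `p`-group `P` acts on a finite set `X` and `w : X → ℕ` is constant on orbits, then
`∑ x, w x ≡ ∑ x ∈ fixed points, w x (mod p)`.
-/

set_option autoImplicit false
set_option linter.style.haveILetI false

namespace Cfsg.Agent.Lib.Helper75

open MulAction

/-- The level set of an invariant function, as a `SubMulAction`. -/
def levelSub {P X : Type*} [Group P] [MulAction P X] (w : X → ℕ)
    (hw : ∀ (g : P) (x : X), w (g • x) = w x) (v : ℕ) : SubMulAction P X where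
  carrier := {x | w x = v}
  smul_mem' := fun g x hx => by
    show w (g • x) = v
    rw [hw]; exact hx

theorem card_level_modEq {P X : Type*} [Group P] [Fintype X] [MulAction P X] {p : ℕ}
    [Fact p.Prime] (hP : IsPGroup p P) (w : X → ℕ) (hw : ∀ (g : P) (x : X), w (g • x) = w x)
    [DecidablePred fun x => x ∈ fixedPoints P X] (v : ℕ) :
    (Finset.univ.filter (fun x : X => w x = v)).card ≡
      ((Finset.univ.filter (fun x : X => x ∈ fixedPoints P X)).filter (fun x => w x = v)).card
      [MOD p] := by
  classical
  have key := hP.card_modEq_card_fixedPoints (levelSub w hw v)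
  have h1 : Nat.card (levelSub w hw v) = (Finset.univ.filter (fun x : X => w x = v)).card := by
    rw [Nat.card_eq_fintype_card]
    exact Fintype.card_of_subtype _ (fun x => by
      simp only [Finset.mem_filter, Finset.mem_univ, true_and]; exact Iff.rfl)
  have h2 : Nat.card (fixedPoints P (levelSub w hw v)) =
      ((Finset.univ.filter (fun x : X => x ∈ fixedPoints P X)).filter (fun x => w x = v)).card := by
    rw [Finset.filter_filter]
    have h3 : Nat.card {x : X // x ∈ fixedPoints P X ∧ w x = v} =
        (Finset.univ.filter (fun x : X => x ∈ fixedPoints P X ∧ w x = v)).card := by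
      rw [Nat.card_eq_fintype_card]
      exact Fintype.card_of_subtype _ (fun x => by
        simp only [Finset.mem_filter, Finset.mem_univ, true_and])
    rw [← h3]
    refine Nat.card_congr
      { toFun := fun y => ⟨y.1.1, ⟨fun g => ?_, y.1.2⟩⟩
        invFun := fun z => ⟨⟨z.1, z.2.2⟩, fun g => ?_⟩
        left_inv := fun y => rfl
        right_inv := fun z => rfl }
    · have := y.2 g
      exact congrArg Subtype.val this
    · apply Subtype.ext
      exact z.2.1 g
  rw [h1, h2] at key
  exact key

/-- **Weighted fixed point congruence** for a `p`-group action. -/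
theorem sum_modEq_sum_fixedPoints {P X : Type*} [Group P] [Fintype X] [MulAction P X] {p : ℕ}
    [Fact p.Prime] (hP : IsPGroup p P) (w : X → ℕ) (hw : ∀ (g : P) (x : X), w (g • x) = w x)
    [DecidablePred fun x => x ∈ fixedPoints P X] :
    ∑ x, w x ≡ ∑ x ∈ Finset.univ.filter (fun x : X => x ∈ fixedPoints P X), w x [MOD p] := by
  classical
  set T := Finset.univ.image w with hT
  set F := Finset.univ.filter (fun x : X => x ∈ fixedPoints P X) with hF
  have e1 : ∑ x, w x = ∑ v ∈ T, (Finset.univ.filter (fun x : X => w x = v)).card * v := by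
    rw [← Finset.sum_fiberwise_of_maps_to (s := Finset.univ) (t := T) (g := w)
      (fun x _ => Finset.mem_image_of_mem w (Finset.mem_univ x))]
    refine Finset.sum_congr rfl fun v _ => ?_
    rw [Finset.sum_congr rfl (fun x hx => (Finset.mem_filter.mp hx).2), Finset.sum_const,
      smul_eq_mul]
  have e2 : ∑ x ∈ F, w x = ∑ v ∈ T, (F.filter (fun x : X => w x = v)).card * v := by
    rw [← Finset.sum_fiberwise_of_maps_to (s := F) (t := T) (g := w)
      (fun x _ => Finset.mem_image_of_mem w (Finset.mem_univ x))]
    refine Finset.sum_congr rfl fun v _ => ?_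
    rw [Finset.sum_congr rfl (fun x hx => (Finset.mem_filter.mp hx).2), Finset.sum_const,
      smul_eq_mul]
  rw [e1, e2, ← ZMod.natCast_eq_natCast_iff, Nat.cast_sum, Nat.cast_sum]
  refine Finset.sum_congr rfl fun v _ => ?_
  have := card_level_modEq hP w hw v
  rw [← ZMod.natCast_eq_natCast_iff] at this
  push_cast
  rw [this]

end Cfsg.Agent.Lib.Helper75
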