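import Mathlib
import Cfsg.Prelude.Def_Solvable
import Cfsg.Agent.Lib.Helper22.Fitting
import Cfsg.Agent.Lib.Helper16.GagDefs
import Cfsg.Agent.Lib.Helper78.GagD
import Cfsg.Agent.Lib.Helper55.GagQN

/-! # S4840 leaf GAG-E (helper75, for helper16's Gag hive) -/

set_option autoImplicit false
set_option linter.unusedSectionVars false
set_option linter.style.haveILetI false

namespace Cfsg.Agent.Lib.Helper16.Gag

universe u v

section action

variable {p : ℕ} [Fact p.Prime] {N : Type v} [CommGroup N] [Finite N] {Γ : Type u} [Group Γ]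
  [Finite Γ] {φ : Γ →* MulAut N}

/-- GAG-E. `F(Γ)` is a `p'`-group. Sketch: `Helper22.fittingSubgroup_isNilpotent`; its Sylow `p` is normal, characteristic, so its image is a
normal `p`-subgroup of `Γ` (cf. GAG-QN), trivial by GAG-D. -/
theorem fitting_coprime (h : TLHyp p φ) : (Nat.card (Cfsg.fittingSubgroup Γ)).Coprime p := by
  haveI hFn := Cfsg.Agent.Lib.Helper22.fittingSubgroup_normal Γ
  haveI hFnil : Group.IsNilpotent ↥(Cfsg.fittingSubgroup Γ) :=
    Cfsg.Agent.Lib.Helper22.fittingSubgroup_isNilpotent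
  let P : Sylow p ↥(Cfsg.fittingSubgroup Γ) := default
  haveI hnorm : ((P : Subgroup ↥(Cfsg.fittingSubgroup Γ)).map
      (Cfsg.fittingSubgroup Γ).subtype).Normal := sylow_map_normal (Cfsg.fittingSubgroup Γ) p P
  have hpg : IsPGroup p ((P : Subgroup ↥(Cfsg.fittingSubgroup Γ)).map
      (Cfsg.fittingSubgroup Γ).subtype) := P.2.map _
  have hbot := eq_bot_of_normal_pgroup h _ hpg
  have hPbot : (P : Subgroup ↥(Cfsg.fittingSubgroup Γ)) = ⊥ := by
    rw [Subgroup.map_eq_bot_iff_of_injective _ (Subgroup.subtype_injective _)] at hbot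
    exact hbot
  have h1 : ¬ p ∣ (P : Subgroup ↥(Cfsg.fittingSubgroup Γ)).index := P.not_dvd_index
  rw [hPbot, Subgroup.index_bot] at h1
  exact ((Nat.Prime.coprime_iff_not_dvd Fact.out).mpr h1).symm

end action

end Cfsg.Agent.Lib.Helper16.Gag
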