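import Mathlib
import Cfsg.Agent.Lib.Helper16.GagDefs
import Cfsg.Agent.Lib.Helper1.GagN

/-! # S4840 leaf GAG-NC (helper75, for helper16's Gag hive) -/

set_option autoImplicit false
set_option linter.unusedSectionVars false
set_option linter.style.haveILetI false

namespace Cfsg.Agent.Lib.Helper16.Gag

universe u v

/-- GAG-NC (from GAG-N). Transport: `α := e.symm.trans ((MulAut.conjNormal g).trans e)`, `α ^ m = 1` since `conjNormal` is a hom and `g ^ m = 1`. -/
theorem centralizes_quat {Γ : Type u} [Group Γ] (Q : Subgroup Γ) [Q.Normal] (n : ℕ) (hn : 1 ≤ n)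
    (e : Q ≃* QuaternionGroup (2 ^ n)) (g : Γ) (m : ℕ) (hg : g ^ m = 1) (hodd : Odd m)
    (h3 : n = 1 → ¬ 3 ∣ m) : ∀ q ∈ Q, g * q = q * g := by
  have h1 : (MulAut.congr e (MulAut.conjNormal (H := Q) g)) ^ m = 1 := by
    rw [← map_pow, ← map_pow, hg, map_one, map_one]
  have h2 := quat_aut_trivial n hn _ m h1 hodd h3
  have h4 : MulAut.conjNormal (H := Q) g = 1 := by
    apply (MulAut.congr e).injective
    rw [h2, map_one]
  intro q hq
  have h5 := congrArg (fun f : MulAut Q => ((f ⟨q, hq⟩ : Q) : Γ)) h4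
  simp only [MulAut.conjNormal_apply, MulAut.one_apply] at h5
  calc g * q = g * q * g⁻¹ * g := by group
    _ = q * g := by rw [h5]

end Cfsg.Agent.Lib.Helper16.Gag
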