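import Cfsg.Agent.Lib.Helper18.AutDefs
import Cfsg.Agent.Lib.Helper36.ChevTwPerf
import Cfsg.Agent.Lib.Helper18.ChevOrdAll

/-!
# S2156, piece T3: the permutation of the fundamental root subgroups induced by an automorphism is a
symmetry of the Dynkin diagram (helper75, for helper18's skeleton)
-/

set_option autoImplicit false

namespace Cfsg.Agent.Lib.Helper75.Au

open Cfsg Cfsg.Lie Cfsg.Agent.Lib.Helper36 Cfsg.Agent.Lib.Helper18 Cfsg.Agent.Lib.Helper18.Au

/-- the shape of the commutator terms of two fundamental roots joined by a bond: the first term is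
`(p_i + p_j, ±1, 1, 1)` and all further terms belong to positive roots of larger index -/
def chkT3Terms (D : ChevalleyDatum) (l : List (ℕ × ℤ × ℕ × ℕ)) : Bool :=
  match l with
  | [] => false
  | q :: rest =>
    (q.2.1 == 1 || q.2.1 == -1) && (q.2.2.1 == 1) && (q.2.2.2 == 1) && decide (D.IsPosRoot q.1) &&
      rest.all fun q' => decide (D.IsPosRoot q'.1) && decide (q.1 < q'.1)

/-- table check for T3 -/
def chkT3 (D : ChevalleyDatum) : Bool :=
  (List.range D.rank).all fun i => (List.range D.rank).all fun j =>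
    (i == j) || ((D.simple j != D.simple i) && (D.simple j != D.neg (D.simple i)) &&
      (if D.bonds i j = 0 then D.commTerms (D.simple i) (D.simple j) == []
        else chkT3Terms D (D.commTerms (D.simple i) (D.simple j))))

theorem chkT3_G2 : chkT3 chevG2 = true := by decide +kernel
theorem chkT3_B2 : chkT3 chevB2 = true := by decide +kernel
theorem chkT3_D4 : chkT3 chevD4 = true := by decide +kernel
theorem chkT3_F4 : chkT3 chevF4 = true := by decide +kernel
theorem chkT3_E6 : chkT3 chevE6 = true := by decide +kernel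
theorem chkT3_E7 : chkT3 chevE7 = true := by decide +kernel
theorem chkT3_E8 : chkT3 chevE8 = true := by decide +kernel

theorem chkT3_all (D : ChevalleyDatum)
    (hD : D ∈ [chevG2, chevB2, chevD4, chevF4, chevE6, chevE7, chevE8]) : chkT3 D = true := by
  simp only [List.mem_cons, List.not_mem_nil, or_false] at hD
  rcases hD with rfl | rfl | rfl | rfl | rfl | rfl | rfl
  · exact chkT3_G2
  · exact chkT3_B2
  · exact chkT3_D4
  · exact chkT3_F4
  · exact chkT3_E6
  · exact chkT3_E7
  · exact chkT3_E8

theorem chkT3_spec (D : ChevalleyDatum) (h : chkT3 D = true) (i j : ℕ) (hi : i < D.rank)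
    (hj : j < D.rank) (hij : i ≠ j) :
    D.simple j ≠ D.simple i ∧ D.simple j ≠ D.neg (D.simple i) ∧
      (D.bonds i j = 0 → D.commTerms (D.simple i) (D.simple j) = []) ∧
      (D.bonds i j ≠ 0 → chkT3Terms D (D.commTerms (D.simple i) (D.simple j)) = true) := by
  unfold chkT3 at h
  rw [List.all_eq_true] at h
  have h1 := h i (List.mem_range.2 hi)
  rw [List.all_eq_true] at h1
  have h2 := h1 j (List.mem_range.2 hj)
  simp only [Bool.or_eq_true, beq_iff_eq, Bool.and_eq_true, bne_iff_ne, ne_eq] at h2
  rcases h2 with h2 | h2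
  · exact absurd h2 hij
  · refine ⟨h2.1.1, h2.1.2, fun h0 => ?_, fun h0 => ?_⟩
    · have h3 := h2.2
      rw [if_pos h0] at h3
      simpa using h3
    · have h3 := h2.2
      rw [if_neg h0] at h3
      exact h3

section
variable (D : ChevalleyDatum) (hD : D ∈ [chevG2, chevB2, chevD4, chevF4, chevE6, chevE7, chevE8])
variable (F : Type*) [Field F]

include hD in
/-- fundamental root subgroups not joined by a bond commute -/
theorem commute_simple_of_bonds_zero (i j : ℕ) (hi : i < D.rank) (hj : j < D.rank) (hij : i ≠ j)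
    (h0 : D.bonds i j = 0) (t u : F) :
    Commute (xGL D hD F (D.simple i) t) (xGL D hD F (D.simple j) u) := by
  obtain ⟨h1, h2, h3, -⟩ := chkT3_spec D (chkT3_all D hD) i j hi hj hij
  obtain ⟨hi1, -, -, -, -, -⟩ := simple_facts D hD i hi
  obtain ⟨hj1, -, -, -, -, -⟩ := simple_facts D hD j hj
  exact xGL_commute_of_nil D hD F (D.simple i) (D.simple j) hi1 hj1 h1 h2 (h3 h0) t u

include hD in
/-- fundamental root elements with non-zero parameters joined by a bond do not commute -/
theorem not_commute_simple_of_bonds_ne_zero (i j : ℕ) (hi : i < D.rank) (hj : j < D.rank)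
    (hij : i ≠ j) (h0 : D.bonds i j ≠ 0) (t u : F) (ht : t ≠ 0) (hu : u ≠ 0)
    (hc : Commute (xGL D hD F (D.simple i) t) (xGL D hD F (D.simple j) u)) : False := by
  obtain ⟨h1, h2, -, h4⟩ := chkT3_spec D (chkT3_all D hD) i j hi hj hij
  obtain ⟨hi1, -, -, -, -, -⟩ := simple_facts D hD i hi
  obtain ⟨hj1, -, -, -, -, -⟩ := simple_facts D hD j hj
  have hT := h4 h0
  -- the commutator formula
  have hcomm := hcomm_all D hD F (D.simple i) (D.simple j) hi1 hj1 h1 h2 t u
  have e : xGL D hD F (D.simple j) u * xGL D hD F (D.simple i) t =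
      xGL D hD F (D.simple i) t * xGL D hD F (D.simple j) u *
        wordGL D hD F (D.commWord F (D.simple i) (D.simple j) t u) := by
    apply Units.ext
    rw [Units.val_mul, Units.val_mul, Units.val_mul, xGL_coe, xGL_coe, wordGL_coe]
    exact hcomm
  have hW : wordGL D hD F (D.commWord F (D.simple i) (D.simple j) t u) = 1 := by
    have e' := e
    rw [← hc.eq] at e'
    exact (mul_eq_left).1 e'.symm
  -- shape of the word
  generalize hl : D.commTerms (D.simple i) (D.simple j) = l at hT
  cases l with
  | nil => simp [chkT3Terms] at hT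
  | cons q rest =>
    simp only [chkT3Terms, Bool.and_eq_true, Bool.or_eq_true, beq_iff_eq, decide_eq_true_eq,
      List.all_eq_true] at hT
    obtain ⟨⟨⟨⟨hq1, hq2⟩, hq3⟩, hqpos⟩, hrest⟩ := hT
    have hword : D.commWord F (D.simple i) (D.simple j) t u =
        (q.1, (q.2.1 : F) * (-t) ^ q.2.2.1 * u ^ q.2.2.2) ::
          rest.map (fun c => (c.1, (c.2.1 : F) * (-t) ^ c.2.2.1 * u ^ c.2.2.2)) := by
      unfold ChevalleyDatum.commWord
      rw [hl, List.map_cons]
    rw [hword] at hW
    have hW2 : xGL D hD F q.1 ((q.2.1 : F) * (-t) ^ q.2.2.1 * u ^ q.2.2.2) *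
        wordGL D hD F (rest.map (fun c => (c.1, (c.2.1 : F) * (-t) ^ c.2.2.1 * u ^ c.2.2.2))) = 1 := by
      rw [← hW]
      simp [wordGL]
    have hmem : wordGL D hD F (rest.map (fun c => (c.1, (c.2.1 : F) * (-t) ^ c.2.2.1 * u ^ c.2.2.2))) ∈
        Subgroup.closure (ordGens D F (q.1 + 1)) := by
      apply wordGL_mem
      intro p hp
      obtain ⟨c, hc', rfl⟩ := List.mem_map.1 hp
      have := hrest c hc'
      exact xGL_mem_ord D hD F (q.1 + 1) c.1 this.1 (by omega) _
    have hx : xGL D hD F q.1 ((q.2.1 : F) * (-t) ^ q.2.2.1 * u ^ q.2.2.2) ∈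
        Subgroup.closure (ordGens D F (q.1 + 1)) := by
      rw [eq_inv_of_mul_eq_one_left hW2]
      exact inv_mem hmem
    have hz := xGL_mem_ord_succ D hD F (chkPrim_all D hD) q.1 hqpos _ hx
    rw [hq2, hq3, pow_one, pow_one] at hz
    have hq0 : ((q.2.1 : ℤ) : F) ≠ 0 := by
      rcases hq1 with h | h <;> rw [h] <;> simp
    have : (q.2.1 : F) * -t * u ≠ 0 := mul_ne_zero (mul_ne_zero hq0 (neg_ne_zero.2 ht)) hu
    exact this hz

end

/-- a permutation preserving the relation "no bond" preserves it in both directions -/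
theorem zero_iff_of_zero_imp {n : ℕ} (b : ℕ → ℕ → ℤ) (π : Equiv.Perm (Fin n))
    (h : ∀ i j : Fin n, i ≠ j → b i j = 0 → b (π i) (π j) = 0) (i j : Fin n) (hij : i ≠ j) :
    b (π i) (π j) = 0 ↔ b i j = 0 := by
  classical
  refine ⟨fun h0 => ?_, h i j hij⟩
  set S : Finset (Fin n × Fin n) := Finset.univ.filter (fun p => p.1 ≠ p.2 ∧ b p.1 p.2 = 0) with hS
  set f : Fin n × Fin n → Fin n × Fin n := fun p => (π p.1, π p.2) with hf
  have hinj : Function.Injective f := by
    intro p q hpq
    simp only [hf, Prod.mk.injEq] at hpq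
    exact Prod.ext (π.injective hpq.1) (π.injective hpq.2)
  have hsub : S.image f ⊆ S := by
    intro p hp
    obtain ⟨q, hq, rfl⟩ := Finset.mem_image.1 hp
    simp only [hS, Finset.mem_filter, Finset.mem_univ, true_and] at hq ⊢
    exact ⟨fun e => hq.1 (π.injective e), h _ _ hq.1 hq.2⟩
  have hcard : S.card ≤ (S.image f).card := by
    rw [Finset.card_image_of_injective _ hinj]
  have heq : S.image f = S := Finset.eq_of_subset_of_card_le hsub hcard
  have hmem : f (i, j) ∈ S := by
    simp only [hS, hf, Finset.mem_filter, Finset.mem_univ, true_and]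
    exact ⟨fun e => hij (π.injective e), h0⟩
  rw [← heq] at hmem
  obtain ⟨q, hq, hqe⟩ := Finset.mem_image.1 hmem
  have := hinj hqe
  subst this
  simp only [hS, Finset.mem_filter, Finset.mem_univ, true_and] at hq
  exact hq.2

/-- the combinatorial statement: a permutation of the nodes preserving "no bond" preserves the bonds -/
def BondsRigid (D : ChevalleyDatum) : Prop :=
  ∀ π : Equiv.Perm (Fin D.rank),
    (∀ i j : Fin D.rank, i ≠ j → (D.bonds (π i) (π j) = 0 ↔ D.bonds i j = 0)) →
    ∀ i j : Fin D.rank, i ≠ j → D.bonds (π i) (π j) = D.bonds i j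

/-- table check: all bonds between distinct nodes are `0` or `1` -/
def chkSL (D : ChevalleyDatum) : Bool :=
  (List.range D.rank).all fun i => (List.range D.rank).all fun j =>
    (i == j) || (D.bonds i j == 0) || (D.bonds i j == 1)

theorem bondsRigid_of_chkSL (D : ChevalleyDatum) (h : chkSL D = true) : BondsRigid D := by
  intro π hπ i j hij
  have key : ∀ a b : Fin D.rank, a ≠ b → D.bonds a b = 0 ∨ D.bonds a b = 1 := by
    intro a b hab
    unfold chkSL at h
    rw [List.all_eq_true] at h
    have h1 := h a (List.mem_range.2 a.2)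
    rw [List.all_eq_true] at h1
    have h2 := h1 b (List.mem_range.2 b.2)
    simp only [Bool.or_eq_true, beq_iff_eq] at h2
    rcases h2 with (h2 | h2) | h2
    · exact absurd (Fin.ext h2) hab
    · exact Or.inl h2
    · exact Or.inr h2
  have hπij : π i ≠ π j := fun e => hij (π.injective e)
  rcases key i j hij with h0 | h1
  · rw [h0]; exact (hπ i j hij).2 h0
  · rcases key (π i) (π j) hπij with h0' | h1'
    · have := (hπ i j hij).1 h0'
      omega
    · rw [h1, h1']

theorem chkSL_D4 : chkSL chevD4 = true := by decide +kernel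
theorem chkSL_E6 : chkSL chevE6 = true := by decide +kernel
theorem chkSL_E7 : chkSL chevE7 = true := by decide +kernel
theorem chkSL_E8 : chkSL chevE8 = true := by decide +kernel

theorem bondsRigid_G2 : BondsRigid chevG2 := by
  unfold BondsRigid
  decide +kernel

theorem bondsRigid_B2 : BondsRigid chevB2 := by
  unfold BondsRigid
  decide +kernel

theorem bondsRigid_F4 : BondsRigid chevF4 := by
  unfold BondsRigid
  decide +kernel

theorem bondsRigid_all (D : ChevalleyDatum)
    (hD : D ∈ [chevG2, chevB2, chevD4, chevF4, chevE6, chevE7, chevE8]) : BondsRigid D := by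
  simp only [List.mem_cons, List.not_mem_nil, or_false] at hD
  rcases hD with rfl | rfl | rfl | rfl | rfl | rfl | rfl
  · exact bondsRigid_G2
  · exact bondsRigid_B2
  · exact bondsRigid_of_chkSL _ chkSL_D4
  · exact bondsRigid_F4
  · exact bondsRigid_of_chkSL _ chkSL_E6
  · exact bondsRigid_of_chkSL _ chkSL_E7
  · exact bondsRigid_of_chkSL _ chkSL_E8

section
variable (D : ChevalleyDatum) (hD : D ∈ [chevG2, chevB2, chevD4, chevF4, chevE6, chevE7, chevE8])
variable (F : Type*) [Field F]

/-- T3: the permutation is a symmetry of the Dynkin diagram. -/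
theorem T3_symm (θ₀ : ↥(D.group F) ≃* ↥(D.group F)) (π : Equiv.Perm (Fin D.rank))
    (h : ∀ i : Fin D.rank, MapsRoot D hD F θ₀ (D.simple i) (D.simple (π i))) : D.IsDiagramSymmetry π := by
  have hzero : ∀ i j : Fin D.rank, i ≠ j → D.bonds i j = 0 → D.bonds (π i) (π j) = 0 := by
    intro i j hij h0
    by_contra hne
    obtain ⟨a, ha⟩ := h i 1
    obtain ⟨b, hb⟩ := h j 1
    obtain ⟨hi1, -, -, -, -, -⟩ := simple_facts D hD i i.2
    obtain ⟨hj1, -, -, -, -, -⟩ := simple_facts D hD j j.2
    have ha0 : a ≠ 0 := by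
      intro e
      rw [e] at ha
      have h1 : xGr D hD F (D.simple (π i)) (0 : F) = 1 := by
        apply Subtype.ext
        exact Cfsg.Agent.Lib.Helper36.xGL_zero D hD F _
      rw [h1] at ha
      have h2 : xGr D hD F (D.simple i) (1 : F) = 1 := θ₀.injective (by rw [ha, map_one])
      have h3 : D.x F (D.simple i) 1 = 1 := by
        have := congrArg (fun g : ↥(D.group F) => ((g : GL D.Idx F) : Matrix D.Idx D.Idx F)) h2
        simpa [xGr_coe_mat] using this
      exact one_ne_zero (x_eq_one_iff D hD F (D.simple i) hi1 1 h3)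
    have hb0 : b ≠ 0 := by
      intro e
      rw [e] at hb
      have h1 : xGr D hD F (D.simple (π j)) (0 : F) = 1 := by
        apply Subtype.ext
        exact Cfsg.Agent.Lib.Helper36.xGL_zero D hD F _
      rw [h1] at hb
      have h2 : xGr D hD F (D.simple j) (1 : F) = 1 := θ₀.injective (by rw [hb, map_one])
      have h3 : D.x F (D.simple j) 1 = 1 := by
        have := congrArg (fun g : ↥(D.group F) => ((g : GL D.Idx F) : Matrix D.Idx D.Idx F)) h2
        simpa [xGr_coe_mat] using this
      exact one_ne_zero (x_eq_one_iff D hD F (D.simple j) hj1 1 h3)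
    have hij' : (i : ℕ) ≠ (j : ℕ) := fun e => hij (Fin.ext e)
    have hc := commute_simple_of_bonds_zero D hD F i j i.2 j.2 hij' h0 1 1
    have hc' : Commute (xGr D hD F (D.simple i) (1 : F)) (xGr D hD F (D.simple j) (1 : F)) := by
      show _ * _ = _ * _
      apply Subtype.ext
      exact hc.eq
    have hc2 : Commute (θ₀ (xGr D hD F (D.simple i) (1 : F))) (θ₀ (xGr D hD F (D.simple j) (1 : F))) := by
      show _ * _ = _ * _
      rw [← map_mul, ← map_mul, hc'.eq]
    rw [ha, hb] at hc2
    have hc3 : Commute (xGL D hD F (D.simple (π i)) a) (xGL D hD F (D.simple (π j)) b) := by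
      show _ * _ = _ * _
      exact congrArg Subtype.val hc2.eq
    have hπij : ((π i : Fin D.rank) : ℕ) ≠ ((π j : Fin D.rank) : ℕ) :=
      fun e => hij (π.injective (Fin.ext e))
    exact not_commute_simple_of_bonds_ne_zero D hD F (π i) (π j) (π i).2 (π j).2 hπij hne a b ha0 hb0 hc3
  have hiff := zero_iff_of_zero_imp (fun a b => D.bonds a b) π hzero
  exact bondsRigid_all D hD π hiff

end

end Cfsg.Agent.Lib.Helper75.Au
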