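import Mathlib
import Cfsg.Prelude.Def_GeometricClasses
import Cfsg.Agent.Lib.Helper44.UfDefs
import Cfsg.Agent.Lib.Helper5.UnitaryCard

set_option autoImplicit false
open scoped MatrixGroups
open Matrix

/-! S5982 Uf hive (helper44), leaf UF-AR1 (helper75). -/

namespace Cfsg.Agent.Lib.Helper44.Uf

universe v

variable {F : Type v} [Field F]

/-- UF-AR1 : (use `Cfsg.Agent.Lib.Helper5.card_GU` in `Lib/Helper5/UnitaryCard.lean`) -/
theorem exists_pow_eq_one_of_dvd_card_GU [Fintype F] {q₀ : ℕ} (hF : Fintype.card F = q₀ ^ 2) (d r : ℕ)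
    [Fact r.Prime] (hrq : ¬ r ∣ q₀) (h : r ∣ Nat.card (Cfsg.GU d F q₀)) :
    ∃ j, 1 ≤ j ∧ j ≤ d ∧ (-(q₀ : ZMod r)) ^ j = 1 := by
  have hr : r.Prime := Fact.out
  rw [Cfsg.Agent.Lib.Helper5.card_GU hF d] at h
  have hq1 : 1 ≤ q₀ := by
    rcases Nat.eq_zero_or_pos q₀ with h0 | h0
    · exact absurd (h0 ▸ dvd_zero r) hrq
    · exact h0
  rcases (Nat.Prime.dvd_mul hr).1 h with h1 | h1
  · exact absurd (hr.dvd_of_dvd_pow h1) hrq
  · obtain ⟨i, hi, hdvd⟩ := (Prime.dvd_finsetProd_iff hr.prime _).1 h1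
    rw [Finset.mem_range] at hi
    refine ⟨i + 1, by omega, by omega, ?_⟩
    split_ifs at hdvd with hev
    · have h0 : ((q₀ ^ (i + 1) + 1 : ℕ) : ZMod r) = 0 := (ZMod.natCast_eq_zero_iff _ _).2 hdvd
      push_cast at h0
      have hodd : Odd (i + 1) := hev.add_one
      rw [neg_pow, hodd.neg_one_pow]
      linear_combination -h0
    · have h0 : ((q₀ ^ (i + 1) - 1 : ℕ) : ZMod r) = 0 := (ZMod.natCast_eq_zero_iff _ _).2 hdvd
      rw [Nat.cast_sub (Nat.one_le_pow _ _ hq1)] at h0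
      push_cast at h0
      have hev' : Even (i + 1) := by
        rw [Nat.even_add_one]; exact hev
      rw [hev'.neg_pow]
      linear_combination h0

end Cfsg.Agent.Lib.Helper44.Uf
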