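import Cfsg.Agent.Lib.Helper75.SectionCount
import Cfsg.Agent.Lib.Helper77.ThirdMain
import Cfsg.Agent.Lib.Helper77.PNilpotentBlock
import Cfsg.Agent.Lib.Helper77.Deficiency

/-!
# The principal block on a `p`-section whose centralizer is `p`-nilpotent
-/

set_option autoImplicit false

universe u

namespace Cfsg.Agent.Lib.Helper75

open Cfsg Cfsg.Agent.Lib.Helper77 Cfsg.Agent.Lib.Helper81
open scoped ComplexConjugate

variable {G : Type u} [Group G] [Fintype G]

/-- For a `p`-element `x` with centralizer `C`: the block of `ψ ∈ Irr(C)` induces the principal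
block of `G` exactly when `ψ` lies in the principal block of `C` (Brauer's third main theorem). -/
theorem isInducedBlock_principal_iff {p : ℕ} [Fact p.Prime]
    {M : Ideal AlgInt} (hM : IsPModular p M) {x : G} (hx : ∃ k : ℕ, orderOf x = p ^ k)
    [Fintype (Subgroup.centralizer ({x} : Set G))]
    (ψ : IrrCharacter (Subgroup.centralizer ({x} : Set G))) :
    IsInducedBlock M (Subgroup.centralizer ({x} : Set G))
      (blockOf M (ψ : Subgroup.centralizer ({x} : Set G) → ℂ)) (principalBlock M G) ↔
    ψ ∈ principalBlock M (Subgroup.centralizer ({x} : Set G)) := by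
  have hMp : M.IsPrime := hM.2.1.isPrime
  constructor
  · intro hind
    have h1 := (third_main hM hind).mp rfl
    rw [← h1]
    exact self_mem_blockOf hMp ψ
  · intro hψ
    obtain ⟨χ₀, hind⟩ := exists_isInducedBlock_centralizer hM hx ψ
    have h1 : blockOf M (ψ : Subgroup.centralizer ({x} : Set G) → ℂ) =
        principalBlock M (Subgroup.centralizer ({x} : Set G)) :=
      (eq_principalBlock_iff hMp ψ).mpr hψ
    have h2 := (third_main hM hind).mpr h1
    rw [h2] at hind
    exact hind

open Classical in
/-- For a `p`-element `x` whose centralizer `C` has a normal `p`-complement and a `p`-regular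
`y ∈ C`: the squared norms of the values at `x y` of the members of the principal block of `G`
add up to the order of a Sylow `p`-subgroup of `C`. -/
theorem sum_principalBlock_section_of_pnilpotent [Fintype (IrrCharacter G)] {p : ℕ} [Fact p.Prime]
    {M : Ideal AlgInt} (hM : IsPModular p M) {x : G} (hx : ∃ k : ℕ, orderOf x = p ^ k)
    [Fintype (Subgroup.centralizer ({x} : Set G))]
    [Fintype (IrrCharacter (Subgroup.centralizer ({x} : Set G)))]
    (hidx : ∃ k : ℕ, (pPrimeCore p (Subgroup.centralizer ({x} : Set G))).index = p ^ k)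
    (y : Subgroup.centralizer ({x} : Set G)) (hy : ¬ p ∣ orderOf y) :
    ∑ χ ∈ Finset.univ.filter (fun χ : IrrCharacter G => χ ∈ principalBlock M G),
      (χ : G → ℂ) (x * (y : G)) * conj ((χ : G → ℂ) (x * (y : G))) =
    ((p ^ (Nat.card (Subgroup.centralizer ({x} : Set G))).factorization p : ℕ) : ℂ) := by
  rw [sum_block_section hM hx (isPBlock_principalBlock M) y hy]
  rw [← sum_principalBlock_mul_conj_of_pnilpotent hM hidx y hy]
  apply Finset.sum_congr
  · ext ψ
    simp only [Finset.mem_filter, Finset.mem_univ, true_and]
    exact isInducedBlock_principal_iff hM hx ψ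
  · intro ψ _
    rfl

end Cfsg.Agent.Lib.Helper75
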