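import Mathlib
import Cfsg.Prelude.Def_Balance
import Cfsg.Agent.Lib.Helper23.PComponentQuot

/-! # Mc hive (S1305, architect helper18), leaf MC-PCOMP: a component of even order is a 2-component (helper75). -/

set_option autoImplicit false

open Cfsg

namespace Cfsg.Agent.Lib.Helper18.Mc

open Subgroup

/-- a subgroup of even order is not contained in `O(Y)` -/
theorem mcpcomp_not_le {Y : Type*} [Group Y] [Finite Y] (K : Subgroup Y) (hev : Even (Nat.card K)) :
    ¬ K ≤ pPrimeCore 2 Y := by
  intro hle
  have h1 : Nat.card K ∣ Nat.card (pPrimeCore 2 Y) := Subgroup.card_dvd_of_le hle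
  have h2 : (Nat.card (pPrimeCore 2 Y)).Coprime 2 := Cfsg.Agent.Lib.Helper55.pPrimeCore_card_coprime 2
  have h3 : (Nat.card K).Coprime 2 := Nat.Coprime.coprime_dvd_left h1 h2
  have h4 : 2 ∣ Nat.card K := hev.two_dvd
  have h5 : (2 : ℕ) ∣ 1 := by
    have := Nat.dvd_gcd h4 (dvd_refl 2)
    rwa [h3] at this
  omega

/-- `K ⊓ O(Y)` is central in the quasisimple group `K` of even order -/
theorem mcpcomp_inf_central {Y : Type*} [Group Y] [Finite Y] (K : Subgroup Y) (hK : IsComponent K)
    (hev : Even (Nat.card K)) : (pPrimeCore 2 Y).subgroupOf K ≤ center ↥K := by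
  have hn : ((pPrimeCore 2 Y).subgroupOf K).Normal := Subgroup.Normal.subgroupOf inferInstance _
  rcases Cfsg.Agent.Lib.Helper91.normal_eq_top_or_le_center_of_isQuasisimple hK.2
      ((pPrimeCore 2 Y).subgroupOf K) with h | h
  · exfalso
    rw [Subgroup.subgroupOf_eq_top] at h
    exact mcpcomp_not_le K hev h
  · exact h

/-- MC-PCOMP.  A component of even order is a 2-component. -/
theorem comp_isPComponent {Y : Type*} [Group Y] [Finite Y] (K : Subgroup Y) (hK : IsComponent K)
    (hev : Even (Nat.card K)) : IsPComponent 2 K := by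
  have hqs : IsQuasisimple ↥K := hK.2
  haveI hperf : Group.IsPerfect ↥K := hqs.1
  have hcen := mcpcomp_inf_central K hK hev
  set π := QuotientGroup.mk' (pPrimeCore 2 Y) with hπ
  set f : ↥K →* ↥(K.map π) := π.subgroupMap K with hf
  have hfs : Function.Surjective f := π.subgroupMap_surjective K
  have hker : ∀ k : ↥K, f k = 1 → k ∈ (pPrimeCore 2 Y).subgroupOf K := by
    intro k hk
    rw [Subgroup.mem_subgroupOf]
    have h1 : ((f k : ↥(K.map π)) : Y ⧸ pPrimeCore 2 Y) = 1 := by rw [hk]; rfl
    have h2 : π (k : Y) = 1 := h1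
    exact (QuotientGroup.eq_one_iff _).mp h2
  refine ⟨hK.1, ⟨hK.1.map (QuotientGroup.mk'_surjective _), ?_⟩, ?_⟩
  · -- the image is quasisimple
    haveI : Group.IsPerfect ↥(K.map π) := Group.IsPerfect.ofSurjective (f := f) hfs
    haveI : Nontrivial ↥(K.map π) := by
      by_contra hnt
      rw [not_nontrivial_iff_subsingleton] at hnt
      apply mcpcomp_not_le K hev
      intro k hk
      have h1 := hker ⟨k, hk⟩ (Subsingleton.elim _ _)
      rw [Subgroup.mem_subgroupOf] at h1
      exact h1
    apply Cfsg.Agent.Lib.Helper23.isQuasisimple_of_normal_central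
    intro M hM
    haveI : (M.comap f).Normal := hM.comap f
    rcases Cfsg.Agent.Lib.Helper91.normal_eq_top_or_le_center_of_isQuasisimple hqs (M.comap f) with h | h
    · left
      rw [← Subgroup.map_comap_eq_self_of_surjective hfs M, h]
      exact Subgroup.map_top_of_surjective f hfs
    · right
      intro m hm
      obtain ⟨k, rfl⟩ := hfs m
      have hk : k ∈ center ↥K := h hm
      rw [Subgroup.mem_center_iff]
      intro q
      obtain ⟨k', rfl⟩ := hfs q
      rw [← map_mul, ← map_mul, Subgroup.mem_center_iff.mp hk k']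
  · -- minimality
    intro H hH hHK himg
    have hsn : (H.subgroupOf K).IsSubnormal := hH.subgroupOf
    rcases Cfsg.Agent.Lib.Helper91.isSubnormal_eq_top_or_le_center_of_isQuasisimple hqs hsn with h | h
    · rw [Subgroup.subgroupOf_eq_top] at h
      exact le_antisymm hHK h
    · exfalso
      -- every element of `K` is a product of two central elements
      have hall : ∀ k : ↥K, k ∈ center ↥K := by
        intro k
        have h1 : π (k : Y) ∈ K.map π := Subgroup.mem_map_of_mem _ k.2
        rw [← himg] at h1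
        obtain ⟨h', hh', hh'k⟩ := Subgroup.mem_map.mp h1
        have h2 : h'⁻¹ * (k : Y) ∈ pPrimeCore 2 Y := QuotientGroup.eq.mp hh'k
        have h3 : (⟨h', hHK hh'⟩ : ↥K) ∈ center ↥K := h (Subgroup.mem_subgroupOf.mpr hh')
        have h4 : (⟨h', hHK hh'⟩ : ↥K)⁻¹ * k ∈ center ↥K := by
          apply hcen
          rw [Subgroup.mem_subgroupOf]
          exact h2
        have h5 : k = (⟨h', hHK hh'⟩ : ↥K) * ((⟨h', hHK hh'⟩ : ↥K)⁻¹ * k) := by group
        rw [h5]
        exact Subgroup.mul_mem _ h3 h4
      have hcomm : IsMulCommutative ↥K := by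
        refine ⟨⟨fun a b => ?_⟩⟩
        exact (Subgroup.mem_center_iff.mp (hall a) b).symm
      haveI : Nontrivial ↥K := Cfsg.Agent.Lib.Helper91.nontrivial_of_isQuasisimple hqs
      exact Group.IsPerfect.not_isMulCommutative ↥K hcomm

end Cfsg.Agent.Lib.Helper18.Mc
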