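import Cfsg.Agent.Lib.Helper75.PNilSection

/-!
# Characters of the principal block on a `p`-section with `p`-nilpotent centralizer
-/

set_option autoImplicit false

universe u

namespace Cfsg.Agent.Lib.Helper75

open Cfsg Cfsg.Agent.Lib.Helper77 Cfsg.Agent.Lib.Helper81
open scoped ComplexConjugate

variable {G : Type u} [Group G] [Fintype G]

open Classical in
/-- For a `p`-element `x` whose centralizer has a normal `p`-complement, a character of the
principal block is constant on the `p`-section of `x`: `χ (x y) = χ x` for `p`-regular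
`y ∈ C(x)`. -/
theorem principalBlock_apply_section_of_pnilpotent [Fintype (IrrCharacter G)] {p : ℕ}
    [Fact p.Prime] {M : Ideal AlgInt} (hM : IsPModular p M) {x : G}
    (hx : ∃ k : ℕ, orderOf x = p ^ k)
    [Fintype (Subgroup.centralizer ({x} : Set G))]
    [Fintype (IrrCharacter (Subgroup.centralizer ({x} : Set G)))]
    (hidx : ∃ k : ℕ, (pPrimeCore p (Subgroup.centralizer ({x} : Set G))).index = p ^ k)
    (χ : IrrCharacter G) (hχ : χ ∈ principalBlock M G)
    (y : Subgroup.centralizer ({x} : Set G)) (hy : ¬ p ∣ orderOf y) :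
    (χ : G → ℂ) (x * (y : G)) = (χ : G → ℂ) x := by
  have hp : p.Prime := Fact.out
  have h1 : ¬ p ∣ orderOf (1 : Subgroup.centralizer ({x} : Set G)) := by
    rw [orderOf_one]
    exact hp.one_lt.ne' ∘ Nat.dvd_one.mp
  have h2 := section_value_eq hM hx (isPBlock_principalBlock M) χ hχ y hy
  have h3 := section_value_eq hM hx (isPBlock_principalBlock M) χ hχ
    (1 : Subgroup.centralizer ({x} : Set G)) h1
  rw [Subgroup.coe_one, mul_one] at h3
  rw [h2, h3]
  obtain ⟨k, hk⟩ := hidx
  have hb₀ := Cfsg.Agent.S0939.result p M hM ⟨k, hk⟩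
  refine Finset.sum_congr rfl fun ψ hψ => ?_
  have h4 := (Finset.mem_filter.mp hψ).2
  rw [isInducedBlock_principal_iff hM hx ψ, hb₀] at h4
  have hyK : y ∈ pPrimeCore p (Subgroup.centralizer ({x} : Set G)) :=
    Cfsg.Agent.Lib.Helper16.mem_of_regular_of_index _ hk hy
  rw [h4 y hyK]

end Cfsg.Agent.Lib.Helper75
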