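import Cfsg.Agent.Lib.Helper40.C2gTorus

/-! # S2405, rank-2 part (helper67): generic lemmas on top of helper40's engine

* `pow3_abstract`: `(h x_a(1) x_b(1))^(q-1) = x_a(-1)`;
* `cube_of_relations`: `(ab)^3 = a^3 b^3 c^3 z^3 y`;
* `PX_fill_gen`: fill a root group through a conjugation `t ↦ l t`;
* `xGL_comm_of_nil`: root elements commute when `commTerms` is empty;
* `hGL_mem_of_PX`: torus elements from a pair of opposite root groups;
* `xGL_cox_elem`: conjugation of a single root element by the Coxeter lift. -/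

set_option autoImplicit false

namespace Cfsg.Agent.Lib.Helper67.C2g

open Cfsg Cfsg.Lie Cfsg.Agent.Lib.Helper36 Cfsg.Agent.Lib.Helper40.C2g

/-! ## pure group theory -/

theorem pow3_conj_pow {G : Type*} [Group G] {A : Type*} [Field A] (xb : A → G) (h : G) (l : A)
    (hhb : ∀ t, h * xb t * h⁻¹ = xb (l * t)) (j : ℕ) (t : A) :
    h ^ j * xb t * (h ^ j)⁻¹ = xb (l ^ j * t) := by
  induction j generalizing t with
  | zero => simp
  | succ j ih =>
    rw [pow_succ', mul_inv_rev]
    calc h * h ^ j * xb t * ((h ^ j)⁻¹ * h⁻¹) = h * (h ^ j * xb t * (h ^ j)⁻¹) * h⁻¹ := by group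
      _ = h * xb (l ^ j * t) * h⁻¹ := by rw [ih]
      _ = xb (l * (l ^ j * t)) := hhb _
      _ = xb (l ^ (j + 1) * t) := by rw [pow_succ']; ring_nf

/-- `(h x_a(1) x_b(1))^m = x_a(m) x_b(l + l^2 + ... + l^m) h^m` -/
theorem pow3_general {G : Type*} [Group G] {A : Type*} [Field A]
    (xa xb : A → G) (h : G)
    (ha : ∀ s t, xa (s + t) = xa s * xa t) (hb : ∀ s t, xb (s + t) = xb s * xb t)
    (hab : ∀ s t, xa s * xb t = xb t * xa s)
    (hha : ∀ t, h * xa t * h⁻¹ = xa t) (l : A) (hhb : ∀ t, h * xb t * h⁻¹ = xb (l * t)) (m : ℕ) :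
    (h * xa 1 * xb 1) ^ m = xa (m : A) * xb (∑ i ∈ Finset.range m, l ^ (i + 1)) * h ^ m := by
  have ha0 : xa 0 = 1 := by
    have := ha 0 0; rw [add_zero] at this
    exact (mul_eq_left.mp this.symm)
  have hb0 : xb 0 = 1 := by
    have := hb 0 0; rw [add_zero] at this
    exact (mul_eq_left.mp this.symm)
  have hha' : ∀ j : ℕ, ∀ t, h ^ j * xa t * (h ^ j)⁻¹ = xa t := by
    intro j t
    have := pow3_conj_pow (A := A) xa h 1 (fun t => by rw [one_mul]; exact hha t) j t
    simpa using this
  induction m with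
  | zero => simp [ha0, hb0]
  | succ m ih =>
    rw [pow_succ, ih]
    have e1 : h ^ (m + 1) * xa 1 = xa 1 * h ^ (m + 1) := by
      have := hha' (m + 1) 1
      calc h ^ (m + 1) * xa 1 = (h ^ (m + 1) * xa 1 * (h ^ (m + 1))⁻¹) * h ^ (m + 1) := by group
        _ = xa 1 * h ^ (m + 1) := by rw [this]
    have e2 : h ^ (m + 1) * xb 1 = xb (l ^ (m + 1)) * h ^ (m + 1) := by
      have := pow3_conj_pow xb h l hhb (m + 1) 1
      rw [mul_one] at this
      calc h ^ (m + 1) * xb 1 = (h ^ (m + 1) * xb 1 * (h ^ (m + 1))⁻¹) * h ^ (m + 1) := by group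
        _ = xb (l ^ (m + 1)) * h ^ (m + 1) := by rw [this]
    calc xa (m : A) * xb (∑ i ∈ Finset.range m, l ^ (i + 1)) * h ^ m * (h * xa 1 * xb 1)
        = xa (m : A) * xb (∑ i ∈ Finset.range m, l ^ (i + 1)) * (h ^ (m + 1) * xa 1) * xb 1 := by
          rw [pow_succ]; group
      _ = xa (m : A) * xb (∑ i ∈ Finset.range m, l ^ (i + 1)) * (xa 1 * h ^ (m + 1)) * xb 1 := by rw [e1]
      _ = xa (m : A) * (xb (∑ i ∈ Finset.range m, l ^ (i + 1)) * xa 1) * (h ^ (m + 1) * xb 1) := by group
      _ = xa (m : A) * (xa 1 * xb (∑ i ∈ Finset.range m, l ^ (i + 1))) * (xb (l ^ (m + 1)) * h ^ (m + 1)) := by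
          rw [← hab, e2]
      _ = (xa (m : A) * xa 1) * (xb (∑ i ∈ Finset.range m, l ^ (i + 1)) * xb (l ^ (m + 1))) * h ^ (m + 1) := by group
      _ = xa ((m + 1 : ℕ) : A) * xb (∑ i ∈ Finset.range (m + 1), l ^ (i + 1)) * h ^ (m + 1) := by
          rw [← ha, ← hb, Finset.sum_range_succ]; push_cast; rfl

/-- (P): `(h x_a(1) x_b(1))^(q-1) = x_a(-1)` -/
theorem pow3_abstract {G : Type*} [Group G] {A : Type*} [Field A] [Fintype A]
    (xa xb : A → G) (h : G)
    (ha : ∀ s t, xa (s + t) = xa s * xa t) (hb : ∀ s t, xb (s + t) = xb s * xb t)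
    (hab : ∀ s t, xa s * xb t = xb t * xa s)
    (hha : ∀ t, h * xa t * h⁻¹ = xa t) (l : A) (hhb : ∀ t, h * xb t * h⁻¹ = xb (l * t))
    (hl1 : l ≠ 1) (hl0 : l ≠ 0) (hh : h ^ (Fintype.card A - 1) = 1) :
    (h * xa 1 * xb 1) ^ (Fintype.card A - 1) = xa (-1) := by
  have hb0 : xb 0 = 1 := by
    have := hb 0 0; rw [add_zero] at this
    exact (mul_eq_left.mp this.symm)
  rw [pow3_general xa xb h ha hb hab hha l hhb, hh, mul_one]
  have hq : 1 ≤ Fintype.card A := Fintype.card_pos
  have hcast : ((Fintype.card A - 1 : ℕ) : A) = -1 := by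
    rw [Nat.cast_sub hq, FiniteField.cast_card_eq_zero]; simp
  have hsum : ∑ i ∈ Finset.range (Fintype.card A - 1), l ^ (i + 1) = 0 := by
    have hgeom := geom_sum_eq hl1 (Fintype.card A - 1)
    have hpow : l ^ (Fintype.card A - 1) = 1 := FiniteField.pow_card_sub_one_eq_one l hl0
    have : ∑ i ∈ Finset.range (Fintype.card A - 1), l ^ (i + 1)
        = l * ∑ i ∈ Finset.range (Fintype.card A - 1), l ^ i := by
      rw [Finset.mul_sum]; exact Finset.sum_congr rfl (fun i _ => by rw [pow_succ'])
    rw [this, hgeom, hpow, sub_self, zero_div, mul_zero]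
  rw [hcast, hsum, hb0, mul_one]

/-- `(ab)^3 = a^3 b^3 c^3 z^3 y` when `ba = abcz`, `ca = acy`, `cb = bc`, and `z`, `y` commute with everything. -/
theorem cube_of_relations {G : Type*} [Group G] (a b c z y : G)
    (hba : b * a = a * b * c * z) (hca : c * a = a * c * y) (hcb : c * b = b * c)
    (hza : z * a = a * z) (hzb : z * b = b * z) (hzc : z * c = c * z)
    (hya : y * a = a * y) (hyb : y * b = b * y) (hyc : y * c = c * y) (hyz : y * z = z * y) :
    (a * b) ^ 3 = a ^ 3 * b ^ 3 * c ^ 3 * z ^ 3 * y := by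
  have Czb : Commute z b := hzb
  have Czc : Commute z c := hzc
  have Cyb : Commute y b := hyb
  have Ccb : Commute c b := hcb
  have h1 : b * b * a = a * (b * b) * (c * c) * (z * z) := by
    calc b * b * a = b * (b * a) := by rw [mul_assoc]
      _ = b * (a * b * c * z) := by rw [hba]
      _ = (b * a) * b * c * z := by simp only [mul_assoc]
      _ = (a * b * c * z) * b * c * z := by rw [hba]
      _ = a * b * (c * (z * b)) * c * z := by simp only [mul_assoc]
      _ = a * b * (c * (b * z)) * c * z := by rw [hzb]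
      _ = a * b * ((c * b) * z) * c * z := by simp only [mul_assoc]
      _ = a * b * ((b * c) * z) * c * z := by rw [hcb]
      _ = a * (b * b) * c * (z * c) * z := by simp only [mul_assoc]
      _ = a * (b * b) * c * (c * z) * z := by rw [hzc]
      _ = a * (b * b) * (c * c) * (z * z) := by simp only [mul_assoc]
  have h2 : (a * b) * (a * b) = a * a * (b * b) * c * z := by
    calc (a * b) * (a * b) = a * (b * a) * b := by simp only [mul_assoc]
      _ = a * (a * b * c * z) * b := by rw [hba]
      _ = a * a * b * c * (z * b) := by simp only [mul_assoc]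
      _ = a * a * b * c * (b * z) := by rw [hzb]
      _ = a * a * b * (c * b) * z := by simp only [mul_assoc]
      _ = a * a * b * (b * c) * z := by rw [hcb]
      _ = a * a * (b * b) * c * z := by simp only [mul_assoc]
  calc (a * b) ^ 3 = (a * b) * (a * b) * (a * b) := by rw [pow_succ, pow_two]
    _ = a * a * (b * b) * c * z * (a * b) := by rw [h2]
    _ = a * a * (b * b) * c * (z * a) * b := by simp only [mul_assoc]
    _ = a * a * (b * b) * c * (a * z) * b := by rw [hza]
    _ = a * a * (b * b) * (c * a) * z * b := by simp only [mul_assoc]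
    _ = a * a * (b * b) * (a * c * y) * z * b := by rw [hca]
    _ = a * a * (b * b * a) * c * y * z * b := by simp only [mul_assoc]
    _ = a * a * (a * (b * b) * (c * c) * (z * z)) * c * y * z * b := by rw [h1]
    _ = a ^ 3 * b ^ 3 * c ^ 3 * z ^ 3 * y := by
      have hb_left : (c * c) * (z * z) * c * y * z * b = b * ((c * c) * (z * z) * c * y * z) := by
        have : Commute ((c * c) * (z * z) * c * y * z) b := by
          apply Commute.mul_left
          · apply Commute.mul_left
            · apply Commute.mul_left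
              · apply Commute.mul_left
                · exact Ccb.mul_left Ccb
                · exact Czb.mul_left Czb
              · exact Ccb
            · exact Cyb
          · exact Czb
        exact this.eq
      have hc3 : (c * c) * (z * z) * c * y * z = c ^ 3 * z ^ 3 * y := by
        have : (z * z) * c = c * (z * z) := ((Czc.mul_left Czc)).eq
        calc (c * c) * (z * z) * c * y * z = (c * c) * ((z * z) * c) * y * z := by simp only [mul_assoc]
          _ = (c * c) * (c * (z * z)) * y * z := by rw [this]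
          _ = (c * c * c) * (z * z) * (y * z) := by simp only [mul_assoc]
          _ = (c * c * c) * (z * z) * (z * y) := by rw [hyz]
          _ = c ^ 3 * z ^ 3 * y := by
            simp only [pow_succ, pow_zero, one_mul, mul_assoc]
      calc a * a * (a * (b * b) * (c * c) * (z * z)) * c * y * z * b
          = a * a * a * (b * b) * ((c * c) * (z * z) * c * y * z * b) := by simp only [mul_assoc]
        _ = a * a * a * (b * b) * (b * ((c * c) * (z * z) * c * y * z)) := by rw [hb_left]
        _ = a * a * a * (b * b * b) * ((c * c) * (z * z) * c * y * z) := by simp only [mul_assoc]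
        _ = a * a * a * (b * b * b) * (c ^ 3 * z ^ 3 * y) := by rw [hc3]
        _ = a ^ 3 * b ^ 3 * c ^ 3 * z ^ 3 * y := by
          simp only [pow_succ, pow_zero, one_mul, mul_assoc]

/-! ## list-membership facts used by every rank-2 leaf statement (from the skeleton) -/

theorem hB2 : chevB2 ∈ [chevG2, chevB2, chevD4, chevF4, chevE6, chevE7, chevE8] := by simp
theorem hG2 : chevG2 ∈ [chevG2, chevB2, chevD4, chevF4, chevE6, chevE7, chevE8] := by simp

/-! ## Chevalley level -/

section chev
variable (D : ChevalleyDatum) (hD : D ∈ [chevG2, chevB2, chevD4, chevF4, chevE6, chevE7, chevE8])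
  (F : Type*) [Field F] (K0 : Subgroup (GL D.Idx F))

/-- (F) fill a root group through a conjugation `t ↦ l t` -/
theorem PX_fill_gen (s : ℕ) (g : GL D.Idx F) (hg : g ∈ K0) (l : F)
    (hconj : ∀ t, g * xGL D hD F s t * g⁻¹ = xGL D hD F s (l * t))
    (h1 : xGL D hD F s 1 ∈ K0) (hcl : AddSubgroup.closure {x : F | ∃ j : ℕ, x = l ^ j} = ⊤) :
    PX D hD F K0 s := by
  let S : AddSubgroup F :=
    { carrier := {t | xGL D hD F s t ∈ K0}
      zero_mem' := by
        show xGL D hD F s 0 ∈ K0
        rw [xGL_zero']; exact one_mem _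
      add_mem' := by
        intro a b ha hb
        show xGL D hD F s (a + b) ∈ K0
        rw [xGL_add']; exact mul_mem ha hb
      neg_mem' := by
        intro a ha
        show xGL D hD F s (-a) ∈ K0
        rw [← xGL_inv']; exact inv_mem ha }
  have hpow : ∀ j : ℕ, l ^ j ∈ S := by
    intro j
    induction j with
    | zero =>
      show xGL D hD F s (l ^ 0) ∈ K0
      rw [pow_zero]; exact h1
    | succ j ih =>
      show xGL D hD F s (l ^ (j + 1)) ∈ K0
      rw [pow_succ', ← hconj]
      exact mul_mem (mul_mem hg ih) (inv_mem hg)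
  have hle : (⊤ : AddSubgroup F) ≤ S := by
    rw [← hcl, AddSubgroup.closure_le]
    rintro x ⟨j, rfl⟩
    exact hpow j
  intro t
  exact hle (AddSubgroup.mem_top t)

/-- root elements commute when the list of commutator terms is empty -/
theorem xGL_comm_of_nil (r s : ℕ) (hr : r < D.nroots) (hs : s < D.nroots) (hne1 : s ≠ r) (hne2 : s ≠ D.neg r)
    (hterms : D.commTerms r s = []) (t u : F) :
    xGL D hD F s u * xGL D hD F r t = xGL D hD F r t * xGL D hD F s u := by
  have hcf := Cfsg.Agent.S1025.result (F := F) D hD r s hr hs hne1 hne2 t u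
  have hw : D.wordMat F (D.commWord F r s t u) = 1 := by
    unfold ChevalleyDatum.commWord ChevalleyDatum.wordMat
    rw [hterms]
    simp
  rw [hw, mul_one] at hcf
  apply Units.ext
  simp only [Units.val_mul, xGL_coe]
  exact hcf

/-- `n_r(t) = x_r(t) x_{-r}(-1/t) x_r(t)` in `GL` -/
theorem nGL_eq_x (r : ℕ) (t : F) :
    nGL D hD F r t = xGL D hD F r t * (xGL D hD F (D.neg r) (-t⁻¹) * xGL D hD F r t) := by
  apply Units.ext
  simp only [Units.val_mul, xGL_coe, nGL_coe]
  exact nMat_eq D F r t

/-- torus elements from a pair of opposite root groups -/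
theorem hGL_mem_of_PX (r : ℕ) (hp : PX D hD F K0 r) (hm : PX D hD F K0 (D.neg r)) (c : F) :
    hGL D hD F r c ∈ K0 := by
  rw [hGL_eq, nGL_eq_x, nGL_eq_x]
  exact mul_mem (mul_mem (hp _) (mul_mem (hm _) (hp _))) (mul_mem (hp _) (mul_mem (hm _) (hp _)))

/-- conjugating a single root element by `n_i(1)`: explicit sign -/
theorem nGL_conj_xGL (i r : ℕ) (hi : i < D.rank) (hr : r < D.nroots) (t : F) :
    nGL D hD F (D.simple i) 1 * xGL D hD F r t * (nGL D hD F (D.simple i) 1)⁻¹ =
      xGL D hD F (D.reflectRoot i r) (((nEta D i r : ℤ) : F) * t) := by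
  obtain ⟨-, -, -, -, hs'⟩ := chkN2_spec D (chkN2_all D hD) i hi
  obtain ⟨-, -, hη, -⟩ := hs' r hr
  rw [xGL_reflect D hD F i r hi hr]
  have : ((nEta D i r : ℤ) : F) * (((nEta D i r : ℤ) : F) * t) = t := by
    rcases hη with h | h <;> rw [h] <;> push_cast <;> ring
  rw [this]

/-- conjugating a single root element by a product of fundamental `n_i(1)`: the parameter changes by a sign -/
theorem xGL_nList_elem (L : List ℕ) (hL : ∀ i ∈ L, i < D.rank) (r : ℕ) (hr : r < D.nroots) :
    ∃ e : F, (e = 1 ∨ e = -1) ∧ ∀ t : F,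
      nList D hD F L * xGL D hD F r t * (nList D hD F L)⁻¹ = xGL D hD F (reflList D L r) (e * t) := by
  induction L with
  | nil => exact ⟨1, Or.inl rfl, fun t => by simp [reflList, nList]⟩
  | cons i L ih =>
    have hi : i < D.rank := hL i (List.mem_cons_self)
    have hL' : ∀ j ∈ L, j < D.rank := fun j hj => hL j (List.mem_cons_of_mem _ hj)
    have hlt := reflList_lt D hD L hL' r hr
    obtain ⟨e, he, hconj⟩ := ih hL'
    obtain ⟨-, -, -, -, hs'⟩ := chkN2_spec D (chkN2_all D hD) i hi
    obtain ⟨-, -, hη, -⟩ := hs' (reflList D L r) hlt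
    refine ⟨((nEta D i (reflList D L r) : ℤ) : F) * e, ?_, fun t => ?_⟩
    · rcases hη with h | h <;> rcases he with h' | h' <;> rw [h, h'] <;> push_cast <;> simp
    · have : nList D hD F (i :: L) = nGL D hD F (D.simple i) 1 * nList D hD F L := by
        simp [nList]
      rw [this, mul_inv_rev]
      calc nGL D hD F (D.simple i) 1 * nList D hD F L * xGL D hD F r t *
            ((nList D hD F L)⁻¹ * (nGL D hD F (D.simple i) 1)⁻¹)
          = nGL D hD F (D.simple i) 1 * (nList D hD F L * xGL D hD F r t * (nList D hD F L)⁻¹) *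
            (nGL D hD F (D.simple i) 1)⁻¹ := by group
        _ = nGL D hD F (D.simple i) 1 * xGL D hD F (reflList D L r) (e * t) * (nGL D hD F (D.simple i) 1)⁻¹ := by
            rw [hconj]
        _ = xGL D hD F (D.reflectRoot i (reflList D L r)) (((nEta D i (reflList D L r) : ℤ) : F) * (e * t)) :=
            nGL_conj_xGL D hD F i _ hi hlt _
        _ = xGL D hD F (reflList D (i :: L) r) (((nEta D i (reflList D L r) : ℤ) : F) * e * t) := by
            rw [mul_assoc]; rfl

/-- (W), element level: `x_r(1) ∈ K0` and the Coxeter lift in `K0` give `x_{w r}(1) ∈ K0` -/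
theorem xGL_cox_one (hn : coxN D hD F ∈ K0) (r : ℕ) (hr : r < D.nroots) (h : xGL D hD F r 1 ∈ K0) :
    xGL D hD F (coxRoot D r) 1 ∈ K0 := by
  obtain ⟨e, he, hconj⟩ := xGL_nList_elem D hD F (List.range D.rank) (fun _ hi => List.mem_range.1 hi) r hr
  have h1 : xGL D hD F (coxRoot D r) (e * 1) ∈ K0 := by
    show xGL D hD F (reflList D (List.range D.rank) r) (e * 1) ∈ K0
    rw [← hconj]
    exact mul_mem (mul_mem hn h) (inv_mem hn)
  rcases he with rfl | rfl
  · simpa using h1
  · have : xGL D hD F (coxRoot D r) 1 = (xGL D hD F (coxRoot D r) (-1 * 1))⁻¹ := by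
      rw [xGL_inv']; simp
    rw [this]; exact inv_mem h1

end chev

end Cfsg.Agent.Lib.Helper67.C2g
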