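import Mathlib

/-! # Lo sub-hive (helper21; half (B) of the We hive S2347), leaf LO-COUNT (architect helper75): shared definitions.
Pure Mathlib.  `countStab M` = congruence stabiliser `{g ∈ GL_n | g M gᵀ = M}`, `countStabVec M v` = its subgroup fixing
the row vector `v` (`v ᵥ* g = v`). -/

set_option autoImplicit false

namespace Cfsg.Agent.Lib.Helper21.Lo

open Matrix

variable {F : Type*} [Field F] {n : ℕ}

/-- congruence stabiliser of `M` in `GL_n`: `g M gᵀ = M` -/
def countStab (M : Matrix (Fin n) (Fin n) F) : Subgroup (GL (Fin n) F) where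
  carrier := {g | (g : Matrix (Fin n) (Fin n) F) * M * (g : Matrix (Fin n) (Fin n) F)ᵀ = M}
  mul_mem' := by
    intro a b ha hb
    simp only [Set.mem_ofPred_eq] at ha hb ⊢
    rw [Units.val_mul, transpose_mul]
    calc (a : Matrix (Fin n) (Fin n) F) * (b : Matrix (Fin n) (Fin n) F) * M *
          ((b : Matrix (Fin n) (Fin n) F)ᵀ * (a : Matrix (Fin n) (Fin n) F)ᵀ)
        = (a : Matrix (Fin n) (Fin n) F) * ((b : Matrix (Fin n) (Fin n) F) * M *
          (b : Matrix (Fin n) (Fin n) F)ᵀ) * (a : Matrix (Fin n) (Fin n) F)ᵀ := by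
          simp only [Matrix.mul_assoc]
      _ = M := by rw [hb, ha]
  one_mem' := by simp
  inv_mem' := by
    intro a ha
    simp only [Set.mem_ofPred_eq] at ha ⊢
    have h1 : ((a⁻¹ : GL (Fin n) F) : Matrix (Fin n) (Fin n) F) * (a : Matrix (Fin n) (Fin n) F) = 1 := by
      rw [← Units.val_mul, inv_mul_cancel, Units.val_one]
    have h2 : (a : Matrix (Fin n) (Fin n) F)ᵀ * ((a⁻¹ : GL (Fin n) F) : Matrix (Fin n) (Fin n) F)ᵀ = 1 := by
      rw [← transpose_mul, h1, transpose_one]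
    calc ((a⁻¹ : GL (Fin n) F) : Matrix (Fin n) (Fin n) F) * M *
          ((a⁻¹ : GL (Fin n) F) : Matrix (Fin n) (Fin n) F)ᵀ
        = ((a⁻¹ : GL (Fin n) F) : Matrix (Fin n) (Fin n) F) *
          ((a : Matrix (Fin n) (Fin n) F) * M * (a : Matrix (Fin n) (Fin n) F)ᵀ) *
          ((a⁻¹ : GL (Fin n) F) : Matrix (Fin n) (Fin n) F)ᵀ := by rw [ha]
      _ = (((a⁻¹ : GL (Fin n) F) : Matrix (Fin n) (Fin n) F) * (a : Matrix (Fin n) (Fin n) F)) * M *
          ((a : Matrix (Fin n) (Fin n) F)ᵀ * ((a⁻¹ : GL (Fin n) F) : Matrix (Fin n) (Fin n) F)ᵀ) := by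
          simp only [Matrix.mul_assoc]
      _ = M := by rw [h1, h2, Matrix.one_mul, Matrix.mul_one]

theorem mem_countStab (M : Matrix (Fin n) (Fin n) F) (g : GL (Fin n) F) :
    g ∈ countStab M ↔
      (g : Matrix (Fin n) (Fin n) F) * M * (g : Matrix (Fin n) (Fin n) F)ᵀ = M := Iff.rfl

/-- the elements of the congruence stabiliser fixing the row vector `v` -/
def countStabVec (M : Matrix (Fin n) (Fin n) F) (v : Fin n → F) : Subgroup (GL (Fin n) F) where
  carrier := {g | g ∈ countStab M ∧ v ᵥ* (g : Matrix (Fin n) (Fin n) F) = v}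
  mul_mem' := by
    intro a b ha hb
    refine ⟨(countStab M).mul_mem ha.1 hb.1, ?_⟩
    rw [Units.val_mul, ← Matrix.vecMul_vecMul, ha.2, hb.2]
  one_mem' := ⟨(countStab M).one_mem, by simp⟩
  inv_mem' := by
    intro a ha
    refine ⟨(countStab M).inv_mem ha.1, ?_⟩
    have h1 : (a : Matrix (Fin n) (Fin n) F) * ((a⁻¹ : GL (Fin n) F) : Matrix (Fin n) (Fin n) F) = 1 := by
      rw [← Units.val_mul, mul_inv_cancel, Units.val_one]
    calc v ᵥ* ((a⁻¹ : GL (Fin n) F) : Matrix (Fin n) (Fin n) F)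
        = (v ᵥ* (a : Matrix (Fin n) (Fin n) F)) ᵥ* ((a⁻¹ : GL (Fin n) F) : Matrix (Fin n) (Fin n) F) := by
          rw [ha.2]
      _ = v := by rw [Matrix.vecMul_vecMul, h1, Matrix.vecMul_one]

theorem mem_countStabVec (M : Matrix (Fin n) (Fin n) F) (v : Fin n → F) (g : GL (Fin n) F) :
    g ∈ countStabVec M v ↔
      (g : Matrix (Fin n) (Fin n) F) * M * (g : Matrix (Fin n) (Fin n) F)ᵀ = M ∧
        v ᵥ* (g : Matrix (Fin n) (Fin n) F) = v := Iff.rfl

theorem countStabVec_le (M : Matrix (Fin n) (Fin n) F) (v : Fin n → F) :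
    countStabVec M v ≤ countStab M := fun _ hg => hg.1

end Cfsg.Agent.Lib.Helper21.Lo
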