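import Mathlib
import Cfsg.Statements.S2924
import Cfsg.Agent.Lib.Helper22.FStar
import Cfsg.Agent.Lib.Helper22.OcDefs

/-! # Oc hive (S2924, architect helper22), leaf OC3f: a component `K` and a normal subgroup `C`:
`K ≤ C` or `K` commutes elementwise with `C` (helper75; from `Helper21.component_le_or_commutes_normal`). -/

set_option autoImplicit false
open Cfsg Subgroup

namespace Cfsg.Agent.Lib.Helper22.Oc

universe u

/-- OC3f. Dichotomy: a component and a normal subgroup. -/
theorem oc3f {G : Type u} [Group G] [Finite G] (K C : Subgroup G) (hK : IsComponent K) [C.Normal] :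
    K ≤ C ∨ ∀ k ∈ K, ∀ c ∈ C, k * c = c * k := by
  rcases Cfsg.Agent.Lib.Helper21.component_le_or_commutes_normal hK (inferInstance : C.Normal) with h | h
  · exact Or.inl h
  · refine Or.inr ?_
    intro k hk c hc
    rw [Subgroup.commutator_eq_bot_iff_le_centralizer] at h
    have h1 := h hc
    rw [Subgroup.mem_centralizer_iff] at h1
    exact h1 k hk

end Cfsg.Agent.Lib.Helper22.Oc
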