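import Cfsg.Agent.Lib.Helper3.CharOps
import Cfsg.Agent.Lib.Helper3.OddOrder

/-!
# A character with an irreducible constituent of at least its own degree is irreducible
-/

set_option autoImplicit false
set_option linter.style.haveILetI false
open Cfsg

namespace Cfsg.Agent.Lib.Helper75

open Cfsg.Agent.Lib.Helper3
open scoped ComplexConjugate

universe u
variable {G : Type u} [Group G]

/-- The degree of an irreducible character as a positive natural number. -/
theorem irr_degree_nat [Finite G] (ψ : IrrCharacter G) :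
    ∃ n : ℕ, (ψ : G → ℂ) 1 = (n : ℂ) ∧ 0 < n ∧ n ∣ Nat.card G := by
  haveI := Fintype.ofFinite G
  obtain ⟨n, h1, h2, h3⟩ := IsIrrCharacter.apply_one_dvd_card ψ.2
  exact ⟨n, h1, Nat.pos_of_ne_zero h3, h2⟩

/-- A character `φ` which has the irreducible character `χ` as a constituent and whose
degree is at most that of `χ` equals `χ`. -/
theorem eq_of_constituent_of_degree_le [Fintype G] {φ χ : G → ℂ} (hφ : IsCharacter G φ)
    (hχ : IsIrrCharacter G χ) (hc : classInner φ χ ≠ 0) (hdeg : (φ 1).re ≤ (χ 1).re) :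
    φ = χ := by
  classical
  haveI : Finite (IrrCharacter G) := irrCharacter_finite
  haveI := Fintype.ofFinite (IrrCharacter G)
  obtain ⟨m, hm, hdec⟩ := IsCharacter.exists_mult hφ
  choose d hd hdpos _ using fun ψ : IrrCharacter G => irr_degree_nat ψ
  let χ₀ : IrrCharacter G := ⟨χ, hχ⟩
  have hmχ : m χ₀ ≠ 0 := by
    intro h0
    apply hc
    have := hm χ₀
    rw [h0] at this
    simpa using this
  have hφ1 : φ 1 = ((∑ ψ : IrrCharacter G, m ψ * d ψ : ℕ) : ℂ) := by
    conv_lhs => rw [hdec]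
    rw [Finset.sum_apply]
    push_cast
    refine Finset.sum_congr rfl fun ψ _ => ?_
    simp [hd ψ]
  have hχ1 : χ 1 = ((d χ₀ : ℕ) : ℂ) := hd χ₀
  have hle : ∑ ψ : IrrCharacter G, m ψ * d ψ ≤ d χ₀ := by
    rw [hφ1, hχ1] at hdeg
    simp only [Complex.natCast_re] at hdeg
    exact_mod_cast hdeg
  have hsplit : ∑ ψ : IrrCharacter G, m ψ * d ψ
      = m χ₀ * d χ₀ + ∑ ψ ∈ Finset.univ.erase χ₀, m ψ * d ψ :=
    (Finset.add_sum_erase _ _ (Finset.mem_univ χ₀)).symm
  have hm1 : 1 ≤ m χ₀ := Nat.one_le_iff_ne_zero.mpr hmχ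
  have hge : d χ₀ ≤ m χ₀ * d χ₀ := Nat.le_mul_of_pos_left _ hm1
  have hrest : ∑ ψ ∈ Finset.univ.erase χ₀, m ψ * d ψ = 0 := by omega
  have hmeq : m χ₀ * d χ₀ = d χ₀ := by omega
  have hm1' : m χ₀ = 1 := by
    have := hdpos χ₀
    exact Nat.eq_of_mul_eq_mul_right this (by simpa using hmeq)
  have hz : ∀ ψ : IrrCharacter G, ψ ≠ χ₀ → m ψ = 0 := by
    intro ψ hψ
    have h0 := (Finset.sum_eq_zero_iff.mp hrest) ψ (Finset.mem_erase.mpr ⟨hψ, Finset.mem_univ _⟩)
    rcases Nat.mul_eq_zero.mp h0 with h | h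
    · exact h
    · exact absurd h (Nat.pos_iff_ne_zero.mp (hdpos ψ))
  rw [hdec, Finset.sum_eq_single χ₀]
  · rw [hm1']; simp [χ₀]
  · intro ψ _ hψ
    rw [hz ψ hψ]; simp
  · intro h; exact absurd (Finset.mem_univ _) h

end Cfsg.Agent.Lib.Helper75
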