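import Cfsg.Agent.Lib.Helper4.LcDefs
import Cfsg.Agent.Lib.Helper7.LeechBasic

set_option autoImplicit false
open Matrix

namespace Cfsg.Agent.Lib.Helper4.Lc

open Cfsg.Agent.Lib.Golay.Cross48 (Hyp Qf bf)

variable {Λ : AddSubgroup V}

/-- An even vector of `Λ` has coordinate sum divisible by `8` (pair it with `u`). -/
theorem lcevsub_sum (h : Fr Λ) (u : V) (hu : u ∈ Λ) (hu4 : ∀ i, u i % 4 = 1) (v : V)
    (hv : v ∈ Λ) (hev : AllEven v) : (8 : ℤ) ∣ ∑ i, v i := by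
  have h8 := h.dot8 v hv u hu
  have h2 : (8 : ℤ) ∣ dot v u - ∑ i, v i := by
    unfold dot
    rw [← Finset.sum_sub_distrib]
    apply Finset.dvd_sum
    intro i _
    obtain ⟨a, ha⟩ := hev i
    have hui : u i = 4 * (u i / 4) + 1 := by have := hu4 i; omega
    rw [ha, hui]
    exact ⟨a * (u i / 4), by ring⟩
  have h3 := dvd_sub h8 h2
  simpa using h3

section norm
variable (e : Fin 24 ≃ Cfsg.GolayPt)

/-- LC-EVSUB -/
theorem even_sub (h : Fr Λ) (he : ∀ w : Cfsg.GolayPt → ZMod 2,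
      w ∈ Cfsg.golayCode ↔ (fun i => w (e i)) ∈ code Λ)
    (u : V) (hu : u ∈ Λ) (hu4 : ∀ i, u i % 4 = 1) (v : V) (hv : v ∈ Λ) (hev : AllEven v) :
    (fun p => v (e.symm p)) ∈ Cfsg.leechSet := by
  rw [Cfsg.Agent.Lib.Helper7.mem_leechSet_iff]
  refine ⟨0, ?_, ?_, ?_⟩
  · intro p
    exact (Int.modEq_zero_iff_dvd).2 (hev _)
  · rw [mul_zero, Int.modEq_zero_iff_dvd]
    have h1 := lcevsub_sum h u hu hu4 v hv hev
    have h2 : ∑ p, v (e.symm p) = ∑ i, v i := Equiv.sum_comp e.symm v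
    rw [h2]
    exact h1
  · rw [he, mem_code]
    refine ⟨fun i => v i / 2, ?_, ?_⟩
    · have h1 : dbl (fun i => v i / 2) = v := by
        funext i
        obtain ⟨a, ha⟩ := hev i
        simp [ha]
      rw [h1]
      exact hv
    · funext i
      simp [Cfsg.Agent.Lib.Helper7.halfWord]

end norm

end Cfsg.Agent.Lib.Helper4.Lc
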