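import Cfsg.Agent.Lib.Helper4.LcDefs
import Cfsg.Agent.Lib.Helper7.LeechBasic
import Cfsg.Agent.Lib.Helper75.LcEVSUB

set_option autoImplicit false
open Matrix

namespace Cfsg.Agent.Lib.Helper4.Lc

open Cfsg.Agent.Lib.Golay.Cross48 (Hyp Qf bf)

variable {Λ : AddSubgroup V}

/-- Own copy of the base fact `fr_M`: `4 y ∈ Λ` as soon as the coordinate sum of `y` is even. -/
theorem lcevsup_frM (h : Fr Λ) (y : V) (hy : (2 : ℤ) ∣ ∑ i, y i) :
    (fun i => 4 * y i : V) ∈ Λ := by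
  obtain ⟨t, ht⟩ := hy
  have hmem : ∀ i : Fin 24, (Pi.single i 4 - Pi.single 0 4 : V) ∈ Λ := by
    intro i
    by_cases hi : i = 0
    · subst hi
      rw [sub_self]
      exact Λ.zero_mem
    · have h1 := Λ.sub_mem (h.e44 i 0 hi) (h.e8 0)
      have h2 : (Pi.single i 4 + Pi.single 0 4 - Pi.single 0 8 : V)
          = Pi.single i 4 - Pi.single 0 4 := by
        funext k
        simp only [Pi.add_apply, Pi.sub_apply, Pi.single_apply]
        split_ifs <;> ring
      rw [h2] at h1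
      exact h1
  have key : (fun i => 4 * y i : V)
      = ∑ i, y i • (Pi.single i 4 - Pi.single 0 4 : V) + t • (Pi.single 0 8 : V) := by
    funext k
    simp only [Pi.add_apply, Finset.sum_apply, Pi.smul_apply, Pi.sub_apply, smul_eq_mul,
      Pi.single_apply, mul_sub, Finset.sum_sub_distrib]
    have h1 : ∑ i : Fin 24, y i * (if k = i then (4 : ℤ) else 0) = 4 * y k := by
      rw [Finset.sum_eq_single k]
      · simp; ring
      · intro b _ hb; simp [Ne.symm hb]
      · intro hk; exact absurd (Finset.mem_univ k) hk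
    rw [h1]
    by_cases hk : k = 0
    · simp only [hk, if_true]
      rw [← Finset.sum_mul, ht]
      ring
    · simp only [hk, if_false, mul_zero, Finset.sum_const_zero, sub_zero, add_zero]
  rw [key]
  refine Λ.add_mem (Λ.sum_mem ?_) (Λ.zsmul_mem (h.e8 0) t)
  intro i _
  exact Λ.zsmul_mem (hmem i) (y i)

section norm
variable (e : Fin 24 ≃ Cfsg.GolayPt)

/-- LC-EVSUP -/
theorem even_sup (h : Fr Λ) (he : ∀ w : Cfsg.GolayPt → ZMod 2,
      w ∈ Cfsg.golayCode ↔ (fun i => w (e i)) ∈ code Λ)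
    (u : V) (hu : u ∈ Λ) (hu4 : ∀ i, u i % 4 = 1) (w : Cfsg.GolayPt → ℤ) (hw : w ∈ Cfsg.leechSet)
    (hev : ∀ p, (2 : ℤ) ∣ w p) : (fun i => w (e i) : V) ∈ Λ := by
  obtain ⟨m, hm1, hm2, hm3⟩ := (Cfsg.Agent.Lib.Helper7.mem_leechSet_iff w).1 hw
  -- `m` is even
  have hmev : (2 : ℤ) ∣ m := by
    have h1 := hm1 (e 0)
    have h2 := hev (e 0)
    unfold Int.ModEq at h1
    omega
  -- the word of the halves of `w` lies in the Golay code
  have hc0 : (fun p => (((w p / 2 : ℤ)) : ZMod 2)) ∈ Cfsg.golayCode := by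
    have h1 : (fun p => (((w p / 2 : ℤ)) : ZMod 2))
        = Cfsg.Agent.Lib.Helper7.halfWord w m + (((m / 2 : ℤ)) : ZMod 2) • (1 : Cfsg.GolayPt → ZMod 2) := by
      funext p
      simp only [Cfsg.Agent.Lib.Helper7.halfWord, Pi.add_apply, Pi.smul_apply, Pi.one_apply,
        smul_eq_mul, mul_one]
      rw [← Int.cast_add]
      congr 1
      obtain ⟨a, ha⟩ := hev p
      obtain ⟨b, hb⟩ := hmev
      rw [ha, hb]
      omega
    rw [h1]
    exact Submodule.add_mem _ hm3
      (Submodule.smul_mem _ _ Cfsg.Agent.Lib.Helper7.one_mem_golayCode)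
  rw [he, mem_code] at hc0
  obtain ⟨a, ha1, ha2⟩ := hc0
  -- x = w ∘ e ; x - 2a = 4 y
  have hdiv : ∀ i, (4 : ℤ) ∣ w (e i) - 2 * a i := by
    intro i
    have h1 := congrFun ha2 i
    simp only [red_apply] at h1
    have h2 : ((a i - w (e i) / 2 : ℤ) : ZMod 2) = 0 := by
      rw [Int.cast_sub, h1, sub_self]
    rw [ZMod.intCast_zmod_eq_zero_iff_dvd] at h2
    obtain ⟨c, hc⟩ := hev (e i)
    rw [hc] at h2 ⊢
    have h3 : (2 * c / 2 : ℤ) = c := by omega
    rw [h3] at h2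
    obtain ⟨d, hd⟩ := h2
    exact ⟨-d, by push_cast at hd; linarith⟩
  set y : V := fun i => (w (e i) - 2 * a i) / 4 with hy
  have hy4 : ∀ i, 4 * y i = w (e i) - 2 * a i := by
    intro i
    obtain ⟨d, hd⟩ := hdiv i
    simp only [hy, hd]
    omega
  -- sum condition
  have hsa : (8 : ℤ) ∣ ∑ i, dbl a i := by
    apply lcevsub_sum h u hu hu4 (dbl a) ha1
    intro i
    exact ⟨a i, by simp⟩
  have hsw : ∑ i, w (e i) = ∑ p, w p := Equiv.sum_comp e w
  have hsy : (2 : ℤ) ∣ ∑ i, y i := by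
    have h1 : 4 * ∑ i, y i = ∑ i, w (e i) - ∑ i, dbl a i := by
      rw [Finset.mul_sum, ← Finset.sum_sub_distrib]
      exact Finset.sum_congr rfl (fun i _ => by rw [hy4 i]; simp)
    rw [hsw] at h1
    obtain ⟨b, hb⟩ := hmev
    obtain ⟨s, hs⟩ := hsa
    unfold Int.ModEq at hm2
    omega
  have h4y := lcevsup_frM h y hsy
  have hfin : (fun i => w (e i) : V) = dbl a + (fun i => 4 * y i : V) := by
    funext i
    simp only [Pi.add_apply, dbl_apply, hy4 i]
    ring
  rw [hfin]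
  exact Λ.add_mem ha1 h4y

end norm

end Cfsg.Agent.Lib.Helper4.Lc
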