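import Cfsg.Agent.Lib.Helper4.LcDefs
import Cfsg.Agent.Lib.Helper7.LeechBasic

set_option autoImplicit false
open Matrix

namespace Cfsg.Agent.Lib.Helper4.Lc

open Cfsg.Agent.Lib.Golay.Cross48 (Hyp Qf bf)

variable {Λ : AddSubgroup V}

/-- With all `u i = 1 + 4 k i` and `16 ∣ sq u`, the coordinate sum of `u` is `4` modulo `8`. -/
theorem lcumem_sum (h : Fr Λ) (u : V) (hu : u ∈ Λ) (hu4 : ∀ i, u i % 4 = 1) :
    ∑ i, u i ≡ 4 [ZMOD 8] := by
  have h16 := h.sq16 u hu
  -- write u i = 4 * k i + 1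
  set k : V := fun i => u i / 4 with hk
  have hui : ∀ i, u i = 4 * k i + 1 := by
    intro i
    have := hu4 i
    simp only [hk]
    omega
  have hsq : sq u = 16 * (∑ i, k i ^ 2) + 8 * (∑ i, k i) + 24 := by
    unfold sq
    have : ∀ i, u i ^ 2 = 16 * k i ^ 2 + 8 * k i + 1 := by
      intro i; rw [hui i]; ring
    simp only [this, Finset.sum_add_distrib, ← Finset.mul_sum]
    simp
  have hsum : ∑ i, u i = 4 * (∑ i, k i) + 24 := by
    have : ∀ i, u i = 4 * k i + 1 := hui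
    calc ∑ i, u i = ∑ i, (4 * k i + 1) := Finset.sum_congr rfl (fun i _ => this i)
      _ = 4 * (∑ i, k i) + 24 := by
        rw [Finset.sum_add_distrib, ← Finset.mul_sum]; simp
  rw [hsq] at h16
  rw [hsum]
  unfold Int.ModEq
  omega

section norm
variable (e : Fin 24 ≃ Cfsg.GolayPt)

/-- LC-UMEM -/
theorem u_mem (h : Fr Λ) (u : V) (hu : u ∈ Λ) (hu4 : ∀ i, u i % 4 = 1) :
    (fun p => u (e.symm p)) ∈ Cfsg.leechSet := by
  rw [Cfsg.Agent.Lib.Helper7.mem_leechSet_iff]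
  refine ⟨1, ?_, ?_, ?_⟩
  · intro p
    have := hu4 (e.symm p)
    unfold Int.ModEq
    omega
  · have h1 := lcumem_sum h u hu hu4
    have h2 : ∑ p, u (e.symm p) = ∑ i, u i := Equiv.sum_comp e.symm u
    rw [h2, mul_one]
    exact h1
  · have h0 : Cfsg.Agent.Lib.Helper7.halfWord (fun p => u (e.symm p)) 1 = 0 := by
      funext p
      simp only [Cfsg.Agent.Lib.Helper7.halfWord, Pi.zero_apply]
      rw [ZMod.intCast_zmod_eq_zero_iff_dvd]
      have := hu4 (e.symm p)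
      omega
    rw [h0]
    exact Submodule.zero_mem _

end norm

end Cfsg.Agent.Lib.Helper4.Lc
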