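import Mathlib
import Cfsg.Agent.Lib.Helper41.SpBNDefs

/-! S2545 SpBN hive (helper41), leaf INJ (helper75). -/

set_option autoImplicit false

namespace Cfsg.Agent.Lib.Helper41.SpBN

open Matrix Cfsg Cfsg.Agent.Lib.Helper13

variable {F : Type*} [Field F] {m : ℕ}

/-- a monomial matrix in `B` has trivial permutation -/
theorem inj_perm_eq_one {g : SpG F m} (hg : g ∈ Bsp F m) {π : Equiv.Perm (Idx m)} {d : Idx m → F}
    (h : IsMono g.1 π d) : π = 1 := by
  have hd : ∀ s, d s ≠ 0 := fun s => h.ne_zero g.2 s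
  obtain ⟨hsymp, -⟩ := h.symp g.2
  rw [mem_Bsp_iff] at hg
  have h1 : ∀ j : Fin m, ∃ i : Fin m, π (Sum.inl j) = Sum.inl i ∧ (i : ℕ) ≤ (j : ℕ) := by
    intro j
    have hne : g.1 (π (Sum.inl j)) (Sum.inl j) ≠ 0 := by
      rw [h _ _, if_pos rfl]; exact hd _
    rcases hp : π (Sum.inl j) with i | i
    · refine ⟨i, rfl, ?_⟩
      by_contra hlt
      push Not at hlt
      rw [hp] at hne
      exact hne (hg.1 i j hlt)
    · rw [hp] at hne
      exact absurd (hg.2 i j) hne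
  have h2 : ∀ n : ℕ, ∀ j : Fin m, (j : ℕ) = n → π (Sum.inl j) = Sum.inl j := by
    intro n
    induction n using Nat.strong_induction_on with
    | _ n ih =>
      intro j hj
      obtain ⟨i, hi, hle⟩ := h1 j
      rcases Nat.lt_or_ge (i : ℕ) (j : ℕ) with hlt | hge
      · have h3 := ih i (by omega) i rfl
        have h4 : π (Sum.inl i) = π (Sum.inl j) := by rw [h3, hi]
        have h5 := Sum.inl.inj (π.injective h4)
        subst h5
        omega
      · have h3 : i = j := Fin.ext (by omega)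
        rw [hi, h3]
  ext s
  rcases s with j | j
  · rw [h2 _ j rfl, Equiv.Perm.one_apply]
  · have h3 := hsymp (Sum.inl j)
    rw [Sum.swap_inl, h2 _ j rfl, Sum.swap_inl] at h3
    rw [h3, Equiv.Perm.one_apply]

/-- LEAF INJ: `s⁻¹ s'` is monomial with permutation `σ⁻¹ σ'`, it lies in `B ∩ N = spTorus`, so `σ⁻¹ σ' = 1`
(`IsMono.unique`), so the two matrices `monoMat σ 1`, `monoMat σ' 1` agree. -/
theorem S_inj : ∀ s ∈ Ssp F m, ∀ s' ∈ Ssp F m, s⁻¹ * s' ∈ Bsp F m → s = s' := by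
  rintro s ⟨σ, hσ, hs⟩ s' ⟨σ', hσ', hs'⟩ hB
  have hmono : IsMono s.1 σ (monoCoeff σ 1) := by rw [hs]; exact monoMat_isMono σ 1
  have hmono' : IsMono s'.1 σ' (monoCoeff σ' 1) := by rw [hs']; exact monoMat_isMono σ' 1
  have h3 := isMono_mul (isMono_inv s hmono) hmono'
  have h4 : σ.symm * σ' = 1 := inj_perm_eq_one hB h3
  have h5 : σ = σ' := by
    rw [← Equiv.Perm.inv_def] at h4
    exact inv_mul_eq_one.1 h4
  subst h5
  exact Subtype.ext (hs.trans hs'.symm)

end Cfsg.Agent.Lib.Helper41.SpBN
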