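import Mathlib
import Cfsg.Prelude.Def_GeometricClasses
import Cfsg.Agent.Lib.Helper44.UfDefs
import Cfsg.Agent.Lib.Helper5.SUCard
import Cfsg.Agent.Lib.Helper38.SLCard

set_option autoImplicit false
set_option linter.unusedVariables false
open scoped MatrixGroups
open Matrix

/-! S5982 Uf hive (helper44), leaf UF-IDX (helper75). -/

namespace Cfsg.Agent.Lib.Helper44.Uf

universe v

variable {F : Type v} [Field F]

/-- the factors of `|GU_n(q₀)|` -/
def idx_a (q₀ i : ℕ) : ℕ := if Even i then q₀ ^ (i + 1) + 1 else q₀ ^ (i + 1) - 1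

/-- the complementary factors -/
def idx_b (q₀ i : ℕ) : ℕ := if Even i then q₀ ^ (i + 1) - 1 else q₀ ^ (i + 1) + 1

theorem idx_ab (q₀ i : ℕ) (hq : 1 ≤ q₀) :
    idx_a q₀ i * idx_b q₀ i = (q₀ ^ 2) ^ (i + 1) - 1 := by
  have hx : 1 ≤ q₀ ^ (i + 1) := Nat.one_le_pow _ _ hq
  have e : (q₀ ^ 2) ^ (i + 1) = q₀ ^ (i + 1) * q₀ ^ (i + 1) := by ring
  rw [e]
  unfold idx_a idx_b
  generalize q₀ ^ (i + 1) = x at hx
  obtain ⟨y, rfl⟩ : ∃ y, x = y + 1 := ⟨x - 1, by omega⟩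
  split_ifs
  · rw [Nat.add_sub_cancel]
    apply Nat.eq_sub_of_add_eq
    ring
  · rw [Nat.add_sub_cancel]
    apply Nat.eq_sub_of_add_eq
    ring

theorem idx_a_pos (q₀ i : ℕ) (hq : 2 ≤ q₀) : 0 < idx_a q₀ i := by
  have hx : 2 ≤ q₀ ^ (i + 1) := by
    calc 2 ≤ q₀ := hq
      _ = q₀ ^ 1 := (pow_one _).symm
      _ ≤ q₀ ^ (i + 1) := Nat.pow_le_pow_right (by omega) (by omega)
  unfold idx_a
  split_ifs <;> omega

theorem idx_card_GL [Fintype F] (n : ℕ) :
    Nat.card (GL (Fin n) F) = (Fintype.card F) ^ (n * (n - 1) / 2) *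
      ∏ i ∈ Finset.range n, ((Fintype.card F) ^ (i + 1) - 1) := by
  rw [Matrix.card_GL_field,
    Fin.prod_univ_eq_prod_range (fun i => Fintype.card F ^ n - Fintype.card F ^ i) n]
  set q := Fintype.card F
  have hfac : ∀ i ∈ Finset.range n, q ^ n - q ^ i = q ^ i * (q ^ (n - 1 - i + 1) - 1) := by
    intro i hi
    rw [Finset.mem_range] at hi
    have : n = i + (n - 1 - i + 1) := by omega
    conv_lhs => rw [this, pow_add]
    rw [Nat.mul_sub, mul_one]
  rw [Finset.prod_congr rfl hfac, Finset.prod_mul_distrib, Finset.prod_pow_eq_pow_sum,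
    Finset.sum_range_id, Finset.prod_range_reflect (fun j => q ^ (j + 1) - 1) n]

theorem idx_card_specialLinear [Fintype F] (n : ℕ) :
    Nat.card (Cfsg.Geo.specialLinear (Fin n) F) = Nat.card (Matrix.SpecialLinearGroup (Fin n) F) := by
  symm
  apply Nat.card_congr
  refine Equiv.ofBijective (fun A => ⟨Matrix.SpecialLinearGroup.toGL A, ?_⟩) ⟨?_, ?_⟩
  · change Matrix.GeneralLinearGroup.det (Matrix.SpecialLinearGroup.toGL A) = 1
    apply Units.ext
    simp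
  · intro A B hAB
    exact Matrix.SpecialLinearGroup.toGL_injective (congrArg Subtype.val hAB)
  · rintro ⟨g, hg⟩
    have hdet : (g : Matrix (Fin n) (Fin n) F).det = 1 := by
      have := congrArg Units.val (MonoidHom.mem_ker.1 hg)
      simpa using this
    refine ⟨⟨(g : Matrix (Fin n) (Fin n) F), hdet⟩, ?_⟩
    apply Subtype.ext
    apply Units.ext
    rfl

theorem idx_card_inf [Fintype F] (n q₀ : ℕ) :
    Nat.card (Cfsg.GU n F q₀ ⊓ Cfsg.Geo.specialLinear (Fin n) F : Subgroup (GL (Fin n) F)) =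
      Nat.card (Cfsg.SU n F q₀) := by
  rw [← Nat.card_congr (Cfsg.Agent.Lib.Helper5.kerDetGUEquiv n F q₀)]
  have e1 : (Cfsg.Agent.Lib.Helper5.detGU n F q₀).ker =
      (Cfsg.GU n F q₀ ⊓ Cfsg.Geo.specialLinear (Fin n) F).subgroupOf (Cfsg.GU n F q₀) := by
    rw [Subgroup.inf_subgroupOf_left]
    rfl
  rw [e1]
  exact (Nat.card_congr (Subgroup.subgroupOfEquivOfLe inf_le_left).toEquiv).symm

/-- UF-IDX : (`GU ⊓ SL ≤ HS ⊓ SL`, `Cfsg.Agent.Lib.Helper5.card_GU`, `card_SU`,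
`Cfsg.Agent.Lib.Helper38.card_SL_mul`, `Matrix.card_GL_field`; the quotient `|SL_n(q₀²)| / |SU_n(q₀)|` is
`q₀^(n(n-1)/2) ∏_{j=2}^{n} (q₀^j + (-1)^j)`) -/
theorem exists_pow_eq_neg_one_of_dvd_relIndex [Fintype F] {n q₀ : ℕ} (hF : Fintype.card F = q₀ ^ 2)
    (hn : 3 ≤ n) (r : ℕ) [Fact r.Prime] (hr2 : r ≠ 2) (hrq : ¬ r ∣ q₀)
    (hΩ : r ∣ (HS n F q₀).relIndex (Cfsg.Geo.specialLinear (Fin n) F)) :
    ∃ j, 2 ≤ j ∧ j ≤ n ∧ (-(q₀ : ZMod r)) ^ j = -1 := by
  have hr : r.Prime := Fact.out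
  have hq2 : 2 ≤ q₀ := by
    by_contra hlt
    have h1 : 1 < Fintype.card F := Fintype.one_lt_card
    rw [hF] at h1
    interval_cases q₀ <;> simp at h1
  have hle : Cfsg.GU n F q₀ ≤ HS n F q₀ := fun g hg =>
    ⟨1, fun u v => by rw [Units.val_one, one_mul]; exact hg u v⟩
  have hdvd : r ∣ (Cfsg.GU n F q₀).relIndex (Cfsg.Geo.specialLinear (Fin n) F) :=
    dvd_trans hΩ (Subgroup.relIndex_dvd_of_le_left _ hle)
  set idx := (Cfsg.GU n F q₀).relIndex (Cfsg.Geo.specialLinear (Fin n) F) with hidx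
  -- `|GU ⊓ SL| * idx = |SL|`
  have h1 : Nat.card (Cfsg.SU n F q₀) * idx = Nat.card (Matrix.SpecialLinearGroup (Fin n) F) := by
    have := Subgroup.relIndex_mul_relIndex ⊥
      (Cfsg.GU n F q₀ ⊓ Cfsg.Geo.specialLinear (Fin n) F) (Cfsg.Geo.specialLinear (Fin n) F)
      bot_le inf_le_right
    rw [Subgroup.relIndex_bot_left, Subgroup.relIndex_bot_left, Subgroup.inf_relIndex_right,
      idx_card_inf, idx_card_specialLinear] at this
    exact this
  have h2 := Cfsg.Agent.Lib.Helper5.card_SU hF n (by omega)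
  have h3 := Cfsg.Agent.Lib.Helper38.card_SL_mul (F := F) n (by omega)
  have h4 := idx_card_GL (F := F) n
  have h5 := Cfsg.Agent.Lib.Helper5.card_GU hF n
  rw [hF] at h3 h4
  set N := n * (n - 1) / 2 with hN
  set PA := ∏ i ∈ Finset.range n, idx_a q₀ i with hPA
  set PB := ∏ i ∈ Finset.range n, idx_b q₀ i with hPB
  have h5' : Nat.card (Cfsg.GU n F q₀) = q₀ ^ N * PA := h5
  have h4' : Nat.card (GL (Fin n) F) = q₀ ^ N * q₀ ^ N * (PA * PB) := by
    rw [h4, hPA, hPB, ← Finset.prod_mul_distrib, ← pow_mul, ← pow_add, ← two_mul]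
    congr 1
    exact Finset.prod_congr rfl (fun i _ => (idx_ab q₀ i (by omega)).symm)
  have hq21 : q₀ ^ 2 - 1 = (q₀ + 1) * (q₀ - 1) := by
    obtain ⟨y, rfl⟩ : ∃ y, q₀ = y + 1 := ⟨q₀ - 1, by omega⟩
    rw [Nat.add_sub_cancel]
    symm
    apply Nat.eq_sub_of_add_eq
    ring
  have hPApos : 0 < PA := Finset.prod_pos (fun i _ => idx_a_pos q₀ i hq2)
  have hqNpos : 0 < q₀ ^ N := pow_pos (by omega) _
  -- the key identity
  have key : idx * (q₀ - 1) = q₀ ^ N * PB := by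
    have hpos : 0 < q₀ ^ N * PA := by positivity
    apply Nat.eq_of_mul_eq_mul_left hpos
    calc q₀ ^ N * PA * (idx * (q₀ - 1))
        = ((q₀ + 1) * Nat.card (Cfsg.SU n F q₀)) * idx * (q₀ - 1) := by
          rw [h2, h5']; ring
      _ = (Nat.card (Cfsg.SU n F q₀) * idx) * ((q₀ + 1) * (q₀ - 1)) := by ring
      _ = Nat.card (GL (Fin n) F) := by rw [h1, ← hq21, h3]
      _ = q₀ ^ N * PA * (q₀ ^ N * PB) := by
          rw [h4']; ring
  -- split off the factor `i = 0` of `PB`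
  obtain ⟨m, rfl⟩ : ∃ m, n = m + 1 := ⟨n - 1, by omega⟩
  have hPB' : PB = (∏ i ∈ Finset.range m, idx_b q₀ (i + 1)) * (q₀ - 1) := by
    rw [hPB, Finset.prod_range_succ']
    congr 1
    simp [idx_b]
  rw [hPB', ← mul_assoc] at key
  have key' : idx = q₀ ^ N * ∏ i ∈ Finset.range m, idx_b q₀ (i + 1) :=
    Nat.eq_of_mul_eq_mul_right (by omega : 0 < q₀ - 1) key
  rw [key'] at hdvd
  rcases (Nat.Prime.dvd_mul hr).1 hdvd with h | h
  · exact absurd (hr.dvd_of_dvd_pow h) hrq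
  · obtain ⟨i, hi, hd⟩ := (Prime.dvd_finsetProd_iff hr.prime _).1 h
    rw [Finset.mem_range] at hi
    refine ⟨i + 1 + 1, by omega, by omega, ?_⟩
    unfold idx_b at hd
    split_ifs at hd with hev
    · have h0 : ((q₀ ^ (i + 1 + 1) - 1 : ℕ) : ZMod r) = 0 := (ZMod.natCast_eq_zero_iff _ _).2 hd
      rw [Nat.cast_sub (Nat.one_le_pow _ _ (by omega))] at h0
      push_cast at h0
      have hodd : Odd (i + 1 + 1) := hev.add_one
      rw [neg_pow, hodd.neg_one_pow]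
      linear_combination -h0
    · have h0 : ((q₀ ^ (i + 1 + 1) + 1 : ℕ) : ZMod r) = 0 := (ZMod.natCast_eq_zero_iff _ _).2 hd
      push_cast at h0
      have hev' : Even (i + 1 + 1) := by
        rw [Nat.even_add_one]; exact hev
      rw [hev'.neg_pow]
      linear_combination h0

end Cfsg.Agent.Lib.Helper44.Uf
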