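import Mathlib
import Cfsg.Agent.Lib.Helper90.RtR7CCNT
import Cfsg.Agent.Lib.Helper25.RtR7CCYC

set_option autoImplicit false

namespace Cfsg.Agent.Lib.Helper12.Rt

open Polynomial Module

/-- `p ∣ q ^ k - 1 ↔ q ^ k = 1` in `ZMod p` -/
theorem r7norm_dvd_iff (p q k : ℕ) (hq : 0 < q) :
    p ∣ q ^ k - 1 ↔ ((q : ZMod p)) ^ k = 1 := by
  have h1 : 1 ≤ q ^ k := Nat.one_le_pow _ _ hq
  rw [← ZMod.natCast_eq_zero_iff, Nat.cast_sub h1, Nat.cast_pow, Nat.cast_one, sub_eq_zero]

/-- the arithmetic: `q` has order `6` modulo `p` -/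
theorem r7norm_arith (p q : ℕ) (hq : 0 < q) (hp6 : p ∣ q ^ 6 - 1)
    (hpq : ∀ k : ℕ, 1 ≤ k → k < 6 → ¬ p ∣ q ^ k - 1) (a b : ℕ) (hab : b ≤ a)
    (h : q ^ a ≡ q ^ b [MOD p]) : 6 ∣ a - b := by
  have hu6 : ((q : ZMod p)) ^ 6 = 1 := (r7norm_dvd_iff p q 6 hq).mp hp6
  have hord : orderOf (q : ZMod p) = 6 := by
    rw [orderOf_eq_iff (by norm_num)]
    refine ⟨hu6, fun m hm hm0 h1 => ?_⟩
    exact hpq m hm0 hm ((r7norm_dvd_iff p q m hq).mpr h1)
  have hunit : IsUnit (q : ZMod p) := IsUnit.of_pow_eq_one hu6 (by norm_num)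
  have h2 : ((q : ZMod p)) ^ a = (q : ZMod p) ^ b := by
    have := (ZMod.natCast_eq_natCast_iff _ _ _).mpr h
    simpa using this
  obtain ⟨d, rfl⟩ := Nat.exists_eq_add_of_le hab
  rw [pow_add] at h2
  have h3 : ((q : ZMod p)) ^ d = 1 := by
    have hub : IsUnit ((q : ZMod p) ^ b) := hunit.pow b
    exact hub.mul_left_cancel (by rw [h2, mul_one])
  rw [Nat.add_sub_cancel_left, ← hord]
  exact orderOf_dvd_of_pow_eq_one h3

section

variable {K : Type*} [Field K] [Fintype K] {W : Type*} [AddCommGroup W] [Module K W]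
  [Module.Finite K W]

/-- the counting lemma on an invariant subspace -/
theorem r7norm_cnt (p : ℕ) (hp : p.Prime) (X : Module.End K W) (hXp : X ^ p = 1)
    (N : Submodule K W) (hN : ∀ v ∈ N, X v ∈ N) :
    Fintype.card K ^ finrank K N ≡
      Fintype.card K ^ finrank K ↥(N ⊓ LinearMap.ker (X - 1)) [MOD p] := by
  have hS : (X.restrict hN) ^ p = 1 := by
    rw [Module.End.pow_restrict p hN]
    apply LinearMap.ext
    intro v
    apply Subtype.ext
    rw [LinearMap.coe_restrict_apply, hXp]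
    rfl
  have key := r7cent_card_modEq p hp (X.restrict hN) hS
  have hmap : (LinearMap.ker (X.restrict hN - 1)).map N.subtype = N ⊓ LinearMap.ker (X - 1) := by
    ext w
    simp only [Submodule.mem_map, LinearMap.mem_ker, LinearMap.sub_apply, Module.End.one_apply,
      Submodule.subtype_apply, Submodule.mem_inf]
    constructor
    · rintro ⟨v, hv, rfl⟩
      refine ⟨v.2, ?_⟩
      have := congrArg Subtype.val hv
      simpa using this
    · rintro ⟨hw, hw2⟩
      refine ⟨⟨w, hw⟩, ?_, rfl⟩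
      apply Subtype.ext
      simpa using hw2
  rw [← hmap, Submodule.finrank_map_subtype_eq]
  exact key

end

end Cfsg.Agent.Lib.Helper12.Rt
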