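import Mathlib
import Cfsg.Agent.Lib.Helper90.RtR7CCNT
import Cfsg.Agent.Lib.Helper25.RtR7CCYC
import Cfsg.Agent.Lib.Helper75.RtR7NORMa

set_option autoImplicit false

namespace Cfsg.Agent.Lib.Helper12.Rt

open Polynomial Module
open scoped IsMulCommutative

section

variable {K : Type*} [Field K] [Fintype K] {W : Type*} [AddCommGroup W] [Module K W]
  [Module.Finite K W]

/-- structure of `W` under `X`: `L = ker (X - 1)` is a line, `M = range (X - 1)` a complement -/
theorem r7norm_struct (hW : finrank K W = 7) (p : ℕ) (hp : p.Prime)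
    (hp6 : p ∣ Fintype.card K ^ 6 - 1)
    (hpq : ∀ k : ℕ, 1 ≤ k → k < 6 → ¬ p ∣ Fintype.card K ^ k - 1)
    (X : Module.End K W) (hXp : X ^ p = 1)
    (hXinj : ∀ a b : ℕ, X ^ a = X ^ b → a ≡ b [MOD p]) :
    finrank K (LinearMap.range (X - 1)) = 6 ∧
      LinearMap.range (X - 1) ⊓ LinearMap.ker (X - 1) = ⊥ ∧
      LinearMap.ker (X - 1) ⊔ LinearMap.range (X - 1) = ⊤ := by
  classical
  have hq0 : 0 < Fintype.card K := Fintype.card_pos
  have hdim : finrank K (LinearMap.range (X - 1)) + finrank K (LinearMap.ker (X - 1)) = 7 := by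
    rw [← hW]; exact LinearMap.finrank_range_add_finrank_ker (X - 1)
  have hcntW := r7cent_card_modEq p hp X hXp
  rw [hW] at hcntW
  have hL7 : finrank K (LinearMap.ker (X - 1)) ≤ 7 := by omega
  have h6L := r7norm_arith p _ hq0 hp6 hpq 7 _ hL7 hcntW
  have hLne7 : finrank K (LinearMap.ker (X - 1)) ≠ 7 := by
    intro h7
    have htop : LinearMap.ker (X - 1) = ⊤ := Submodule.eq_top_of_finrank_eq (by rw [h7, hW])
    have hX1 : X = 1 := by
      have : X - 1 = 0 := LinearMap.ker_eq_top.mp htop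
      exact sub_eq_zero.mp this
    have h1 := hXinj 1 0 (by rw [pow_one, pow_zero, hX1])
    have h2 : p ∣ 1 := (Nat.modEq_zero_iff_dvd.mp h1)
    exact hp.one_lt.ne' (Nat.dvd_one.mp h2)
  have hL1 : finrank K (LinearMap.ker (X - 1)) = 1 := by omega
  have hM6 : finrank K (LinearMap.range (X - 1)) = 6 := by omega
  have hXM : ∀ v ∈ LinearMap.range (X - 1), X v ∈ LinearMap.range (X - 1) := by
    rintro _ ⟨w, rfl⟩
    refine ⟨X w, ?_⟩
    simp [LinearMap.sub_apply, map_sub]
  have hcntM := r7norm_cnt p hp X hXp _ hXM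
  rw [hM6] at hcntM
  have hML1 : finrank K ↥(LinearMap.range (X - 1) ⊓ LinearMap.ker (X - 1)) ≤ 1 := by
    rw [← hL1]; exact Submodule.finrank_mono inf_le_right
  have h6ML := r7norm_arith p _ hq0 hp6 hpq 6 _ (by omega) hcntM
  have hML0 : finrank K ↥(LinearMap.range (X - 1) ⊓ LinearMap.ker (X - 1)) = 0 := by omega
  have hMLbot : LinearMap.range (X - 1) ⊓ LinearMap.ker (X - 1) = ⊥ :=
    Submodule.finrank_eq_zero.mp hML0
  refine ⟨hM6, hMLbot, ?_⟩
  apply Submodule.eq_top_of_finrank_eq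
  have := Submodule.finrank_sup_add_finrank_inf_eq (LinearMap.ker (X - 1)) (LinearMap.range (X - 1))
  rw [inf_comm, hMLbot, finrank_bot] at this
  omega

end

end Cfsg.Agent.Lib.Helper12.Rt
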