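import Mathlib
import Cfsg.Agent.Lib.Helper90.RtR7CCNT
import Cfsg.Agent.Lib.Helper25.RtR7CCYC
import Cfsg.Agent.Lib.Helper75.RtR7NORMa
import Cfsg.Agent.Lib.Helper75.RtR7NORMb

set_option autoImplicit false

namespace Cfsg.Agent.Lib.Helper12.Rt

open Polynomial Module
open scoped IsMulCommutative

section

variable {K : Type*} [Field K] [Fintype K]

/-- root counting in the commutative domain `K[S]`, `S` with no invariant subspaces -/
theorem r7norm_roots {V : Type*} [AddCommGroup V] [Module K V] [Module.Finite K V]
    (hV : finrank K V = 6) (S T : Module.End K V)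
    (hsimple : ∀ N : Submodule K V, (∀ v ∈ N, S v ∈ N) → N = ⊥ ∨ N = ⊤)
    (hTsurj : Function.Surjective T) (j : ℕ) (hTS : T * S = S ^ j * T)
    (hdist : ∀ a b : ℕ, a < 6 → b < 6 →
      S ^ (Fintype.card K ^ a) = S ^ (Fintype.card K ^ b) → a = b) :
    ∃ i : ℕ, S ^ j = S ^ (Fintype.card K ^ i) := by
  classical
  have hq0 : 0 < Fintype.card K := Fintype.card_pos
  have hfmonic : (LinearMap.charpoly S).Monic := LinearMap.charpoly_monic S
  have hfdeg : (LinearMap.charpoly S).natDegree = 6 := by
    rw [LinearMap.charpoly_natDegree, hV]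
  have hfS : aeval S (LinearMap.charpoly S) = 0 := LinearMap.aeval_self_charpoly S
  have hfrob : ∀ r : Module.End K V, aeval r (LinearMap.charpoly S) = 0 →
      aeval (r ^ Fintype.card K) (LinearMap.charpoly S) = 0 := by
    intro r hr
    rw [← expand_aeval, FiniteField.expand_card, map_pow, hr, zero_pow hq0.ne']
  have hroots : ∀ i : ℕ, aeval (S ^ (Fintype.card K ^ i)) (LinearMap.charpoly S) = 0 := by
    intro i
    induction i with
    | zero => simpa using hfS
    | succ i ih => rw [pow_succ, pow_mul]; exact hfrob _ ih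
  have hsemi : ∀ g : K[X], T * aeval S g = aeval (S ^ j) g * T := by
    intro g
    induction g using Polynomial.induction_on' with
    | add g1 g2 h1 h2 => rw [map_add, map_add, mul_add, add_mul, h1, h2]
    | monomial n c =>
      rw [aeval_monomial, aeval_monomial]
      have h1 : T * S ^ n = (S ^ j) ^ n * T := by
        induction n with
        | zero => simp
        | succ n ih => rw [pow_succ, ← mul_assoc, ih, mul_assoc, hTS, ← mul_assoc, ← pow_succ]
      rw [← mul_assoc, ← Algebra.commutes, mul_assoc, h1, mul_assoc]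
  have hfj : aeval (S ^ j) (LinearMap.charpoly S) = 0 := by
    apply LinearMap.ext
    intro w
    obtain ⟨v, rfl⟩ := hTsurj w
    have h1 := congrArg (fun A : Module.End K V => A v) (hsemi (LinearMap.charpoly S))
    simp only [Module.End.mul_apply, hfS, LinearMap.zero_apply, map_zero] at h1
    rw [← h1, LinearMap.zero_apply]
  -- the commutative domain `D = K[S]`
  have hVnt : Nontrivial V := Module.nontrivial_of_finrank_pos (R := K) (by rw [hV]; norm_num)
  let D := Algebra.adjoin K ({S} : Set (Module.End K V))
  let sD : D := ⟨S, Algebra.self_mem_adjoin_singleton K S⟩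
  have hDcomm : ∀ a : D, a.1 * S = S * a.1 := by
    intro a
    have h1 : a * sD = sD * a := mul_comm a sD
    exact congrArg Subtype.val h1
  have hnzd : NoZeroDivisors D := ⟨by
    intro a b hab
    by_contra hne
    push Not at hne
    obtain ⟨hane, hbne⟩ := hne
    have hb1 : b.1 ≠ 0 := fun h => hbne (Subtype.ext h)
    obtain ⟨v, hv⟩ : ∃ v, b.1 v ≠ 0 := by
      by_contra hall
      push Not at hall
      exact hb1 (LinearMap.ext hall)
    apply hane
    apply Subtype.ext
    apply r7ccyc_ker S hsimple a.1 (hDcomm a) (b.1 v) hv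
    have h1 : (a * b).1 = 0 := by rw [hab]; rfl
    have h2 : (a * b).1 = a.1 * b.1 := rfl
    rw [h2] at h1
    have h3 := congrArg (fun A : Module.End K V => A v) h1
    simpa [Module.End.mul_apply] using h3⟩
  have hdom : IsDomain D := NoZeroDivisors.to_isDomain D
  let fD : D[X] := (LinearMap.charpoly S).map (algebraMap K D)
  have hfD0 : fD ≠ 0 := (hfmonic.map _).ne_zero
  have hfDdeg : fD.natDegree = 6 := by rw [hfmonic.natDegree_map, hfdeg]
  have hpowD : ∀ k : ℕ, ((sD ^ k : D) : Module.End K V) = S ^ k := fun k => rfl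
  have hrootD : ∀ k : ℕ, aeval (S ^ k) (LinearMap.charpoly S) = 0 → sD ^ k ∈ fD.roots := by
    intro k hk
    rw [mem_roots hfD0, IsRoot.def, eval_map_algebraMap]
    apply Subtype.ext
    rw [aeval_subalgebra_coe, hpowD, hk]
    rfl
  by_contra hno
  push Not at hno
  let s : Finset D := (Finset.range 6).image (fun i => sD ^ (Fintype.card K ^ i))
  have hscard : s.card = 6 := by
    rw [Finset.card_image_of_injOn, Finset.card_range]
    intro a ha b hb hab
    have ha' : a < 6 := Finset.mem_range.mp ha
    have hb' : b < 6 := Finset.mem_range.mp hb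
    apply hdist a b ha' hb'
    have h1 := congrArg Subtype.val hab
    simpa [hpowD] using h1
  have hjs : sD ^ j ∉ s := by
    intro hmem
    obtain ⟨i, _, hi⟩ := Finset.mem_image.mp hmem
    have h1 : S ^ (Fintype.card K ^ i) = S ^ j := congrArg Subtype.val hi
    exact hno i h1.symm
  have hsub : insert (sD ^ j) s ⊆ fD.roots.toFinset := by
    intro a ha
    rw [Multiset.mem_toFinset]
    rcases Finset.mem_insert.mp ha with rfl | ha
    · exact hrootD j hfj
    · obtain ⟨i, _, rfl⟩ := Finset.mem_image.mp ha
      exact hrootD _ (hroots i)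
  have h7 : (insert (sD ^ j) s).card = 7 := by rw [Finset.card_insert_of_notMem hjs, hscard]
  have h1 := Finset.card_le_card hsub
  have h2 := Multiset.toFinset_card_le fD.roots
  have h3 := card_roots' fD
  omega

end

end Cfsg.Agent.Lib.Helper12.Rt
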