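import Mathlib
import Cfsg.Agent.Lib.Helper90.RtR7CCNT
import Cfsg.Agent.Lib.Helper25.RtR7CCYC
import Cfsg.Agent.Lib.Helper75.RtR7NORMa
import Cfsg.Agent.Lib.Helper75.RtR7NORMb
import Cfsg.Agent.Lib.Helper75.RtR7NORMc

set_option autoImplicit false

namespace Cfsg.Agent.Lib.Helper12.Rt

open Polynomial Module

section

variable {K : Type*} [Field K] [Fintype K] {W : Type*} [AddCommGroup W] [Module K W]
  [Module.Finite K W]

/-- the linear algebra core of RT-R7NORM -/
theorem r7norm_la (hW : finrank K W = 7) (p : ℕ) (hp : p.Prime)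
    (hp6 : p ∣ Fintype.card K ^ 6 - 1)
    (hpq : ∀ k : ℕ, 1 ≤ k → k < 6 → ¬ p ∣ Fintype.card K ^ k - 1)
    (X ν ν' : Module.End K W) (hXp : X ^ p = 1)
    (hXinj : ∀ a b : ℕ, X ^ a = X ^ b → a ≡ b [MOD p])
    (hν : ν' * ν = 1) (j : ℕ) (hconj : ν * X = X ^ j * ν) :
    ∃ i : ℕ, X ^ j = X ^ (Fintype.card K ^ i) := by
  classical
  have hq0 : 0 < Fintype.card K := Fintype.card_pos
  obtain ⟨hM6, hMLbot, hsup⟩ := r7norm_struct hW p hp hp6 hpq X hXp hXinj
  have hXM : ∀ v ∈ LinearMap.range (X - 1), X v ∈ LinearMap.range (X - 1) := by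
    rintro _ ⟨w, rfl⟩
    refine ⟨X w, ?_⟩
    simp [LinearMap.sub_apply, map_sub]
  have hSpow : ∀ a : ℕ, ∀ m : LinearMap.range (X - 1),
      (((X.restrict hXM) ^ a) m : W) = (X ^ a) m := by
    intro a m
    rw [Module.End.pow_restrict a hXM, LinearMap.coe_restrict_apply]
  have hLfix : ∀ a : ℕ, ∀ l ∈ LinearMap.ker (X - 1), (X ^ a) l = l := by
    intro a l hl
    have h1 : X l = l := by
      have h0 : (X - 1) l = 0 := hl
      rw [LinearMap.sub_apply, Module.End.one_apply, sub_eq_zero] at h0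
      exact h0
    rw [Module.End.pow_apply]
    exact Function.iterate_fixed h1 a
  have hext : ∀ a b : ℕ, (X.restrict hXM) ^ a = (X.restrict hXM) ^ b → X ^ a = X ^ b := by
    intro a b hab
    apply LinearMap.ext
    intro w
    have hw : w ∈ LinearMap.ker (X - 1) ⊔ LinearMap.range (X - 1) := by rw [hsup]; trivial
    obtain ⟨l, hl, m, hm, rfl⟩ := Submodule.mem_sup.mp hw
    rw [map_add, map_add, hLfix a l hl, hLfix b l hl]
    congr 1
    have h1 := hSpow a ⟨m, hm⟩
    have h2 := hSpow b ⟨m, hm⟩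
    rw [hab] at h1
    rw [← h1, h2]
  have hsimple : ∀ N : Submodule K (LinearMap.range (X - 1)),
      (∀ v ∈ N, (X.restrict hXM) v ∈ N) → N = ⊥ ∨ N = ⊤ := by
    intro N hN
    have hN' : ∀ v ∈ N.map (LinearMap.range (X - 1)).subtype,
        X v ∈ N.map (LinearMap.range (X - 1)).subtype := by
      rintro _ ⟨m, hm, rfl⟩
      exact ⟨(X.restrict hXM) m, hN m hm, rfl⟩
    have hcnt := r7norm_cnt p hp X hXp (N.map (LinearMap.range (X - 1)).subtype) hN'
    have hle : N.map (LinearMap.range (X - 1)).subtype ⊓ LinearMap.ker (X - 1) ≤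
        LinearMap.range (X - 1) ⊓ LinearMap.ker (X - 1) :=
      inf_le_inf_right _ (Submodule.map_subtype_le _ N)
    rw [hMLbot, le_bot_iff] at hle
    rw [hle, finrank_bot, Submodule.finrank_map_subtype_eq] at hcnt
    have h6 := r7norm_arith p _ hq0 hp6 hpq (finrank K N) 0 (Nat.zero_le _) hcnt
    have hN6 : finrank K N ≤ 6 := by rw [← hM6]; exact Submodule.finrank_le N
    rcases (by omega : finrank K N = 0 ∨ finrank K N = 6) with h0 | h6'
    · left; exact Submodule.finrank_eq_zero.mp h0
    · right; exact Submodule.eq_top_of_finrank_eq (by rw [h6', hM6])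
  have hνM : ∀ v ∈ LinearMap.range (X - 1), ν v ∈ LinearMap.range (X - 1) := by
    rintro _ ⟨w, rfl⟩
    refine ⟨(∑ i ∈ Finset.range j, X ^ i) (ν w), ?_⟩
    have h1 : (X - 1) * ∑ i ∈ Finset.range j, X ^ i = X ^ j - 1 := mul_geom_sum X j
    have h2 : ν ((X - 1) w) = (X ^ j - 1) (ν w) := by
      have h3 := congrArg (fun A : Module.End K W => A w) hconj
      simp only [Module.End.mul_apply] at h3
      rw [LinearMap.sub_apply, LinearMap.sub_apply, Module.End.one_apply, Module.End.one_apply,
        map_sub, h3]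
    rw [h2, ← h1, Module.End.mul_apply]
  have hν' : ∀ w, ν' (ν w) = w := fun w => by
    have h1 := congrArg (fun A : Module.End K W => A w) hν
    simpa [Module.End.mul_apply] using h1
  have hTS : ν.restrict hνM * X.restrict hXM = (X.restrict hXM) ^ j * ν.restrict hνM := by
    apply LinearMap.ext
    intro m
    apply Subtype.ext
    rw [Module.End.mul_apply, Module.End.mul_apply, hSpow]
    have h1 := congrArg (fun A : Module.End K W => A (m : W)) hconj
    simp only [Module.End.mul_apply] at h1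
    exact h1
  have hTinj : Function.Injective (ν.restrict hνM) := by
    intro a b hab
    apply Subtype.ext
    have h1 : ν (a : W) = ν (b : W) := congrArg Subtype.val hab
    have h2 := congrArg ν' h1
    rwa [hν', hν'] at h2
  have hTsurj : Function.Surjective (ν.restrict hνM) :=
    LinearMap.injective_iff_surjective.mp hTinj
  have hdist : ∀ a b : ℕ, a < 6 → b < 6 →
      (X.restrict hXM) ^ (Fintype.card K ^ a) = (X.restrict hXM) ^ (Fintype.card K ^ b) →
      a = b := by
    intro a b ha hb hab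
    have h1 := hXinj _ _ (hext _ _ hab)
    rcases le_total a b with hle | hle
    · have := r7norm_arith p _ hq0 hp6 hpq b a hle h1.symm
      omega
    · have := r7norm_arith p _ hq0 hp6 hpq a b hle h1
      omega
  obtain ⟨i, hi⟩ := r7norm_roots hM6 (X.restrict hXM) (ν.restrict hνM) hsimple hTsurj j hTS hdist
  exact ⟨i, hext _ _ hi⟩

end

end Cfsg.Agent.Lib.Helper12.Rt
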