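import Mathlib

/-! # Rt hive (helper12), leaf RT-R7NORM (helper75): group-theoretic part -/

set_option autoImplicit false

namespace Cfsg.Agent.Lib.Helper12.Rt


theorem r7norm_conj_pow {G : Type*} [Group G] (n x : G) (e : ℕ) (h : n * x * n⁻¹ = x ^ e) (k : ℕ) :
    n ^ k * x * (n ^ k)⁻¹ = x ^ (e ^ k) := by
  induction k with
  | zero => simp
  | succ k ih =>
    have h1 : n ^ (k + 1) * x * (n ^ (k + 1))⁻¹ = n * (n ^ k * x * (n ^ k)⁻¹) * n⁻¹ := by
      rw [pow_succ']; group
    rw [h1, ih, ← conj_pow, h, ← pow_mul, pow_succ']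

theorem r7norm_pow6 {G : Type*} [Group G] [Finite G] (x : G) (p : ℕ) (hx : orderOf x = p) (q : ℕ)
    (hq6 : q ^ 6 ≡ 1 [MOD p]) (n : G)
    (hn : n ∈ Subgroup.normalizer ((Subgroup.zpowers x : Subgroup G) : Set G))
    (hj : ∀ j : ℕ, n * x * n⁻¹ = x ^ j → ∃ i : ℕ, x ^ j = x ^ (q ^ i)) :
    n ^ 6 * x = x * n ^ 6 := by
  have h1 : n * x * n⁻¹ ∈ Subgroup.zpowers x :=
    (Subgroup.mem_normalizer_iff.mp hn x).mp (Subgroup.mem_zpowers x)
  have h2 : n * x * n⁻¹ ∈ Submonoid.powers x :=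
    (mem_powers_iff_mem_zpowers).mpr h1
  obtain ⟨j, hj''⟩ := h2
  have hj' : x ^ j = n * x * n⁻¹ := hj''
  obtain ⟨i, hi⟩ := hj j hj'.symm
  have h3 : n * x * n⁻¹ = x ^ (q ^ i) := by rw [← hi, hj']
  have h4 := r7norm_conj_pow n x (q ^ i) h3 6
  have h5 : (q ^ i) ^ 6 ≡ 1 [MOD p] := by
    rw [← pow_mul, mul_comm, pow_mul]
    simpa using hq6.pow i
  have h6 : x ^ ((q ^ i) ^ 6) = x ^ 1 := by
    rw [pow_eq_pow_iff_modEq, hx]
    exact h5
  rw [h6, pow_one] at h4
  calc n ^ 6 * x = (n ^ 6 * x * (n ^ 6)⁻¹) * n ^ 6 := by group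
    _ = x * n ^ 6 := by rw [h4]



/-- group-theoretic end: if `n ^ 6` centralises `x` for every `n ∈ N(⟨x⟩)`, `x` of prime order,
then `|N(⟨x⟩)|` divides `6 |C(x)|` -/
theorem r7norm_card_of_pow {G : Type*} [Group G] [Finite G] (x : G) (p : ℕ) (hp : p.Prime)
    (hx : orderOf x = p)
    (h6 : ∀ n ∈ Subgroup.normalizer ((Subgroup.zpowers x : Subgroup G) : Set G),
      n ^ 6 * x = x * n ^ 6) :
    Nat.card ↥(Subgroup.normalizer ((Subgroup.zpowers x : Subgroup G) : Set G)) ∣
      6 * Nat.card ↥(Subgroup.centralizer ({x} : Set G)) := by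
  classical
  set H : Subgroup G := Subgroup.zpowers x with hH
  set N : Subgroup G := Subgroup.normalizer (H : Set G) with hN
  have hcent : Subgroup.centralizer (H : Set G) = Subgroup.centralizer ({x} : Set G) := by
    rw [hH, Subgroup.zpowers_eq_closure, Subgroup.centralizer_closure]
  have hcardH : Nat.card H = p := by rw [hH, Nat.card_zpowers, hx]
  have hprime : Fact (Nat.card H).Prime := ⟨by rw [hcardH]; exact hp⟩
  have hcycH : IsCyclic H := by rw [hH]; infer_instance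
  have hcycA : IsCyclic (MulAut H) :=
    isCyclic_of_surjective (IsCyclic.mulAutMulEquiv H).symm (IsCyclic.mulAutMulEquiv H).symm.surjective
  let ψ : N →* MulAut H := H.normalizerMonoidHom
  have hker : ψ.ker = (Subgroup.centralizer (H : Set G)).subgroupOf N := H.normalizerMonoidHom_ker
  have hle : Subgroup.centralizer (H : Set G) ≤ N := Subgroup.centralizer_le_normalizer _
  have hcardker : Nat.card ψ.ker = Nat.card ↥(Subgroup.centralizer ({x} : Set G)) := by
    rw [hker, ← hcent]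
    exact Nat.card_congr (Subgroup.subgroupOfEquivOfLe hle).toEquiv
  have hcycR : IsCyclic ψ.range := inferInstance
  have hexp : Nat.card ψ.range ∣ 6 := by
    rw [← IsCyclic.exponent_eq_card]
    apply Monoid.exponent_dvd_of_forall_pow_eq_one
    rintro ⟨_, ⟨n, rfl⟩⟩
    apply Subtype.ext
    rw [Subgroup.coe_pow, Subgroup.coe_one, ← map_pow, ← MonoidHom.mem_ker, hker,
      Subgroup.mem_subgroupOf, hcent, Subgroup.mem_centralizer_iff]
    intro y hy
    rw [Set.mem_singleton_iff] at hy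
    subst hy
    have := h6 n.1 n.2
    rw [Subgroup.coe_pow]
    exact this.symm
  have h1 : Nat.card ψ.ker * ψ.ker.index = Nat.card N := Subgroup.card_mul_index ψ.ker
  rw [Subgroup.index_ker, hcardker] at h1
  rw [← h1, mul_comm]
  exact Nat.mul_dvd_mul_right hexp _

end Cfsg.Agent.Lib.Helper12.Rt
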