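import Mathlib
import Cfsg.Agent.Lib.Helper75.RtR7NORMd
import Cfsg.Agent.Lib.Helper75.RtR7NORMg

/-! # Rt hive (helper12, S2359/S1156/S2358), leaf RT-R7NORM (helper75): `r7_norm`,
exact skeleton name and statement (tools/helper12/RtSkel.lean.txt).

Route: `N(⟨x⟩)/C(x)` embeds in the cyclic group `MulAut ⟨x⟩`, so it suffices that `n ^ 6` centralises
`x` for `n ∈ N(⟨x⟩)`.  If `n x n⁻¹ = x ^ j`, then on `M = range (ρ x - 1)` (6-dimensional, no
`x`-invariant subspaces by the counting lemma R7C-CNT) the commutative domain `K[x|M]` contains the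
seven roots `x^j, x^(q^i)` (`i < 6`) of the characteristic polynomial of `x|M` (degree 6), the last six
being distinct; so `x^j = x^(q^i)` on `M`, hence on `W = ker (ρ x - 1) ⊕ M`, and `j^6 ≡ 1 mod p`. -/

set_option autoImplicit false

namespace Cfsg.Agent.Lib.Helper12.Rt

theorem r7_norm {K : Type*} [Field K] [Fintype K] {W : Type*} [AddCommGroup W] [Module K W]
    (hW : Module.finrank K W = 7) {G : Type*} [Group G] [Finite G]
    (ρ : G →* Module.End K W) (hρ : Function.Injective ρ)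
    (p : ℕ) (hp : p.Prime) (hpK : ¬ p ∣ Fintype.card K) (hp6 : p ∣ Fintype.card K ^ 6 - 1)
    (hpq : ∀ k : ℕ, 1 ≤ k → k < 6 → ¬ p ∣ Fintype.card K ^ k - 1)
    (x : G) (hx : orderOf x = p) :
    Nat.card ↥(Subgroup.normalizer ((Subgroup.zpowers x : Subgroup G) : Set G)) ∣
      6 * Nat.card ↥(Subgroup.centralizer ({x} : Set G)) := by
  have hfin : Module.Finite K W := Module.finite_of_finrank_pos (by rw [hW]; norm_num)
  have hq0 : 0 < Fintype.card K := Fintype.card_pos
  have hq6 : Fintype.card K ^ 6 ≡ 1 [MOD p] :=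
    ((Nat.modEq_iff_dvd' (Nat.one_le_pow _ _ hq0)).mpr hp6).symm
  apply r7norm_card_of_pow x p hp hx
  intro n hn
  apply r7norm_pow6 x p hx (Fintype.card K) hq6 n hn
  intro j hj
  have hXp : (ρ x) ^ p = 1 := by rw [← map_pow, ← hx, pow_orderOf_eq_one, map_one]
  have hXinj : ∀ a b : ℕ, (ρ x) ^ a = (ρ x) ^ b → a ≡ b [MOD p] := by
    intro a b hab
    rw [← map_pow, ← map_pow] at hab
    have h1 := hρ hab
    rw [pow_eq_pow_iff_modEq, hx] at h1
    exact h1
  have hν : ρ n⁻¹ * ρ n = 1 := by rw [← map_mul, inv_mul_cancel, map_one]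
  have hconj : ρ n * ρ x = (ρ x) ^ j * ρ n := by
    rw [← map_pow, ← map_mul, ← map_mul, ← hj]
    congr 1
    group
  obtain ⟨i, hi⟩ := r7norm_la hW p hp hp6 hpq (ρ x) (ρ n) (ρ n⁻¹) hXp hXinj hν j hconj
  refine ⟨i, hρ ?_⟩
  rw [map_pow, map_pow]
  exact hi

end Cfsg.Agent.Lib.Helper12.Rt
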