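import Cfsg.Agent.Lib.Helper50.Burnside
import Cfsg.Agent.Lib.Helper77.PPow
import Cfsg.Agent.Lib.Helper11.Repl

/-!
# The centralizer of an involution in a group with Klein four Sylow 2-subgroups is 2-nilpotent
-/

set_option autoImplicit false

universe u

namespace Cfsg.Agent.Lib.Helper75

open Cfsg Cfsg.Agent.Lib.Helper77

variable {G : Type u} [Group G] [Finite G]

omit [Finite G] in
theorem comm_of_exp_two {P : Subgroup G} (hexp : ∀ u ∈ P, u * u = 1) {u v : G} (hu : u ∈ P)
    (hv : v ∈ P) : u * v = v * u := by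
  have h1 := hexp (u * v) (P.mul_mem hu hv)
  have hu1 := hexp u hu
  have hv1 := hexp v hv
  have hui : u⁻¹ = u := inv_eq_of_mul_eq_one_right hu1
  have hvi : v⁻¹ = v := inv_eq_of_mul_eq_one_right hv1
  have h2 : u * v = (u * v)⁻¹ := (inv_eq_of_mul_eq_one_right h1).symm
  rw [h2, mul_inv_rev, hui, hvi]

/-- In a subgroup `P` of order four and exponent two, an element `n` commuting with the
non-identity element `z` of `P` and mapping `P` into itself by conjugation has its square
centralizing `P`. -/
theorem sq_comm_of_klein (P : Subgroup G) (hP4 : Nat.card P = 4) (hexp : ∀ u ∈ P, u * u = 1)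
    {z : G} (hzP : z ∈ P) (hz1 : z ≠ 1) {n : G} (hnz : n * z = z * n)
    (hnP : ∀ u ∈ P, n * u * n⁻¹ ∈ P) : ∀ u ∈ P, (n * n) * u = u * (n * n) := by
  classical
  intro u hu
  have hnzc : n * z * n⁻¹ = z := by rw [hnz, mul_assoc, mul_inv_cancel, mul_one]
  by_cases hu1 : u = 1
  · rw [hu1, mul_one, one_mul]
  by_cases huz : u = z
  · rw [huz, mul_assoc, hnz, ← mul_assoc, hnz, mul_assoc]
  -- the four elements
  have hw : n * u * n⁻¹ ∈ P := hnP u hu
  have : Fintype P := Fintype.ofFinite P
  let T : Finset P := {⟨1, P.one_mem⟩, ⟨z, hzP⟩, ⟨u, hu⟩, ⟨u * z, P.mul_mem hu hzP⟩}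
  have hT : T.card = 4 := by
    have huz1 : u * z ≠ 1 := by
      intro h
      have : u = z⁻¹ := eq_inv_of_mul_eq_one_left h
      rw [inv_eq_of_mul_eq_one_right (hexp z hzP)] at this
      exact huz this
    have huzz : u * z ≠ z := by
      intro h
      exact hu1 (mul_right_cancel (h.trans (one_mul z).symm))
    have huzu : u * z ≠ u := by
      intro h
      exact hz1 (mul_left_cancel (h.trans (mul_one u).symm))
    rw [Finset.card_insert_of_notMem, Finset.card_insert_of_notMem, Finset.card_insert_of_notMem,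
      Finset.card_singleton]
    · simp only [Finset.mem_singleton, Subtype.mk.injEq]
      exact fun h => huzu h.symm
    · simp only [Finset.mem_insert, Finset.mem_singleton, Subtype.mk.injEq, not_or]
      exact ⟨fun h => huz h.symm, fun h => huzz h.symm⟩
    · simp only [Finset.mem_insert, Finset.mem_singleton, Subtype.mk.injEq, not_or]
      exact ⟨fun h => hz1 h.symm, fun h => hu1 h.symm, fun h => huz1 h.symm⟩
  have hTu : T = Finset.univ := by
    apply Finset.eq_univ_of_card
    rw [hT, ← Nat.card_eq_fintype_card, hP4]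
  have hwT : (⟨n * u * n⁻¹, hw⟩ : P) ∈ T := by rw [hTu]; exact Finset.mem_univ _
  simp only [T, Finset.mem_insert, Finset.mem_singleton, Subtype.mk.injEq] at hwT
  have hback : ∀ v : G, n * u * n⁻¹ = v → u = n⁻¹ * v * n := by
    intro v hv
    rw [← hv]
    group
  rcases hwT with h | h | h | h
  · exfalso
    apply hu1
    rw [hback 1 h]
    group
  · exfalso
    apply huz
    rw [hback z h]
    have : n⁻¹ * z * n = n⁻¹ * (n * z * n⁻¹) * n := by rw [hnzc]
    rw [this]
    group
  · -- n u n⁻¹ = u
    have h1 : n * u = u * n := by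
      have := congrArg (fun g => g * n) h
      simpa [mul_assoc] using this
    rw [mul_assoc, h1, ← mul_assoc, h1, mul_assoc]
  · -- n u n⁻¹ = u z
    have h1 : n * u = u * z * n := by
      have := congrArg (fun g => g * n) h
      simpa [mul_assoc] using this
    have hzz : z * z = 1 := hexp z hzP
    calc n * n * u = n * (n * u) := by rw [mul_assoc]
      _ = n * (u * z * n) := by rw [h1]
      _ = (n * u) * (z * n) := by simp only [mul_assoc]
      _ = (u * z * n) * (z * n) := by rw [h1]
      _ = u * z * (n * z) * n := by simp only [mul_assoc]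
      _ = u * z * (z * n) * n := by rw [hnz]
      _ = u * (z * z) * n * n := by simp only [mul_assoc]
      _ = u * (n * n) := by rw [hzz, mul_one, mul_assoc]

/-- In a group whose Sylow `2`-subgroup `P` has order four and exponent two, an element commuting
with an involution `z ∈ P` and normalizing `P` centralizes `P`. -/
theorem comm_of_klein_sylow (P : Sylow 2 G) (hP4 : Nat.card P = 4)
    (hexp : ∀ u ∈ (P : Subgroup G), u * u = 1)
    {z : G} (hzP : z ∈ (P : Subgroup G)) (hz1 : z ≠ 1) {n : G} (hnz : n * z = z * n)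
    (hnP : ∀ u ∈ (P : Subgroup G), n * u * n⁻¹ ∈ (P : Subgroup G)) :
    ∀ u ∈ (P : Subgroup G), n * u = u * n := by
  have hp : Nat.Prime 2 := Nat.prime_two
  obtain ⟨K, r, N, hcard, hpr, hrN, hN1⟩ := exists_ppart_exponent G 2 hp
  obtain ⟨y, hy1, hy2, ⟨k, hk⟩, hy4⟩ := isPPart_pow hp hcard hpr hrN hN1 n
  have hnN : n ∈ Subgroup.normalizer ((P : Subgroup G) : Set G) :=
    Cfsg.Agent.Lib.Helper11.mem_normalizer_of_conj_mem _ n hnP
  have hn2N : n ^ N ∈ Subgroup.normalizer ((P : Subgroup G) : Set G) := Subgroup.pow_mem _ hnN N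
  have hyeq : y = (n ^ N)⁻¹ * n := eq_inv_mul_of_mul_eq hy1
  have hyN : y ∈ Subgroup.normalizer ((P : Subgroup G) : Set G) := by
    rw [hyeq]
    exact Subgroup.mul_mem _ (Subgroup.inv_mem _ hn2N) hnN
  -- the 2-part lies in P
  have hn2P : n ^ N ∈ (P : Subgroup G) := by
    have hpg : IsPGroup 2 (Subgroup.zpowers (n ^ N)) := by
      apply IsPGroup.of_card (n := k)
      rw [Nat.card_zpowers, hk]
    have h1 := hpg.inf_normalizer_sylow P
    have h2 : n ^ N ∈ Subgroup.zpowers (n ^ N) ⊓ Subgroup.normalizer ((P : Subgroup G) : Set G) :=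
      ⟨Subgroup.mem_zpowers _, hn2N⟩
    have h3 : n ^ N ∈ Subgroup.zpowers (n ^ N) ⊓ (P : Subgroup G) := h1.le h2
    exact h3.2
  -- commutation with z
  have hczn : Commute n z := hnz
  have hczn2 : Commute (n ^ N) z := hczn.pow_left N
  have hczy : Commute y z := by
    rw [hyeq]
    exact (hczn2.inv_left).mul_left hczn
  have hyP : ∀ u ∈ (P : Subgroup G), y * u * y⁻¹ ∈ (P : Subgroup G) := by
    intro u hu
    exact (Subgroup.mem_normalizer_iff.mp hyN u).mp hu
  have hsq := sq_comm_of_klein (P : Subgroup G) hP4 hexp hzP hz1 hczy.eq hyP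
  intro u hu
  -- y commutes with u
  have hyu : Commute y u := by
    have hodd : ¬ 2 ∣ orderOf y := hy4
    have hodd' : Odd (orderOf y) := Nat.odd_iff.mpr (Nat.two_dvd_ne_zero.mp hodd)
    obtain ⟨m, hm⟩ := hodd'
    have h1 : y = (y * y) ^ (m + 1) := by
      rw [← pow_two, ← pow_mul]
      have : 2 * (m + 1) = orderOf y + 1 := by omega
      rw [this, pow_succ, pow_orderOf_eq_one, one_mul]
    rw [h1]
    exact (show Commute (y * y) u from hsq u hu).pow_left _
  have hn2u : Commute (n ^ N) u := comm_of_exp_two hexp hn2P hu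
  have : Commute n u := by
    rw [← hy1]
    exact hn2u.mul_left hyu
  exact this.eq

/-- The centralizer of an involution `z` lying in a Sylow `2`-subgroup of order four and exponent
two has a normal `2`-complement: its `2'`-core has index four. -/
theorem index_pPrimeCore_centralizer_klein (P : Sylow 2 G) (hP4 : Nat.card P = 4)
    (hexp : ∀ u ∈ (P : Subgroup G), u * u = 1)
    {z : G} (hzP : z ∈ (P : Subgroup G)) (hz1 : z ≠ 1) :
    (pPrimeCore 2 (Subgroup.centralizer ({z} : Set G))).index = 4 := by
  have : Fact (Nat.Prime 2) := ⟨Nat.prime_two⟩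
  have hPC : (P : Subgroup G) ≤ Subgroup.centralizer ({z} : Set G) := by
    intro u hu
    rw [Subgroup.mem_centralizer_singleton_iff]
    exact comm_of_exp_two hexp hu hzP
  let P' : Sylow 2 (Subgroup.centralizer ({z} : Set G)) := P.subtype hPC
  have hP' : (P' : Subgroup (Subgroup.centralizer ({z} : Set G))) =
      (P : Subgroup G).subgroupOf (Subgroup.centralizer ({z} : Set G)) := rfl
  have hNC : Subgroup.normalizer ((P' : Subgroup (Subgroup.centralizer ({z} : Set G))) :
      Set (Subgroup.centralizer ({z} : Set G))) ≤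
      Subgroup.centralizer ((P' : Subgroup (Subgroup.centralizer ({z} : Set G))) :
      Set (Subgroup.centralizer ({z} : Set G))) := by
    intro n hn
    rw [Subgroup.mem_centralizer_iff]
    intro u' hu'
    have hu'P : (u' : G) ∈ (P : Subgroup G) := by
      have : u' ∈ (P' : Subgroup (Subgroup.centralizer ({z} : Set G))) := hu'
      rw [hP', Subgroup.mem_subgroupOf] at this
      exact this
    have hnz : (n : G) * z = z * (n : G) := Subgroup.mem_centralizer_singleton_iff.mp n.2
    have hnP : ∀ u ∈ (P : Subgroup G), (n : G) * u * (n : G)⁻¹ ∈ (P : Subgroup G) := by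
      intro u hu
      have h1 : (⟨u, hPC hu⟩ : Subgroup.centralizer ({z} : Set G)) ∈
          (P' : Subgroup (Subgroup.centralizer ({z} : Set G))) := by
        rw [hP', Subgroup.mem_subgroupOf]
        exact hu
      have h2 := (Subgroup.mem_normalizer_iff.mp hn _).mp h1
      rw [hP', Subgroup.mem_subgroupOf] at h2
      exact h2
    have := comm_of_klein_sylow P hP4 hexp hzP hz1 hnz hnP (u' : G) hu'P
    apply Subtype.ext
    show (u' : G) * (n : G) = (n : G) * (u' : G)
    exact this.symm
  have hcompl := Cfsg.Agent.Lib.Helper50.pPrimeCore_isComplement' P' hNC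
  have h1 := hcompl.symm.index_eq_card
  rw [h1, hP']
  have e := Subgroup.subgroupOfEquivOfLe hPC
  rw [Nat.card_congr e.toEquiv, hP4]

end Cfsg.Agent.Lib.Helper75
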