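import Cfsg.Agent.Lib.Helper75.KleinBlock
import Cfsg.Agent.Lib.Helper16.Degree

/-!
# The principal 2-block for Klein four Sylow 2-subgroups with one class of involutions:
the four characters
-/

set_option autoImplicit false

universe u

namespace Cfsg.Agent.Lib.Helper75

open Cfsg Cfsg.Agent.Lib.Helper77 Cfsg.Agent.Lib.Helper81
open scoped ComplexConjugate

variable {G : Type u} [Group G] [Fintype G]

theorem int_eq_one_or_neg_one_of_sq {a : ℤ} (h : a ^ 2 = 1) : a = 1 ∨ a = -1 := by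
  have h4 : (a - 1) * (a + 1) = 0 := by ring_nf; rw [h]; ring
  rcases mul_eq_zero.mp h4 with h | h
  · left; omega
  · right; omega

open Classical in
/-- The principal `2`-block of a group with Klein four Sylow `2`-subgroups and a single class of
involutions consists of four characters, with values `1, 1, ε, -1` at an involution. -/
theorem KleinHyp.four_chars [Fintype (IrrCharacter G)] {M : Ideal AlgInt} (hM : IsPModular 2 M)
    {P : Sylow 2 G} (H : KleinHyp G P) {z : G} (hzP : z ∈ (P : Subgroup G)) (hz1 : z ≠ 1) :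
    ∃ ζ₂ ζ₃ ζ₄ : IrrCharacter G, ∃ ε : ℤ, (ε = 1 ∨ ε = -1) ∧ ζ₂ ≠ oneIrr G ∧ ζ₃ ≠ oneIrr G ∧
      ζ₄ ≠ oneIrr G ∧ ζ₂ ≠ ζ₃ ∧ ζ₂ ≠ ζ₄ ∧ ζ₃ ≠ ζ₄ ∧
      (∀ χ : IrrCharacter G, χ ∈ principalBlock M G ↔
        χ = oneIrr G ∨ χ = ζ₂ ∨ χ = ζ₃ ∨ χ = ζ₄) ∧
      (ζ₂ : G → ℂ) z = 1 ∧ (ζ₃ : G → ℂ) z = (ε : ℂ) ∧ (ζ₄ : G → ℂ) z = -1 := by
  haveI : Fact (Nat.Prime 2) := ⟨Nat.prime_two⟩
  have hMp : M.IsPrime := hM.2.1.isPrime
  have hzz : z * z = 1 := H.exp z hzP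
  have hz2 : orderOf z = 2 := orderOf_eq_two_of_sq hzz hz1
  have hint : ∀ χ : IrrCharacter G, ∃ a : ℤ, (χ : G → ℂ) z = (a : ℂ) := fun χ =>
    exists_int_of_sq_one (Cfsg.Agent.Lib.Helper3.IsIrrCharacter.isCharacter χ.2) hzz
  choose a ha using hint
  have hdeg : ∀ χ : IrrCharacter G, ∃ d : ℕ, 0 < d ∧ (χ : G → ℂ) 1 = (d : ℂ) := fun χ => by
    obtain ⟨d, h1, h2, -, -⟩ := Cfsg.Agent.Lib.Helper16.irr_degree_spec χ
    exact ⟨d, h1, h2⟩
  choose d hd0 hd using hdeg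
  set B := Finset.univ.filter (fun χ : IrrCharacter G => χ ∈ principalBlock M G) with hBdef
  have h1B : oneIrr G ∈ B :=
    Finset.mem_filter.mpr ⟨Finset.mem_univ _, oneIrr_mem_principalBlock hMp⟩
  have ha1 : a (oneIrr G) = 1 := by
    have h := ha (oneIrr G)
    rw [oneIrr_apply] at h
    exact_mod_cast h.symm
  have hd1 : d (oneIrr G) = 1 := by
    have h := hd (oneIrr G)
    rw [oneIrr_apply] at h
    exact_mod_cast h.symm
  have hne : ∀ χ ∈ B, a χ ≠ 0 := by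
    intro χ hχ h0
    have h1 := principalBlock_apply_ne_zero hM P (H.le_centralizer hzP) χ (Finset.mem_filter.mp hχ).2
    apply h1
    rw [ha χ, h0, Int.cast_zero]
  have hsq : ∑ χ ∈ B, (a χ) ^ 2 = 4 := by
    have h1 := H.sum_sq hM hzP hz1
    have h2 : ∀ χ ∈ B, (χ : G → ℂ) z * conj ((χ : G → ℂ) z) = (((a χ) ^ 2 : ℤ) : ℂ) := by
      intro χ _
      rw [ha χ, map_intCast]
      push_cast
      ring
    rw [Finset.sum_congr rfl h2, ← Int.cast_sum] at h1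
    exact_mod_cast h1
  set S := B.erase (oneIrr G) with hSdef
  have hS3 : ∑ χ ∈ S, (a χ) ^ 2 = 3 := by
    have h := Finset.add_sum_erase B (fun χ => (a χ) ^ 2) h1B
    rw [hsq, ha1] at h
    linarith
  have hSne : ∀ χ ∈ S, a χ ≠ 0 := fun χ hχ => hne χ (Finset.mem_of_mem_erase hχ)
  have hSsq : ∀ χ ∈ S, (a χ) ^ 2 = 1 := by
    intro χ hχ
    have h1 : (a χ) ^ 2 ≤ 3 := by
      rw [← hS3]
      exact Finset.single_le_sum (f := fun χ => (a χ) ^ 2) (fun i _ => sq_nonneg _) hχ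
    have h2 := hSne χ hχ
    obtain ⟨v, hv⟩ : ∃ v : ℤ, v = a χ := ⟨_, rfl⟩
    rw [← hv] at h1 h2 ⊢
    have h3 : -1 ≤ v := by nlinarith
    have h4 : v ≤ 1 := by nlinarith
    interval_cases v
    · norm_num
    · exact absurd rfl h2
    · norm_num
  have hSpm : ∀ χ ∈ S, a χ = 1 ∨ a χ = -1 := fun χ hχ =>
    int_eq_one_or_neg_one_of_sq (hSsq χ hχ)
  have hcard : S.card = 3 := by
    have h : ∑ χ ∈ S, (a χ) ^ 2 = ∑ χ ∈ S, (1 : ℤ) := Finset.sum_congr rfl hSsq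
    rw [hS3, Finset.sum_const, nsmul_eq_mul, mul_one] at h
    exact_mod_cast h.symm
  -- weak block orthogonality
  have hwbo : ∑ χ ∈ B, (d χ : ℤ) * a χ = 0 := by
    have h1 := Cfsg.Agent.Lib.Helper16.weak_block_orthogonality_finset hM (oneIrr G)
      (x := (1 : G)) (y := z) (by rw [orderOf_one]; norm_num) (by rw [hz2])
    have h2 : ∀ χ ∈ B, (χ : G → ℂ) 1 * conj ((χ : G → ℂ) z) = (((d χ : ℤ) * a χ : ℤ) : ℂ) := by
      intro χ _
      rw [ha χ, hd χ, map_intCast]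
      push_cast
      ring
    have h3 : ∑ χ ∈ B, (χ : G → ℂ) 1 * conj ((χ : G → ℂ) z) = 0 := h1
    rw [Finset.sum_congr rfl h2, ← Int.cast_sum] at h3
    exact_mod_cast h3
  have hSwbo : 1 + ∑ χ ∈ S, (d χ : ℤ) * a χ = 0 := by
    have h := Finset.add_sum_erase B (fun χ => (d χ : ℤ) * a χ) h1B
    rw [hwbo, ha1, hd1] at h
    simpa using h
  have hdS : (3 : ℤ) ≤ ∑ χ ∈ S, (d χ : ℤ) := by
    calc (3 : ℤ) = ∑ χ ∈ S, (1 : ℤ) := by
          rw [Finset.sum_const, nsmul_eq_mul, mul_one, hcard]; norm_num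
      _ ≤ ∑ χ ∈ S, (d χ : ℤ) := Finset.sum_le_sum fun χ _ => by exact_mod_cast hd0 χ
  have hex1 : ∃ ζ ∈ S, a ζ = 1 := by
    by_contra hcon
    have hall : ∀ χ ∈ S, a χ = -1 := by
      intro χ hχ
      rcases hSpm χ hχ with h | h
      · exact absurd ⟨χ, hχ, h⟩ hcon
      · exact h
    have h1 : ∑ χ ∈ S, (d χ : ℤ) * a χ = - ∑ χ ∈ S, (d χ : ℤ) := by
      rw [← Finset.sum_neg_distrib]
      refine Finset.sum_congr rfl fun χ hχ => ?_
      rw [hall χ hχ]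
      ring
    rw [h1] at hSwbo
    linarith
  have hexm1 : ∃ ζ ∈ S, a ζ = -1 := by
    by_contra hcon
    have hall : ∀ χ ∈ S, a χ = 1 := by
      intro χ hχ
      rcases hSpm χ hχ with h | h
      · exact h
      · exact absurd ⟨χ, hχ, h⟩ hcon
    have h1 : ∑ χ ∈ S, (d χ : ℤ) * a χ = ∑ χ ∈ S, (d χ : ℤ) := by
      refine Finset.sum_congr rfl fun χ hχ => ?_
      rw [hall χ hχ]
      ring
    rw [h1] at hSwbo
    linarith
  obtain ⟨ζ₂, hζ₂S, hζ₂⟩ := hex1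
  obtain ⟨ζ₄, hζ₄S, hζ₄⟩ := hexm1
  have h24 : ζ₂ ≠ ζ₄ := by
    rintro rfl
    rw [hζ₂] at hζ₄
    norm_num at hζ₄
  have hζ₄S' : ζ₄ ∈ S.erase ζ₂ := Finset.mem_erase.mpr ⟨h24.symm, hζ₄S⟩
  have hcard' : ((S.erase ζ₂).erase ζ₄).card = 1 := by
    rw [Finset.card_erase_of_mem hζ₄S', Finset.card_erase_of_mem hζ₂S, hcard]
  obtain ⟨ζ₃, hζ₃⟩ := Finset.card_eq_one.mp hcard'
  have hζ₃mem : ζ₃ ∈ (S.erase ζ₂).erase ζ₄ := by rw [hζ₃]; exact Finset.mem_singleton_self _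
  have h34 : ζ₃ ≠ ζ₄ := (Finset.mem_erase.mp hζ₃mem).1
  have h32 : ζ₃ ≠ ζ₂ := (Finset.mem_erase.mp (Finset.mem_erase.mp hζ₃mem).2).1
  have hζ₃S : ζ₃ ∈ S := (Finset.mem_erase.mp (Finset.mem_erase.mp hζ₃mem).2).2
  have hSmem : ∀ χ : IrrCharacter G, χ ∈ S ↔ χ = ζ₂ ∨ χ = ζ₃ ∨ χ = ζ₄ := by
    intro χ
    constructor
    · intro hχ
      by_cases h2 : χ = ζ₂
      · exact Or.inl h2
      by_cases h4 : χ = ζ₄
      · exact Or.inr (Or.inr h4)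
      have : χ ∈ (S.erase ζ₂).erase ζ₄ :=
        Finset.mem_erase.mpr ⟨h4, Finset.mem_erase.mpr ⟨h2, hχ⟩⟩
      rw [hζ₃, Finset.mem_singleton] at this
      exact Or.inr (Or.inl this)
    · rintro (h | h | h)
      · rw [h]; exact hζ₂S
      · rw [h]; exact hζ₃S
      · rw [h]; exact hζ₄S
  have hSone : ∀ χ ∈ S, χ ≠ oneIrr G := fun χ hχ => (Finset.mem_erase.mp hχ).1
  refine ⟨ζ₂, ζ₃, ζ₄, a ζ₃, hSpm ζ₃ hζ₃S, hSone ζ₂ hζ₂S, hSone ζ₃ hζ₃S, hSone ζ₄ hζ₄S,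
    h32.symm, h24, h34, ?_, ?_, ha ζ₃, ?_⟩
  · intro χ
    constructor
    · intro hχ
      by_cases h1 : χ = oneIrr G
      · exact Or.inl h1
      · right
        apply (hSmem χ).mp
        exact Finset.mem_erase.mpr ⟨h1, Finset.mem_filter.mpr ⟨Finset.mem_univ _, hχ⟩⟩
    · rintro (h | h)
      · rw [h]; exact oneIrr_mem_principalBlock hMp
      · have := (hSmem χ).mpr h
        exact (Finset.mem_filter.mp (Finset.mem_of_mem_erase this)).2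
  · rw [ha ζ₂, hζ₂, Int.cast_one]
  · rw [ha ζ₄, hζ₄, Int.cast_neg, Int.cast_one]

end Cfsg.Agent.Lib.Helper75
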