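import Cfsg.Agent.Lib.Helper75.KleinOrder

/-!
# Sums over a principal block with four explicitly given members
-/

set_option autoImplicit false

universe u

namespace Cfsg.Agent.Lib.Helper75

open Cfsg Cfsg.Agent.Lib.Helper77 Cfsg.Agent.Lib.Helper81
open scoped ComplexConjugate

variable {G : Type u} [Group G]

theorem oneIrr_coe : ((oneIrr G : IrrCharacter G) : G → ℂ) = fun _ => 1 := by
  funext g
  exact oneIrr_apply g

open Classical in
/-- A sum over a principal block `{1, χ₁, χ₂, χ₃}`. -/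
theorem sum_principalBlock_four [Fintype (IrrCharacter G)] {M : Ideal AlgInt}
    {χ₁ χ₂ χ₃ : IrrCharacter G}
    (hB : principalBlock M G = {χ : IrrCharacter G |
      (χ : G → ℂ) = (fun _ => 1) ∨ χ = χ₁ ∨ χ = χ₂ ∨ χ = χ₃})
    (hdist : (χ₁ : G → ℂ) ≠ (fun _ => 1) ∧ (χ₂ : G → ℂ) ≠ (fun _ => 1) ∧
      (χ₃ : G → ℂ) ≠ (fun _ => 1) ∧ χ₁ ≠ χ₂ ∧ χ₁ ≠ χ₃ ∧ χ₂ ≠ χ₃)
    (F : IrrCharacter G → ℂ) :
    ∑ χ ∈ Finset.univ.filter (fun χ : IrrCharacter G => χ ∈ principalBlock M G), F χ =
      F (oneIrr G) + F χ₁ + F χ₂ + F χ₃ := by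
  obtain ⟨h1, h2, h3, h12, h13, h23⟩ := hdist
  have hfilter : Finset.univ.filter (fun χ : IrrCharacter G => χ ∈ principalBlock M G) =
      {oneIrr G, χ₁, χ₂, χ₃} := by
    ext χ
    simp only [Finset.mem_filter, Finset.mem_univ, true_and, Finset.mem_insert,
      Finset.mem_singleton, hB, Set.mem_ofPred_eq]
    constructor
    · rintro (h | h | h | h)
      · left
        apply Subtype.ext
        rw [h, oneIrr_coe]
      · exact Or.inr (Or.inl h)
      · exact Or.inr (Or.inr (Or.inl h))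
      · exact Or.inr (Or.inr (Or.inr h))
    · rintro (h | h | h | h)
      · left
        rw [h, oneIrr_coe]
      · exact Or.inr (Or.inl h)
      · exact Or.inr (Or.inr (Or.inl h))
      · exact Or.inr (Or.inr (Or.inr h))
  have hne : ∀ χ : IrrCharacter G, (χ : G → ℂ) ≠ (fun _ => 1) → oneIrr G ≠ χ := by
    intro χ hχ h
    apply hχ
    rw [← h, oneIrr_coe]
  rw [hfilter, Finset.sum_insert, Finset.sum_insert, Finset.sum_insert, Finset.sum_singleton]
  · ring
  · simp only [Finset.mem_singleton]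
    exact h23
  · simp only [Finset.mem_insert, Finset.mem_singleton]
    rintro (h | h)
    · exact h12 h
    · exact h13 h
  · simp only [Finset.mem_insert, Finset.mem_singleton]
    rintro (h | h | h)
    · exact hne χ₁ h1 h
    · exact hne χ₂ h2 h
    · exact hne χ₃ h3 h

end Cfsg.Agent.Lib.Helper75
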