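import Cfsg.Agent.S0908
import Cfsg.Agent.Lib.Helper77.MinMax
import Cfsg.Agent.Lib.Helper77.DefectClass
import Cfsg.Agent.Lib.Helper77.DefectGroup
import Cfsg.Agent.Lib.Helper81.LocalRing

/-!
# Comparing the defect of a class with the defect of a block (min-max, numerical form)
-/

set_option autoImplicit false
set_option linter.style.haveILetI false
open Cfsg

namespace Cfsg.Agent.Lib.Helper75

open Cfsg.Agent.Lib.Helper77 Cfsg.Agent.Lib.Helper81
open scoped Pointwise

universe u
variable {G : Type u} [Group G] [Finite G]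

/-- The image in `G` of a Sylow `p`-subgroup of a centralizer has the expected order. -/
theorem card_sylow_centralizer_map {p : ℕ} [Fact p.Prime] (g : G)
    (P : Sylow p (Subgroup.centralizer ({g} : Set G))) :
    Nat.card ((P : Subgroup (Subgroup.centralizer ({g} : Set G))).map
        (Subgroup.centralizer ({g} : Set G)).subtype) =
      p ^ (Nat.card (Subgroup.centralizer ({g} : Set G))).factorization p := by
  rw [Subgroup.card_map_of_injective (Subgroup.subtype_injective _)]
  exact P.card_eq_multiplicity

/-- If the `p`-subgroups of `C(h)` are conjugate into a subgroup of order `p ^ n`, then the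
`p`-part of `|C(h)|` is at most `p ^ n`. -/
theorem factorization_le_of_defLE {p : ℕ} [Fact p.Prime] {h : G} {D : Subgroup G}
    (hD : DefLE p h D) {n : ℕ} (hDcard : Nat.card D = p ^ n) :
    (Nat.card (Subgroup.centralizer ({h} : Set G))).factorization p ≤ n := by
  have hp : p.Prime := Fact.out
  obtain ⟨P⟩ : Nonempty (Sylow p (Subgroup.centralizer ({h} : Set G))) := inferInstance
  set Q := (P : Subgroup (Subgroup.centralizer ({h} : Set G))).map
      (Subgroup.centralizer ({h} : Set G)).subtype with hQ
  have hQp : IsPGroup p Q := P.2.map _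
  have hQle : Q ≤ Subgroup.centralizer ({h} : Set G) := Subgroup.map_subtype_le _
  obtain ⟨x, hx⟩ := hD Q hQp hQle
  have h1 : Nat.card (MulAut.conj x • Q : Subgroup G) = Nat.card Q := by
    rw [Subgroup.pointwise_smul_def]
    exact Subgroup.card_map_of_injective (MulAut.conj x).injective
  have h2 : Nat.card Q ≤ Nat.card D := by
    rw [← h1]; exact Subgroup.card_le_of_le hx
  rw [hQ, card_sylow_centralizer_map, hDcard] at h2
  exact (Nat.pow_le_pow_iff_right hp.one_lt).mp h2

/-- Min-max, numerical form I: a class on which the block idempotent does not vanish modulo the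
local ideal has defect at most the defect of the block. -/
theorem factorization_le_blockDefect_of_blockCoeff {p : ℕ} [Fact p.Prime] {M : Ideal AlgInt}
    (hpM : IsPModular p M) (χ₀ : IrrCharacter G) (h : G)
    (hh : ¬ MemLocalIdeal M (blockCoeff (blockOf M (χ₀ : G → ℂ)) h)) :
    (Nat.card (Subgroup.centralizer ({h} : Set G))).factorization p ≤
      blockDefect p (blockOf M (χ₀ : G → ℂ)) := by
  have hMp := isPrime_of_isPModular hpM
  haveI := Fintype.ofFinite G
  obtain ⟨g₀, hg₀⟩ := exists_isDefectClass hpM χ₀
  obtain ⟨P₀⟩ : Nonempty (Sylow p (Subgroup.centralizer ({g₀} : Set G))) := inferInstance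
  have hDG : IsDefectGroup p M (blockOf M (χ₀ : G → ℂ))
      ((P₀ : Subgroup (Subgroup.centralizer ({g₀} : Set G))).map
        (Subgroup.centralizer ({g₀} : Set G)).subtype) := ⟨g₀, hg₀, P₀, rfl⟩
  have hcard := Cfsg.Agent.S0908.result p M hpM _ ⟨χ₀, rfl⟩ _ hDG
  have hdef := defLE_of_blockCoeff hpM χ₀ g₀ (hg₀.2.2 χ₀ (self_mem_blockOf hMp χ₀)) P₀ h hh
  exact factorization_le_of_defLE hdef hcard

/-- Min-max, numerical form II: a class on which the central character of the block does not
vanish modulo the local ideal has defect at least the defect of the block. -/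
theorem blockDefect_le_factorization_of_centralChar {p : ℕ} [Fact p.Prime] {M : Ideal AlgInt}
    (hpM : IsPModular p M) (χ₀ : IrrCharacter G) (g : G)
    (hg : ¬ MemLocalIdeal M (centralChar (χ₀ : G → ℂ) g)) :
    blockDefect p (blockOf M (χ₀ : G → ℂ)) ≤
      (Nat.card (Subgroup.centralizer ({g} : Set G))).factorization p := by
  have hMp := isPrime_of_isPModular hpM
  haveI := Fintype.ofFinite G
  obtain ⟨g₀, hg₀⟩ := exists_isDefectClass hpM χ₀
  obtain ⟨P₀⟩ : Nonempty (Sylow p (Subgroup.centralizer ({g₀} : Set G))) := inferInstance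
  obtain ⟨P⟩ : Nonempty (Sylow p (Subgroup.centralizer ({g} : Set G))) := inferInstance
  have hDG : IsDefectGroup p M (blockOf M (χ₀ : G → ℂ))
      ((P₀ : Subgroup (Subgroup.centralizer ({g₀} : Set G))).map
        (Subgroup.centralizer ({g₀} : Set G)).subtype) := ⟨g₀, hg₀, P₀, rfl⟩
  have hcard := Cfsg.Agent.S0908.result p M hpM _ ⟨χ₀, rfl⟩ _ hDG
  have hdef := defLE_of_blockCoeff hpM χ₀ g hg P g₀ hg₀.2.1
  have h1 := factorization_le_of_defLE hdef (card_sylow_centralizer_map g P)
  have h2 := card_sylow_centralizer_map g₀ P₀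
  rw [hcard] at h2
  have hp : p.Prime := Fact.out
  have := Nat.pow_right_injective hp.two_le h2
  omega

end Cfsg.Agent.Lib.Helper75
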