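import Cfsg.Agent.Lib.Helper75.SectionCount

/-!
# Tools for blocks of defect one: representatives of `p`-element classes, positivity of ranks
-/

set_option autoImplicit false

universe u

namespace Cfsg.Agent.Lib.Helper75

open Cfsg Cfsg.Agent.Lib.Helper77
open scoped ComplexConjugate

section reps

variable {G : Type u} [Group G]

theorem orderOf_eq_of_isConj' {g h : G} (hc : IsConj g h) : orderOf g = orderOf h := by
  obtain ⟨c, hc⟩ := isConj_iff.mp hc
  rw [← hc]
  exact (orderOf_injective (MulAut.conj c).toMonoidHom (MulAut.conj c).injective g).symm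

theorem eq_one_of_isConj_one {g : G} (h : IsConj g 1) : g = 1 := by
  obtain ⟨c, hc⟩ := isConj_iff.mp h
  have : g = c⁻¹ * (c * g * c⁻¹) * c := by group
  rw [this, hc]
  group

/-- A set of representatives of the conjugacy classes of `p`-elements containing `1` and a given
`p`-element `x`. -/
theorem exists_pElement_reps [Finite G] (p : ℕ) (x : G) (hx : ∃ k : ℕ, orderOf x = p ^ k) :
    ∃ X : Finset G, (1 : G) ∈ X ∧ x ∈ X ∧ (∀ x' ∈ X, ∃ k : ℕ, orderOf x' = p ^ k) ∧
      ∀ g : G, (∃ k : ℕ, orderOf g = p ^ k) → ∃! x', x' ∈ X ∧ IsConj g x' := by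
  classical
  haveI : Fintype G := Fintype.ofFinite G
  let rep : G → G := fun g =>
    if g = 1 then 1 else if IsConj g x then x else Quotient.out (ConjClasses.mk g)
  have hrep1 : ∀ g : G, IsConj g (rep g) := by
    intro g
    show IsConj g (if g = 1 then 1 else if IsConj g x then x else Quotient.out (ConjClasses.mk g))
    by_cases h1 : g = 1
    · rw [if_pos h1, h1]
    · rw [if_neg h1]
      by_cases h2 : IsConj g x
      · rw [if_pos h2]
        exact h2
      · rw [if_neg h2]
        have : ConjClasses.mk (Quotient.out (ConjClasses.mk g)) = ConjClasses.mk g :=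
          Quotient.out_eq _
        exact (ConjClasses.mk_eq_mk_iff_isConj.mp this).symm
  have hrep2 : ∀ g g' : G, IsConj g g' → rep g = rep g' := by
    intro g g' hc
    show (if g = 1 then 1 else if IsConj g x then x else Quotient.out (ConjClasses.mk g)) =
      (if g' = 1 then 1 else if IsConj g' x then x else Quotient.out (ConjClasses.mk g'))
    have e1 : g = 1 ↔ g' = 1 := by
      constructor
      · intro h
        rw [h] at hc
        exact eq_one_of_isConj_one hc.symm
      · intro h
        rw [h] at hc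
        exact eq_one_of_isConj_one hc
    have e2 : IsConj g x ↔ IsConj g' x :=
      ⟨fun h => hc.symm.trans h, fun h => hc.trans h⟩
    have e3 : ConjClasses.mk g = ConjClasses.mk g' := ConjClasses.mk_eq_mk_iff_isConj.mpr hc
    simp only [e1, e2, e3]
  refine ⟨(Finset.univ.filter (fun g : G => ∃ k : ℕ, orderOf g = p ^ k)).image rep, ?_, ?_, ?_, ?_⟩
  · apply Finset.mem_image.mpr
    refine ⟨1, Finset.mem_filter.mpr ⟨Finset.mem_univ _, ⟨0, by rw [orderOf_one, pow_zero]⟩⟩, ?_⟩
    show (if (1 : G) = 1 then 1 else _) = 1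
    rw [if_pos rfl]
  · apply Finset.mem_image.mpr
    refine ⟨x, Finset.mem_filter.mpr ⟨Finset.mem_univ _, hx⟩, ?_⟩
    show (if x = 1 then 1 else if IsConj x x then x else _) = x
    by_cases h1 : x = 1
    · rw [if_pos h1, h1]
    · rw [if_neg h1, if_pos (IsConj.refl x)]
  · intro x' hx'
    obtain ⟨g, hg, rfl⟩ := Finset.mem_image.mp hx'
    obtain ⟨k, hk⟩ := (Finset.mem_filter.mp hg).2
    exact ⟨k, by rw [← orderOf_eq_of_isConj' (hrep1 g), hk]⟩
  · intro g hg
    refine ⟨rep g, ⟨Finset.mem_image.mpr ⟨g, Finset.mem_filter.mpr ⟨Finset.mem_univ _, hg⟩, rfl⟩,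
      hrep1 g⟩, ?_⟩
    rintro x'' ⟨hx'', hc⟩
    obtain ⟨g'', -, rfl⟩ := Finset.mem_image.mp hx''
    exact (hrep2 g g'' (hc.trans (hrep1 g'').symm)).symm

end reps

section rank

variable {G : Type u} [Group G] [Finite G]

/-- A nonempty set of irreducible characters has positive `p`-regular rank. -/
theorem one_le_blockRank (p : ℕ) (hp : p.Prime) {B : Set (IrrCharacter G)} {χ : IrrCharacter G}
    (hχ : χ ∈ B) : 1 ≤ blockRank p B := by
  classical
  unfold blockRank
  rw [Nat.one_le_iff_ne_zero, ← Nat.pos_iff_ne_zero, Module.finrank_pos_iff_exists_ne_zero]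
  have hmem : pRegularPart p (χ : G → ℂ) ∈
      Submodule.span ℂ ((fun χ : IrrCharacter G => pRegularPart p (χ : G → ℂ)) '' B) :=
    Submodule.subset_span ⟨χ, hχ, rfl⟩
  refine ⟨⟨_, hmem⟩, ?_⟩
  intro h0
  have h1 : pRegularPart p (χ : G → ℂ) = 0 := by
    have := congrArg Subtype.val h0
    simpa using this
  have h2 := congrFun h1 1
  unfold pRegularPart IsPRegular at h2
  rw [if_pos (by rw [orderOf_one]; exact hp.one_lt.ne' ∘ Nat.dvd_one.mp)] at h2
  exact Cfsg.Agent.Lib.Helper81.irr_apply_one_ne_zero χ h2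

end rank

end Cfsg.Agent.Lib.Helper75
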