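import Mathlib
import Cfsg.Agent.Lib.Helper87.AltModel

/-! # S5165 leaves V0, V1, V2' (helper75, for helper87's AltF hive) and shared tools `v0_*`

Tools: the homomorphism `v0_Phi : (I → Multiplicative (ZMod p)) →* Perm (PtI I p a0)` with range `Bs`,
the homomorphism `v0_Psi` with range `zpowers vt1`, conjugation of `v0_Phi μ` by monomial elements. -/

set_option autoImplicit false

namespace Cfsg.Agent.Lib.Helper87.AltF

open Equiv Subgroup

section generic
variable {I : Type} (p a0 : ℕ)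

theorem v0_blk_mul (σ σ' : Perm I) (f f' : I → Perm (ZMod p)) :
    blk p a0 σ f * blk p a0 σ' f' = blk p a0 (σ * σ') (fun k => f (σ' k) * f' k) := by
  ext x
  rcases x with ⟨k, s⟩ | x
  · simp [Perm.mul_apply]
  · simp [Perm.mul_apply]

theorem v0_blk_one : blk p a0 (1 : Perm I) (fun _ => 1) = 1 := by
  ext x
  rcases x with ⟨k, s⟩ | x <;> simp

/-- the translations of the blocks -/
def v0_Phi : (I → Multiplicative (ZMod p)) →* Perm (PtI I p a0) where
  toFun μ := blk p a0 1 (fun k => Equiv.addRight (Multiplicative.toAdd (μ k)))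
  map_one' := by
    ext x
    rcases x with ⟨k, s⟩ | x <;> simp
  map_mul' μ ν := by
    rw [v0_blk_mul]
    ext x
    rcases x with ⟨k, s⟩ | x
    · simp [add_comm, add_left_comm]
    · simp

@[simp] theorem v0_Phi_inl (μ : I → Multiplicative (ZMod p)) (k : I) (s : ZMod p) :
    v0_Phi p a0 μ (Sum.inl (k, s)) = Sum.inl (k, s + Multiplicative.toAdd (μ k)) := rfl

@[simp] theorem v0_Phi_inr (μ : I → Multiplicative (ZMod p)) (x : Fin a0) :
    v0_Phi p a0 μ (Sum.inr x) = Sum.inr x := rfl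

variable [DecidableEq I]

theorem v0_Phi_mulSingle (k : I) :
    v0_Phi p a0 (Pi.mulSingle k (Multiplicative.ofAdd (1 : ZMod p))) = cyc p a0 k := by
  ext x
  rcases x with ⟨j, s⟩ | x
  · by_cases hj : j = k
    · subst hj
      simp [cyc_inl_self]
    · rw [cyc_inl_of_ne p a0 hj]
      simp [Pi.mulSingle_eq_of_ne hj]
  · simp

/-- every element of `Multiplicative (ZMod p)` is a power of `ofAdd 1` -/
theorem v0_eq_pow [NeZero p] (x : Multiplicative (ZMod p)) :
    x = (Multiplicative.ofAdd (1 : ZMod p)) ^ (Multiplicative.toAdd x).val := by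
  rw [← ofAdd_nsmul, nsmul_one, ZMod.natCast_zmod_val]
  rfl

/-- a criterion for `v0_Phi μ` to lie in a subgroup -/
theorem v0_Phi_mem [Fintype I] [NeZero p] (H : Subgroup (Perm (PtI I p a0))) (S : Set I)
    (hS : ∀ k ∈ S, cyc p a0 k ∈ H) (μ : I → Multiplicative (ZMod p)) (hμ : ∀ k, k ∉ S → μ k = 1) :
    v0_Phi p a0 μ ∈ H := by
  have h1 : μ ∈ H.comap (v0_Phi p a0) := by
    rw [← Finset.univ_prod_mulSingle μ]
    apply Subgroup.prod_mem
    intro k _
    rw [Subgroup.mem_comap]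
    by_cases hk : k ∈ S
    · rw [v0_eq_pow p (μ k), Pi.mulSingle_pow, map_pow, v0_Phi_mulSingle]
      exact H.pow_mem (hS k hk) _
    · rw [hμ k hk, Pi.mulSingle_one, map_one]
      exact H.one_mem
  exact h1

theorem v0_Bs_eq_range [Fintype I] [NeZero p] : Bs (I := I) p a0 = (v0_Phi (I := I) p a0).range := by
  apply le_antisymm
  · unfold Bs
    rw [Subgroup.closure_le]
    rintro _ ⟨k, rfl⟩
    exact ⟨_, v0_Phi_mulSingle p a0 k⟩
  · rintro _ ⟨μ, rfl⟩
    refine v0_Phi_mem p a0 _ Set.univ (fun k _ => ?_) μ (fun k hk => absurd (Set.mem_univ k) hk)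
    exact Subgroup.subset_closure (Set.mem_range_self k)

omit [DecidableEq I] in
theorem v0_pow_p_eq_one [NeZero p] (μ : I → Multiplicative (ZMod p)) : μ ^ p = 1 := by
  funext k
  rw [Pi.pow_apply, Pi.one_apply, v0_eq_pow p (μ k), ← pow_mul, mul_comm, pow_mul, ← ofAdd_nsmul,
    nsmul_one, ZMod.natCast_self, ofAdd_zero, one_pow]

theorem v0_Bs_isPGroup [Fintype I] [Fact p.Prime] : IsPGroup p (Bs (I := I) p a0) := by
  rw [v0_Bs_eq_range]
  rintro ⟨_, μ, rfl⟩
  refine ⟨1, ?_⟩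
  apply Subtype.ext
  rw [pow_one]
  show (v0_Phi p a0 μ) ^ p = 1
  rw [← map_pow, v0_pow_p_eq_one, map_one]

omit [DecidableEq I] in
/-- conjugating a block translation by a monomial element -/
theorem v0_conj_Phi (g : Perm (PtI I p a0)) (σ : Perm I) (e c : I → ZMod p) (τ : Perm (Fin a0))
    (hg : ∀ k s, g (Sum.inl (k, s)) = Sum.inl (σ k, e k * s + c k))
    (hg' : ∀ x, g (Sum.inr x) = Sum.inr (τ x)) (μ : I → Multiplicative (ZMod p)) :
    g * v0_Phi p a0 μ * g⁻¹ =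
      v0_Phi p a0 (fun j => Multiplicative.ofAdd (e (σ.symm j) * Multiplicative.toAdd (μ (σ.symm j)))) := by
  rw [mul_inv_eq_iff_eq_mul]
  ext x
  rcases x with ⟨k, s⟩ | x
  · simp only [Perm.mul_apply, v0_Phi_inl, hg, Equiv.symm_apply_apply, toAdd_ofAdd]
    congr 2
    ring
  · simp only [Perm.mul_apply, v0_Phi_inr, hg']

/-- monomial elements normalize `Bs` -/
theorem v0_mem_normalizer_Bs [Fintype I] [NeZero p] (g : Perm (PtI I p a0)) (σ : Perm I)
    (e c : I → ZMod p) (τ : Perm (Fin a0))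
    (hg : ∀ k s, g (Sum.inl (k, s)) = Sum.inl (σ k, e k * s + c k))
    (hg' : ∀ x, g (Sum.inr x) = Sum.inr (τ x)) :
    g ∈ normalizer ((Bs (I := I) p a0 : Subgroup (Perm (PtI I p a0))) : Set (Perm (PtI I p a0))) := by
  apply Subgroup.mem_normalizer_fintype
  intro n hn
  have hn' : n ∈ Bs (I := I) p a0 := hn
  rw [v0_Bs_eq_range] at hn'
  obtain ⟨μ, rfl⟩ := hn'
  show _ ∈ Bs (I := I) p a0
  rw [v0_conj_Phi p a0 g σ e c τ hg hg', v0_Bs_eq_range]
  exact ⟨_, rfl⟩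

end generic

section square
variable (p a0 m' : ℕ) [Fact p.Prime]

/-- the translations `(a, b) ↦ (a + x, b)` of the square -/
def v0_Psi : Multiplicative (ZMod p) →* Perm (Pt p m' a0) where
  toFun x := lift p a0
    (Equiv.sumCongr (Equiv.addRight (Multiplicative.toAdd x)) (Equiv.refl (Fin m')))
  map_one' := by
    ext y
    rcases y with ⟨(a | i), b⟩ | y <;> simp [lift]
  map_mul' x y := by
    unfold lift
    rw [v0_blk_mul]
    ext z
    rcases z with ⟨(a | i), b⟩ | z <;> simp [add_comm]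

theorem v0_Psi_sq (x : Multiplicative (ZMod p)) (a b : ZMod p) :
    v0_Psi p a0 m' x (Sum.inl (Sum.inl a, b)) = Sum.inl (Sum.inl (a + Multiplicative.toAdd x), b) :=
  rfl

theorem v0_Psi_rest (x : Multiplicative (ZMod p)) (i : Fin m') (b : ZMod p) :
    v0_Psi p a0 m' x (Sum.inl (Sum.inr i, b)) = Sum.inl (Sum.inr i, b) := rfl

theorem v0_Psi_inr (x : Multiplicative (ZMod p)) (y : Fin a0) :
    v0_Psi p a0 m' x (Sum.inr y) = Sum.inr y := rfl

theorem v0_Psi_one : v0_Psi p a0 m' (Multiplicative.ofAdd 1) = vt1 p a0 m' := rfl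

theorem v0_Psi_mem_zpowers (x : Multiplicative (ZMod p)) :
    v0_Psi p a0 m' x ∈ Subgroup.zpowers (vt1 p a0 m') := by
  rw [v0_eq_pow p x, map_pow, v0_Psi_one]
  exact Subgroup.pow_mem _ (Subgroup.mem_zpowers _) _

/-- `vt2` as a block translation -/
theorem v0_vt2_eq :
    vt2 p a0 m' = v0_Phi (I := Idx p m') p a0
      (fun j => Sum.elim (fun _ => Multiplicative.ofAdd (1 : ZMod p)) (fun _ => 1) j) := by
  ext x
  rcases x with ⟨(a | i), b⟩ | x
  · rfl
  · simp [vt2_rest]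
  · rfl

theorem v0_vt2_mem_Bs : vt2 p a0 m' ∈ Bs (I := Idx p m') p a0 := by
  rw [v0_vt2_eq, v0_Bs_eq_range]
  exact ⟨_, rfl⟩

theorem v0_vt1_mem_normalizer :
    vt1 p a0 m' ∈ normalizer ((Bs (I := Idx p m') p a0 : Subgroup (Perm (Pt p m' a0))) :
      Set (Perm (Pt p m' a0))) := by
  apply v0_mem_normalizer_Bs p a0 (vt1 p a0 m')
    (Equiv.sumCongr (Equiv.addRight (1 : ZMod p)) (Equiv.refl (Fin m'))) (fun _ => 1) (fun _ => 0) 1
  · intro k s
    rcases k with a | i <;> simp [vt1]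
  · intro x
    rfl

theorem v0_Vg_le :
    Vg p a0 m' ≤ Bs (I := Idx p m') p a0 ⊔ Subgroup.zpowers (vt1 p a0 m') := by
  unfold Vg
  rw [Subgroup.closure_le]
  rintro x (rfl | rfl)
  · exact (le_sup_right : _ ≤ Bs (I := Idx p m') p a0 ⊔ Subgroup.zpowers (vt1 p a0 m'))
      (Subgroup.mem_zpowers _)
  · exact (le_sup_left : Bs (I := Idx p m') p a0 ≤ _) (v0_vt2_mem_Bs p a0 m')

theorem v0_zpowers_vt1_isPGroup : IsPGroup p (Subgroup.zpowers (vt1 p a0 m')) := by
  rintro ⟨_, n, rfl⟩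
  refine ⟨1, ?_⟩
  apply Subtype.ext
  rw [pow_one]
  show (vt1 p a0 m' ^ n) ^ p = 1
  rw [← zpow_natCast, ← zpow_mul, mul_comm, zpow_mul, zpow_natCast, ← v0_Psi_one, ← map_pow]
  have : (Multiplicative.ofAdd (1 : ZMod p)) ^ p = 1 := by
    rw [← ofAdd_nsmul, nsmul_one, ZMod.natCast_self, ofAdd_zero]
  rw [this, map_one, one_zpow]

/-- [V0] `Qg = ⟨Bs, Vg⟩` is a `p`-group (`Bs` is normalized by `vt1`; `vt2 ∈ Bs`). -/
theorem Qg_isPGroup (p a0 m' : ℕ) [Fact p.Prime] : IsPGroup p (Qg p a0 m') := by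
  have h1 : IsPGroup p
      (Bs (I := Idx p m') p a0 ⊔ Subgroup.zpowers (vt1 p a0 m') : Subgroup (Perm (Pt p m' a0))) := by
    apply IsPGroup.to_sup_of_normal_left' (v0_Bs_isPGroup p a0) (v0_zpowers_vt1_isPGroup p a0 m')
    rw [Subgroup.zpowers_le]
    exact v0_vt1_mem_normalizer p a0 m'
  apply h1.to_le
  unfold Qg
  exact sup_le le_sup_left (v0_Vg_le p a0 m')

/-- [V2'] `Rg ≤ Qg`. -/
theorem Rg_le_Qg (p a0 m' : ℕ) [Fact p.Prime] : Rg p a0 m' ≤ Qg p a0 m' := by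
  unfold Rg Qg
  apply sup_le le_sup_right
  apply le_trans _ (le_sup_left : Bs (I := Idx p m') p a0 ≤ _)
  unfold Brest Bs
  apply Subgroup.closure_mono
  rintro _ ⟨i, rfl⟩
  exact ⟨_, rfl⟩

/-- a `p`-subgroup of a symmetric group is even for `p` odd -/
theorem v0_le_alt_of_isPGroup {Y : Type*} [Fintype Y] [DecidableEq Y] {p : ℕ} [Fact p.Prime]
    (hp : p ≠ 2) (Q : Subgroup (Perm Y)) (hQ : IsPGroup p Q) : Q ≤ alternatingGroup Y := by
  intro g hg
  rw [Equiv.Perm.mem_alternatingGroup]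
  obtain ⟨k, hk⟩ := hQ ⟨g, hg⟩
  have hk' : g ^ (p ^ k) = 1 := by
    have := congrArg Subtype.val hk
    simpa using this
  have h1 : (Equiv.Perm.sign g) ^ (p ^ k) = 1 := by rw [← map_pow, hk', map_one]
  have hodd : Odd (p ^ k) := ((Fact.out : p.Prime).odd_of_ne_two hp).pow
  rw [Int.units_pow_eq_pow_mod_two, Nat.odd_iff.mp hodd, pow_one] at h1
  exact h1

/-- [V1] for `p` odd, `Qg` is even. -/
theorem Qg_le_alt (p a0 m' : ℕ) [Fact p.Prime] (hp : p ≠ 2) :
    Qg p a0 m' ≤ alternatingGroup (Pt p m' a0) :=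
  v0_le_alt_of_isPGroup hp _ (Qg_isPGroup p a0 m')

end square

end Cfsg.Agent.Lib.Helper87.AltF
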