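import Mathlib
import Cfsg.Agent.Lib.Helper75.AltFV0

/-! # S5165 leaves V4, V5 (helper75, for helper87's AltF hive): `h0 lam` normalizes `Bs` and `Qg`;
its multiplier -/

set_option autoImplicit false

namespace Cfsg.Agent.Lib.Helper87.AltF

open Equiv Subgroup

/-- [V4] `h0 lam` normalizes `Bs` and `Qg`. -/
theorem h0_mem_normalizer_Bs (p a0 m' : ℕ) [Fact p.Prime] (lam : (ZMod p)ˣ) :
    h0 p a0 m' lam ∈ normalizer ((Bs (I := Idx p m') p a0 : Subgroup (Perm (Pt p m' a0))) :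
      Set (Perm (Pt p m' a0))) := by
  apply v0_mem_normalizer_Bs p a0 (h0 p a0 m' lam)
    (Equiv.sumCongr (Units.mulLeft lam) (Equiv.refl (Fin m')))
    (fun k => Sum.elim (fun _ => ((lam⁻¹ : (ZMod p)ˣ) : ZMod p)) (fun _ => 1) k) (fun _ => 0) 1
  · intro k s
    rcases k with a | i
    · rw [h0_sq]
      simp only [Equiv.sumCongr_apply, Sum.map_inl, Units.mulLeft_apply, Sum.elim_inl, add_zero]
    · rw [h0_rest]
      simp only [Equiv.sumCongr_apply, Sum.map_inr, Equiv.refl_apply, Sum.elim_inr, one_mul,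
        add_zero]
  · intro x
    rfl

theorem v4_conj_vt1 (p a0 m' : ℕ) [Fact p.Prime] (lam : (ZMod p)ˣ) :
    h0 p a0 m' lam * vt1 p a0 m' * (h0 p a0 m' lam)⁻¹ =
      v0_Psi p a0 m' (Multiplicative.ofAdd (lam : ZMod p)) := by
  rw [mul_inv_eq_iff_eq_mul]
  ext x
  rcases x with ⟨(a | i), b⟩ | x
  · simp only [Perm.mul_apply, vt1_sq, h0_sq, v0_Psi_sq, toAdd_ofAdd]
    congr 3
    ring
  · simp only [Perm.mul_apply, vt1_rest, h0_rest, v0_Psi_rest]
  · rfl

theorem h0_mem_normalizer_Qg (p a0 m' : ℕ) [Fact p.Prime] (lam : (ZMod p)ˣ) :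
    h0 p a0 m' lam ∈ normalizer ((Qg p a0 m' : Subgroup (Perm (Pt p m' a0))) :
      Set (Perm (Pt p m' a0))) := by
  apply Subgroup.mem_normalizer_fintype
  have hB := h0_mem_normalizer_Bs p a0 m' lam
  have hBs : ∀ n ∈ Bs (I := Idx p m') p a0,
      h0 p a0 m' lam * n * (h0 p a0 m' lam)⁻¹ ∈ Bs (I := Idx p m') p a0 := by
    intro n hn
    exact (Subgroup.mem_normalizer_iff.mp hB n).mp hn
  have hle : Qg p a0 m' ≤ (Qg p a0 m').comap (MulAut.conj (h0 p a0 m' lam)).toMonoidHom := by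
    unfold Qg
    apply sup_le
    · intro n hn
      rw [Subgroup.mem_comap]
      exact (le_sup_left : Bs (I := Idx p m') p a0 ≤ _) (hBs n hn)
    · unfold Vg
      rw [Subgroup.closure_le]
      rintro x (rfl | rfl)
      · show _ ∈ (Bs (I := Idx p m') p a0 ⊔ Subgroup.closure {vt1 p a0 m', vt2 p a0 m'} :
          Subgroup (Perm (Pt p m' a0)))
        apply (le_sup_right : Subgroup.closure {vt1 p a0 m', vt2 p a0 m'} ≤ _)
        have h1 : (MulAut.conj (h0 p a0 m' lam)).toMonoidHom (vt1 p a0 m') =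
            v0_Psi p a0 m' (Multiplicative.ofAdd (lam : ZMod p)) := v4_conj_vt1 p a0 m' lam
        rw [h1]
        have h2 := v0_Psi_mem_zpowers p a0 m' (Multiplicative.ofAdd (lam : ZMod p))
        have h3 : Subgroup.zpowers (vt1 p a0 m') ≤
            Subgroup.closure {vt1 p a0 m', vt2 p a0 m'} := by
          rw [Subgroup.zpowers_le]
          exact Subgroup.subset_closure (Set.mem_insert _ _)
        exact h3 h2
      · show _ ∈ (Bs (I := Idx p m') p a0 ⊔ Subgroup.closure {vt1 p a0 m', vt2 p a0 m'} :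
          Subgroup (Perm (Pt p m' a0)))
        exact (le_sup_left : Bs (I := Idx p m') p a0 ≤ _) (hBs _ (v0_vt2_mem_Bs p a0 m'))
  intro n hn
  exact hle hn

/-- [V5] the multiplier of `h0 lam`: `lam⁻¹` on each of the `p` blocks of the square, `1` elsewhere. -/
theorem uu_h0 (p a0 m' : ℕ) [Fact p.Prime] (lam : (ZMod p)ˣ) :
    uu (I := Idx p m') p a0 (h0 p a0 m' lam) = ((lam⁻¹ : (ZMod p)ˣ) : ZMod p) := by
  unfold uu
  rw [Fintype.prod_sum_type]
  have h1 : ∀ a : ZMod p, mulOf p a0 (h0 p a0 m' lam) (Sum.inl a : Idx p m') =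
      ((lam⁻¹ : (ZMod p)ˣ) : ZMod p) := by
    intro a
    unfold mulOf
    rw [h0_sq, h0_sq]
    simp only [snd2, Sum.elim_inl, mul_one, mul_zero, sub_zero]
  have h2 : ∀ i : Fin m', mulOf p a0 (h0 p a0 m' lam) (Sum.inr i : Idx p m') = 1 := by
    intro i
    unfold mulOf
    rw [h0_rest, h0_rest]
    simp only [snd2, Sum.elim_inl, sub_zero]
  simp only [h1, h2, Finset.prod_const, Finset.card_univ, ZMod.card, one_pow, mul_one]
  exact ZMod.pow_card _

end Cfsg.Agent.Lib.Helper87.AltF
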