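import Mathlib
import Cfsg.Agent.Lib.Helper6.Nc.Leaves

/-! # Nc hive (S3894, helper6), case assembly NC-CASE3 (helper75): `n ≥ 3` -/

set_option autoImplicit false

namespace Cfsg.Agent.Lib.Helper6.Nc

open Matrix

variable {F : Type*} [Field F]

theorem nc_case3 (k : ℕ) (Gh : Subgroup (GL (Fin (k + 3)) F))
    (hSL : (Matrix.SpecialLinearGroup.toGL :
      Matrix.SpecialLinearGroup (Fin (k + 3)) F →* GL (Fin (k + 3)) F).range ≤ Gh)
    (AA : Finset (Subgroup (GL (Fin (k + 3)) F))) (h : MinNilCover Gh AA) : False := by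
  -- the two unipotent elements
  have huG : u0g (k + 3) F ∈ Gh := hSL ⟨u0 (k + 3) F, rfl⟩
  obtain ⟨hh, hh_line, hh_row⟩ := exists_hh (F := F) k
  set c : GL (Fin (k + 3)) F := Matrix.SpecialLinearGroup.toGL hh with hc
  have hcG : c ∈ Gh := hSL ⟨hh, rfl⟩
  have hu'G : c * u0g (k + 3) F * c⁻¹ ∈ Gh := Gh.mul_mem (Gh.mul_mem hcG huG) (Gh.inv_mem hcG)
  obtain ⟨A₀, hA₀, hu₀⟩ := h.cover.covers _ huG
  obtain ⟨A₁, hA₁, hu₁⟩ := h.cover.covers _ hu'G
  -- facts on the regular unipotent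
  have hline : u0g (k + 3) F ∈ lineStab (Pi.single (0 : Fin (k + 3)) (1 : F)) :=
    u0g_mem_lineStab (F := F) (k + 1)
  have huniq : ∀ g : GL (Fin (k + 3)) F,
      g⁻¹ * u0g (k + 3) F * g ∈ lineStab (Pi.single (0 : Fin (k + 3)) (1 : F)) →
      g ∈ lineStab (Pi.single (0 : Fin (k + 3)) (1 : F)) :=
    fun g hg => u0g_unique_line (F := F) (k + 1) g hg
  have hrow : u0g (k + 3) F ∈ rowStab (Pi.single (Fin.last (k + 2)) (1 : F)) :=
    u0g_mem_rowStab (F := F) (k + 1)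
  have huniqr : ∀ g : GL (Fin (k + 3)) F,
      g⁻¹ * u0g (k + 3) F * g ∈ rowStab (Pi.single (Fin.last (k + 2)) (1 : F)) →
      g ∈ rowStab (Pi.single (Fin.last (k + 2)) (1 : F)) :=
    fun g hg => u0g_unique_row (F := F) (k + 1) g hg
  -- both members fix the first line
  have h₀ : A₀ ≤ lineStab (Pi.single (0 : Fin (k + 3)) (1 : F)) :=
    nc_nfp A₀ _ (h.nilp A₀ hA₀) (u0g (k + 3) F) hu₀ hline (fun g _ hg => huniq g hg)
  have h₁ : A₁ ≤ lineStab (Pi.single (0 : Fin (k + 3)) (1 : F)) := by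
    refine nc_nfp A₁ _ (h.nilp A₁ hA₁) (c * u0g (k + 3) F * c⁻¹) hu₁ ?_ ?_
    · exact Subgroup.mul_mem _ (Subgroup.mul_mem _ hh_line hline) (Subgroup.inv_mem _ hh_line)
    · intro g _ hg
      have e : g⁻¹ * (c * u0g (k + 3) F * c⁻¹) * g = (c⁻¹ * g)⁻¹ * u0g (k + 3) F * (c⁻¹ * g) := by
        group
      rw [e] at hg
      have h2 := huniq _ hg
      have e2 : g = c * (c⁻¹ * g) := by group
      rw [e2]
      exact Subgroup.mul_mem _ hh_line h2
  -- the two members are distinct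
  have hne : A₀ ≠ A₁ := by
    intro heq
    have h3 : A₀ ≤ rowStab (Pi.single (Fin.last (k + 2)) (1 : F)) :=
      nc_nfp A₀ _ (h.nilp A₀ hA₀) (u0g (k + 3) F) hu₀ hrow (fun g _ hg => huniqr g hg)
    have h4 : c * u0g (k + 3) F * c⁻¹ ∈ rowStab (Pi.single (Fin.last (k + 2)) (1 : F)) :=
      h3 (heq ▸ hu₁)
    have e : c * u0g (k + 3) F * c⁻¹ = (c⁻¹)⁻¹ * u0g (k + 3) F * c⁻¹ := by group
    rw [e] at h4
    have h5 := huniqr _ h4
    exact hh_row (by simpa using Subgroup.inv_mem _ h5)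
  -- the point stabiliser is proper
  have hM : ¬ Gh ≤ lineStab (Pi.single (0 : Fin (k + 3)) (1 : F)) := by
    intro hle
    obtain ⟨t, ht⟩ := exists_tt (F := F) (k + 1)
    exact ht (hle (hSL ⟨t, rfl⟩))
  exact nc_merge h A₀ A₁ _ hA₀ hA₁ hne (center_le_lineStab _) hM h₀ h₁

end Cfsg.Agent.Lib.Helper6.Nc
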