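import Cfsg.Agent.Lib.Helper75.St_SW5

/-! # ST-SC1 / ST-SC2: alternating sums over reduced elements (helper75, for helper6's Steinberg hive) -/

set_option autoImplicit false

namespace Cfsg.Agent.Lib.Helper6.St

open Cfsg.Agent.Lib.Helper6 Cfsg.Agent.Lib.Helper6.Exch

section W
variable {W : Type*} [Group W] {ι : Type*} {σ : ι → W}

/-- an alternating sum over the subsets satisfying a monotone "all elements are good" condition -/
theorem sc1_alt_sum_forall [Fintype ι] (p : ι → Prop)
    [DecidablePred (fun J : Finset ι => ∀ j ∈ J, p j)] [Decidable (∀ i, ¬ p i)] :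
    (∑ J ∈ ((Finset.univ : Finset ι).powerset).filter (fun J : Finset ι => ∀ j ∈ J, p j),
      (-1 : ℂ) ^ J.card) =
      if (∀ i, ¬ p i) then 1 else 0 := by
  classical
  have h1 : ((Finset.univ : Finset ι).powerset).filter (fun J : Finset ι => ∀ j ∈ J, p j) =
      (Finset.univ.filter p).powerset := by
    ext J
    simp only [Finset.mem_filter, Finset.mem_powerset, Finset.subset_univ, true_and]
    constructor
    · intro hJ j hj
      simp [hJ j hj]
    · intro hJ j hj
      have := hJ hj
      simpa using this
  rw [h1]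
  have h2 := Finset.sum_powerset_neg_one_pow_card (x := Finset.univ.filter p)
  have h3 : (∑ J ∈ (Finset.univ.filter p).powerset, (-1 : ℂ) ^ J.card) =
      ((∑ m ∈ (Finset.univ.filter p).powerset, (-1 : ℤ) ^ m.card : ℤ) : ℂ) := by
    push_cast
    rfl
  rw [h3, h2]
  by_cases hp : ∀ i, ¬ p i
  · rw [if_pos hp, if_pos]
    · simp
    · rw [Finset.filter_eq_empty_iff]
      intro i _
      exact hp i
  · rw [if_neg hp, if_neg]
    · simp
    · rw [Finset.filter_eq_empty_iff]
      intro hall
      exact hp (fun i => hall (Finset.mem_univ i))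

open Classical in
theorem alt_sum_rred [Fintype ι] [Fintype W] (h : ExSys σ) (f : W → ℂ) {w0 : W}
    (hw0 : ∀ i, ell σ (w0 * σ i) < ell σ w0) :
    ∑ J ∈ (Finset.univ : Finset ι).powerset,
      (-1 : ℂ) ^ J.card * ∑ d ∈ Finset.univ.filter (fun d => RRed σ (↑J : Set ι) d), f d = f w0 := by
  have h1 : ∀ J : Finset ι,
      (-1 : ℂ) ^ J.card * ∑ d ∈ Finset.univ.filter (fun d => RRed σ (↑J : Set ι) d), f d =
      ∑ d : W, if RRed σ (↑J : Set ι) d then (-1 : ℂ) ^ J.card * f d else 0 := by
    intro J
    rw [Finset.mul_sum, Finset.sum_filter]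
  simp_rw [h1]
  rw [Finset.sum_comm]
  have h2 : ∀ d : W, (∑ J ∈ (Finset.univ : Finset ι).powerset,
      if RRed σ (↑J : Set ι) d then (-1 : ℂ) ^ J.card * f d else 0) =
      if d = w0 then f d else 0 := by
    intro d
    rw [← Finset.sum_filter, ← Finset.sum_mul]
    have h3 := sc1_alt_sum_forall (ι := ι) (fun j => ell σ d < ell σ (d * σ j))
    have h4 : ((Finset.univ : Finset ι).powerset).filter (fun J : Finset ι => RRed σ (↑J : Set ι) d) =
        ((Finset.univ : Finset ι).powerset).filter
          (fun J : Finset ι => ∀ j ∈ J, ell σ d < ell σ (d * σ j)) := by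
      apply Finset.filter_congr
      intro J _
      simp only [RRed, Finset.mem_coe]
    rw [h4, h3]
    by_cases hd : d = w0
    · subst hd
      have : ∀ i, ¬ ell σ d < ell σ (d * σ i) := fun i => by have := hw0 i; omega
      rw [if_pos this, if_pos rfl, one_mul]
    · have : ¬ ∀ i, ¬ ell σ d < ell σ (d * σ i) := by
        intro hall
        apply hd
        apply eq_of_all_rdesc h _ hw0
        intro i
        rcases ell_mul_gen h d i with h5 | h5
        · exact absurd (by omega) (hall i)
        · omega
      rw [if_neg this, if_neg hd, zero_mul]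
  simp_rw [h2]
  rw [Finset.sum_ite_eq' Finset.univ w0 f]
  simp

end W

end Cfsg.Agent.Lib.Helper6.St
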