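import Cfsg.Agent.Lib.Helper75.St_SC1

/-! # ST-SC2: the double alternating sum over reduced elements (helper75, for helper6's Steinberg hive) -/

set_option autoImplicit false

namespace Cfsg.Agent.Lib.Helper6.St

open Cfsg.Agent.Lib.Helper6 Cfsg.Agent.Lib.Helper6.Exch

section W
variable {W : Type*} [Group W] {ι : Type*} {σ : ι → W}

open Classical in
theorem sc2_card_eq [Fintype W] (J K : Set ι) :
    (Nat.card {d : W // LRed σ J d ∧ RRed σ K d} : ℂ) =
      ∑ d ∈ Finset.univ.filter (fun d => RRed σ K d), (if LRed σ J d then (1 : ℂ) else 0) := by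
  rw [Nat.card_eq_fintype_card, Fintype.card_subtype, Finset.sum_ite, Finset.sum_const_zero,
    add_zero, Finset.sum_const, nsmul_eq_mul, mul_one, Finset.filter_filter]
  congr 2
  apply Finset.filter_congr
  intro d _
  exact and_comm

open Classical in
theorem alt_sum_lrred [Fintype ι] [Fintype W] (h : ExSys σ) :
    ∑ J ∈ (Finset.univ : Finset ι).powerset, ∑ K ∈ (Finset.univ : Finset ι).powerset,
      (-1 : ℂ) ^ J.card * (-1 : ℂ) ^ K.card *
        (Nat.card {d : W // LRed σ (↑J : Set ι) d ∧ RRed σ (↑K : Set ι) d} : ℂ) = 1 := by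
  obtain ⟨w0, -, hr, hl⟩ := exists_longest h
  have h1 : ∀ J : Finset ι, (∑ K ∈ (Finset.univ : Finset ι).powerset,
      (-1 : ℂ) ^ J.card * (-1 : ℂ) ^ K.card *
        (Nat.card {d : W // LRed σ (↑J : Set ι) d ∧ RRed σ (↑K : Set ι) d} : ℂ)) =
      (-1 : ℂ) ^ J.card * (if LRed σ (↑J : Set ι) w0 then (1 : ℂ) else 0) := by
    intro J
    rw [← alt_sum_rred h (fun d => if LRed σ (↑J : Set ι) d then (1 : ℂ) else 0) hr,
      Finset.mul_sum]
    apply Finset.sum_congr rfl
    intro K _
    rw [sc2_card_eq, mul_assoc]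
  simp_rw [h1]
  rw [Finset.sum_eq_single (∅ : Finset ι)]
  · rw [Finset.card_empty, pow_zero, one_mul, if_pos]
    intro j hj
    simp at hj
  · intro J _ hJ
    rw [if_neg, mul_zero]
    intro hJred
    obtain ⟨j, hj⟩ := Finset.nonempty_iff_ne_empty.mpr hJ
    have h2 := hJred j (by exact_mod_cast hj)
    have h3 := hl j
    omega
  · intro hne
    exact absurd (Finset.empty_mem_powerset _) hne

end W

end Cfsg.Agent.Lib.Helper6.St
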