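import Cfsg.Agent.Lib.Helper6.St.GDefs
import Cfsg.Agent.Lib.Helper31.St_SW3

/-! # ST-SG4: double cosets of parabolic subgroups of a (B,N)-pair are counted by the double cosets
of the parabolic subgroups of the Weyl group (helper75, for helper6's Steinberg hive) -/

set_option autoImplicit false

namespace Cfsg.Agent.Lib.Helper6.St

open Cfsg Cfsg.Agent.Lib.Helper6 Cfsg.Agent.Lib.Helper6.Exch Cfsg.Agent.S0320

section G2
variable {G : Type*} [Group G] (P : Cfsg.BNPair G)

/-- the Weyl group element of the cell of `g` -/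
noncomputable def sg4_wOf (g : G) : Wg P :=
  QuotientGroup.mk (⟨(bruhat_exists (P := P) g).choose,
    (bruhat_exists (P := P) g).choose_spec.1⟩ : P.N)

lemma sg4_wOf_spec (g : G) : ∃ n : P.N, sg4_wOf P g = QuotientGroup.mk n ∧ g ∈ C P (n : G) :=
  ⟨⟨(bruhat_exists (P := P) g).choose, (bruhat_exists (P := P) g).choose_spec.1⟩, rfl,
    (bruhat_exists (P := P) g).choose_spec.2⟩

lemma sg4_wOf_eq {g : G} (n : P.N) (hg : g ∈ C P (n : G)) : sg4_wOf P g = QuotientGroup.mk n := by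
  obtain ⟨m, hm, hgm⟩ := sg4_wOf_spec P g
  rw [hm, mk_eq_iff]
  apply bruhat_unique m.2 n.2
  rw [← C_eq_of_mem P hgm, C_eq_of_mem P hg]

lemma sg4_wOf_coe (n : P.N) : sg4_wOf P (n : G) = QuotientGroup.mk n :=
  sg4_wOf_eq P n (self_mem_C P _)

/-- membership in `W_J` of the class of `n` forces `n ∈ P_J` -/
lemma sg4_mem_parabolic_of_mk_mem (J : Set P.S) (n : P.N)
    (h : (QuotientGroup.mk n : Wg P) ∈ WJ (sig P) J) :
    (n : G) ∈ P.parabolic (Subtype.val '' J) := by
  rw [mem_WJ_iff (exSys_sig P)] at h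
  obtain ⟨L, hL, hw⟩ := h
  rw [wp_sig, mk_eq_iff] at hw
  have h1 : gp P L ∈ Subgroup.closure (Subtype.val '' J : Set G) := by
    unfold gp
    apply Subgroup.list_prod_mem
    intro x hx
    rw [List.mem_map] at hx
    obtain ⟨a, ha, rfl⟩ := hx
    exact Subgroup.subset_closure ⟨a, hL a ha, rfl⟩
  have e : (n : G) = gp P L * ((gp P L)⁻¹ * n) := by group
  rw [e]
  exact (P.parabolic _).mul_mem (closure_le_parabolic _ h1) (B_le_parabolic _ hw)

/-- one step on the left -/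
lemma sg4_step_left (J K : Set P.S) {a : P.N} (ha : (QuotientGroup.mk a : Wg P) ∈ WJ (sig P) J)
    {g : G} {n : P.N} (h : (a : G) * g ∈ C P ((a : G) * n) ∪ C P (n : G)) :
    DoubleCoset.mk (WJ (sig P) J) (WJ (sig P) K) (sg4_wOf P ((a : G) * g)) =
      DoubleCoset.mk (WJ (sig P) J) (WJ (sig P) K) (QuotientGroup.mk n) := by
  rcases h with h | h
  · have h1 : sg4_wOf P ((a : G) * g) = QuotientGroup.mk (a * n) := sg4_wOf_eq P (a * n) h
    rw [h1, eq_comm, DoubleCoset.eq]
    exact ⟨QuotientGroup.mk a, ha, 1, Subgroup.one_mem _, by rw [mul_one, QuotientGroup.mk_mul]⟩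
  · rw [sg4_wOf_eq P n h]

/-- one step on the right -/
lemma sg4_step_right (J K : Set P.S) {a : P.N} (ha : (QuotientGroup.mk a : Wg P) ∈ WJ (sig P) K)
    {g : G} {n : P.N} (h : g * (a : G) ∈ C P ((n : G) * a) ∪ C P (n : G)) :
    DoubleCoset.mk (WJ (sig P) J) (WJ (sig P) K) (sg4_wOf P (g * (a : G))) =
      DoubleCoset.mk (WJ (sig P) J) (WJ (sig P) K) (QuotientGroup.mk n) := by
  rcases h with h | h
  · have h1 : sg4_wOf P (g * (a : G)) = QuotientGroup.mk (n * a) := sg4_wOf_eq P (n * a) h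
    rw [h1, eq_comm, DoubleCoset.eq]
    exact ⟨1, Subgroup.one_mem _, QuotientGroup.mk a, ha, by rw [one_mul, QuotientGroup.mk_mul]⟩
  · rw [sg4_wOf_eq P n h]

lemma sg4_sig_mem (J : Set P.S) {s : P.S} (hs : s ∈ J) :
    (QuotientGroup.mk (⟨(s : G), P.subset s.2⟩ : P.N) : Wg P) ∈ WJ (sig P) J :=
  Subgroup.subset_closure ⟨s, hs, rfl⟩

lemma sg4_sig_inv_mem (J : Set P.S) {s : P.S} (hs : s ∈ J) :
    (QuotientGroup.mk (⟨(s : G), P.subset s.2⟩⁻¹ : P.N) : Wg P) ∈ WJ (sig P) J := by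
  rw [QuotientGroup.mk_inv]
  exact Subgroup.inv_mem _ (sg4_sig_mem P J hs)

/-- the class of the Weyl group element of the cell is invariant under left multiplication by `P_J` -/
lemma sg4_left (J K : Set P.S) {p : G} (hp : p ∈ P.parabolic (Subtype.val '' J)) (g : G) :
    DoubleCoset.mk (WJ (sig P) J) (WJ (sig P) K) (sg4_wOf P (p * g)) =
      DoubleCoset.mk (WJ (sig P) J) (WJ (sig P) K) (sg4_wOf P g) := by
  rw [parabolic_eq_closure] at hp
  induction hp using Subgroup.closure_induction'' generalizing g with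
  | mem x hx =>
    obtain ⟨n, hn, hg⟩ := sg4_wOf_spec P g
    rcases hx with hx | ⟨s, hs, rfl⟩
    · rw [hn, sg4_wOf_eq P n (mul_mem_C_left P hx hg)]
    · rw [hn]
      exact sg4_step_left P J K (a := ⟨(s : G), P.subset s.2⟩) (sg4_sig_mem P J hs)
        (T3_C P s.2 n.2 hg)
  | inv_mem x hx =>
    obtain ⟨n, hn, hg⟩ := sg4_wOf_spec P g
    rcases hx with hx | ⟨s, hs, rfl⟩
    · rw [hn, sg4_wOf_eq P n (mul_mem_C_left P (P.B.inv_mem hx) hg)]
    · rw [hn]
      exact sg4_step_left P J K (a := ⟨(s : G), P.subset s.2⟩⁻¹) (sg4_sig_inv_mem P J hs)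
        (T3_C_inv P s.2 n.2 hg)
  | one => rw [one_mul]
  | mul x y _ _ hx hy => rw [mul_assoc, hx, hy]

/-- the class of the Weyl group element of the cell is invariant under right multiplication by
`P_K` -/
lemma sg4_right (J K : Set P.S) {q : G} (hq : q ∈ P.parabolic (Subtype.val '' K)) (g : G) :
    DoubleCoset.mk (WJ (sig P) J) (WJ (sig P) K) (sg4_wOf P (g * q)) =
      DoubleCoset.mk (WJ (sig P) J) (WJ (sig P) K) (sg4_wOf P g) := by
  rw [parabolic_eq_closure] at hq
  induction hq using Subgroup.closure_induction'' generalizing g with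
  | mem x hx =>
    obtain ⟨n, hn, hg⟩ := sg4_wOf_spec P g
    rcases hx with hx | ⟨s, hs, rfl⟩
    · rw [hn, sg4_wOf_eq P n (mul_mem_C_right P hx hg)]
    · rw [hn]
      exact sg4_step_right P J K (a := ⟨(s : G), P.subset s.2⟩) (sg4_sig_mem P K hs)
        (T3_right P s.2 n.2 hg)
  | inv_mem x hx =>
    obtain ⟨n, hn, hg⟩ := sg4_wOf_spec P g
    rcases hx with hx | ⟨s, hs, rfl⟩
    · rw [hn, sg4_wOf_eq P n (mul_mem_C_right P (P.B.inv_mem hx) hg)]
    · rw [hn]
      exact sg4_step_right P J K (a := ⟨(s : G), P.subset s.2⟩⁻¹) (sg4_sig_inv_mem P K hs)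
        (T3_right_inv P s.2 n.2 hg)
  | one => rw [mul_one]
  | mul x y _ _ hx hy => rw [← mul_assoc, hy, hx]

/-- the map on double cosets -/
noncomputable def sg4_map (J K : Set P.S) :
    DoubleCoset.Quotient (P.parabolic (Subtype.val '' J) : Set G)
      (P.parabolic (Subtype.val '' K) : Set G) →
    DoubleCoset.Quotient (WJ (sig P) J : Set (Wg P)) (WJ (sig P) K : Set (Wg P)) :=
  Quotient.lift (s := DoubleCoset.setoid _ _)
    (fun g => DoubleCoset.mk (WJ (sig P) J) (WJ (sig P) K) (sg4_wOf P g)) (by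
      intro g g' hgg'
      obtain ⟨a, ha, b, hb, rfl⟩ := DoubleCoset.rel_iff.mp hgg'
      show _ = DoubleCoset.mk (WJ (sig P) J) (WJ (sig P) K) (sg4_wOf P (a * g * b))
      rw [sg4_right P J K hb, sg4_left P J K ha])

lemma sg4_map_mk (J K : Set P.S) (g : G) :
    sg4_map P J K (DoubleCoset.mk _ _ g) =
      DoubleCoset.mk (WJ (sig P) J) (WJ (sig P) K) (sg4_wOf P g) := rfl

lemma sg4_map_injective (J K : Set P.S) : Function.Injective (sg4_map P J K) := by
  intro x y hxy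
  induction x using Quotient.inductionOn' with | _ g => ?_
  induction y using Quotient.inductionOn' with | _ g' => ?_
  change sg4_map P J K (DoubleCoset.mk _ _ g) = sg4_map P J K (DoubleCoset.mk _ _ g') at hxy
  rw [sg4_map_mk, sg4_map_mk, DoubleCoset.eq] at hxy
  obtain ⟨u, hu, v, hv, he⟩ := hxy
  obtain ⟨n, hn, hg⟩ := sg4_wOf_spec P g
  obtain ⟨n', hn', hg'⟩ := sg4_wOf_spec P g'
  obtain ⟨a, rfl⟩ := QuotientGroup.mk_surjective u
  obtain ⟨c, rfl⟩ := QuotientGroup.mk_surjective v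
  have ha := sg4_mem_parabolic_of_mk_mem P J a hu
  have hc := sg4_mem_parabolic_of_mk_mem P K c hv
  rw [hn, hn', ← QuotientGroup.mk_mul, ← QuotientGroup.mk_mul, mk_eq_iff] at he
  -- he : (n')⁻¹ * (a n c) ∈ B
  rw [mem_C] at hg hg'
  obtain ⟨x1, hx1, y1, hy1, rfl⟩ := hg
  obtain ⟨x2, hx2, y2, hy2, rfl⟩ := hg'
  change DoubleCoset.mk _ _ (x1 * n * y1) = DoubleCoset.mk _ _ (x2 * n' * y2)
  rw [DoubleCoset.eq]
  set b : G := (n' : G)⁻¹ * ((a : G) * n * c) with hb
  have hbB : b ∈ P.B := by simpa using he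
  refine ⟨x2 * a * x1⁻¹, ?_, y1⁻¹ * c * b⁻¹ * y2, ?_, ?_⟩
  · exact (P.parabolic _).mul_mem ((P.parabolic _).mul_mem (B_le_parabolic _ hx2) ha)
      (B_le_parabolic _ (P.B.inv_mem hx1))
  · exact (P.parabolic _).mul_mem ((P.parabolic _).mul_mem ((P.parabolic _).mul_mem
      (B_le_parabolic _ (P.B.inv_mem hy1)) hc) (B_le_parabolic _ (P.B.inv_mem hbB)))
      (B_le_parabolic _ hy2)
  · rw [hb]; group

lemma sg4_map_surjective (J K : Set P.S) : Function.Surjective (sg4_map P J K) := by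
  intro y
  induction y using Quotient.inductionOn' with | _ w => ?_
  obtain ⟨n, rfl⟩ := QuotientGroup.mk_surjective w
  refine ⟨DoubleCoset.mk _ _ (n : G), ?_⟩
  rw [sg4_map_mk, sg4_wOf_coe]

/-- SG4: the double cosets of parabolic subgroups correspond to the double cosets in the Weyl
group -/
theorem card_doubleCoset_parabolic [Finite G] (J K : Set P.S) :
    Nat.card (DoubleCoset.Quotient (P.parabolic (Subtype.val '' J) : Set G)
        (P.parabolic (Subtype.val '' K) : Set G)) =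
      Nat.card (DoubleCoset.Quotient (WJ (S0320.sig P) J : Set (Wg P)) (WJ (S0320.sig P) K : Set (Wg P))) :=
  Nat.card_congr (Equiv.ofBijective (sg4_map P J K) ⟨sg4_map_injective P J K, sg4_map_surjective P J K⟩)

end G2

end Cfsg.Agent.Lib.Helper6.St
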