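import Cfsg.Agent.Lib.Helper80.St_SW2

/-! # ST-SW5: the longest element of a finite exchange system (helper75, for helper6's Steinberg hive) -/

set_option autoImplicit false

namespace Cfsg.Agent.Lib.Helper6.St

open Cfsg.Agent.Lib.Helper6 Cfsg.Agent.Lib.Helper6.Exch

section W
variable {W : Type*} [Group W] {ι : Type*} {σ : ι → W}

theorem exists_longest [Finite W] (h : ExSys σ) :
    ∃ w0 : W, (∀ w, ell σ w ≤ ell σ w0) ∧ (∀ i, ell σ (w0 * σ i) < ell σ w0) ∧
      (∀ i, ell σ (σ i * w0) < ell σ w0) := by
  obtain ⟨w0, hw0⟩ := Finite.exists_max (fun w : W => ell σ w)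
  refine ⟨w0, hw0, ?_, ?_⟩
  · intro i
    rcases ell_mul_gen h w0 i with h1 | h1
    · have := hw0 (w0 * σ i)
      omega
    · omega
  · intro i
    rcases ell_gen_mul h i w0 with h1 | h1
    · have := hw0 (σ i * w0)
      omega
    · omega

/-- if all generators are right descents of `w`, every reduced word is a right end of a reduced
word of `w` -/
theorem sw5_exists_prefix (h : ExSys σ) {w : W} (hw : ∀ i, ell σ (w * σ i) < ell σ w) (M : List ι)
    (hM : IsRed σ M) : ∃ L : List ι, wp σ (L ++ M) = w ∧ IsRed σ (L ++ M) := by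
  induction M using List.reverseRecOn with
  | nil =>
    obtain ⟨L, hL, hLw, -⟩ := exists_isRed_eq h w
    exact ⟨L, by simpa using hLw, by simpa using hL⟩
  | append_singleton M i ih =>
    obtain ⟨L, hLw, hLred⟩ := ih hM.append_left
    have hlt : ell σ (wp σ (L ++ M) * σ i) < ell σ (wp σ (L ++ M)) := by
      rw [hLw]; exact hw i
    obtain ⟨j, hj, hje⟩ := exchange_right h hLred hlt
    have hsq : σ i * σ i = 1 := h.sq i
    by_cases hjL : j < L.length
    · -- the deleted letter is in `L`
      have he : (L ++ M).eraseIdx j = L.eraseIdx j ++ M := List.eraseIdx_append_of_lt_length hjL M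
      refine ⟨L.eraseIdx j, ?_, ?_⟩
      · rw [← List.append_assoc, wp_append, ← he, ← hje, wp_singleton, mul_assoc, hsq, mul_one, hLw]
      · have hlen : (L.eraseIdx j ++ (M ++ [i])).length = (L ++ M).length := by
          simp only [List.length_append, List.length_eraseIdx, hjL, if_true, List.length_singleton]
          omega
        have hwp : wp σ (L.eraseIdx j ++ (M ++ [i])) = wp σ (L ++ M) := by
          rw [← List.append_assoc, wp_append, ← he, ← hje, wp_singleton, mul_assoc, hsq, mul_one]
        exact hLred.of_eq hwp hlen.le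
    · -- the deleted letter is in `M`: impossible
      exfalso
      have hjL' : L.length ≤ j := not_lt.mp hjL
      have he : (L ++ M).eraseIdx j = L ++ M.eraseIdx (j - L.length) :=
        List.eraseIdx_append_of_length_le hjL' M
      rw [he, wp_append, wp_append, mul_assoc] at hje
      have h2 : wp σ M * σ i = wp σ (M.eraseIdx (j - L.length)) := mul_left_cancel hje
      have h3 : wp σ (M.eraseIdx (j - L.length)) = wp σ (M ++ [i]) := by
        rw [wp_append, wp_singleton, h2]
      have h4 := hM _ h3
      have hjM : j - L.length < M.length := by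
        simp only [List.length_append] at hj
        omega
      simp only [List.length_append, List.length_singleton, List.length_eraseIdx, hjM,
        if_true] at h4
      omega

theorem ell_add_of_all_rdesc (h : ExSys σ) {w : W} (hw : ∀ i, ell σ (w * σ i) < ell σ w) (x : W) :
    ell σ (w * x⁻¹) + ell σ x = ell σ w := by
  obtain ⟨M, hM, hMx, hMl⟩ := exists_isRed_eq h x
  obtain ⟨L, hLw, hLred⟩ := sw5_exists_prefix h hw M hM
  have h1 : w * x⁻¹ = wp σ L := by
    rw [← hLw, wp_append, hMx, mul_assoc, mul_inv_cancel, mul_one]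
  have h2 : ell σ (wp σ L) = L.length := IsRed.ell_eq hLred.append_left
  have h3 : ell σ w = (L ++ M).length := by rw [← hLw]; exact IsRed.ell_eq hLred
  rw [h1, h2, h3, List.length_append, hMl]

theorem eq_of_all_rdesc (h : ExSys σ) {w w' : W} (hw : ∀ i, ell σ (w * σ i) < ell σ w)
    (hw' : ∀ i, ell σ (w' * σ i) < ell σ w') : w = w' := by
  have h1 := ell_add_of_all_rdesc h hw w'
  have h2 := ell_add_of_all_rdesc h hw' w
  have h3 : ell σ (w * w'⁻¹) = 0 := by omega
  rw [ell_eq_zero_iff h] at h3
  exact mul_inv_eq_one.mp h3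

end W

end Cfsg.Agent.Lib.Helper6.St
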