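import Mathlib
import Cfsg.Agent.Lib.Helper12.PsDefs
import Cfsg.Agent.Lib.Helper27.CgCG7
import Cfsg.Agent.Lib.Helper88.CgCG4

/-!
# Ps hive (S4321): leaf psD.  If every `p'`-element centralizes a conjugate of the Sylow
`p`-subgroup `P`, then `H = C_H(P) P`.
-/

set_option autoImplicit false

namespace Cfsg.Agent.Lib.Helper12.Ps

open Subgroup Cfsg.Agent.Lib.Helper22.Cg
open scoped Pointwise

universe u

/-- `C_H(P) P` as a subgroup. -/
def psD_sub {H : Type u} [Group H] (P : Subgroup H) : Subgroup H where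
  carrier := {g | ∃ y ∈ P, ∃ c : H, (∀ y' ∈ P, c * y' = y' * c) ∧ g = c * y}
  one_mem' := ⟨1, P.one_mem, 1, fun y' _ => by simp, by simp⟩
  mul_mem' := by
    rintro _ _ ⟨y1, hy1, c1, hc1, rfl⟩ ⟨y2, hy2, c2, hc2, rfl⟩
    refine ⟨y1 * y2, P.mul_mem hy1 hy2, c1 * c2, fun y' hy' => ?_, ?_⟩
    · rw [mul_assoc, hc2 y' hy', ← mul_assoc, hc1 y' hy', mul_assoc]
    · have h := hc2 y1 hy1
      calc c1 * y1 * (c2 * y2) = c1 * (y1 * c2) * y2 := by group
        _ = c1 * (c2 * y1) * y2 := by rw [h]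
        _ = c1 * c2 * (y1 * y2) := by group
  inv_mem' := by
    rintro _ ⟨y, hy, c, hc, rfl⟩
    refine ⟨y⁻¹, P.inv_mem hy, c⁻¹, fun y' hy' => ?_, ?_⟩
    · have h := hc y' hy'
      calc c⁻¹ * y' = c⁻¹ * (y' * c) * c⁻¹ := by group
        _ = c⁻¹ * (c * y') * c⁻¹ := by rw [h]
        _ = y' * c⁻¹ := by group
    · have h := hc y⁻¹ (P.inv_mem hy)
      calc (c * y)⁻¹ = c⁻¹ * (c * y⁻¹) * c⁻¹ := by group
        _ = c⁻¹ * (y⁻¹ * c) * c⁻¹ := by rw [h]
        _ = c⁻¹ * y⁻¹ := by group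

/-- PSD. abstract: if every `p'`-element centralizes a conjugate of the Sylow `p`-subgroup `P`,
then `H = C_H(P) P`.  (cg7 p-part/p'-part, Sylow in `C(v)`, cg4.) -/
theorem psD {H : Type u} [Group H] [Finite H] (p : ℕ) [Fact p.Prime] (P : Sylow p H)
    (hv : ∀ v : H, ¬ p ∣ orderOf v →
      ∃ k : H, ∀ y ∈ P, (k * y * k⁻¹) * v = v * (k * y * k⁻¹)) :
    ∀ g : H, ∃ y ∈ P, ∃ c : H, (∀ y' ∈ P, c * y' = y' * c) ∧ g = c * y := by
  have hD : psD_sub (P : Subgroup H) = ⊤ := by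
    apply cg4
    intro g
    obtain ⟨a, v, hav, haz, hvz, ⟨n, hn⟩, hpv⟩ := cg7 p g
    have hcomm : a * v = v * a := by
      obtain ⟨i, hi⟩ := mem_zpowers_iff.1 haz
      obtain ⟨j, hj⟩ := mem_zpowers_iff.1 hvz
      rw [← hi, ← hj, ← zpow_add, ← zpow_add, add_comm]
    obtain ⟨k, hk⟩ := hv v hpv
    -- the Sylow subgroup `k • P` lies in `K = C(v)`
    set K : Subgroup H := centralizer ({v} : Set H) with hKdef
    have hmemK : ∀ x : H, x ∈ K ↔ x * v = v * x := by
      intro x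
      rw [hKdef, mem_centralizer_singleton_iff]
    have hQmem : ∀ x : H, x ∈ (k • P : Sylow p H) ↔ k⁻¹ * x * k ∈ P := by
      intro x
      change x ∈ (MulAut.conj k • (P : Subgroup H)) ↔ _
      rw [Subgroup.mem_pointwise_smul_iff_inv_smul_mem]
      simp only [MulAut.smul_def, MulAut.conj_apply, inv_inv]
      exact Iff.rfl
    have hQK : ((k • P : Sylow p H) : Subgroup H) ≤ K := by
      intro x hx
      have hx' := (hQmem x).1 hx
      have h := hk _ hx'
      rw [hmemK]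
      have e : k * (k⁻¹ * x * k) * k⁻¹ = x := by group
      rwa [e] at h
    have haK : a ∈ K := (hmemK a).2 hcomm
    let a' : K := ⟨a, haK⟩
    have hA : IsPGroup p (zpowers a') := by
      apply IsPGroup.of_card (n := n)
      rw [Nat.card_zpowers, Subgroup.orderOf_mk, hn]
    obtain ⟨R, hR⟩ := hA.exists_le_sylow
    obtain ⟨c, hc⟩ := MulAction.exists_smul_eq K ((k • P : Sylow p H).subtype hQK) R
    have haR : a' ∈ R := hR (mem_zpowers a')
    rw [← hc] at haR
    change a' ∈ (MulAut.conj c • (((k • P : Sylow p H).subtype hQK : Sylow p K) : Subgroup K)) at haR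
    rw [Subgroup.mem_pointwise_smul_iff_inv_smul_mem] at haR
    have haR' : (c⁻¹ * a' * c : K) ∈ (((k • P : Sylow p H).subtype hQK : Sylow p K) : Subgroup K) := by
      simpa [MulAut.smul_def, MulAut.conj_apply] using haR
    rw [Sylow.coe_subtype, Subgroup.mem_subgroupOf] at haR'
    have haQ : (c : H)⁻¹ * a * (c : H) ∈ (k • P : Sylow p H) := by
      simp only [Subgroup.coe_mul, Subgroup.coe_inv] at haR'
      exact haR'
    have haP := (hQmem _).1 haQ
    -- conjugate by `m = c k`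
    have hcv : (c : H) * v = v * (c : H) := (hmemK _).1 c.2
    refine ⟨((c : H) * k)⁻¹, ?_⟩
    refine ⟨k⁻¹ * ((c : H)⁻¹ * a * (c : H)) * k, haP, k⁻¹ * v * k, fun y' hy' => ?_, ?_⟩
    · have h := hk y' hy'
      calc k⁻¹ * v * k * y' = k⁻¹ * (v * (k * y' * k⁻¹)) * k := by group
        _ = k⁻¹ * ((k * y' * k⁻¹) * v) * k := by rw [h]
        _ = y' * (k⁻¹ * v * k) := by group
    · have hcv' : (c : H)⁻¹ * v * (c : H) = v := by
        calc (c : H)⁻¹ * v * (c : H) = (c : H)⁻¹ * (v * (c : H)) := by group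
          _ = (c : H)⁻¹ * ((c : H) * v) := by rw [hcv]
          _ = v := by group
      have hAv : ((c : H)⁻¹ * a * (c : H)) * v = v * ((c : H)⁻¹ * a * (c : H)) := by
        calc ((c : H)⁻¹ * a * (c : H)) * v = (c : H)⁻¹ * a * ((c : H) * v) := by group
          _ = (c : H)⁻¹ * a * (v * (c : H)) := by rw [hcv]
          _ = (c : H)⁻¹ * (a * v) * (c : H) := by group
          _ = (c : H)⁻¹ * (v * a) * (c : H) := by rw [hcomm]
          _ = ((c : H)⁻¹ * v * (c : H)) * ((c : H)⁻¹ * a * (c : H)) := by group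
          _ = v * ((c : H)⁻¹ * a * (c : H)) := by rw [hcv']
      rw [← hav]
      calc ((c : H) * k)⁻¹ * (a * v) * ((c : H) * k)⁻¹⁻¹
          = k⁻¹ * ((c : H)⁻¹ * a * (c : H)) * ((c : H)⁻¹ * v * (c : H)) * k := by group
        _ = k⁻¹ * (((c : H)⁻¹ * a * (c : H)) * v) * k := by rw [hcv']; group
        _ = k⁻¹ * (v * ((c : H)⁻¹ * a * (c : H))) * k := by rw [hAv]
        _ = k⁻¹ * v * k * (k⁻¹ * ((c : H)⁻¹ * a * (c : H)) * k) := by group
  intro g
  have hg : g ∈ psD_sub (P : Subgroup H) := by rw [hD]; trivial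
  exact hg

end Cfsg.Agent.Lib.Helper12.Ps
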