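import Mathlib
import Cfsg.Prelude.Def_Blocks
import Cfsg.Agent.Lib.Helper75.GaloisTwist

set_option autoImplicit false

namespace Cfsg.Agent.Lib.Helper75

open Cfsg

section

variable {G : Type*} [Group G]

theorem centralizer_pow_eq [Finite G] (g : G) (k : ℕ) (hk : Nat.Coprime k (orderOf g)) :
    Subgroup.centralizer ({g ^ k} : Set G) = Subgroup.centralizer ({g} : Set G) := by
  obtain ⟨m, hm⟩ := exists_pow_eq_self_of_coprime hk
  ext h
  rw [Subgroup.mem_centralizer_singleton_iff, Subgroup.mem_centralizer_singleton_iff]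
  constructor
  · intro hh
    have : Commute h (g ^ k) := hh
    have h2 : Commute h ((g ^ k) ^ m) := this.pow_right m
    rw [hm] at h2
    exact h2
  · intro hh
    have : Commute h g := hh
    exact this.pow_right k

theorem centralChar_pow [Finite G] (χ : G → ℂ) (k : ℕ) (g : G)
    (hk : Nat.Coprime k (orderOf g)) :
    centralChar (fun x => χ (x ^ k)) g = centralChar χ (g ^ k) := by
  unfold centralChar
  rw [centralizer_pow_eq g k hk]
  simp only [one_pow]

theorem sameBlock_pow [Finite G] {M : Ideal AlgInt} {χ ψ : G → ℂ} (h : SameBlock M χ ψ) (k : ℕ)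
    (hk : Nat.Coprime k (Nat.card G)) :
    SameBlock M (fun x => χ (x ^ k)) (fun x => ψ (x ^ k)) := by
  intro g
  have hkg : Nat.Coprime k (orderOf g) := Nat.Coprime.coprime_dvd_right (orderOf_dvd_natCard g) hk
  rw [centralChar_pow χ k g hkg, centralChar_pow ψ k g hkg]
  exact h (g ^ k)

/-- The permutation of the irreducible characters induced by a power map coprime to `|G|`. -/
noncomputable def powIrr [Finite G] (k : ℕ) (hk : Nat.Coprime k (Nat.card G))
    (χ : IrrCharacter G) : IrrCharacter G :=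
  ⟨fun g => (χ : G → ℂ) (g ^ k), isIrrCharacter_pow χ.2 k hk⟩

@[simp]
theorem powIrr_apply [Finite G] (k : ℕ) (hk : Nat.Coprime k (Nat.card G)) (χ : IrrCharacter G)
    (g : G) : (powIrr k hk χ : G → ℂ) g = (χ : G → ℂ) (g ^ k) := rfl

theorem charDegree_powIrr [Finite G] (k : ℕ) (hk : Nat.Coprime k (Nat.card G))
    (χ : IrrCharacter G) :
    charDegree (powIrr k hk χ : G → ℂ) = charDegree (χ : G → ℂ) := by
  unfold charDegree
  rw [powIrr_apply, one_pow]

theorem powIrr_mem_principalBlock [Finite G] {M : Ideal AlgInt} (k : ℕ)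
    (hk : Nat.Coprime k (Nat.card G)) {χ : IrrCharacter G} (h : χ ∈ principalBlock M G) :
    powIrr k hk χ ∈ principalBlock M G := by
  have h1 : SameBlock M (fun _ : G => (1 : ℂ)) (χ : G → ℂ) := h
  exact sameBlock_pow h1 k hk

theorem powIrr_mem_blockOf [Finite G] {M : Ideal AlgInt} (k : ℕ)
    (hk : Nat.Coprime k (Nat.card G)) {ψ : G → ℂ} {χ : IrrCharacter G}
    (h : χ ∈ blockOf M ψ) :
    powIrr k hk χ ∈ blockOf M (fun x => ψ (x ^ k)) := by
  have h1 : SameBlock M ψ (χ : G → ℂ) := h
  exact sameBlock_pow h1 k hk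

theorem powIrr_powIrr [Finite G] (k l : ℕ) (hk : Nat.Coprime k (Nat.card G))
    (hl : Nat.Coprime l (Nat.card G)) (χ : IrrCharacter G) :
    powIrr k hk (powIrr l hl χ) = powIrr (k * l) (Nat.Coprime.mul_left hk hl) χ := by
  apply Subtype.ext
  funext g
  simp only [powIrr_apply, pow_mul]

theorem powIrr_eq_self_of_forall [Finite G] (k : ℕ) (hk : Nat.Coprime k (Nat.card G))
    (h : ∀ g : G, g ^ k = g) (χ : IrrCharacter G) : powIrr k hk χ = χ := by
  apply Subtype.ext
  funext g
  simp only [powIrr_apply, h g]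

theorem powIrr_iterate [Finite G] (k : ℕ) (hk : Nat.Coprime k (Nat.card G)) (n : ℕ)
    (χ : IrrCharacter G) :
    (powIrr k hk)^[n] χ = powIrr (k ^ n) (Nat.Coprime.pow_left n hk) χ := by
  induction n with
  | zero =>
    apply Subtype.ext
    funext g
    simp
  | succ n ih =>
    rw [Function.iterate_succ_apply', ih, powIrr_powIrr]
    apply Subtype.ext
    funext g
    simp only [powIrr_apply, pow_succ, mul_comm]

theorem powIrr_eq_iff [Finite G] (k : ℕ) (hk : Nat.Coprime k (Nat.card G)) (χ : IrrCharacter G) :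
    powIrr k hk χ = χ ↔ ∀ g : G, (χ : G → ℂ) (g ^ k) = (χ : G → ℂ) g := by
  constructor
  · intro h g
    have := congrArg (fun ψ : IrrCharacter G => (ψ : G → ℂ) g) h
    simpa using this
  · intro h
    apply Subtype.ext
    funext g
    simp only [powIrr_apply, h g]

end

end Cfsg.Agent.Lib.Helper75
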