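import Mathlib
import Cfsg.Agent.Lib.Helper75.AltFV0

/-! # S5165 leaf V2 (helper75, for helper87's AltF hive): `Rg = Vg × Brest` is self-centralizing -/

set_option autoImplicit false

namespace Cfsg.Agent.Lib.Helper87.AltF

open Equiv Subgroup

section
variable (p a0 m' : ℕ) [Fact p.Prime]

/-- if `g` commutes with `c`, it maps moved points of `c` to moved points of `c` -/
theorem v2_moved {Y : Type*} (g c : Perm Y) (h : g * c = c * g) {x : Y} (hx : c x ≠ x) :
    c (g x) ≠ g x := by
  intro h1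
  apply hx
  have h2 : g (c x) = c (g x) := by
    have := congrArg (fun f : Perm Y => f x) h
    simpa [Perm.mul_apply] using this
  rw [h1] at h2
  exact g.injective h2

theorem v2_one_ne_zero : (1 : ZMod p) ≠ 0 := by
  have : Fact (1 < p) := ⟨(Fact.out : p.Prime).one_lt⟩
  exact one_ne_zero

/-- the points moved by `vt1` are the points of the square -/
theorem v2_vt1_moved (y : Pt p m' a0) (hy : vt1 p a0 m' y ≠ y) :
    ∃ a b : ZMod p, y = Sum.inl (Sum.inl a, b) := by
  rcases y with ⟨(a | i), b⟩ | y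
  · exact ⟨a, b, rfl⟩
  · exact absurd (vt1_rest p a0 m' i b) hy
  · exact absurd rfl hy

theorem v2_vt1_moves (a b : ZMod p) :
    vt1 p a0 m' (Sum.inl (Sum.inl a, b)) ≠ Sum.inl (Sum.inl a, b) := by
  rw [vt1_sq]
  intro h
  have h1 : a + 1 = a := by
    have := Sum.inl_injective h
    have := congrArg Prod.fst this
    exact Sum.inl_injective this
  exact v2_one_ne_zero p (by simp at h1)

omit [Fact p.Prime] in
/-- the points moved by `cyc (inr i)` are the points of block `i` -/
theorem v2_cyc_moved (i : Fin m') (y : Pt p m' a0)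
    (hy : cyc p a0 (Sum.inr i : Idx p m') y ≠ y) : ∃ s : ZMod p, y = Sum.inl (Sum.inr i, s) := by
  rcases y with ⟨k, s⟩ | y
  · by_cases hk : k = Sum.inr i
    · subst hk
      exact ⟨s, rfl⟩
    · exact absurd (cyc_inl_of_ne p a0 hk s) hy
  · exact absurd rfl hy

theorem v2_cyc_moves (i : Fin m') (s : ZMod p) :
    cyc p a0 (Sum.inr i : Idx p m') (Sum.inl (Sum.inr i, s)) ≠ Sum.inl (Sum.inr i, s) := by
  rw [cyc_inl_self]
  intro h
  have h1 : s + 1 = s := by
    have := Sum.inl_injective h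
    exact congrArg Prod.snd this
  exact v2_one_ne_zero p (by simp at h1)

theorem v2_vt1_mem : vt1 p a0 m' ∈ Rg p a0 m' :=
  (le_sup_left : Vg p a0 m' ≤ _) (Subgroup.subset_closure (Set.mem_insert _ _))

theorem v2_cyc_mem (i : Fin m') : cyc p a0 (Sum.inr i : Idx p m') ∈ Rg p a0 m' :=
  (le_sup_right : Brest p a0 m' ≤ _) (Subgroup.subset_closure ⟨i, rfl⟩)

theorem v2_Psi_mem (x : Multiplicative (ZMod p)) : v0_Psi p a0 m' x ∈ Rg p a0 m' := by
  have h1 : Subgroup.zpowers (vt1 p a0 m') ≤ Rg p a0 m' := by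
    rw [Subgroup.zpowers_le]
    exact v2_vt1_mem p a0 m'
  exact h1 (v0_Psi_mem_zpowers p a0 m' x)

/-- the translations `(a, b) ↦ (a, b + x)` of the square lie in `Vg` -/
theorem v2_Phi_sq_mem (x : Multiplicative (ZMod p)) :
    v0_Phi (I := Idx p m') p a0 (fun j => Sum.elim (fun _ => x) (fun _ => 1) j) ∈ Rg p a0 m' := by
  have h1 : (fun j : Idx p m' => Sum.elim (fun _ => x) (fun _ => (1 : Multiplicative (ZMod p))) j) =
      (fun j : Idx p m' => Sum.elim (fun _ => Multiplicative.ofAdd (1 : ZMod p))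
        (fun _ => (1 : Multiplicative (ZMod p))) j) ^ (Multiplicative.toAdd x).val := by
    funext j
    rcases j with a | i
    · simp only [Sum.elim_inl, Pi.pow_apply]
      exact v0_eq_pow p x
    · simp only [Sum.elim_inr, Pi.pow_apply, one_pow]
  rw [h1, map_pow, ← v0_vt2_eq]
  apply Subgroup.pow_mem
  exact (le_sup_left : Vg p a0 m' ≤ _)
    (Subgroup.subset_closure (Set.mem_insert_of_mem _ (Set.mem_singleton _)))

/-- the block translations outside the square lie in `Brest` -/
theorem v2_Phi_rest_mem (ν : Fin m' → Multiplicative (ZMod p)) :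
    v0_Phi (I := Idx p m') p a0 (fun j => Sum.elim (fun _ => 1) ν j) ∈ Rg p a0 m' := by
  apply (le_sup_right : Brest p a0 m' ≤ _)
  apply v0_Phi_mem p a0 (Brest p a0 m') (Set.range Sum.inr)
  · rintro _ ⟨i, rfl⟩
    exact Subgroup.subset_closure ⟨i, rfl⟩
  · intro k hk
    rcases k with a | i
    · rfl
    · exact absurd ⟨i, rfl⟩ hk

/-- [V2] `Rg = Vg × Brest` is self-centralizing in the symmetric group. -/
theorem Rg_centric (p a0 m' : ℕ) [Fact p.Prime] (ha0 : a0 ≤ 1) :
    ∀ g : Perm (Pt p m' a0), (∀ y ∈ Rg p a0 m', g * y = y * g) → g ∈ Rg p a0 m' := by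
  intro g hg
  have hginv : ∀ y ∈ Rg p a0 m', g⁻¹ * y = y * g⁻¹ := by
    intro y hy
    have := hg y hy
    rw [inv_mul_eq_iff_eq_mul, ← mul_assoc, this, mul_inv_cancel_right]
  have happ : ∀ y ∈ Rg p a0 m', ∀ x, g (y x) = y (g x) := by
    intro y hy x
    have := congrArg (fun f : Perm (Pt p m' a0) => f x) (hg y hy)
    simpa [Perm.mul_apply] using this
  -- the square is preserved
  have hsq : ∀ (f : Perm (Pt p m' a0)), (∀ y ∈ Rg p a0 m', f * y = y * f) → ∀ a b : ZMod p,
      ∃ a' b' : ZMod p, f (Sum.inl (Sum.inl a, b)) = Sum.inl (Sum.inl a', b') := by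
    intro f hf a b
    exact v2_vt1_moved p a0 m' _
      (v2_moved f (vt1 p a0 m') (hf _ (v2_vt1_mem p a0 m')) (v2_vt1_moves p a0 m' a b))
  have hblk : ∀ (f : Perm (Pt p m' a0)), (∀ y ∈ Rg p a0 m', f * y = y * f) → ∀ (i : Fin m')
      (s : ZMod p), ∃ s' : ZMod p, f (Sum.inl (Sum.inr i, s)) = Sum.inl (Sum.inr i, s') := by
    intro f hf i s
    exact v2_cyc_moved p a0 m' i _
      (v2_moved f (cyc p a0 (Sum.inr i : Idx p m')) (hf _ (v2_cyc_mem p a0 m' i))
        (v2_cyc_moves p a0 m' i s))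
  -- the extra points are fixed
  have hextra : ∀ x : Fin a0, g (Sum.inr x) = Sum.inr x := by
    intro x
    rcases hy : g (Sum.inr x) with ⟨(a | i), b⟩ | y
    · exfalso
      obtain ⟨a', b', h1⟩ := hsq g⁻¹ hginv a b
      have h2 : g⁻¹ (g (Sum.inr x)) = Sum.inr x := by simp
      rw [← hy, h2] at h1
      exact Sum.inr_ne_inl h1
    · exfalso
      obtain ⟨s', h1⟩ := hblk g⁻¹ hginv i b
      have h2 : g⁻¹ (g (Sum.inr x)) = Sum.inr x := by simp
      rw [← hy, h2] at h1
      exact Sum.inr_ne_inl h1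
    · have : Subsingleton (Fin a0) := by
        rcases Nat.le_one_iff_eq_zero_or_eq_one.mp ha0 with h | h
        · subst h; infer_instance
        · subst h; infer_instance
      rw [Subsingleton.elim y x]
  obtain ⟨a', b', h00⟩ := hsq g hg 0 0
  choose c hc using fun i => hblk g hg i 0
  -- the action on the square
  have hsq' : ∀ a b : ZMod p, g (Sum.inl (Sum.inl a, b)) = Sum.inl (Sum.inl (a + a'), b + b') := by
    intro a b
    have h1 : (Sum.inl (Sum.inl a, b) : Pt p m' a0) =
        v0_Psi p a0 m' (Multiplicative.ofAdd a)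
          (v0_Phi (I := Idx p m') p a0
            (fun j => Sum.elim (fun _ => Multiplicative.ofAdd b) (fun _ => 1) j)
            (Sum.inl (Sum.inl 0, 0))) := by
      rw [v0_Phi_inl, v0_Psi_sq]
      simp
    rw [h1, happ _ (v2_Psi_mem p a0 m' _), happ _ (v2_Phi_sq_mem p a0 m' _), h00, v0_Phi_inl,
      v0_Psi_sq]
    simp [add_comm]
  have hblk' : ∀ (i : Fin m') (s : ZMod p),
      g (Sum.inl (Sum.inr i, s)) = Sum.inl (Sum.inr i, s + c i) := by
    intro i s
    have h1 : (Sum.inl (Sum.inr i, s) : Pt p m' a0) =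
        v0_Phi (I := Idx p m') p a0
          (fun j => Sum.elim (fun _ => 1) (fun _ : Fin m' => Multiplicative.ofAdd s) j)
          (Sum.inl (Sum.inr i, 0)) := by
      rw [v0_Phi_inl]
      simp
    rw [h1, happ _ (v2_Phi_rest_mem p a0 m' _), hc, v0_Phi_inl]
    simp [add_comm]
  -- `g` is a product of elements of `Rg`
  have hgeq : g = v0_Psi p a0 m' (Multiplicative.ofAdd a') *
      (v0_Phi (I := Idx p m') p a0
          (fun j => Sum.elim (fun _ => Multiplicative.ofAdd b') (fun _ => 1) j) *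
        v0_Phi (I := Idx p m') p a0
          (fun j => Sum.elim (fun _ => 1) (fun i => Multiplicative.ofAdd (c i)) j)) := by
    ext x
    rcases x with ⟨(a | i), b⟩ | x
    · rw [hsq']
      simp only [Perm.mul_apply, v0_Phi_inl, v0_Psi_sq, Sum.elim_inl, toAdd_ofAdd, toAdd_one,
        add_zero]
    · rw [hblk']
      simp only [Perm.mul_apply, v0_Phi_inl, v0_Psi_rest, Sum.elim_inr, toAdd_ofAdd, toAdd_one,
        add_zero]
    · rw [hextra]
      rfl
  rw [hgeq]
  exact (Rg p a0 m').mul_mem (v2_Psi_mem p a0 m' _)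
    ((Rg p a0 m').mul_mem (v2_Phi_sq_mem p a0 m' _) (v2_Phi_rest_mem p a0 m' _))

end

end Cfsg.Agent.Lib.Helper87.AltF
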