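import Mathlib

/-!
# Generic group-theoretic lemmas for the structure of `Out` of a Chevalley group (helper75, S2159)
-/

set_option autoImplicit false

namespace Cfsg.Agent.Lib.Helper75.OutStr

open Subgroup

section normal
variable {A : Type*} [Group A]

/-- a subgroup generated by `T` is normal as soon as generators `S` of the group conjugate `T` into it -/
theorem normal_closure_of_gens [Finite A] (S T : Set A) (hS : closure S = ⊤)
    (h : ∀ s ∈ S, ∀ t ∈ T, s * t * s⁻¹ ∈ closure T) : (closure T).Normal := by
  rw [← normalizer_eq_top_iff, eq_top_iff, ← hS, closure_le]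
  intro s hs
  apply mem_normalizer_fintype
  intro n hn
  have hle : closure T ≤ (closure T).comap (MulAut.conj s).toMonoidHom := by
    rw [closure_le]
    intro t ht
    exact h s hs t ht
  exact hle hn

/-- membership in the image under the quotient map of a subgroup containing the kernel -/
theorem mem_of_mk_mem_map (I K : Subgroup A) [I.Normal] (hIK : I ≤ K) (a : A)
    (h : (QuotientGroup.mk' I a) ∈ K.map (QuotientGroup.mk' I)) : a ∈ K := by
  obtain ⟨k, hk, hka⟩ := h
  have h1 : k⁻¹ * a ∈ I := QuotientGroup.eq.1 hka
  have h2 : a = k * (k⁻¹ * a) := by group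
  rw [h2]
  exact mul_mem hk (hIK h1)

/-- the index of the image under the quotient map of a subgroup containing the kernel -/
theorem index_map_mk (I K : Subgroup A) [I.Normal] (hIK : I ≤ K) :
    (K.map (QuotientGroup.mk' I)).index = K.index := by
  apply Subgroup.index_map_eq _ (QuotientGroup.mk'_surjective I)
  rw [QuotientGroup.ker_mk']
  exact hIK

/-- elements of `I ⊔ X ⊔ Y` when `I` and `I ⊔ X` are normal -/
theorem exists_of_mem_sup3 (I X Y : Subgroup A) [I.Normal] (hIX : (I ⊔ X).Normal) (a : A)
    (ha : a ∈ I ⊔ X ⊔ Y) : ∃ i ∈ I, ∃ x ∈ X, ∃ y ∈ Y, a = i * x * y := by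
  haveI := hIX
  obtain ⟨k, hk, y, hy, rfl⟩ := Subgroup.mem_sup_of_normal_left.1 ha
  obtain ⟨i, hi, x, hx, rfl⟩ := Subgroup.mem_sup_of_normal_left.1 hk
  exact ⟨i, hi, x, hx, y, hy, rfl⟩

end normal

section ringaut
variable {F : Type*} [Field F] [Finite F]

/-- ring automorphisms of a field of characteristic `p` are `ZMod p`-algebra automorphisms -/
noncomputable def ringAutEquivGal' (p : ℕ) [Fact p.Prime] [CharP F p] :
    letI : Algebra (ZMod p) F := ZMod.algebra F p
    (F ≃ₐ[ZMod p] F) ≃* (F ≃+* F) :=
  letI : Algebra (ZMod p) F := ZMod.algebra F p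
  { toFun := fun e => e.toRingEquiv
    invFun := fun σ => AlgEquiv.ofRingEquiv (f := σ) (fun r => by
      have := Subsingleton.elim ((σ : F →+* F).comp (algebraMap (ZMod p) F)) (algebraMap (ZMod p) F)
      exact DFunLike.congr_fun this r)
    left_inv := fun e => by ext x; rfl
    right_inv := fun σ => by ext x; rfl
    map_mul' := fun e₁ e₂ => by ext x; rfl }

/-- the automorphism group of a finite field is cyclic -/
theorem isCyclic_ringAut' : IsCyclic (F ≃+* F) := by
  obtain ⟨p, hp⟩ := CharP.exists F
  haveI := hp
  have hpp : p.Prime := by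
    rcases CharP.char_is_prime_or_zero F p with h1 | h1
    · exact h1
    · exfalso
      subst h1
      haveI : CharZero F := CharP.charP_to_charZero F
      exact not_finite F
  haveI : Fact p.Prime := ⟨hpp⟩
  letI : Algebra (ZMod p) F := ZMod.algebra F p
  exact isCyclic_of_surjective (ringAutEquivGal' (F := F) p).toMonoidHom
    (ringAutEquivGal' (F := F) p).surjective

end ringaut

section cyc
variable {A B : Type*} [Group A] [Group B]

/-- the image of a cyclic group is cyclic -/
theorem isCyclic_map_range {C : Type*} [Group C] [IsCyclic C] (f : C →* A) (q : A →* B) :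
    IsCyclic ↥(f.range.map q) := by
  have e : f.range.map q = (q.comp f).range := by
    rw [MonoidHom.range_eq_map, MonoidHom.range_eq_map, Subgroup.map_map]
  rw [e]
  exact isCyclic_of_surjective (q.comp f).rangeRestrict (q.comp f).rangeRestrict_surjective

end cyc

end Cfsg.Agent.Lib.Helper75.OutStr
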