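import Cfsg.Agent.Lib.Helper18.AutOutE
import Cfsg.Agent.Lib.Helper75.OutStrGen

/-!
# The structure of the outer automorphism group of a Chevalley group (helper75, for S2159)

On top of helper18's `aut_decomposition` (S2156) and his `AutOut*` files.
-/

set_option autoImplicit false
set_option maxRecDepth 100000

namespace Cfsg.Agent.Lib.Helper75.OutStr

open Cfsg Cfsg.Lie Cfsg.Agent.Lib.Helper36 Cfsg.Agent.Lib.Helper18 Cfsg.Agent.Lib.Helper18.Au
open scoped commutatorElement

section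
variable (D : ChevalleyDatum) (hD : D ∈ [chevG2, chevB2, chevD4, chevF4, chevE6, chevE7, chevE8])
variable (F : Type*) [Field F]

/-- the set of diagonal automorphisms -/
def diagSet : Set (MulAut ↥(D.group F)) := {φ | D.IsDiagonalAut φ}
/-- the set of field automorphisms -/
def fieldSet : Set (MulAut ↥(D.group F)) := {φ | D.IsFieldAut φ}
/-- the set of graph automorphisms -/
def graphSet : Set (MulAut ↥(D.group F)) := {φ | D.IsGraphAut φ}

theorem isFieldAut_fieldAut (σ : F ≃+* F) : D.IsFieldAut (fieldAut D hD F σ) := by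
  refine ⟨σ, fun g r t _ hg => ?_⟩
  rw [eq_xGr_of_coe hD g _ _ hg, fieldAut_xGr, xGr_coe_mat]

include hD in
theorem diagSet_eq : diagSet D F = ((diagHom D hD F).range : Set (MulAut ↥(D.group F))) := by
  ext φ
  constructor
  · intro hφ
    obtain ⟨c, hc⟩ := eq_diagOf D hD F φ hφ
    exact ⟨c, (diagHom_apply D hD F c).trans hc.symm⟩
  · rintro ⟨c, rfl⟩
    rw [diagHom_apply]
    exact diagOf_isDiagonalAut D hD F c

include hD in
theorem fieldSet_eq : fieldSet D F = ((fieldAutHom D hD F).range : Set (MulAut ↥(D.group F))) := by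
  ext φ
  constructor
  · intro hφ
    obtain ⟨σ, hσ⟩ := eq_fieldAut_of_isFieldAut D hD F φ hφ
    exact ⟨σ, (fieldAutHom_apply D hD F σ).trans hσ.symm⟩
  · rintro ⟨σ, rfl⟩
    rw [fieldAutHom_apply]
    exact isFieldAut_fieldAut D hD F σ

include hD in
theorem closure_diagSet : Subgroup.closure (diagSet D F) = (diagHom D hD F).range := by
  rw [diagSet_eq D hD F, Subgroup.closure_eq]

include hD in
theorem closure_fieldSet : Subgroup.closure (fieldSet D F) = (fieldAutHom D hD F).range := by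
  rw [fieldSet_eq D hD F, Subgroup.closure_eq]

/-! ### conjugation of diagonal and field automorphisms -/

theorem field_conj_diag (σ : RingAut F) (c : Fin D.rank → Fˣ) :
    (fieldAut D hD F σ : MulAut ↥(D.group F)) * diagOf D hD F c *
        (fieldAut D hD F σ : MulAut ↥(D.group F))⁻¹ =
      diagOf D hD F (fun i => Units.mk0 (σ (c i : F)) ((map_ne_zero σ).2 (c i).ne_zero)) := by
  apply mulEquiv_ext_simple D hD F
  intro i t
  constructor
  · show fieldAut D hD F σ (diagOf D hD F c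
      ((fieldAut D hD F σ : MulAut ↥(D.group F))⁻¹ (xGr D hD F (D.simple i) t))) = _
    rw [fieldAut_inv, fieldAut_xGr, diagOf_pos, fieldAut_xGr, diagOf_pos]
    congr 1
    rw [map_mul, Units.val_mk0]
    congr 1
    exact σ.apply_symm_apply t
  · show fieldAut D hD F σ (diagOf D hD F c
      ((fieldAut D hD F σ : MulAut ↥(D.group F))⁻¹ (xGr D hD F (D.neg (D.simple i)) t))) = _
    rw [fieldAut_inv, fieldAut_xGr, diagOf_neg, fieldAut_xGr, diagOf_neg]
    congr 1
    rw [map_mul, Units.val_inv_eq_inv_val, Units.val_inv_eq_inv_val, Units.val_mk0, map_inv₀]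
    congr 1
    exact σ.apply_symm_apply t

theorem graph_conj_diag [Finite F] (g : MulAut ↥(D.group F)) (π : Equiv.Perm (Fin D.rank))
    (hg : GraphActs D hD F g π) (c : Fin D.rank → Fˣ) :
    g * diagOf D hD F c * g⁻¹ =
      diagOf D hD F (fun j => (c (π.symm j)) ^ D.graphExp (ringChar F) (π.symm j) j) := by
  apply mulEquiv_ext_simple D hD F
  intro j u
  obtain ⟨i, rfl⟩ := π.surjective j
  obtain ⟨t, ht⟩ := (pow_graphExp_bijective D F i (π i)).2 u
  have ht' : t ^ D.graphExp (ringChar F) i (π i) = u := ht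
  have e1 : (g⁻¹ : MulAut ↥(D.group F)) (xGr D hD F (D.simple (π i)) u) = xGr D hD F (D.simple i) t := by
    rw [← ht', ← (hg i t).1]
    exact g.symm_apply_apply _
  have e2 : (g⁻¹ : MulAut ↥(D.group F)) (xGr D hD F (D.neg (D.simple (π i))) u) =
      xGr D hD F (D.neg (D.simple i)) t := by
    rw [← ht', ← (hg i t).2]
    exact g.symm_apply_apply _
  constructor
  · show g (diagOf D hD F c ((g⁻¹ : MulAut ↥(D.group F)) (xGr D hD F (D.simple (π i)) u))) = _
    rw [e1, diagOf_pos, (hg i _).1, diagOf_pos]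
    congr 1
    simp only [Equiv.symm_apply_apply]
    rw [mul_pow, ht', Units.val_pow_eq_pow_val]
  · show g (diagOf D hD F c ((g⁻¹ : MulAut ↥(D.group F)) (xGr D hD F (D.neg (D.simple (π i))) u))) = _
    rw [e2, diagOf_neg, (hg i _).2, diagOf_neg]
    congr 1
    simp only [Equiv.symm_apply_apply]
    rw [mul_pow, ht', ← inv_pow, Units.val_pow_eq_pow_val]

theorem graph_conj_field (g : MulAut ↥(D.group F)) (π : Equiv.Perm (Fin D.rank))
    (hg : GraphActs D hD F g π) (σ : RingAut F) :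
    g * (fieldAut D hD F σ : MulAut ↥(D.group F)) * g⁻¹ = fieldAut D hD F σ := by
  rw [mul_inv_eq_iff_eq_mul]
  apply mulEquiv_ext_simple D hD F
  intro i t
  constructor
  · show g (fieldAut D hD F σ (xGr D hD F (D.simple i) t)) =
      fieldAut D hD F σ (g (xGr D hD F (D.simple i) t))
    rw [fieldAut_xGr, (hg i _).1, (hg i _).1, fieldAut_xGr, map_pow]
  · show g (fieldAut D hD F σ (xGr D hD F (D.neg (D.simple i)) t)) =
      fieldAut D hD F σ (g (xGr D hD F (D.neg (D.simple i)) t))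
    rw [fieldAut_xGr, (hg i _).2, (hg i _).2, fieldAut_xGr, map_pow]

/-! ### generators of the automorphism group -/

/-- the generating set: inner, diagonal, graph and field automorphisms -/
def genSet : Set (MulAut ↥(D.group F)) :=
  ((Cfsg.Inn ↥(D.group F) : Set (MulAut ↥(D.group F))) ∪ diagSet D F) ∪ graphSet D F ∪ fieldSet D F

include hD in
theorem closure_genSet [Finite F] : Subgroup.closure (genSet D F) = ⊤ := by
  rw [eq_top_iff]
  intro θ _
  obtain ⟨x, d, g, f, hd, hg, hf, hθ⟩ := aut_decomposition D hD F θ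
  have e : θ = MulAut.conj x * (d : MulAut ↥(D.group F)) * (g : MulAut ↥(D.group F)) *
      (f : MulAut ↥(D.group F)) := by
    apply MulEquiv.ext
    intro y
    rw [hθ y]
    simp only [MulAut.mul_apply, MulAut.conj_apply]
  rw [e]
  refine mul_mem (mul_mem (mul_mem ?_ ?_) ?_) ?_
  · exact Subgroup.subset_closure (Or.inl (Or.inl (Or.inl ⟨x, rfl⟩)))
  · exact Subgroup.subset_closure (Or.inl (Or.inl (Or.inr hd)))
  · exact Subgroup.subset_closure (Or.inl (Or.inr hg))
  · exact Subgroup.subset_closure (Or.inr hf)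

theorem finite_mulAut [Finite F] : Finite (MulAut ↥(D.group F)) :=
  Finite.of_injective (fun α : MulAut ↥(D.group F) => (α : ↥(D.group F) → ↥(D.group F)))
    (fun _ _ h => MulEquiv.ext (congrFun h))

/-- the subgroup generated by the inner and the diagonal automorphisms -/
def K1 : Subgroup (MulAut ↥(D.group F)) :=
  Subgroup.closure ((Cfsg.Inn ↥(D.group F) : Set (MulAut ↥(D.group F))) ∪ diagSet D F)

/-- the subgroup generated by the inner, the diagonal and the field automorphisms -/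
def K2 : Subgroup (MulAut ↥(D.group F)) :=
  Subgroup.closure (((Cfsg.Inn ↥(D.group F) : Set (MulAut ↥(D.group F))) ∪ diagSet D F) ∪ fieldSet D F)

include hD in
theorem K1_normal [Finite F] : (K1 D F).Normal := by
  haveI := finite_mulAut D F
  have hn : (Cfsg.Inn ↥(D.group F)).Normal := inferInstance
  apply normal_closure_of_gens (genSet D F) _ (closure_genSet D hD F)
  intro s hs t ht
  rcases hs with ((hs | hs) | hs) | hs
  · have hs' : s ∈ Subgroup.closure
        ((Cfsg.Inn ↥(D.group F) : Set (MulAut ↥(D.group F))) ∪ diagSet D F) :=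
      Subgroup.subset_closure (Or.inl hs)
    exact mul_mem (mul_mem hs' (Subgroup.subset_closure ht)) (inv_mem hs')
  · have hs' : s ∈ Subgroup.closure
        ((Cfsg.Inn ↥(D.group F) : Set (MulAut ↥(D.group F))) ∪ diagSet D F) :=
      Subgroup.subset_closure (Or.inr hs)
    exact mul_mem (mul_mem hs' (Subgroup.subset_closure ht)) (inv_mem hs')
  · obtain ⟨π, -, hact⟩ := isGraphAut_xGr D hD F s hs
    rcases ht with ht | ht
    · exact Subgroup.subset_closure (Or.inl (hn.conj_mem t ht s))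
    · obtain ⟨c, rfl⟩ := eq_diagOf D hD F t ht
      rw [graph_conj_diag D hD F s π hact c]
      exact Subgroup.subset_closure (Or.inr (diagOf_isDiagonalAut D hD F _))
  · obtain ⟨σ, rfl⟩ := eq_fieldAut_of_isFieldAut D hD F s hs
    rcases ht with ht | ht
    · exact Subgroup.subset_closure (Or.inl (hn.conj_mem t ht _))
    · obtain ⟨c, rfl⟩ := eq_diagOf D hD F t ht
      rw [field_conj_diag D hD F σ c]
      exact Subgroup.subset_closure (Or.inr (diagOf_isDiagonalAut D hD F _))

include hD in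
theorem K2_normal [Finite F] : (K2 D F).Normal := by
  haveI := finite_mulAut D F
  have hn : (Cfsg.Inn ↥(D.group F)).Normal := inferInstance
  apply normal_closure_of_gens (genSet D F) _ (closure_genSet D hD F)
  intro s hs t ht
  rcases hs with ((hs | hs) | hs) | hs
  · have hs' : s ∈ Subgroup.closure
        (((Cfsg.Inn ↥(D.group F) : Set (MulAut ↥(D.group F))) ∪ diagSet D F) ∪ fieldSet D F) :=
      Subgroup.subset_closure (Or.inl (Or.inl hs))
    exact mul_mem (mul_mem hs' (Subgroup.subset_closure ht)) (inv_mem hs')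
  · have hs' : s ∈ Subgroup.closure
        (((Cfsg.Inn ↥(D.group F) : Set (MulAut ↥(D.group F))) ∪ diagSet D F) ∪ fieldSet D F) :=
      Subgroup.subset_closure (Or.inl (Or.inr hs))
    exact mul_mem (mul_mem hs' (Subgroup.subset_closure ht)) (inv_mem hs')
  · obtain ⟨π, -, hact⟩ := isGraphAut_xGr D hD F s hs
    rcases ht with (ht | ht) | ht
    · exact Subgroup.subset_closure (Or.inl (Or.inl (hn.conj_mem t ht s)))
    · obtain ⟨c, rfl⟩ := eq_diagOf D hD F t ht
      rw [graph_conj_diag D hD F s π hact c]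
      exact Subgroup.subset_closure (Or.inl (Or.inr (diagOf_isDiagonalAut D hD F _)))
    · obtain ⟨σ, rfl⟩ := eq_fieldAut_of_isFieldAut D hD F t ht
      rw [graph_conj_field D hD F s π hact σ]
      exact Subgroup.subset_closure (Or.inr (isFieldAut_fieldAut D hD F σ))
  · have hs' : s ∈ Subgroup.closure
        (((Cfsg.Inn ↥(D.group F) : Set (MulAut ↥(D.group F))) ∪ diagSet D F) ∪ fieldSet D F) :=
      Subgroup.subset_closure (Or.inr hs)
    exact mul_mem (mul_mem hs' (Subgroup.subset_closure ht)) (inv_mem hs')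

theorem K1_eq : K1 D F = Cfsg.Inn ↥(D.group F) ⊔ Subgroup.closure (diagSet D F) := by
  unfold K1
  rw [Subgroup.closure_union, Subgroup.closure_eq]

theorem K2_eq : K2 D F =
    Cfsg.Inn ↥(D.group F) ⊔ Subgroup.closure (diagSet D F) ⊔ Subgroup.closure (fieldSet D F) := by
  unfold K2
  rw [Subgroup.closure_union, Subgroup.closure_union, Subgroup.closure_eq]

theorem inn_le_K2 : Cfsg.Inn ↥(D.group F) ≤ K2 D F := by
  rw [K2_eq]
  exact le_sup_of_le_left le_sup_left

theorem map_K1 : (K1 D F).map (QuotientGroup.mk' (Cfsg.Inn ↥(D.group F))) =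
    (Subgroup.closure (diagSet D F)).map (QuotientGroup.mk' (Cfsg.Inn ↥(D.group F))) := by
  rw [K1_eq, Subgroup.map_sup, QuotientGroup.map_mk'_self, bot_sup_eq]

theorem map_K2 : (K2 D F).map (QuotientGroup.mk' (Cfsg.Inn ↥(D.group F))) =
    (Subgroup.closure (diagSet D F)).map (QuotientGroup.mk' (Cfsg.Inn ↥(D.group F))) ⊔
      (Subgroup.closure (fieldSet D F)).map (QuotientGroup.mk' (Cfsg.Inn ↥(D.group F))) := by
  rw [K2_eq, Subgroup.map_sup, Subgroup.map_sup, QuotientGroup.map_mk'_self, bot_sup_eq]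

include hD in
/-- the shape of the elements of `K2` -/
theorem exists_of_mem_K2 [Finite F] (a : MulAut ↥(D.group F)) (ha : a ∈ K2 D F) :
    ∃ (y : ↥(D.group F)) (c : Fin D.rank → Fˣ) (σ : RingAut F),
      a = MulAut.conj y * diagOf D hD F c * (fieldAut D hD F σ : MulAut ↥(D.group F)) := by
  have hn : (Cfsg.Inn ↥(D.group F)).Normal := inferInstance
  have h1 : (Cfsg.Inn ↥(D.group F) ⊔ Subgroup.closure (diagSet D F)).Normal := by
    rw [← K1_eq]
    exact K1_normal D hD F
  rw [K2_eq] at ha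
  obtain ⟨i, hi, x, hx, z, hz, rfl⟩ := exists_of_mem_sup3 _ _ _ h1 a ha
  obtain ⟨y, rfl⟩ := hi
  rw [closure_diagSet D hD F] at hx
  rw [closure_fieldSet D hD F] at hz
  obtain ⟨c, rfl⟩ := hx
  obtain ⟨σ, rfl⟩ := hz
  exact ⟨y, c, σ, rfl⟩

/-! ### the symmetries of the diagram and the cosets of `K2` -/

/-- the type of the symmetries of the diagram -/
def Sym : Type := {π : Equiv.Perm (Fin D.rank) // D.IsDiagramSymmetry π}

instance : Finite (Sym D) := by
  unfold Sym
  infer_instance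

open Classical in
/-- a graph automorphism for each realized symmetry -/
noncomputable def rep (π : Sym D) : MulAut ↥(D.group F) :=
  if h : ∃ g : MulAut ↥(D.group F), GraphActs D hD F g π.1 then Classical.choose h else 1

theorem rep_spec (π : Sym D) (g : MulAut ↥(D.group F)) (hg : GraphActs D hD F g π.1) :
    rep D hD F π = g := by
  have h : ∃ g : MulAut ↥(D.group F), GraphActs D hD F g π.1 := ⟨g, hg⟩
  unfold rep
  rw [dif_pos h]
  have hs := Classical.choose_spec h
  apply mulEquiv_ext_simple D hD F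
  intro i t
  rw [(hs i t).1, (hs i t).2, (hg i t).1, (hg i t).2]
  exact ⟨rfl, rfl⟩

include hD in
theorem exists_rep_coset [Finite F] (θ : MulAut ↥(D.group F)) :
    ∃ π : Sym D, (rep D hD F π)⁻¹ * θ ∈ K2 D F := by
  have hK := K2_normal D hD F
  obtain ⟨x, d, g, f, hd, hg, hf, hθ⟩ := aut_decomposition D hD F θ
  have e : θ = MulAut.conj x * (d : MulAut ↥(D.group F)) * (g : MulAut ↥(D.group F)) *
      (f : MulAut ↥(D.group F)) := by
    apply MulEquiv.ext
    intro y
    rw [hθ y]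
    simp only [MulAut.mul_apply, MulAut.conj_apply]
  obtain ⟨π, hπ, hact⟩ := isGraphAut_xGr D hD F g hg
  refine ⟨⟨π, hπ⟩, ?_⟩
  rw [rep_spec D hD F ⟨π, hπ⟩ g hact, e]
  have h1 : MulAut.conj x * (d : MulAut ↥(D.group F)) ∈ K2 D F :=
    mul_mem (Subgroup.subset_closure (Or.inl (Or.inl ⟨x, rfl⟩)))
      (Subgroup.subset_closure (Or.inl (Or.inr hd)))
  have h2 : (f : MulAut ↥(D.group F)) ∈ K2 D F := Subgroup.subset_closure (Or.inr hf)
  have h3 : (g : MulAut ↥(D.group F))⁻¹ * (MulAut.conj x * (d : MulAut ↥(D.group F))) *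
      ((g : MulAut ↥(D.group F))⁻¹)⁻¹ ∈ K2 D F := hK.conj_mem _ h1 _
  have e2 : (g : MulAut ↥(D.group F))⁻¹ * (MulAut.conj x * (d : MulAut ↥(D.group F)) *
      (g : MulAut ↥(D.group F)) * (f : MulAut ↥(D.group F))) =
      ((g : MulAut ↥(D.group F))⁻¹ * (MulAut.conj x * (d : MulAut ↥(D.group F))) *
        ((g : MulAut ↥(D.group F))⁻¹)⁻¹) * (f : MulAut ↥(D.group F)) := by
    group
  rw [e2]
  exact mul_mem h3 h2

include hD in
/-- the index of `K2` is at most the number of symmetries of the diagram -/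
theorem index_K2_le [Finite F] : (K2 D F).index ≤ Nat.card (Sym D) := by
  haveI := finite_mulAut D F
  unfold Subgroup.index
  apply Nat.card_le_card_of_surjective
    (fun π : Sym D => (QuotientGroup.mk (rep D hD F π) : MulAut ↥(D.group F) ⧸ K2 D F))
  intro q
  obtain ⟨θ, rfl⟩ := QuotientGroup.mk_surjective q
  obtain ⟨π, hπ⟩ := exists_rep_coset D hD F θ
  exact ⟨π, QuotientGroup.eq.2 hπ⟩

/-- a symmetry is determined by its list of values -/
theorem pre_injective (π π' : Equiv.Perm (Fin D.rank)) (h : pre D π D.rank = pre D π' D.rank) :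
    π = π' := by
  apply Equiv.ext
  intro i
  apply Fin.ext
  have e1 := pre_getD D π D.rank i i.2
  have e2 := pre_getD D π' D.rank i i.2
  rw [pv_fin] at e1 e2
  rw [← e1, ← e2, h]

/-- the number of symmetries is bounded by the length of a complete list of solutions -/
theorem card_sym_le (sols : List (List ℕ))
    (h : ∀ π : Equiv.Perm (Fin D.rank), D.IsDiagramSymmetry π → pre D π D.rank ∈ sols) :
    Nat.card (Sym D) ≤ sols.length := by
  classical
  have hinj : Function.Injective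
      (fun π : Sym D => (⟨pre D π.1 D.rank, List.mem_toFinset.2 (h π.1 π.2)⟩ : sols.toFinset)) := by
    intro π π' hππ'
    have := congrArg Subtype.val hππ'
    exact Subtype.ext (pre_injective D π.1 π'.1 this)
  have h1 := Nat.card_le_card_of_injective _ hinj
  have h2 : Nat.card (↥sols.toFinset) = sols.toFinset.card := by
    rw [Nat.card_eq_fintype_card, Fintype.card_coe]
  rw [h2] at h1
  exact h1.trans (List.toFinset_card_le sols)

include hD in
theorem index_K2_one_or_two [Finite F] (sols : List (List ℕ)) (hlen : sols.length ≤ 2)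
    (h : symSearch D sols D.rank [] = true) : (K2 D F).index = 1 ∨ (K2 D F).index = 2 := by
  haveI := finite_mulAut D F
  have h1 := index_K2_le D hD F
  have h2 := card_sym_le D sols (fun π hπ => symSearch_sound D π hπ sols D.rank 0 (by simp) h)
  have h3 : (K2 D F).index ≠ 0 := Subgroup.index_ne_zero_of_finite
  omega

end

/-! ### type `D₄` -/

section D4
variable (D : ChevalleyDatum) (hD2 : D ∈ [chevD4, chevE6])
variable (F : Type*) [Field F]

theorem not_swaps_of_noLong (h : noLong D = true) (π : Equiv.Perm (Fin D.rank)) : ¬ SwapsLength D π := by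
  rintro ⟨i, hi⟩
  unfold noLong at h
  rw [List.all_eq_true] at h
  have h1 := h (π i) (List.mem_range.2 (π i).2)
  have h2 := h i (List.mem_range.2 i.2)
  rw [Bool.not_eq_true'] at h1 h2
  exact hi (h1.trans h2.symm)

theorem graphExp_eq_one_of_noLong (h : noLong D = true) (c : ℕ) (i j : Fin D.rank) :
    D.graphExp c i j = 1 := by
  unfold ChevalleyDatum.graphExp
  unfold noLong at h
  rw [List.all_eq_true] at h
  have := h _ (List.mem_range.2 j.2)
  rw [Bool.not_eq_true'] at this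
  rw [this]
  simp

theorem isDiagramSymmetry_mul (π₁ π₂ : Equiv.Perm (Fin D.rank)) (h₁ : D.IsDiagramSymmetry π₁)
    (h₂ : D.IsDiagramSymmetry π₂) : D.IsDiagramSymmetry (π₁ * π₂) := by
  intro i j hij
  rw [Equiv.Perm.mul_apply, Equiv.Perm.mul_apply, h₁ _ _ (fun e => hij (π₂.injective e)), h₂ i j hij]

theorem graphActs_mul (hno : noLong D = true) (g₁ g₂ : MulAut ↥(D.group F))
    (π₁ π₂ : Equiv.Perm (Fin D.rank))
    (h₁ : GraphActs D (two_sub_seven hD2) F g₁ π₁) (h₂ : GraphActs D (two_sub_seven hD2) F g₂ π₂) :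
    GraphActs D (two_sub_seven hD2) F (g₁ * g₂) (π₁ * π₂) := by
  intro i t
  have e := graphExp_eq_one_of_noLong D hno (ringChar F)
  constructor
  · show g₁ (g₂ _) = _
    rw [(h₂ i t).1, (h₁ _ _).1]
    simp only [e, pow_one, Equiv.Perm.mul_apply]
  · show g₁ (g₂ _) = _
    rw [(h₂ i t).2, (h₁ _ _).2]
    simp only [e, pow_one, Equiv.Perm.mul_apply]

include hD2 in
/-- graph automorphisms in the same coset of `K2` belong to the same symmetry -/
theorem perm_eq_of_mem_K2 [Finite F] (hno : noLong D = true) (g₁ g₂ : MulAut ↥(D.group F))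
    (π₁ π₂ : Equiv.Perm (Fin D.rank)) (hπ₁ : D.IsDiagramSymmetry π₁) (hπ₂ : D.IsDiagramSymmetry π₂)
    (h₁ : GraphActs D (two_sub_seven hD2) F g₁ π₁) (h₂ : GraphActs D (two_sub_seven hD2) F g₂ π₂)
    (hk : g₁⁻¹ * g₂ ∈ K2 D F) : π₁ = π₂ := by
  have hD := two_sub_seven hD2
  obtain ⟨y, c, σ, hy⟩ := exists_of_mem_K2 D hD F _ hk
  obtain ⟨hU1, hV1⟩ := graph_pres_simplyLaced D hD2 F hno π₁ hπ₁ g₁ h₁
  obtain ⟨hU2, hV2⟩ := graph_pres_simplyLaced D hD2 F hno π₂ hπ₂ g₂ h₂
  obtain ⟨hUd, hVd⟩ := pres_diag D hD F _ (diagOf_isDiagonalAut D hD F c)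
  have hconjeq : MulAut.conj y = g₁⁻¹ * g₂ * (fieldAut D hD F σ : MulAut ↥(D.group F))⁻¹ *
      (diagOf D hD F c)⁻¹ := by
    rw [hy]; group
  have hyU : Pres D F (MulAut.conj y) (D.posUnipotent F) := by
    rw [hconjeq]
    exact Pres.mul (Pres.mul (Pres.mul (Pres.inv hU1) hU2) (Pres.inv (pres_fieldAut_pos D hD F σ)))
      (Pres.inv hUd)
  have hyV : Pres D F (MulAut.conj y) (D.negUnipotent F) := by
    rw [hconjeq]
    exact Pres.mul (Pres.mul (Pres.mul (Pres.inv hV1) hV2) (Pres.inv (pres_fieldAut_neg D hD F σ)))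
      (Pres.inv hVd)
  have hyH := O1_mem_diag D hD F y hyU hyV
  obtain ⟨χ, hχ, hkχ⟩ := exists_character_of_mem_diagonal D hD F _ hyH
  have hconj : ∀ (i : Fin D.rank) (t : F),
      MulAut.conj y (xGr D hD F (D.simple i) t) = xGr D hD F (D.simple i) ((χ (D.simple i) : F) * t) := by
    intro i t
    apply Subtype.ext
    rw [MulAut.conj_apply, Subgroup.coe_mul, Subgroup.coe_mul, Subgroup.coe_inv, xGr_coe, xGr_coe]
    exact diag_conj_xGL D hD F _ χ hχ hkχ _ (simple_lt' D hD i) t
  have hg2 : g₂ = g₁ * (MulAut.conj y * diagOf D hD F c * (fieldAut D hD F σ : MulAut ↥(D.group F))) := by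
    rw [← hy]; group
  apply Equiv.ext
  intro i
  by_contra hne
  have e1 : g₂ (xGr D hD F (D.simple i) 1) =
      g₁ (MulAut.conj y (diagOf D hD F c (fieldAut D hD F σ (xGr D hD F (D.simple i) 1)))) := by
    conv_lhs => rw [hg2]
    rfl
  rw [(h₂ i 1).1, fieldAut_xGr, diagOf_pos, hconj, (h₁ i _).1] at e1
  have e2 := simple_root_elements_ne D hD F (π₂ i) (π₁ i) (fun e => hne e.symm) _ _ e1
  have e3 : ((χ (D.simple i) : F) * ((c i : F) * σ 1)) ≠ 0 := by
    rw [map_one, mul_one]
    exact mul_ne_zero (Units.ne_zero _) (Units.ne_zero _)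
  exact pow_ne_zero _ e3 e2

end D4

/-! ### type `D₄`: the quotient is the symmetric group on three letters -/

instance decSymD4 :
    DecidablePred (fun π : Equiv.Perm (Fin chevD4.rank) => chevD4.IsDiagramSymmetry π) := by
  intro π
  unfold ChevalleyDatum.IsDiagramSymmetry
  infer_instance

theorem fintype_card_sym_D4 :
    Fintype.card {π : Equiv.Perm (Fin chevD4.rank) // chevD4.IsDiagramSymmetry π} = 6 := by
  decide +kernel

theorem card_sym_D4 : Nat.card (Sym chevD4) = 6 := by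
  unfold Sym
  rw [Nat.card_eq_fintype_card]
  exact fintype_card_sym_D4

theorem exists_noncomm_D4 : ∃ π₁ π₂ : Equiv.Perm (Fin chevD4.rank),
    chevD4.IsDiagramSymmetry π₁ ∧ chevD4.IsDiagramSymmetry π₂ ∧ π₁ * π₂ ≠ π₂ * π₁ := by
  unfold ChevalleyDatum.IsDiagramSymmetry
  decide +kernel

theorem D4_mem_two : chevD4 ∈ [chevD4, chevE6] := by simp

theorem D4_mem_seven : chevD4 ∈ [chevG2, chevB2, chevD4, chevF4, chevE6, chevE7, chevE8] :=
  two_sub_seven D4_mem_two

section D4main
variable (F : Type*) [Field F] [Finite F]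

local notation "hD" => D4_mem_seven

theorem rep_graphActs_D4 (π : Sym chevD4) : GraphActs chevD4 hD F (rep chevD4 hD F π) π.1 := by
  obtain ⟨γ, hγ⟩ := T7_graph' chevD4 hD F π.1 π.2
    (fun hs => absurd hs (not_swaps_of_noLong chevD4 noLong_D4 π.1))
  have hg : GraphActs chevD4 hD F (γ : MulAut ↥(chevD4.group F)) π.1 := hγ
  rw [rep_spec chevD4 hD F π γ hg]
  exact hg

theorem index_K2_D4 : (K2 chevD4 F).index = 6 := by
  unfold Subgroup.index
  have hbij : Function.Bijective (fun π : Sym chevD4 =>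
      (QuotientGroup.mk (rep chevD4 hD F π) : MulAut ↥(chevD4.group F) ⧸ K2 chevD4 F)) := by
    constructor
    · intro π π' h
      have h1 : (rep chevD4 hD F π)⁻¹ * rep chevD4 hD F π' ∈ K2 chevD4 F := QuotientGroup.eq.1 h
      exact Subtype.ext (perm_eq_of_mem_K2 chevD4 D4_mem_two F noLong_D4 _ _ π.1 π'.1 π.2 π'.2
        (rep_graphActs_D4 F π) (rep_graphActs_D4 F π') h1)
    · intro q
      obtain ⟨θ, rfl⟩ := QuotientGroup.mk_surjective q
      obtain ⟨π, hπ⟩ := exists_rep_coset chevD4 hD F θ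
      exact ⟨π, QuotientGroup.eq.2 hπ⟩
  rw [← Nat.card_congr (Equiv.ofBijective _ hbij), card_sym_D4]

theorem not_commutator_le_D4 :
    ¬ commutator (Cfsg.Out ↥(chevD4.group F)) ≤
      (K2 chevD4 F).map (QuotientGroup.mk' (Cfsg.Inn ↥(chevD4.group F))) := by
  intro hle
  obtain ⟨π₁, π₂, hπ₁, hπ₂, hne⟩ := exists_noncomm_D4
  have hK := K2_normal chevD4 hD F
  have ha₁ := rep_graphActs_D4 F ⟨π₁, hπ₁⟩
  have ha₂ := rep_graphActs_D4 F ⟨π₂, hπ₂⟩
  generalize rep chevD4 hD F ⟨π₁, hπ₁⟩ = γ₁ at ha₁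
  generalize rep chevD4 hD F ⟨π₂, hπ₂⟩ = γ₂ at ha₂
  set q : MulAut ↥(chevD4.group F) →* Cfsg.Out ↥(chevD4.group F) :=
    QuotientGroup.mk' (Cfsg.Inn ↥(chevD4.group F)) with hq
  have h1 : ⁅q γ₁, q γ₂⁆ ∈ commutator (Cfsg.Out ↥(chevD4.group F)) :=
    Subgroup.commutator_mem_commutator (Subgroup.mem_top _) (Subgroup.mem_top _)
  have h2 := hle h1
  rw [← map_commutatorElement] at h2
  have h3 : ⁅γ₁, γ₂⁆ ∈ K2 chevD4 F := mem_of_mk_mem_map _ _ (inn_le_K2 chevD4 F) _ h2
  have h4 : (γ₂ * γ₁)⁻¹ * ⁅γ₁, γ₂⁆ * ((γ₂ * γ₁)⁻¹)⁻¹ ∈ K2 chevD4 F := hK.conj_mem _ h3 _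
  have e : (γ₂ * γ₁)⁻¹ * ⁅γ₁, γ₂⁆ * ((γ₂ * γ₁)⁻¹)⁻¹ = (γ₂ * γ₁)⁻¹ * (γ₁ * γ₂) := by
    rw [commutatorElement_def]; group
  rw [e] at h4
  have := perm_eq_of_mem_K2 chevD4 D4_mem_two F noLong_D4 (γ₂ * γ₁) (γ₁ * γ₂) (π₂ * π₁) (π₁ * π₂)
    (isDiagramSymmetry_mul chevD4 π₂ π₁ hπ₂ hπ₁) (isDiagramSymmetry_mul chevD4 π₁ π₂ hπ₁ hπ₂)
    (graphActs_mul chevD4 D4_mem_two F noLong_D4 γ₂ γ₁ π₂ π₁ ha₂ ha₁)
    (graphActs_mul chevD4 D4_mem_two F noLong_D4 γ₁ γ₂ π₁ π₂ ha₁ ha₂) h4
  exact hne this.symm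

end D4main

end Cfsg.Agent.Lib.Helper75.OutStr
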