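import Cfsg.Agent.Lib.Helper18.AutDefs
import Cfsg.Agent.Lib.Helper36.ChevTwPerf

/-!
# S2156, piece T2e: the permutations of the positive and the negative fundamental root subgroups
induced by an automorphism agree (helper75, for helper18's skeleton)
-/

set_option autoImplicit false

namespace Cfsg.Agent.Lib.Helper75.Au

open Cfsg Cfsg.Lie Cfsg.Agent.Lib.Helper36 Cfsg.Agent.Lib.Helper18 Cfsg.Agent.Lib.Helper18.Au

/-- table check: for distinct nodes `i ≠ j` the commutator formula of `p_i` and `-p_j` has no terms -/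
def chkT2e (D : ChevalleyDatum) : Bool :=
  (List.range D.rank).all fun i => (List.range D.rank).all fun j =>
    (i == j) || ((D.commTerms (D.simple i) (D.neg (D.simple j)) == []) &&
      (D.neg (D.simple j) != D.simple i) && (D.neg (D.simple j) != D.neg (D.simple i)))

theorem chkT2e_G2 : chkT2e chevG2 = true := by decide +kernel
theorem chkT2e_B2 : chkT2e chevB2 = true := by decide +kernel
theorem chkT2e_D4 : chkT2e chevD4 = true := by decide +kernel
theorem chkT2e_F4 : chkT2e chevF4 = true := by decide +kernel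
theorem chkT2e_E6 : chkT2e chevE6 = true := by decide +kernel
theorem chkT2e_E7 : chkT2e chevE7 = true := by decide +kernel
theorem chkT2e_E8 : chkT2e chevE8 = true := by decide +kernel

theorem chkT2e_all (D : ChevalleyDatum)
    (hD : D ∈ [chevG2, chevB2, chevD4, chevF4, chevE6, chevE7, chevE8]) : chkT2e D = true := by
  simp only [List.mem_cons, List.not_mem_nil, or_false] at hD
  rcases hD with rfl | rfl | rfl | rfl | rfl | rfl | rfl
  · exact chkT2e_G2
  · exact chkT2e_B2
  · exact chkT2e_D4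
  · exact chkT2e_F4
  · exact chkT2e_E6
  · exact chkT2e_E7
  · exact chkT2e_E8

theorem chkT2e_spec (D : ChevalleyDatum) (h : chkT2e D = true) (i j : ℕ) (hi : i < D.rank)
    (hj : j < D.rank) (hij : i ≠ j) :
    D.commTerms (D.simple i) (D.neg (D.simple j)) = [] ∧ D.neg (D.simple j) ≠ D.simple i ∧
      D.neg (D.simple j) ≠ D.neg (D.simple i) := by
  unfold chkT2e at h
  rw [List.all_eq_true] at h
  have h1 := h i (List.mem_range.2 hi)
  rw [List.all_eq_true] at h1
  have h2 := h1 j (List.mem_range.2 hj)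
  simp only [Bool.or_eq_true, beq_iff_eq, Bool.and_eq_true, bne_iff_ne, ne_eq] at h2
  rcases h2 with h2 | h2
  · exact absurd h2 hij
  · exact ⟨h2.1.1, h2.1.2, h2.2⟩

section
variable (D : ChevalleyDatum) (hD : D ∈ [chevG2, chevB2, chevD4, chevF4, chevE6, chevE7, chevE8])
variable (F : Type*) [Field F]

include hD in
/-- `X_{p_i}` and `X_{-p_j}` commute for `i ≠ j`. -/
theorem commute_simple_neg_simple (i j : ℕ) (hi : i < D.rank) (hj : j < D.rank) (hij : i ≠ j) (t u : F) :
    Commute (xGL D hD F (D.simple i) t) (xGL D hD F (D.neg (D.simple j)) u) := by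
  obtain ⟨h1, h2, h3⟩ := chkT2e_spec D (chkT2e_all D hD) i j hi hj hij
  obtain ⟨hi1, -, -, -, -, -⟩ := simple_facts D hD i hi
  obtain ⟨-, hj2, -, -, -, -⟩ := simple_facts D hD j hj
  exact xGL_commute_of_nil D hD F (D.simple i) (D.neg (D.simple j)) hi1 hj2 h2 h3 h1 t u

include hD in
/-- `X_{p_i}` and `X_{-p_i}` do not commute elementwise. -/
theorem not_commute_simple_neg_self (i : ℕ) (hi : i < D.rank)
    (h : ∀ t u : F, Commute (xGL D hD F (D.simple i) t) (xGL D hD F (D.neg (D.simple i)) u)) : False := by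
  obtain ⟨hi1, hi2, -, hpos, hneg, -⟩ := simple_facts D hD i hi
  obtain ⟨ε, -, hε⟩ := nWordGL_conj D hD F [i] (by simpa using hi) (D.simple i) hi1
  have hn : nWordGL D hD F [i] = xGL D hD F (D.simple i) 1 *
      (xGL D hD F (D.neg (D.simple i)) (-(1 : F)⁻¹) * xGL D hD F (D.simple i) 1) := by
    simp [nWordGL, nGL, wordGL, ChevalleyDatum.nWord]
  have hw : wRoot D [i] (D.simple i) = D.neg (D.simple i) := by
    simp [wRoot, ChevalleyDatum.reflectRoot]
  have h1 := hε 1
  rw [hw, mul_one] at h1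
  -- `n` commutes with `x_{p_i}(1)`
  have hc : Commute (nWordGL D hD F [i]) (xGL D hD F (D.simple i) 1) := by
    rw [hn]
    refine Commute.mul_left ?_ (Commute.mul_left ?_ ?_)
    · exact Commute.refl _
    · exact (h 1 _).symm
    · exact Commute.refl _
  have h2 : xGL D hD F (D.simple i) 1 = xGL D hD F (D.neg (D.simple i)) ε := by
    rw [← h1, hc.eq, mul_inv_cancel_right]
  -- `U ∩ V = 1`
  have hu : xGL D hD F (D.simple i) 1 ∈ D.posUnipotent F :=
    Subgroup.subset_closure ⟨D.simple i, 1, hpos, xGL_coe D hD F _ _⟩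
  have hv : xGL D hD F (D.neg (D.simple i)) ε ∈ D.negUnipotent F :=
    Subgroup.subset_closure ⟨D.neg (D.simple i), ε, hneg, xGL_coe D hD F _ _⟩
  have h3 := uhv_unique D hD F (xGL D hD F (D.simple i) 1) 1 (xGL D hD F (D.neg (D.simple i)) ε) hu
    (one_mem _) hv (by rw [mul_one]; exact h2)
  have h4 : D.x F (D.simple i) 1 = 1 := by
    rw [← xGL_coe D hD F, h3.1]; rfl
  exact one_ne_zero (x_eq_one_iff D hD F (D.simple i) hi1 1 h4)

/-- T2e: the two permutations agree (`X_{p_i}` and `X_{-p_j}` commute iff `i ≠ j`). -/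
theorem T2e_same (θ₀ : ↥(D.group F) ≃* ↥(D.group F)) (π π' : Equiv.Perm (Fin D.rank))
    (h : ∀ i : Fin D.rank, MapsRoot D hD F θ₀ (D.neg (D.simple i)) (D.neg (D.simple (π i))))
    (h' : ∀ i : Fin D.rank, MapsRoot D hD F θ₀ (D.simple i) (D.simple (π' i))) : π = π' := by
  ext i
  by_contra hne
  have hne' : ((π' i : Fin D.rank) : ℕ) ≠ ((π i : Fin D.rank) : ℕ) := fun e => hne (e.symm)
  apply not_commute_simple_neg_self D hD F i i.2
  intro t u
  obtain ⟨t', ht'⟩ := h' i t
  obtain ⟨u', hu'⟩ := h i u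
  have hc := commute_simple_neg_simple D hD F (π' i) (π i) (π' i).2 (π i).2 hne' t' u'
  have hc' : Commute (xGr D hD F (D.simple (π' i)) t') (xGr D hD F (D.neg (D.simple (π i))) u') := by
    show _ * _ = _ * _
    apply Subtype.ext
    exact hc.eq
  rw [← ht', ← hu'] at hc'
  have hc'' : Commute (xGr D hD F (D.simple i) t) (xGr D hD F (D.neg (D.simple i)) u) := by
    show _ * _ = _ * _
    apply θ₀.injective
    rw [map_mul, map_mul]
    exact hc'.eq
  show _ * _ = _ * _
  have := congrArg (Subtype.val) hc''.eq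
  exact this

end

end Cfsg.Agent.Lib.Helper75.Au
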