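import Cfsg.Agent.Lib.Helper18.AutDefs
import Cfsg.Agent.Lib.Helper36.ChevTwPerf

/-!
# S2156, piece T6: a length-swapping permutation of the fundamental roots forces the characteristic
(helper75, for helper18's skeleton)
-/

set_option autoImplicit false

namespace Cfsg.Agent.Lib.Helper75.Au

open Cfsg Cfsg.Lie Cfsg.Agent.Lib.Helper36 Cfsg.Agent.Lib.Helper18 Cfsg.Agent.Lib.Helper18.Au

/-- data for the argument: a short node `s`, a long node `l`, a word `w` in the fundamental
reflections, its image `w'` under the symmetry, and the characteristic `p` -/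
structure T6Data where
  s : ℕ
  l : ℕ
  w : List ℕ
  w' : List ℕ
  p : ℕ

/-- table check: with `r = w(p_s)` and `r' = w'(p_l)`, the commutator of `X_{p_s}` and `X_r` is a
single term with constant `± p`, while `X_{p_l}` and `X_{r'}` commute -/
def chkT6 (D : ChevalleyDatum) (d : T6Data) : Bool :=
  decide (d.s < D.rank) && decide (d.l < D.rank) && d.w.all (fun k => decide (k < D.rank)) &&
  d.w'.all (fun k => decide (k < D.rank)) &&
  (wRoot D d.w (D.simple d.s) != D.simple d.s) && (wRoot D d.w (D.simple d.s) != D.neg (D.simple d.s)) &&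
  decide (wRoot D d.w (D.simple d.s) < D.nroots) &&
  (match D.commTerms (D.simple d.s) (wRoot D d.w (D.simple d.s)) with
    | [q] => (q.2.1 == (d.p : ℤ) || q.2.1 == -(d.p : ℤ)) && (q.2.2.1 == 1) && (q.2.2.2 == 1) &&
        decide (q.1 < D.nroots)
    | _ => false) &&
  (wRoot D d.w' (D.simple d.l) != D.simple d.l) && (wRoot D d.w' (D.simple d.l) != D.neg (D.simple d.l)) &&
  decide (wRoot D d.w' (D.simple d.l) < D.nroots) &&
  (D.commTerms (D.simple d.l) (wRoot D d.w' (D.simple d.l)) == [])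

/-- the action of a permutation of the nodes on a word -/
def permWord {n : ℕ} (π : Equiv.Perm (Fin n)) (w : List ℕ) : List ℕ :=
  w.map fun k => if h : k < n then ((π ⟨k, h⟩ : Fin n) : ℕ) else k

/-- every length-swapping symmetry of the diagram exchanges `s` and `l` and maps `w` to `w'` -/
def PermOK (D : ChevalleyDatum) (d : T6Data) : Prop :=
  ∀ π : Equiv.Perm (Fin D.rank),
    (∀ i j : Fin D.rank, i ≠ j → D.bonds (π i) (π j) = D.bonds i j) →
    (∃ i : Fin D.rank, D.isLong (D.simple (π i)) ≠ D.isLong (D.simple i)) →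
    permWord π [d.s] = [d.l] ∧ permWord π d.w = d.w'

def dataG2 : T6Data := ⟨0, 1, [0, 1], [1, 0], 3⟩
def dataB2 : T6Data := ⟨0, 1, [1], [0], 2⟩
def dataF4 : T6Data := ⟨1, 2, [2], [1], 2⟩

theorem chkT6_G2 : chkT6 chevG2 dataG2 = true := by decide +kernel
theorem chkT6_B2 : chkT6 chevB2 dataB2 = true := by decide +kernel
theorem chkT6_F4 : chkT6 chevF4 dataF4 = true := by decide +kernel

theorem permOK_G2 : PermOK chevG2 dataG2 := by
  unfold PermOK
  decide +kernel

theorem permOK_B2 : PermOK chevB2 dataB2 := by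
  unfold PermOK
  decide +kernel

theorem permOK_F4 : PermOK chevF4 dataF4 := by
  unfold PermOK
  decide +kernel

/-- table check: no fundamental root is long (types with one root length) -/
def chkNoLong (D : ChevalleyDatum) : Bool :=
  (List.range D.rank).all fun i => !D.isLong (D.simple i)

theorem chkNoLong_D4 : chkNoLong chevD4 = true := by decide +kernel
theorem chkNoLong_E6 : chkNoLong chevE6 = true := by decide +kernel
theorem chkNoLong_E7 : chkNoLong chevE7 = true := by decide +kernel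
theorem chkNoLong_E8 : chkNoLong chevE8 = true := by decide +kernel

theorem not_swapsLength_of_chkNoLong (D : ChevalleyDatum) (h : chkNoLong D = true)
    (π : Equiv.Perm (Fin D.rank)) : ¬ SwapsLength D π := by
  rintro ⟨i, hi⟩
  unfold chkNoLong at h
  rw [List.all_eq_true] at h
  have h1 := h (π i) (List.mem_range.2 (π i).2)
  have h2 := h i (List.mem_range.2 i.2)
  simp only [Bool.not_eq_eq_eq_not, Bool.not_true] at h1 h2
  exact hi (h1.trans h2.symm)

section
variable (D : ChevalleyDatum) (hD : D ∈ [chevG2, chevB2, chevD4, chevF4, chevE6, chevE7, chevE8])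
variable (F : Type*) [Field F]

/-- `n_{p_i} = x_{p_i}(1) x_{-p_i}(-1) x_{p_i}(1)` in the Chevalley group -/
def nGr (i : ℕ) : ↥(D.group F) :=
  xGr D hD F (D.simple i) 1 * xGr D hD F (D.neg (D.simple i)) (-1) * xGr D hD F (D.simple i) 1

theorem nGr_coe (i : ℕ) : ((nGr D hD F i : ↥(D.group F)) : GL D.Idx F) = nGL D hD F (D.simple i) 1 := by
  unfold nGr nGL
  simp only [Subgroup.coe_mul, xGr_coe, wordGL, ChevalleyDatum.nWord, List.map_cons, List.map_nil,
    List.prod_cons, List.prod_nil, mul_one, inv_one, mul_assoc]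

/-- the element `n_w` in the Chevalley group -/
def nWordGr (w : List ℕ) : ↥(D.group F) := (w.map (nGr D hD F)).prod

theorem nWordGr_coe (w : List ℕ) :
    ((nWordGr D hD F w : ↥(D.group F)) : GL D.Idx F) = nWordGL D hD F w := by
  unfold nWordGr nWordGL
  induction w with
  | nil => simp
  | cons i w ih =>
    simp only [List.map_cons, List.prod_cons, Subgroup.coe_mul, ih, nGr_coe]

theorem map_nWordGr (θ₁ : ↥(D.group F) ≃* ↥(D.group F)) (π : Equiv.Perm (Fin D.rank))
    (σ : Fin D.rank → F ≃+* F)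
    (h : ∀ (i : Fin D.rank) (t : F),
      θ₁ (xGr D hD F (D.simple i) t) = xGr D hD F (D.simple (π i)) (σ i t) ∧
      θ₁ (xGr D hD F (D.neg (D.simple i)) t) = xGr D hD F (D.neg (D.simple (π i))) (σ i t))
    (w : List ℕ) (hw : ∀ k ∈ w, k < D.rank) :
    θ₁ (nWordGr D hD F w) = nWordGr D hD F (permWord π w) := by
  induction w with
  | nil => simp [nWordGr, permWord]
  | cons i w ih =>
    have hi : i < D.rank := hw i (List.mem_cons_self ..)
    have hw' : ∀ k ∈ w, k < D.rank := fun k hk => hw k (List.mem_cons_of_mem _ hk)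
    have e1 : nWordGr D hD F (i :: w) = nGr D hD F i * nWordGr D hD F w := by
      simp [nWordGr]
    have e2 : nWordGr D hD F (permWord π (i :: w)) =
        nGr D hD F ((π ⟨i, hi⟩ : Fin D.rank) : ℕ) * nWordGr D hD F (permWord π w) := by
      simp [nWordGr, permWord, hi]
    rw [e1, e2, map_mul, ih hw']
    congr 1
    unfold nGr
    have h1 := h ⟨i, hi⟩
    simp only at h1
    rw [map_mul, map_mul, (h1 1).1, (h1 (-1)).2, map_one, map_neg, map_one]

include hD in
/-- the core of T6 -/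
theorem T6_core (d : T6Data) (hchk : chkT6 D d = true) (hperm : PermOK D d) (hp : d.p.Prime)
    (θ₁ : ↥(D.group F) ≃* ↥(D.group F)) (π : Equiv.Perm (Fin D.rank))
    (hπ : D.IsDiagramSymmetry π) (σ : Fin D.rank → F ≃+* F)
    (h : ∀ (i : Fin D.rank) (t : F),
      θ₁ (xGr D hD F (D.simple i) t) = xGr D hD F (D.simple (π i)) (σ i t) ∧
      θ₁ (xGr D hD F (D.neg (D.simple i)) t) = xGr D hD F (D.neg (D.simple (π i))) (σ i t))
    (hs : SwapsLength D π) : ringChar F = d.p := by
  unfold chkT6 at hchk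
  simp only [Bool.and_eq_true, decide_eq_true_eq, List.all_eq_true, bne_iff_ne, ne_eq, beq_iff_eq] at hchk
  obtain ⟨⟨⟨⟨⟨⟨⟨⟨⟨⟨⟨hs_lt, hl_lt⟩, hw⟩, hw'⟩, hr1⟩, hr2⟩, hr3⟩, hterms⟩, hr1'⟩, hr2'⟩, hr3'⟩, hnil⟩ := hchk
  obtain ⟨hπs, hπw⟩ := hperm π hπ hs
  have hπs' : ((π ⟨d.s, hs_lt⟩ : Fin D.rank) : ℕ) = d.l := by
    simpa [permWord, hs_lt] using hπs
  set r := wRoot D d.w (D.simple d.s) with hr
  set r' := wRoot D d.w' (D.simple d.l) with hr'
  obtain ⟨hs1, -, -, -, -, -⟩ := simple_facts D hD d.s hs_lt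
  obtain ⟨hl1, -, -, -, -, -⟩ := simple_facts D hD d.l hl_lt
  -- conjugation by `n_w` and `n_{w'}`
  obtain ⟨ε, hεε, hε⟩ := nWordGL_conj D hD F d.w hw (D.simple d.s) hs1
  obtain ⟨ε', -, hε'⟩ := nWordGL_conj D hD F d.w' hw' (D.simple d.l) hl1
  have hε0 : ε ≠ 0 := by
    intro e
    rw [e, mul_zero] at hεε
    exact zero_ne_one hεε
  have hc1 : ∀ t : F, nWordGr D hD F d.w * xGr D hD F (D.simple d.s) t * (nWordGr D hD F d.w)⁻¹ =
      xGr D hD F r (ε * t) := by
    intro t
    apply Subtype.ext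
    simp only [Subgroup.coe_mul, Subgroup.coe_inv, nWordGr_coe, xGr_coe]
    exact hε t
  have hc2 : ∀ t : F, nWordGr D hD F d.w' * xGr D hD F (D.simple d.l) t * (nWordGr D hD F d.w')⁻¹ =
      xGr D hD F r' (ε' * t) := by
    intro t
    apply Subtype.ext
    simp only [Subgroup.coe_mul, Subgroup.coe_inv, nWordGr_coe, xGr_coe]
    exact hε' t
  -- the image of `x_r(ε)`
  have himg : θ₁ (xGr D hD F r (ε * 1)) = xGr D hD F r' (ε' * σ ⟨d.s, hs_lt⟩ 1) := by
    rw [← hc1 1, map_mul, map_mul, map_inv, map_nWordGr D hD F θ₁ π σ h d.w hw, hπw,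
      (h ⟨d.s, hs_lt⟩ 1).1]
    simp only [hπs']
    exact hc2 _
  have himg2 : θ₁ (xGr D hD F (D.simple d.s) 1) = xGr D hD F (D.simple d.l) (σ ⟨d.s, hs_lt⟩ 1) := by
    rw [(h ⟨d.s, hs_lt⟩ 1).1]
    simp only [hπs']
  -- the images commute
  have hcom := xGL_commute_of_nil D hD F (D.simple d.l) r' hl1 hr3' hr1' hr2' hnil
    (σ ⟨d.s, hs_lt⟩ 1) (ε' * σ ⟨d.s, hs_lt⟩ 1)
  have hcom' : Commute (xGr D hD F (D.simple d.l) (σ ⟨d.s, hs_lt⟩ 1))
      (xGr D hD F r' (ε' * σ ⟨d.s, hs_lt⟩ 1)) := by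
    show _ * _ = _ * _
    apply Subtype.ext
    exact hcom.eq
  rw [← himg, ← himg2] at hcom'
  have hcom2 : Commute (xGr D hD F (D.simple d.s) (1 : F)) (xGr D hD F r (ε * 1)) := by
    show _ * _ = _ * _
    apply θ₁.injective
    rw [map_mul, map_mul]
    exact hcom'.eq
  have hcom3 : Commute (xGL D hD F (D.simple d.s) (1 : F)) (xGL D hD F r (ε * 1)) := by
    show _ * _ = _ * _
    exact congrArg Subtype.val hcom2.eq
  -- the commutator formula
  have hcomm := hcomm_all D hD F (D.simple d.s) r hs1 hr3 hr1 hr2 1 (ε * 1)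
  have e : xGL D hD F r (ε * 1) * xGL D hD F (D.simple d.s) 1 =
      xGL D hD F (D.simple d.s) 1 * xGL D hD F r (ε * 1) *
        wordGL D hD F (D.commWord F (D.simple d.s) r 1 (ε * 1)) := by
    apply Units.ext
    rw [Units.val_mul, Units.val_mul, Units.val_mul, xGL_coe, xGL_coe, wordGL_coe]
    exact hcomm
  have hW : wordGL D hD F (D.commWord F (D.simple d.s) r 1 (ε * 1)) = 1 := by
    have e' := e
    rw [← hcom3.eq] at e'
    exact (mul_eq_left).1 e'.symm
  generalize hl : D.commTerms (D.simple d.s) r = L at hterms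
  match L, hl, hterms with
  | [], _, ht => simp at ht
  | [q], hl, ht =>
    simp only [Bool.and_eq_true, Bool.or_eq_true, beq_iff_eq, decide_eq_true_eq] at ht
    obtain ⟨⟨⟨hq1, hq2⟩, hq3⟩, hq4⟩ := ht
    have hword : D.commWord F (D.simple d.s) r 1 (ε * 1) =
        [(q.1, (q.2.1 : F) * (-1) ^ q.2.2.1 * (ε * 1) ^ q.2.2.2)] := by
      unfold ChevalleyDatum.commWord
      rw [hl, List.map_cons, List.map_nil]
    rw [hword] at hW
    have hW2 : xGL D hD F q.1 ((q.2.1 : F) * (-1) ^ q.2.2.1 * (ε * 1) ^ q.2.2.2) = 1 := by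
      rw [← hW]
      simp [wordGL]
    have hx : D.x F q.1 ((q.2.1 : F) * (-1) ^ q.2.2.1 * (ε * 1) ^ q.2.2.2) = 1 := by
      rw [← xGL_coe D hD F, hW2]; rfl
    have hz := x_eq_one_iff D hD F q.1 hq4 _ hx
    rw [hq2, hq3, pow_one, pow_one, mul_one] at hz
    have hq0 : ((q.2.1 : ℤ) : F) = 0 := by
      rcases mul_eq_zero.1 hz with h1 | h1
      · rcases mul_eq_zero.1 h1 with h2 | h2
        · exact h2
        · exact absurd h2 (by simp)
      · exact absurd h1 hε0
    have hpF : ((d.p : ℕ) : F) = 0 := by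
      rcases hq1 with h1 | h1
      · rw [h1] at hq0
        simpa using hq0
      · rw [h1] at hq0
        simpa using hq0
    have hdvd : ringChar F ∣ d.p := ringChar.dvd hpF
    rcases (Nat.dvd_prime hp).1 hdvd with h1 | h1
    · exfalso
      haveI := ringChar.charP F
      exact CharP.char_ne_one F (ringChar F) h1
    · exact h1
  | _ :: _ :: _, _, ht => simp at ht

include hD in
/-- T6: a length-swapping permutation forces the characteristic. -/
theorem T6_char [Finite F] (θ₁ : ↥(D.group F) ≃* ↥(D.group F)) (π : Equiv.Perm (Fin D.rank))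
    (hπ : D.IsDiagramSymmetry π) (σ : Fin D.rank → F ≃+* F)
    (h : ∀ (i : Fin D.rank) (t : F),
      θ₁ (xGr D hD F (D.simple i) t) = xGr D hD F (D.simple (π i)) (σ i t) ∧
      θ₁ (xGr D hD F (D.neg (D.simple i)) t) = xGr D hD F (D.neg (D.simple (π i))) (σ i t))
    (hs : SwapsLength D π) : SwapChar D F := by
  have hD' := hD
  simp only [List.mem_cons, List.not_mem_nil, or_false] at hD'
  rcases hD' with rfl | rfl | rfl | rfl | rfl | rfl | rfl
  · exact Or.inr ⟨rfl, T6_core _ hD F dataG2 chkT6_G2 permOK_G2 (by norm_num [dataG2]) θ₁ π hπ σ h hs⟩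
  · exact Or.inl ⟨Or.inl rfl, T6_core _ hD F dataB2 chkT6_B2 permOK_B2 (by norm_num [dataB2]) θ₁ π hπ σ h hs⟩
  · exact absurd hs (not_swapsLength_of_chkNoLong _ chkNoLong_D4 π)
  · exact Or.inl ⟨Or.inr rfl, T6_core _ hD F dataF4 chkT6_F4 permOK_F4 (by norm_num [dataF4]) θ₁ π hπ σ h hs⟩
  · exact absurd hs (not_swapsLength_of_chkNoLong _ chkNoLong_E6 π)
  · exact absurd hs (not_swapsLength_of_chkNoLong _ chkNoLong_E7 π)
  · exact absurd hs (not_swapsLength_of_chkNoLong _ chkNoLong_E8 π)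

end

end Cfsg.Agent.Lib.Helper75.Au
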