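import Cfsg.Agent.Lib.Helper75.C2gGen
import Cfsg.Agent.Lib.Helper44.C2gA2

/-! # S2405 rank-2 sub-hive, leaf C2G-B2BIG: `B₂(F)`, `3 < |F|`, is 2-generated (helper75, twin of helper67's leaf) -/

set_option autoImplicit false

namespace Cfsg.Agent.Lib.Helper67.C2g

open Cfsg Cfsg.Lie Cfsg.Agent.Lib.Helper36 Cfsg.Agent.Lib.Helper40.C2g

/-- a generator `k` of `Fˣ` with `k ^ 2 = 1` forces `|F| ≤ 3` -/
theorem b2big_sq_ne_one (F : Type*) [Field F] [Fintype F] (hq : 3 < Fintype.card F) (k : F)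
    (hgen : ∀ t : F, t ≠ 0 → ∃ m : ℕ, t = k ^ m) : k ^ 2 ≠ 1 := by
  classical
  intro h
  have hsub : (Finset.univ : Finset F) ⊆ {0, 1, k} := by
    intro t _
    by_cases ht : t = 0
    · simp [ht]
    · obtain ⟨m, rfl⟩ := hgen t ht
      have hm : k ^ m = k ^ (m % 2) := by
        conv_lhs => rw [← Nat.div_add_mod m 2]
        rw [pow_add, pow_mul, h, one_pow, one_mul]
      rw [hm]
      have : m % 2 = 0 ∨ m % 2 = 1 := by omega
      rcases this with h0 | h0 <;> simp [h0]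
  have hcard := Finset.card_le_card hsub
  rw [Finset.card_univ] at hcard
  have h3 : ({0, 1, k} : Finset F).card ≤ 3 := Finset.card_le_three
  omega

/-- the core: with a generator `k` of `Fˣ`, `K0 = ⟨h₆(k) x₅(1) x₇(1), n⟩` contains `B₂(F)` -/
theorem b2big_core (F : Type*) [Field F] [Fintype F] (hq : 3 < Fintype.card F) (k : F) (hk : k ≠ 0)
    (hgen : ∀ t : F, t ≠ 0 → ∃ m : ℕ, t = k ^ m) :
    chevB2.group F ≤ Subgroup.closure
      ({hGL chevB2 hB2 F 6 k * xGL chevB2 hB2 F 5 1 * xGL chevB2 hB2 F 7 1, coxN chevB2 hB2 F} :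
        Set (GL chevB2.Idx F)) := by
  set h := hGL chevB2 hB2 F 6 k with hh
  set g1 := h * xGL chevB2 hB2 F 5 1 * xGL chevB2 hB2 F 7 1 with hg1
  set K0 := Subgroup.closure ({g1, coxN chevB2 hB2 F} : Set (GL chevB2.Idx F)) with hK0
  have hg1K : g1 ∈ K0 := Subgroup.subset_closure (by simp)
  have hn : coxN chevB2 hB2 F ∈ K0 := Subgroup.subset_closure (by simp)
  have hnr : chevB2.nroots = 8 := by decide
  have hk2 : k ^ 2 ≠ 1 := b2big_sq_ne_one F hq k hgen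
  -- commutation facts
  have c57 : ∀ s t : F, xGL chevB2 hB2 F 5 s * xGL chevB2 hB2 F 7 t
      = xGL chevB2 hB2 F 7 t * xGL chevB2 hB2 F 5 s := by
    intro s t
    exact xGL_comm_of_nil chevB2 hB2 F 7 5 (by decide) (by decide) (by decide) (by decide) (by decide) t s
  have c76 : ∀ s t : F, xGL chevB2 hB2 F 7 s * xGL chevB2 hB2 F 6 t
      = xGL chevB2 hB2 F 6 t * xGL chevB2 hB2 F 7 s := by
    intro s t
    exact xGL_comm_of_nil chevB2 hB2 F 6 7 (by decide) (by decide) (by decide) (by decide) (by decide) t s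
  -- torus action
  have hh5 : ∀ t : F, h * xGL chevB2 hB2 F 5 t * h⁻¹ = xGL chevB2 hB2 F 5 t := by
    intro t
    rw [hh, hGL_conj_xGL chevB2 hB2 F 6 5 (by decide) (by decide) k hk t]
    have : gc chevB2 6 5 = 0 := by decide
    rw [this, zpow_zero, one_mul]
  have hh7 : ∀ t : F, h * xGL chevB2 hB2 F 7 t * h⁻¹ = xGL chevB2 hB2 F 7 (k ^ 2 * t) := by
    intro t
    rw [hh, hGL_conj_xGL chevB2 hB2 F 6 7 (by decide) (by decide) k hk t]
    have : gc chevB2 6 7 = 2 := by decide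
    rw [this]
    norm_cast
  have hh6 : ∀ t : F, h * xGL chevB2 hB2 F 6 t * h⁻¹ = xGL chevB2 hB2 F 6 (k ^ 2 * t) := by
    intro t
    rw [hh, hGL_conj_xGL chevB2 hB2 F 6 6 (by decide) (by decide) k hk t]
    have : gc chevB2 6 6 = 2 := by decide
    rw [this]
    norm_cast
  have hhpow : h ^ (Fintype.card F - 1) = 1 := by
    rw [hh, hGL_pow' chevB2 hB2 F 6 (by decide) k hk, FiniteField.pow_card_sub_one_eq_one k hk,
      hGL_one' chevB2 hB2 F 6 (by decide)]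
  -- step 1: x_5(1) ∈ K0
  have h5m : xGL chevB2 hB2 F 5 (-1) ∈ K0 := by
    have hp := pow3_abstract (xGL chevB2 hB2 F 5) (xGL chevB2 hB2 F 7) h
      (xGL_add' chevB2 hB2 F 5) (xGL_add' chevB2 hB2 F 7) c57 hh5 (k ^ 2) hh7 hk2
      (pow_ne_zero 2 hk) hhpow
    rw [← hp]
    exact pow_mem hg1K _
  have h51 : xGL chevB2 hB2 F 5 1 ∈ K0 := by
    have := inv_mem h5m
    rwa [xGL_inv', neg_neg] at this
  -- step 2: x_6(1) ∈ K0
  have h61 : xGL chevB2 hB2 F 6 1 ∈ K0 := by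
    have := xGL_cox_one chevB2 hB2 F K0 hn 5 (by decide) h51
    have hc : coxRoot chevB2 5 = 6 := by decide
    rwa [hc] at this
  -- step 3: g1' = h x_7(1) ∈ K0 and PX 6
  have hg1' : h * xGL chevB2 hB2 F 7 1 ∈ K0 := by
    have : h * xGL chevB2 hB2 F 7 1 = g1 * (xGL chevB2 hB2 F 5 1)⁻¹ := by
      rw [hg1, mul_assoc h, c57, ← mul_assoc, mul_assoc (h * _), mul_inv_cancel, mul_one]
    rw [this]
    exact mul_mem hg1K (inv_mem h51)
  have hcl : AddSubgroup.closure {x : F | ∃ j : ℕ, x = (k ^ 2) ^ j} = ⊤ := closure_pow_two k hgen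
  have hconj6 : ∀ t : F, (h * xGL chevB2 hB2 F 7 1) * xGL chevB2 hB2 F 6 t * (h * xGL chevB2 hB2 F 7 1)⁻¹
      = xGL chevB2 hB2 F 6 (k ^ 2 * t) := by
    intro t
    rw [mul_inv_rev, ← hh6 t]
    have : xGL chevB2 hB2 F 7 1 * xGL chevB2 hB2 F 6 t * (xGL chevB2 hB2 F 7 1)⁻¹ = xGL chevB2 hB2 F 6 t := by
      rw [c76, mul_assoc, mul_inv_cancel, mul_one]
    calc h * xGL chevB2 hB2 F 7 1 * xGL chevB2 hB2 F 6 t * ((xGL chevB2 hB2 F 7 1)⁻¹ * h⁻¹)
        = h * (xGL chevB2 hB2 F 7 1 * xGL chevB2 hB2 F 6 t * (xGL chevB2 hB2 F 7 1)⁻¹) * h⁻¹ := by group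
      _ = h * xGL chevB2 hB2 F 6 t * h⁻¹ := by rw [this]
  have P6 : PX chevB2 hB2 F K0 6 := PX_fill_gen chevB2 hB2 F K0 6 _ hg1' (k ^ 2) hconj6 h61 hcl
  have P2 : PX chevB2 hB2 F K0 2 := by
    have := PX_cox chevB2 hB2 F K0 hn 6 (by decide) P6
    have hc : coxRoot chevB2 6 = 2 := by decide
    rwa [hc] at this
  have P1 : PX chevB2 hB2 F K0 1 := by
    have := PX_cox chevB2 hB2 F K0 hn 2 (by decide) P2
    have hc : coxRoot chevB2 2 = 1 := by decide
    rwa [hc] at this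
  have P5 : PX chevB2 hB2 F K0 5 := by
    have := PX_cox chevB2 hB2 F K0 hn 1 (by decide) P1
    have hc : coxRoot chevB2 1 = 5 := by decide
    rwa [hc] at this
  -- step 4: h ∈ K0, x_7(1) ∈ K0
  have hhK : h ∈ K0 := by
    rw [hh]
    apply hGL_mem_of_PX chevB2 hB2 F K0 6 P6
    have hc : chevB2.neg 6 = 1 := by decide
    rw [hc]
    exact P1
  have h71 : xGL chevB2 hB2 F 7 1 ∈ K0 := by
    have : xGL chevB2 hB2 F 7 1 = h⁻¹ * (h * xGL chevB2 hB2 F 7 1) := by group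
    rw [this]
    exact mul_mem (inv_mem hhK) hg1'
  -- step 5: PX 7 and the long roots
  have P7 : PX chevB2 hB2 F K0 7 := PX_fill_gen chevB2 hB2 F K0 7 h hhK (k ^ 2) hh7 h71 hcl
  have P4 : PX chevB2 hB2 F K0 4 := by
    have := PX_cox chevB2 hB2 F K0 hn 7 (by decide) P7
    have hc : coxRoot chevB2 7 = 4 := by decide
    rwa [hc] at this
  have P0 : PX chevB2 hB2 F K0 0 := by
    have := PX_cox chevB2 hB2 F K0 hn 4 (by decide) P4
    have hc : coxRoot chevB2 4 = 0 := by decide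
    rwa [hc] at this
  have P3 : PX chevB2 hB2 F K0 3 := by
    have := PX_cox chevB2 hB2 F K0 hn 0 (by decide) P0
    have hc : coxRoot chevB2 0 = 3 := by decide
    rwa [hc] at this
  -- (T)
  apply group_le chevB2 hB2 F K0
  intro r hr t
  rw [hnr] at hr
  interval_cases r
  · exact P0 t
  · exact P1 t
  · exact P2 t
  · exact P3 t
  · exact P4 t
  · exact P5 t
  · exact P6 t
  · exact P7 t

/-- LEAF C2G-B2BIG -/
theorem two_gen_B2_big (F : Type*) [Field F] [Fintype F] (hq : 3 < Fintype.card F) :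
    ∃ x y : ↥(chevB2.group F), Subgroup.closure ({x, y} : Set ↥(chevB2.group F)) = ⊤ := by
  obtain ⟨k, hk, hgen⟩ := exists_field_generator F
  refine two_gen_of_le chevB2 F _ _ ?_ (coxN_mem_group chevB2 hB2 F) (b2big_core F hq k hk hgen)
  exact mul_mem (mul_mem (hGL_mem_group chevB2 hB2 F 6 k) (xGL_mem_group chevB2 hB2 F 5 1))
    (xGL_mem_group chevB2 hB2 F 7 1)

end Cfsg.Agent.Lib.Helper67.C2g
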