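import Cfsg.Agent.Lib.Helper75.ChevWJ0

/-! # The check `chkWJ` for the datum of type E8 (helper75) -/

set_option autoImplicit false
set_option maxRecDepth 100000

namespace Cfsg.Agent.Lib.Helper75.ChevWJ

open Cfsg Cfsg.Lie Cfsg.Agent.Lib.Helper36

theorem chkWJ_E8 : ∀ J ∈ (List.range chevE8.rank).sublists, chkWJ chevE8 J = true := by decide +kernel

end Cfsg.Agent.Lib.Helper75.ChevWJ
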