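import Cfsg.Agent.Lib.Helper75.ChevWJ0
import Cfsg.Agent.Lib.Helper75.ChevWJE7
import Cfsg.Agent.Lib.Helper75.ChevWJE8
import Cfsg.Agent.Lib.Helper18.ChevCell2
import Cfsg.Agent.Lib.Helper36.ChevCells
import Cfsg.Agent.S1048

/-! # The longest element of `W_J` and the size of its Bruhat cell (helper75, for helper6's S2314 hive)

Main results (namespace `Cfsg.Agent.Lib.Helper75.ChevWJ`):

* `wRoot_wJ_neg` : the word `wJ D J` (letters in `J`) maps every positive root of `Φ_J` to a negative root;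
* `exists_nJ` : there is a word `l` with letters in `J` such that `n = nWordGL D hD F l` lies in `N ∩ P_J` and
  `|B| |U| ≤ |B n B| |U_J|`. -/

set_option autoImplicit false
set_option linter.unusedVariables false

namespace Cfsg.Agent.Lib.Helper75.ChevWJ

open Cfsg Cfsg.Lie Cfsg.Agent.Lib.Helper36 Cfsg.Agent.Lib.Helper18

variable (D : ChevalleyDatum) (hD : D ∈ [chevG2, chevB2, chevD4, chevF4, chevE6, chevE7, chevE8])

include hD in
theorem chkWJ_all : ∀ J ∈ (List.range D.rank).sublists, chkWJ D J = true :=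
  seven_cases (P := fun D => ∀ J ∈ (List.range D.rank).sublists, chkWJ D J = true) D hD
    chkWJ_G2 chkWJ_B2 chkWJ_D4 chkWJ_F4 chkWJ_E6 chkWJ_E7 chkWJ_E8

/-- the list of the elements of `J` below the rank -/
def jList (J : Finset ℕ) : List ℕ := (List.range D.rank).filter fun i => decide (i ∈ J)

theorem mem_jList (J : Finset ℕ) (i : ℕ) : i ∈ jList D J ↔ i < D.rank ∧ i ∈ J := by
  unfold jList
  rw [List.mem_filter, List.mem_range]
  simp

/-- the longest word of `W_J` -/
def wJ (J : Finset ℕ) : List ℕ := wJword D (jList D J)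

include hD in
theorem wJ_spec (J : Finset ℕ) :
    (∀ i ∈ wJ D J, i < D.rank ∧ i ∈ J) ∧
    (∀ j ∈ J, j < D.rank → ∀ k < D.rank, wordFun D (wJ D J) (unitFun j) k ≤ 0) := by
  have h := chkWJ_all D hD (jList D J) (List.mem_sublists.2 List.filter_sublist)
  unfold chkWJ at h
  simp only [Bool.and_eq_true, List.all_eq_true, decide_eq_true_eq, List.contains_iff_mem] at h
  obtain ⟨h1, h2⟩ := h
  have h1' : ∀ i ∈ wJ D J, i < D.rank ∧ i ∈ J := fun i hi => (mem_jList D J i).1 (h1 i hi)
  refine ⟨h1', fun j hj hjr k hk => ?_⟩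
  have := h2 j ((mem_jList D J j).2 ⟨hjr, hj⟩)
  change ∀ x ∈ wordVec D.rank (cmatF D) (wJ D J) (unitVec D.rank j), x ≤ 0 at this
  rw [unitVec_eq, wordVec_toList D hD _ (fun i hi => (h1' i hi).1)] at this
  apply all_toList D.rank _ _ k hk
  rw [List.all_eq_true]
  intro z hz
  simpa using this z hz

/-- if the word maps the unit vectors `e_j`, `j ∈ J`, to non-positive vectors, it maps non-negative vectors
supported on `J` to non-positive ones -/
theorem wordFun_nonpos_of_support (l : List ℕ) (hl : ∀ i ∈ l, i < D.rank) (J : Finset ℕ)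
    (hu : ∀ j ∈ J, j < D.rank → ∀ k < D.rank, wordFun D l (unitFun j) k ≤ 0) (f : ℕ → ℤ)
    (hf : ∀ j < D.rank, 0 ≤ f j) (hfJ : ∀ j < D.rank, j ∉ J → f j = 0) :
    ∀ k < D.rank, wordFun D l f k ≤ 0 := by
  intro k hk
  rw [wordFun_eqBelow D l hl f _ (eqBelow_sum_unit D.rank f) k hk, wordFun_sum, Finset.sum_apply]
  apply Finset.sum_nonpos
  intro j hj
  have hj' := Finset.mem_range.1 hj
  simp only [Pi.smul_apply, smul_eq_mul]
  by_cases hjJ : j ∈ J
  · exact mul_nonpos_of_nonneg_of_nonpos (hf j hj') (hu j hjJ hj' k hk)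
  · rw [hfJ j hj' hjJ, zero_mul]

include hD in
/-- the word `wJ D J` maps the positive roots of `Φ_J` to negative roots -/
theorem wRoot_wJ_neg (J : Finset ℕ) (r : ℕ) (hr : D.IsPosRoot r) (hrJ : D.InRootSub (↑J : Set ℕ) r) :
    D.IsNegRoot (wRoot D (wJ D J) r) := by
  obtain ⟨h1, h2⟩ := wJ_spec D hD J
  have h1' : ∀ i ∈ wJ D J, i < D.rank := fun i hi => (h1 i hi).1
  have hf := wfFast_all D hD
  have hlt := wRoot_lt D hD _ h1' r hr.1
  rw [isNegRoot_iff D hf _ hlt]
  intro j hj
  have := cor_wRoot D hD _ h1' r hr.1 j hj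
  simp only at this
  rw [this]
  refine wordFun_nonpos_of_support D _ h1' J h2 _ ((isPosRoot_iff D hf r hr.1).1 hr) ?_ j hj
  intro i hi hiJ
  exact hrJ.2 i hi (by simpa using hiJ)

/-! ### the group side -/

section grp

variable (F : Type*) [Field F]

/-- the unipotent subgroup `U^J` generated by the positive root subgroups of `Φ_J` -/
def UJ (J : Finset ℕ) : Subgroup (GL D.Idx F) :=
  Subgroup.closure {g | ∃ (r : ℕ) (t : F), D.IsPosRoot r ∧ D.InRootSub (↑J : Set ℕ) r ∧
    (g : Matrix D.Idx D.Idx F) = D.x F r t}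

include hD in
theorem UJ_le_sGens (J : Finset ℕ) : UJ D F J ≤ Subgroup.closure (sGens D F (wJ D J)) := by
  apply Subgroup.closure_mono
  rintro g ⟨r, t, hr, hrJ, hg⟩
  exact ⟨r, t, hr, wRoot_wJ_neg D hD J r hr hrJ, hg⟩

theorem UJ_le_pos (J : Finset ℕ) : UJ D F J ≤ D.posUnipotent F := by
  apply Subgroup.closure_mono
  rintro g ⟨r, t, hr, -, hg⟩
  exact ⟨r, t, hr, hg⟩

theorem pos_le_sup (J : Finset ℕ) :
    D.posUnipotent F ≤ D.unipotentRadical F (↑J : Set ℕ) ⊔ UJ D F J := by
  unfold ChevalleyDatum.posUnipotent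
  rw [Subgroup.closure_le]
  rintro g ⟨r, t, hr, hg⟩
  by_cases hrJ : D.InRootSub (↑J : Set ℕ) r
  · exact Subgroup.mem_sup_right (Subgroup.subset_closure ⟨r, t, hr, hrJ, hg⟩)
  · exact Subgroup.mem_sup_left (Subgroup.subset_closure ⟨r, t, hr, hrJ, hg⟩)

include hD in
theorem UJ_le_normalizer (J : Finset ℕ) :
    UJ D F J ≤ Subgroup.normalizer (D.unipotentRadical F (↑J : Set ℕ) : Set (GL D.Idx F)) := by
  refine le_trans ?_ (Cfsg.Agent.S1048.result (F := F) D hD (↑J : Set ℕ)).1
  refine le_trans (UJ_le_pos D F J) (le_trans (pos_le_borel D F) ?_)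
  unfold ChevalleyDatum.parabolicSubgroup
  exact le_sup_left

/-- `|N ⊔ H| ≤ |N| |H|` when `H` normalises `N` -/
theorem card_sup_le_mul {G : Type*} [Group G] [Finite G] (N H : Subgroup G)
    (hLE : H ≤ Subgroup.normalizer (N : Set G)) :
    Nat.card (N ⊔ H : Subgroup G) ≤ Nat.card N * Nat.card H := by
  rw [← Nat.card_prod]
  let f : N × H → ↥(N ⊔ H) := fun p =>
    ⟨(p.1 : G) * (p.2 : G), mul_mem (Subgroup.mem_sup_left p.1.2) (Subgroup.mem_sup_right p.2.2)⟩
  apply Nat.card_le_card_of_surjective f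
  rintro ⟨g, hg⟩
  have hg' : g ∈ (↑(N ⊔ H) : Set G) := hg
  rw [Subgroup.coe_mul_of_right_le_normalizer_left N H hLE] at hg'
  obtain ⟨a, ha, b, hb, rfl⟩ := hg'
  exact ⟨(⟨a, ha⟩, ⟨b, hb⟩), rfl⟩

include hD in
/-- **(b)** for helper6's S2314 hive: the representative `n_J` of the longest element of `W_J` lies in `N ∩ P_J`, and
`|B| |U| ≤ |B n_J B| |U_J|`. -/
theorem exists_nJ [Finite F] (J : Finset ℕ) (hJ : J ⊆ Finset.range D.rank) :
    ∃ l : List ℕ, (∀ i ∈ l, i ∈ J) ∧ nWordGL D hD F l ∈ D.monomialSubgroup F ∧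
      nWordGL D hD F l ∈ D.parabolicSubgroup F (↑J : Set ℕ) ∧
      Nat.card (D.borelSubgroup F) * Nat.card (D.posUnipotent F) ≤
        Nat.card (cell D F (nWordGL D hD F l)) * Nat.card (D.unipotentRadical F (↑J : Set ℕ)) := by
  classical
  have : Fintype F := Fintype.ofFinite F
  obtain ⟨h1, -⟩ := wJ_spec D hD J
  have h1' : ∀ i ∈ wJ D J, i < D.rank := fun i hi => (h1 i hi).1
  refine ⟨wJ D J, fun i hi => (h1 i hi).2, nWordGL_mem D hD F _ h1', ?_, ?_⟩
  · unfold nWordGL
    apply Subgroup.list_prod_mem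
    intro g hg
    obtain ⟨i, hi, rfl⟩ := List.mem_map.1 hg
    unfold ChevalleyDatum.parabolicSubgroup
    apply Subgroup.mem_sup_right
    apply Subgroup.subset_closure
    exact ⟨i, (h1 i hi).2, (h1 i hi).1, nGL_coe D hD F _ _⟩
  · have hcell : cell D F (nWordGL D hD F (wJ D J)) =
        DoubleCoset.doubleCoset (nWordGL D hD F (wJ D J)) (D.borelSubgroup F : Set (GL D.Idx F))
          (D.borelSubgroup F) := by
      ext g
      rw [DoubleCoset.mem_doubleCoset]
      rfl
    rw [hcell, card_cell_nWord D hD F _ h1', ← card_sGens D hD F _ h1']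
    have hU : Nat.card (D.posUnipotent F) ≤
        Nat.card (D.unipotentRadical F (↑J : Set ℕ)) * Nat.card (Subgroup.closure (sGens D F (wJ D J))) :=
      calc Nat.card (D.posUnipotent F)
          ≤ Nat.card (D.unipotentRadical F (↑J : Set ℕ) ⊔ UJ D F J : Subgroup (GL D.Idx F)) :=
            Subgroup.card_le_of_le (pos_le_sup D F J)
        _ ≤ Nat.card (D.unipotentRadical F (↑J : Set ℕ)) * Nat.card (UJ D F J) :=
            card_sup_le_mul _ _ (UJ_le_normalizer D hD F J)
        _ ≤ Nat.card (D.unipotentRadical F (↑J : Set ℕ)) *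
              Nat.card (Subgroup.closure (sGens D F (wJ D J))) :=
            Nat.mul_le_mul_left _ (Subgroup.card_le_of_le (UJ_le_sGens D hD F J))
    calc Nat.card (D.borelSubgroup F) * Nat.card (D.posUnipotent F)
        ≤ Nat.card (D.borelSubgroup F) * (Nat.card (D.unipotentRadical F (↑J : Set ℕ)) *
            Nat.card (Subgroup.closure (sGens D F (wJ D J)))) := Nat.mul_le_mul_left _ hU
      _ = Nat.card (D.borelSubgroup F) * Nat.card (Subgroup.closure (sGens D F (wJ D J))) *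
            Nat.card (D.unipotentRadical F (↑J : Set ℕ)) := by ring

end grp

end Cfsg.Agent.Lib.Helper75.ChevWJ
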