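import Cfsg.Agent.Lib.Helper36.ChevW0d

/-! # Longest words of the parabolic subgroups `W_J` of the Weyl group (helper75)

`wJword D J` is computed greedily on coroot coordinate vectors; `chkWJ D J` checks that its letters lie in `J`
and that it maps the fundamental coroots `e_j`, `j ∈ J`, to non-positive vectors.  The check is run by
`decide +kernel` for the seven data and all `J`. -/

set_option autoImplicit false
set_option maxRecDepth 100000

namespace Cfsg.Agent.Lib.Helper75.ChevWJ

open Cfsg Cfsg.Lie Cfsg.Agent.Lib.Helper36

/-- update of the columns `w(e_k)` when `w` is replaced by `w s_j` -/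
def colUpdate (cm : List (List ℤ)) (j : ℕ) (cols : List (List ℤ)) : List (List ℤ) :=
  List.zipWith (fun ck a => List.zipWith (fun x y => x - a * y) ck (cols.getD j [])) cols (cm.getD j [])

/-- the greedy construction of the longest word of `W_J` -/
def wJgreedy (cm : List (List ℤ)) (J : List ℕ) : ℕ → List (List ℤ) → List ℕ → List ℕ
  | 0, _, l => l
  | fuel + 1, cols, l =>
    match J.find? (fun j => (cols.getD j []).any fun z => decide (0 < z)) with
    | none => l
    | some j => wJgreedy cm J fuel (colUpdate cm j cols) (l ++ [j])

/-- a word for the longest element of `W_J` -/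
def wJword (D : ChevalleyDatum) (J : List ℕ) : List ℕ :=
  wJgreedy (cmatF D) J (D.nroots / 2) ((List.range D.rank).map fun j => unitVec D.rank j) []

/-- the letters of `wJword D J` lie in `J`, and the word maps `e_j`, `j ∈ J`, to non-positive vectors -/
def chkWJ (D : ChevalleyDatum) (J : List ℕ) : Bool :=
  (wJword D J).all (fun i => J.contains i) &&
  J.all fun j => (wordVec D.rank (cmatF D) (wJword D J) (unitVec D.rank j)).all fun z => decide (z ≤ 0)

theorem chkWJ_G2 : ∀ J ∈ (List.range chevG2.rank).sublists, chkWJ chevG2 J = true := by decide +kernel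
theorem chkWJ_B2 : ∀ J ∈ (List.range chevB2.rank).sublists, chkWJ chevB2 J = true := by decide +kernel
theorem chkWJ_D4 : ∀ J ∈ (List.range chevD4.rank).sublists, chkWJ chevD4 J = true := by decide +kernel
theorem chkWJ_F4 : ∀ J ∈ (List.range chevF4.rank).sublists, chkWJ chevF4 J = true := by decide +kernel
theorem chkWJ_E6 : ∀ J ∈ (List.range chevE6.rank).sublists, chkWJ chevE6 J = true := by decide +kernel

end Cfsg.Agent.Lib.Helper75.ChevWJ
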