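import Cfsg.Agent.Lib.Helper36.ChevTwD4
import Cfsg.Agent.Lib.Helper36.ChevTwRank1
import Cfsg.Agent.Lib.Helper36.ChevTwTorus

/-! # `³D₄(q)` is generated by two elements: definitions (helper75, D4g mini-hive for S2407)

Roots of `D₄` (index: coefficients on `p₁ p₂ p₃ p₄`, `p₂` the central node): `18 = p₁`, `14 = p₂`, `13 = p₃`, `12 = p₄`,
`19 = p₁+p₂`, `16 = p₂+p₃`, `15 = p₂+p₄`, `17 = p₂+p₃+p₄`, `20 = p₁+p₂+p₄`, `21 = p₁+p₂+p₃`, `neg r = 23 - r`.
`φ` is the `q`-power map of `K`, `|K| = q³`. -/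

set_option autoImplicit false

namespace Cfsg.Agent.Lib.Helper75.D4g

open Cfsg Cfsg.Lie Cfsg.Agent.Lib.Helper36

variable (K : Type*) [Field K] (φ : K →+* K)

/-- root elements of `D₄(K)` -/
noncomputable abbrev xg (r : ℕ) (t : K) : GL chevD4.Idx K := xGL chevD4 hD4 K r t

/-- torus elements of `D₄(K)` -/
noncomputable abbrev hg (r : ℕ) (t : K) : GL chevD4.Idx K := hGL chevD4 hD4 K r t

/-- the twisted short root element `x_S(t) = x_{p₁}(t) x_{p₃}(φ t) x_{p₄}(φ² t)` -/
noncomputable def xS (t : K) : GL chevD4.Idx K := xg K 18 t * xg K 13 (φ t) * xg K 12 (φ (φ t))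

/-- the twisted short root element `x_{-S}(t)` -/
noncomputable def xSn (t : K) : GL chevD4.Idx K := xg K 5 t * xg K 10 (φ t) * xg K 11 (φ (φ t))

/-- the twisted short root element for `S + L = {p₁+p₂, p₂+p₃, p₂+p₄}` (no signs) -/
noncomputable def xSL (t : K) : GL chevD4.Idx K := xg K 19 (-t) * xg K 16 (φ t) * xg K 15 (φ (φ t))

/-- the torus element `h_S(z) = h_{p₁}(z) h_{p₃}(φ z) h_{p₄}(φ² z)` -/
noncomputable def tA (z : K) : GL chevD4.Idx K := hg K 18 z * hg K 13 (φ z) * hg K 12 (φ (φ z))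

/-- the twisted Coxeter word -/
def cox : List ℕ := [0, 2, 3, 1]

/-- the lift of the twisted Coxeter element -/
noncomputable def nC : GL chevD4.Idx K := nWordGL chevD4 hD4 K cox

/-- the second generator -/
noncomputable def gB : GL chevD4.Idx K := xS K φ 1 * nC K

end Cfsg.Agent.Lib.Helper75.D4g
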