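import Mathlib

/-! # D4g mini-hive (S2407): the rank one trick (helper75) -/

set_option autoImplicit false

namespace Cfsg.Agent.Lib.Helper75.D4g

/-- D4G-GRP: the rank one trick.  `g₁ := b a b⁻¹ = x(1) a₁ x(1)⁻¹` (with `b = x(1) n`, `a₁ = n a n⁻¹`) lies in `X` and
conjugation by it multiplies the parameter of `x` by `c₁`; `g₁⁻¹ (a g₁ a⁻¹) = x((c-1)(c₁⁻¹-1))` is a non-trivial
element of the root group; so `x(t) ∈ X` for all `t`, and then `n = x(1)⁻¹ b ∈ X`. -/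
theorem rank1_trick {G : Type*} [Group G] {K : Type*} [Field K] (x : K → G) (hadd : ∀ t u : K, x (t + u) = x t * x u)
    (a n : G) (c c₁ : K) (hc : c ≠ 1) (hc₁ : c₁ ≠ 0) (hc₁' : c₁ ≠ 1)
    (hgen : ∀ t : K, t ≠ 0 → ∃ k : ℕ, t = c₁ ^ k)
    (ha : ∀ t : K, a * x t * a⁻¹ = x (c * t))
    (ha₁ : ∀ t : K, (n * a * n⁻¹) * x t * (n * a * n⁻¹)⁻¹ = x (c₁ * t))
    (hcomm : Commute a (n * a * n⁻¹))
    (X : Subgroup G) (haX : a ∈ X) (hbX : x 1 * n ∈ X) : (∀ t : K, x t ∈ X) ∧ n ∈ X := by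
  have h0 : x 0 = 1 := by
    have h := hadd 0 0
    rw [add_zero] at h
    exact (mul_eq_left.1 h.symm)
  have hinv : ∀ t : K, (x t)⁻¹ = x (-t) := by
    intro t
    rw [inv_eq_iff_mul_eq_one, ← hadd, add_neg_cancel, h0]
  have hxc : ∀ t u : K, x t * x u = x u * x t := by
    intro t u
    rw [← hadd, ← hadd, add_comm]
  set a₁ := n * a * n⁻¹ with ha₁def
  set g₁ := x 1 * a₁ * (x 1)⁻¹ with hg₁
  have hg₁X : g₁ ∈ X := by
    have e : g₁ = (x 1 * n) * a * (x 1 * n)⁻¹ := by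
      rw [hg₁, ha₁def]; group
    rw [e]
    exact mul_mem (mul_mem hbX haX) (inv_mem hbX)
  -- conjugation by `g₁` multiplies the parameter by `c₁`
  have hg₁c : ∀ t : K, g₁ * x t * g₁⁻¹ = x (c₁ * t) := by
    intro t
    have e : g₁ * x t * g₁⁻¹ = x 1 * (a₁ * ((x 1)⁻¹ * x t * x 1) * a₁⁻¹) * (x 1)⁻¹ := by
      rw [hg₁]; group
    have e2 : (x 1)⁻¹ * x t * x 1 = x t := by
      rw [mul_assoc, hxc t 1, ← mul_assoc, inv_mul_cancel, one_mul]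
    rw [e, e2, ha₁ t, hxc 1, mul_assoc, mul_inv_cancel, mul_one]
  have hg₁ci : ∀ t : K, g₁⁻¹ * x t * g₁ = x (c₁⁻¹ * t) := by
    intro t
    have h := hg₁c (c₁⁻¹ * t)
    rw [← mul_assoc, mul_inv_cancel₀ hc₁, one_mul] at h
    rw [← h]; group
  -- the commutator
  have hd : x ((c - 1) * (c₁⁻¹ - 1)) ∈ X := by
    have e1 : a * g₁ * a⁻¹ = x c * a₁ * (x c)⁻¹ := by
      have h1 := ha 1
      rw [mul_one] at h1
      have h2 : a * a₁ * a⁻¹ = a₁ := by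
        rw [hcomm.eq, mul_assoc, mul_inv_cancel, mul_one]
      have e : a * g₁ * a⁻¹ = (a * x 1 * a⁻¹) * (a * a₁ * a⁻¹) * (a * x 1 * a⁻¹)⁻¹ := by
        rw [hg₁]; group
      rw [e, h1, h2]
    have ha₁i : ∀ t : K, a₁⁻¹ * x t * a₁ = x (c₁⁻¹ * t) := by
      intro t
      have h := ha₁ (c₁⁻¹ * t)
      rw [← mul_assoc, mul_inv_cancel₀ hc₁, one_mul] at h
      rw [← h]; group
    have e2 : g₁⁻¹ * (a * g₁ * a⁻¹) = x ((c - 1) * (c₁⁻¹ - 1)) := by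
      rw [e1, hg₁]
      have e3 : (x 1 * a₁ * (x 1)⁻¹)⁻¹ * (x c * a₁ * (x c)⁻¹) =
          x 1 * (a₁⁻¹ * ((x 1)⁻¹ * x c) * a₁) * (x c)⁻¹ := by group
      rw [e3, hinv 1, ← hadd, ha₁i, hinv c, ← hadd, ← hadd]
      congr 1
      ring
    rw [← e2]
    exact mul_mem (inv_mem hg₁X) (mul_mem (mul_mem haX hg₁X) (inv_mem haX))
  have hdne : (c - 1) * (c₁⁻¹ - 1) ≠ 0 := by
    apply mul_ne_zero (sub_ne_zero.2 hc)
    rw [sub_ne_zero]
    intro h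
    exact hc₁' (inv_eq_one.1 h)
  have hstep : ∀ t : K, x t ∈ X → x (c₁ * t) ∈ X := by
    intro t ht
    rw [← hg₁c t]
    exact mul_mem (mul_mem hg₁X ht) (inv_mem hg₁X)
  have hpow : ∀ k : ℕ, ∀ t : K, x t ∈ X → x (c₁ ^ k * t) ∈ X := by
    intro k
    induction k with
    | zero => intro t ht; simpa using ht
    | succ k ih =>
      intro t ht
      rw [pow_succ', mul_assoc]
      exact hstep _ (ih t ht)
  have hall : ∀ t : K, x t ∈ X := by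
    intro t
    by_cases ht : t = 0
    · rw [ht, h0]; exact one_mem _
    · obtain ⟨k, hk⟩ := hgen (t / ((c - 1) * (c₁⁻¹ - 1))) (div_ne_zero ht hdne)
      have h := hpow k _ hd
      rw [← hk, div_mul_cancel₀ _ hdne] at h
      exact h
  refine ⟨hall, ?_⟩
  have e : n = (x 1)⁻¹ * (x 1 * n) := by group
  rw [e]
  exact mul_mem (inv_mem (hall 1)) hbX

end Cfsg.Agent.Lib.Helper75.D4g
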