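import Cfsg.Agent.Lib.Helper75.D4gDefs
import Cfsg.Agent.Lib.Helper75.D4gGRP
import Cfsg.Agent.Lib.Helper75.D4gMEM
import Cfsg.Agent.Lib.Helper75.D4gCONJ
import Cfsg.Agent.Lib.Helper35.D4gNT
import Cfsg.Agent.Lib.Helper35.D4gTR
import Cfsg.Agent.Lib.Helper33.D4gADD
import Cfsg.Agent.Lib.Helper5.D4gTOR1
import Cfsg.Agent.Lib.Helper5.D4gTOR2
import Cfsg.Agent.Lib.Helper5.D4gTOR3
import Cfsg.Agent.Lib.Helper65.D4gCOMM

/-! # `³D₄(q)` is generated by two elements (helper75, D4g mini-hive for S2407): the assembly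

Generators `a = h_S(z)` (`z` a generator of `Kˣ`) and `b = x_S(1) n`, `n` the lift of the twisted Coxeter element.
Leaves: NT + TR (helper35), ADD (helper33), TOR1-3 (helper5), COMM (helper65), GRP + MEM + CONJ (helper75). -/

set_option autoImplicit false

namespace Cfsg.Agent.Lib.Helper75.D4g

open Cfsg Cfsg.Lie Cfsg.Agent.Lib.Helper36

/-! ### assembly (helper75) -/

section asm
variable {K : Type*} [Field K] [Fintype K] {q : ℕ}

theorem frob_cube (hK : Fintype.card K = q ^ 3) (φ : K →+* K) (hφ : ∀ t : K, φ t = t ^ q) (t : K) :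
    φ (φ (φ t)) = t := by
  rw [hφ, hφ, hφ, ← pow_mul, ← pow_mul, show q * (q * q) = q ^ 3 by ring, ← hK]
  exact FiniteField.pow_card t

theorem d4g_le (hq : IsPrimePow q) (hK : Fintype.card K = q ^ 3) (φ : K →+* K) (hφ : ∀ t : K, φ t = t ^ q)
    (z : K) (hz : z ≠ 0) (hz2 : z ^ 2 ≠ 1) (hc1 : z⁻¹ * z ^ q * z ^ (q ^ 2) ≠ 1)
    (hgen : ∀ t : K, t ≠ 0 → ∃ k : ℕ, t = (z⁻¹ * z ^ q * z ^ (q ^ 2)) ^ k) :
    twistedD4 K q ≤ Subgroup.closure {tA K φ z, gB K φ} := by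
  set X := Subgroup.closure {tA K φ z, gB K φ} with hX
  have haX : tA K φ z ∈ X := Subgroup.subset_closure (Set.mem_insert _ _)
  have hbX : gB K φ ∈ X := Subgroup.subset_closure (Set.mem_insert_of_mem _ rfl)
  have hφ3 := frob_cube hK φ hφ
  have hφ2 : ∀ t : K, φ (φ t) = t ^ (q ^ 2) := by
    intro t
    rw [hφ, hφ, ← pow_mul, sq]
  have ec : z⁻¹ * φ z * φ (φ z) = z⁻¹ * z ^ q * z ^ (q ^ 2) := by rw [hφ2, hφ]
  have hc0 : z⁻¹ * z ^ q * z ^ (q ^ 2) ≠ 0 := by
    have h1 : z⁻¹ ≠ 0 := inv_ne_zero hz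
    have h2 : z ^ q ≠ 0 := pow_ne_zero _ hz
    have h3 : z ^ (q ^ 2) ≠ 0 := pow_ne_zero _ hz
    exact mul_ne_zero (mul_ne_zero h1 h2) h3
  -- step 1: the rank one trick
  obtain ⟨hS, hn⟩ := rank1_trick (xS K φ) (xS_add φ) (tA K φ z) (nC K) (z ^ 2) (z⁻¹ * z ^ q * z ^ (q ^ 2))
    hz2 hc0 hc1 hgen (tA_conj_xS φ z hz)
    (fun t => by rw [← ec]; exact nA_conj_xS φ hφ3 z hz t) (tA_comm_nA φ z hz) X haX hbX
  -- step 2: the other short root groups
  have hSL : ∀ t : K, xSL K φ t ∈ X := fun t => by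
    rw [← nC2_conj_xS φ t]
    exact mul_mem (mul_mem (pow_mem hn 2) (hS t)) (inv_mem (pow_mem hn 2))
  have hSn : ∀ t : K, xSn K φ t ∈ X := fun t => by
    have h := nC3_conj_xS φ (-t)
    rw [neg_neg] at h
    rw [← h]
    exact mul_mem (mul_mem (pow_mem hn 3) (hS _)) (inv_mem (pow_mem hn 3))
  -- step 3: the long root groups
  have hL : ∀ s : K, φ s = s → xg K 14 s ∈ X := fun s hs => by
    obtain ⟨t, ht⟩ := exists_trace hq hK φ hφ s hs
    have h := xSn_mul_xSL φ t 1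
    rw [mul_one, ht] at h
    have e : xg K 14 s = (xSL K φ t * xSn K φ 1)⁻¹ * (xSn K φ 1 * xSL K φ t) := by
      rw [h]; group
    rw [e]
    exact mul_mem (inv_mem (mul_mem (hSL t) (hSn 1))) (mul_mem (hSn 1) (hSL t))
  have hLn : ∀ s : K, φ s = s → xg K 9 s ∈ X := fun s hs => by
    have h := nC3_conj_x14 (K := K) (-s)
    rw [neg_neg] at h
    rw [← h]
    exact mul_mem (mul_mem (pow_mem hn 3) (hL (-s) (by rw [map_neg, hs]))) (inv_mem (pow_mem hn 3))
  -- step 4: the defining generators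
  unfold twistedD4 ChevalleyDatum.genSubgroup
  rw [Subgroup.closure_le]
  rintro g ⟨w, hw, hg⟩
  have eg : g = wordGL chevD4 hD4 K w := Units.ext (by rw [hg, wordGL_coe])
  rw [SetLike.mem_coe, eg]
  rcases hw with ⟨t, ht, r, hr, rfl⟩ | ⟨t, rs, hrs, rfl⟩
  · simp only [List.mem_cons, List.not_mem_nil, or_false] at hr
    rcases hr with rfl | rfl
    · have := hL t (by rw [hφ, ht])
      simpa [wordGL, xg, d4p2] using this
    · have := hLn t (by rw [hφ, ht])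
      simpa [wordGL, xg, d4m2] using this
  · simp only [List.mem_cons, List.not_mem_nil, or_false] at hrs
    rcases hrs with rfl | rfl
    · have := hS t
      rw [xS, hφ2, hφ] at this
      simpa [wordGL, xg, d4p1, d4p3, d4p4, mul_assoc] using this
    · have := hSn t
      rw [xSn, hφ2, hφ] at this
      simpa [wordGL, xg, d4m1, d4m3, d4m4, mul_assoc] using this

/-- `³D₄(q)` is generated by two elements -/
theorem two_gen (hq : IsPrimePow q) (hK : Fintype.card K = q ^ 3) :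
    ∃ a b : ↥(twistedD4 K q), Subgroup.closure ({a, b} : Set ↥(twistedD4 K q)) = ⊤ := by
  obtain ⟨φ, hφ⟩ := exists_frob hq 3 hK
  obtain ⟨z, hz, hz2, hc1, hgen⟩ := exists_gen hq hK
  have ha := tA_mem hK φ hφ z hz
  have hb := gB_mem hK φ hφ
  refine ⟨⟨_, ha⟩, ⟨_, hb⟩, ?_⟩
  rw [eq_top_iff]
  intro g _
  have h1 := d4g_le hq hK φ hφ z hz hz2 hc1 hgen g.2
  have hmap : (Subgroup.closure ({⟨_, ha⟩, ⟨_, hb⟩} : Set ↥(twistedD4 K q))).map (twistedD4 K q).subtype =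
      Subgroup.closure {tA K φ z, gB K φ} := by
    rw [MonoidHom.map_closure]
    congr 1
    simp [Set.image_pair]
  rw [← hmap] at h1
  obtain ⟨g', hg', e⟩ := Subgroup.mem_map.1 h1
  have : g' = g := Subtype.ext e
  rw [← this]
  exact hg'

end asm

end Cfsg.Agent.Lib.Helper75.D4g
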