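import Cfsg.Agent.Lib.Helper75.DefectOne1
import Cfsg.Agent.S4494
import Cfsg.Agent.Lib.Helper76.CentralChar
import Cfsg.Agent.Lib.Helper16.RegularDet
import Cfsg.Agent.Lib.Helper16.Degree

/-!
# A 2-block of defect at most one of a group with a central involution
-/

set_option autoImplicit false

universe u

namespace Cfsg.Agent.Lib.Helper75

open Cfsg Cfsg.Agent.Lib.Helper77 Cfsg.Agent.Lib.Helper76
open scoped ComplexConjugate

variable {H : Type u} [Group H]

theorem two_dvd_orderOf_mul_of_central {z y : H} (hzy : Commute z y) (hz2 : orderOf z = 2)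
    (hy : ¬ 2 ∣ orderOf y) : 2 ∣ orderOf (z * y) := by
  by_contra h
  have hodd : Odd (orderOf (z * y)) := Nat.odd_iff.mpr (Nat.two_dvd_ne_zero.mp h)
  obtain ⟨k, hk⟩ := hodd
  have h1 : (z * y) ^ orderOf (z * y) = 1 := pow_orderOf_eq_one _
  rw [hzy.mul_pow] at h1
  have hz2' : z ^ 2 = 1 := by rw [← hz2]; exact pow_orderOf_eq_one z
  have h2 : z ^ orderOf (z * y) = z := by
    rw [hk, pow_succ, pow_mul, hz2', one_pow, one_mul]
  rw [h2] at h1
  have h3 : z = (y ^ orderOf (z * y))⁻¹ := eq_inv_of_mul_eq_one_left h1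
  have h4 : orderOf z ∣ orderOf y := by
    rw [h3, orderOf_inv]
    exact orderOf_pow_dvd _
  rw [hz2] at h4
  exact hy h4

variable [Fintype H]

open Classical in
/-- A `2`-block `b` of defect at most one of a group with a central involution `z`, containing a
character `θ` with `z` in its kernel, consists of `θ` and one more character `θ'`, which agrees
with `θ` on the elements of odd order and has `θ'(z) = -θ'(1)`. -/
theorem central_defect_one [Fintype (IrrCharacter H)] {M : Ideal AlgInt} (hM : IsPModular 2 M)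
    {z : H} (hz : z ∈ Subgroup.center H) (hz2 : orderOf z = 2)
    {b : Set (IrrCharacter H)} (hb : IsPBlock M b) (hd : blockDefect 2 b ≤ 1)
    {θ : IrrCharacter H} (hθ : θ ∈ b) (hθz : (θ : H → ℂ) z = (θ : H → ℂ) 1) :
    ∃ θ' : IrrCharacter H, θ' ∈ b ∧ θ' ≠ θ ∧ (∀ ψ ∈ b, ψ = θ ∨ ψ = θ') ∧
      (θ' : H → ℂ) 1 = (θ : H → ℂ) 1 ∧ (θ' : H → ℂ) z = - (θ' : H → ℂ) 1 ∧
      ∀ y : H, ¬ 2 ∣ orderOf y → (θ' : H → ℂ) y = (θ : H → ℂ) y := by
  haveI : Fact (Nat.Prime 2) := ⟨Nat.prime_two⟩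
  have hMp : M.IsPrime := hM.2.1.isPrime
  have hbθ : b = blockOf M (θ : H → ℂ) := Cfsg.Agent.Lib.Helper16.eq_blockOf_of_mem hMp hb hθ
  set bF := Finset.univ.filter (fun ψ : IrrCharacter H => ψ ∈ b) with hbF
  have hθF : θ ∈ bF := Finset.mem_filter.mpr ⟨Finset.mem_univ _, hθ⟩
  -- Brauer–Feit
  have hcard : bF.card ≤ 2 := by
    have h1 := Cfsg.Agent.S4494.result 2 M hM b hb
    have h2 : Nat.card b = bF.card := by
      rw [Nat.card_eq_fintype_card, Fintype.card_subtype]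
    have h3 : 2 ^ (2 * blockDefect 2 b) ≤ 2 ^ 2 :=
      Nat.pow_le_pow_right (by norm_num) (by omega)
    rw [h2] at h1
    omega
  -- degrees and signs
  have hdeg : ∀ ψ : IrrCharacter H, ∃ d : ℕ, 0 < d ∧ (ψ : H → ℂ) 1 = (d : ℂ) := fun ψ => by
    obtain ⟨d, h1, h2, -, -⟩ := Cfsg.Agent.Lib.Helper16.irr_degree_spec ψ
    exact ⟨d, h1, h2⟩
  choose d hd0 hd1 using hdeg
  have hz2' : z ^ 2 = 1 := by rw [← hz2]; exact pow_orderOf_eq_one z
  have hom : ∀ ψ : IrrCharacter H, om ψ z = 1 ∨ om ψ z = -1 := by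
    intro ψ
    have h1 := om_mul ψ z z hz
    rw [show z * z = 1 from by rw [← pow_two]; exact hz2', om_one] at h1
    have h4 : (om ψ z - 1) * (om ψ z + 1) = 0 := by
      have : (om ψ z - 1) * (om ψ z + 1) = om ψ z * om ψ z - 1 := by ring
      rw [this, ← h1, sub_self]
    rcases mul_eq_zero.mp h4 with h | h
    · left; exact sub_eq_zero.mp h
    · right; exact eq_neg_of_add_eq_zero_left h
  have hval : ∀ (ψ : IrrCharacter H) (y : H), (ψ : H → ℂ) (z * y) = om ψ z * (ψ : H → ℂ) y := by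
    intro ψ y
    rw [show z * y = y * z from (Subgroup.mem_center_iff.mp hz y).symm]
    exact irr_mul_central' ψ z hz y
  have homθ : om θ z = 1 := by
    unfold om
    rw [hθz]
    exact div_self (Cfsg.Agent.Lib.Helper81.irr_apply_one_ne_zero θ)
  -- the sign as an integer
  let s : IrrCharacter H → ℤ := fun ψ => if om ψ z = 1 then 1 else -1
  have hs : ∀ ψ : IrrCharacter H, om ψ z = ((s ψ : ℤ) : ℂ) := by
    intro ψ
    show om ψ z = (((if om ψ z = 1 then 1 else -1 : ℤ)) : ℂ)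
    rcases hom ψ with h | h
    · rw [if_pos h, h, Int.cast_one]
    · have hne : om ψ z ≠ 1 := by rw [h]; norm_num
      rw [if_neg hne, h, Int.cast_neg, Int.cast_one]
  have hsθ : s θ = 1 := by
    show (if om θ z = 1 then (1 : ℤ) else -1) = 1
    rw [if_pos homθ]
  have hspm : ∀ ψ : IrrCharacter H, s ψ = 1 ∨ s ψ = -1 := by
    intro ψ
    show (if om ψ z = 1 then (1 : ℤ) else -1) = 1 ∨ (if om ψ z = 1 then (1 : ℤ) else -1) = -1
    by_cases h : om ψ z = 1
    · rw [if_pos h]; exact Or.inl rfl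
    · rw [if_neg h]; exact Or.inr rfl
  -- weak block orthogonality at (1, z y)
  have hwbo : ∀ y : H, ¬ 2 ∣ orderOf y →
      ∑ ψ ∈ bF, ((d ψ : ℤ) : ℂ) * ((s ψ : ℤ) : ℂ) * conj ((ψ : H → ℂ) y) = 0 := by
    intro y hy
    have hsing : 2 ∣ orderOf (z * y) :=
      two_dvd_orderOf_mul_of_central (Subgroup.mem_center_iff.mp hz y).symm hz2 hy
    have h1 := Cfsg.Agent.Lib.Helper16.weak_block_orthogonality_finset hM θ
      (x := (1 : H)) (y := z * y) (by rw [orderOf_one]; norm_num) hsing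
    rw [← hbθ] at h1
    rw [← h1]
    refine Finset.sum_congr rfl fun ψ _ => ?_
    rw [hval ψ y, hs ψ, hd1 ψ, map_mul, map_intCast]
    push_cast
    ring
  -- at y = 1
  have hwbo1 : ∑ ψ ∈ bF, (s ψ) * (d ψ : ℤ) ^ 2 = 0 := by
    have h1 := hwbo 1 (by rw [orderOf_one]; norm_num)
    have h2 : ∀ ψ ∈ bF, ((d ψ : ℤ) : ℂ) * ((s ψ : ℤ) : ℂ) * conj ((ψ : H → ℂ) 1) =
        (((s ψ) * (d ψ : ℤ) ^ 2 : ℤ) : ℂ) := by
      intro ψ _
      rw [hd1 ψ, map_natCast]
      push_cast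
      ring
    rw [Finset.sum_congr rfl h2, ← Int.cast_sum] at h1
    exact_mod_cast h1
  set E := bF.erase θ with hE
  have hE1 : (d θ : ℤ) ^ 2 + ∑ ψ ∈ E, (s ψ) * (d ψ : ℤ) ^ 2 = 0 := by
    have h := Finset.add_sum_erase bF (fun ψ => (s ψ) * (d ψ : ℤ) ^ 2) hθF
    rw [hwbo1, hsθ, one_mul] at h
    exact h
  have hdθ : (0 : ℤ) < (d θ : ℤ) ^ 2 := by
    have : (0 : ℤ) < (d θ : ℤ) := by exact_mod_cast hd0 θ
    positivity
  have hEne : E.Nonempty := by
    by_contra hcon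
    rw [Finset.not_nonempty_iff_eq_empty] at hcon
    rw [hcon, Finset.sum_empty, add_zero] at hE1
    omega
  have hEcard : E.card = 1 := by
    have h1 : E.card = bF.card - 1 := Finset.card_erase_of_mem hθF
    have h2 : 0 < E.card := Finset.card_pos.mpr hEne
    omega
  obtain ⟨θ', hθ'⟩ := Finset.card_eq_one.mp hEcard
  have hθ'E : θ' ∈ E := by rw [hθ']; exact Finset.mem_singleton_self _
  have hθ'ne : θ' ≠ θ := (Finset.mem_erase.mp hθ'E).1
  have hθ'F : θ' ∈ bF := (Finset.mem_erase.mp hθ'E).2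
  have hθ'b : θ' ∈ b := (Finset.mem_filter.mp hθ'F).2
  rw [hθ', Finset.sum_singleton] at hE1
  have hsθ' : s θ' = -1 := by
    rcases hspm θ' with h | h
    · exfalso
      rw [h, one_mul] at hE1
      have : (0 : ℤ) ≤ (d θ' : ℤ) ^ 2 := sq_nonneg _
      omega
    · exact h
  have hdd : d θ' = d θ := by
    rw [hsθ'] at hE1
    have h1 : (d θ' : ℤ) ^ 2 = (d θ : ℤ) ^ 2 := by linarith
    have h2 : (d θ' : ℤ) = (d θ : ℤ) := by
      have ha : (0 : ℤ) ≤ (d θ' : ℤ) := by positivity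
      have hb' : (0 : ℤ) ≤ (d θ : ℤ) := by positivity
      exact (pow_left_inj₀ ha hb' (by norm_num)).mp h1
    exact_mod_cast h2
  have hbF2 : bF = {θ, θ'} := by
    rw [← Finset.insert_erase hθF, ← hE, hθ']
  refine ⟨θ', hθ'b, hθ'ne, ?_, ?_, ?_, ?_⟩
  · intro ψ hψ
    have : ψ ∈ bF := Finset.mem_filter.mpr ⟨Finset.mem_univ _, hψ⟩
    rw [hbF2, Finset.mem_insert, Finset.mem_singleton] at this
    exact this
  · rw [hd1 θ', hd1 θ, hdd]
  · have h1 : (θ' : H → ℂ) z = om θ' z * (θ' : H → ℂ) 1 := by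
      unfold om
      rw [div_mul_cancel₀ _ (Cfsg.Agent.Lib.Helper81.irr_apply_one_ne_zero θ')]
    rw [h1, hs θ', hsθ']
    push_cast
    ring
  · intro y hy
    have h1 := hwbo y hy
    rw [hbF2, Finset.sum_pair hθ'ne.symm, hsθ, hsθ', hdd] at h1
    have hdne : ((d θ : ℤ) : ℂ) ≠ 0 := by
      have := hd0 θ
      exact_mod_cast this.ne'
    have h2 : ((d θ : ℤ) : ℂ) * (conj ((θ : H → ℂ) y) - conj ((θ' : H → ℂ) y)) = 0 := by
      rw [← h1]
      push_cast
      ring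
    have h3 := (mul_eq_zero.mp h2).resolve_left hdne
    have h4 : conj ((θ' : H → ℂ) y) = conj ((θ : H → ℂ) y) := (sub_eq_zero.mp h3).symm
    exact (starRingEnd ℂ).injective h4

end Cfsg.Agent.Lib.Helper75
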