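import Cfsg.Agent.Lib.Helper75.DihFusion
import Cfsg.Agent.Lib.Helper75.PrincipalSection
import Cfsg.Agent.Lib.Helper77.StrongOrth

/-!
# Dihedral Sylow `2`-subgroups: orthogonality relations of the principal block on the rotations
-/

set_option autoImplicit false
set_option linter.unusedSectionVars false
set_option linter.style.haveILetI false

universe u

namespace Cfsg.Agent.Lib.Helper75

open Cfsg Cfsg.Agent.Lib.Helper77 Cfsg.Agent.Lib.Helper81
open scoped ComplexConjugate

variable {G : Type u} [Group G] [Fintype G] [Fintype (IrrCharacter G)]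
  {M : Ideal AlgInt} (hM : IsPModular 2 M) (P : Sylow 2 G) {n : ℕ} (hn : 3 ≤ n)
  (e : (P : Subgroup G) ≃* DihedralGroup (2 ^ (n - 1))) (σ : G) (hσ : σ ∈ (P : Subgroup G))
  (hσo : orderOf σ = 2 ^ (n - 1))

include hσo in
theorem dih_pow_isPPart (l : ℕ) : IsPPart 2 (σ ^ l) (σ ^ l) := by
  refine ⟨1, mul_one _, Commute.one_right _, ?_, by rw [orderOf_one]; norm_num⟩
  have h1 : orderOf (σ ^ l) ∣ 2 ^ (n - 1) := by
    rw [← hσo]; exact orderOf_pow_dvd l
  obtain ⟨k, _, hk⟩ := (Nat.dvd_prime_pow Nat.prime_two).mp h1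
  exact ⟨k, hk⟩

include hσo in
theorem dih_pow_ne_one (l : ℕ) (hl0 : 0 < l) (hl : l < 2 ^ (n - 1)) : σ ^ l ≠ 1 := by
  intro h
  have h1 := orderOf_dvd_of_pow_eq_one h
  rw [hσo] at h1
  have := Nat.le_of_dvd hl0 h1
  omega

open Classical in
include hM hn e hσ hσo in
/-- Norms of the columns of the rotations. -/
theorem dih_sum_sq (l : ℕ) (hl0 : 0 < l) (hl : l < 2 ^ (n - 1)) :
    ∑ χ ∈ Finset.univ.filter (fun χ : IrrCharacter G => χ ∈ principalBlock M G),
      (χ : G → ℂ) (σ ^ l) * conj ((χ : G → ℂ) (σ ^ l)) =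
    (2 ^ (n - 1) : ℂ) + (if l + l = 2 ^ (n - 1) then (2 ^ (n - 1) : ℂ) else 0) := by
  haveI : Fact (Nat.Prime 2) := ⟨Nat.prime_two⟩
  haveI : Fintype (Subgroup.centralizer ({σ ^ l} : Set G)) := Fintype.ofFinite _
  haveI : Fintype (IrrCharacter (Subgroup.centralizer ({σ ^ l} : Set G))) := Fintype.ofFinite _
  have hx : ∃ k : ℕ, orderOf (σ ^ l) = 2 ^ k := (dih_pow_isPPart σ hσo l).choose_spec.2.2.1
  have h1 : ¬ 2 ∣ orderOf (1 : Subgroup.centralizer ({σ ^ l} : Set G)) := by
    rw [orderOf_one]; norm_num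
  by_cases h2 : l + l = 2 ^ (n - 1)
  · rw [if_pos h2]
    have hlJ : l = 2 ^ (n - 2) := by
      have : 2 ^ (n - 1) = 2 * 2 ^ (n - 2) := by
        rw [← pow_succ']; congr 1; omega
      omega
    have hidx := dih_index_pPrimeCore_centralizer_J P hn e σ hσ hσo
    have hfac := dih_factorization_centralizer_J P hn e σ hσ hσo
    rw [← hlJ] at hidx hfac
    have h3 := sum_principalBlock_section_of_pnilpotent hM hx hidx 1 h1
    rw [Subgroup.coe_one, mul_one, hfac] at h3
    rw [h3]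
    push_cast
    have : (2 : ℂ) ^ n = 2 * 2 ^ (n - 1) := by
      rw [← pow_succ']; congr 1; omega
    rw [this]; ring
  · rw [if_neg h2, add_zero]
    have hu2 : σ ^ l * σ ^ l ≠ 1 := by
      intro h
      have := (dih_pow_sq_eq_one_iff σ hσo l hl0 hl).mp h
      omega
    obtain ⟨hfac, hidx⟩ := dih_centralizer_rot P hn e σ hσ hσo (σ ^ l)
      (Subgroup.pow_mem _ (Subgroup.mem_zpowers σ) l) hu2
    have h3 := sum_principalBlock_section_of_pnilpotent hM hx hidx 1 h1
    rw [Subgroup.coe_one, mul_one, hfac] at h3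
    rw [h3]
    push_cast
    rfl

open Classical in
include hM hn e hσ hσo in
/-- Orthogonality relations between the columns of the rotations (and the identity). -/
theorem dih_Phi (l m : ℕ) (hl0 : 0 < l) (hl : l < 2 ^ (n - 1)) (hm : m < 2 ^ (n - 1)) :
    ∑ χ ∈ Finset.univ.filter (fun χ : IrrCharacter G => χ ∈ principalBlock M G),
      (χ : G → ℂ) (σ ^ l) * conj ((χ : G → ℂ) (σ ^ m)) =
    (if l = m then (2 ^ (n - 1) : ℂ) else 0) +
      (if l + m = 2 ^ (n - 1) then (2 ^ (n - 1) : ℂ) else 0) := by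
  haveI : Fact (Nat.Prime 2) := ⟨Nat.prime_two⟩
  by_cases h1 : l = m
  · subst h1
    rw [if_pos rfl]
    exact dih_sum_sq hM P hn e σ hσ hσo l hl0 hl
  · rw [if_neg h1, zero_add]
    by_cases h2 : l + m = 2 ^ (n - 1)
    · rw [if_pos h2]
      have hconj : IsConj (σ ^ l) (σ ^ m) :=
        dih_isConj_pow_neg P hn e σ hσ hσo l m (by omega)
      obtain ⟨g, hg⟩ := isConj_iff.mp hconj
      have h3 : ∀ χ : IrrCharacter G, (χ : G → ℂ) (σ ^ m) = (χ : G → ℂ) (σ ^ l) := by
        intro χ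
        rw [← hg]
        exact Cfsg.Agent.Lib.Helper3.IsCharacter.isClassFunction
          (Cfsg.Agent.Lib.Helper3.IsIrrCharacter.isCharacter χ.2) _ _
      rw [Finset.sum_congr rfl fun χ _ => by rw [h3 χ]]
      rw [dih_sum_sq hM P hn e σ hσ hσo l hl0 hl]
      have : ¬ l + l = 2 ^ (n - 1) := by omega
      rw [if_neg this, add_zero]
    · rw [if_neg h2]
      have hnc : ¬ IsConj (σ ^ l) (σ ^ m) := by
        intro hc
        rcases Nat.eq_zero_or_pos m with h0 | h0
        · rw [h0, pow_zero] at hc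
          exact dih_pow_ne_one σ hσo l hl0 hl (isConj_one_left.mp hc)
        · rcases dih_isConj_pow P hn e σ hσ hσo l m hl0 hl h0 hm hc with h | h
          · exact h1 h.symm
          · exact h2 (by omega)
      have h3 := Cfsg.Agent.Lib.Helper77.IdemTrace.strong_block_orthogonality_finset hM (oneIrr G)
        (dih_pow_isPPart σ hσo l) (dih_pow_isPPart σ hσo m) hnc
      exact h3

end Cfsg.Agent.Lib.Helper75
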