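import Cfsg.Agent.Lib.Helper75.DihMain2

/-!
# Values on the rotations from the three kinds of profiles
-/

set_option autoImplicit false
set_option linter.unusedSectionVars false
set_option linter.style.haveILetI false
set_option linter.unusedVariables false

universe u

namespace Cfsg.Agent.Lib.Helper75

open scoped ComplexConjugate

section values

variable {q : ℕ} {ζ : ℂ} (hζ : IsPrimitiveRoot ζ q)

include hζ in
theorem sum_root_mul_pow {l : ℕ} (hl0 : 0 < l) (hl : l < q) :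
    ∑ j ∈ Finset.range q, ζ ^ (j * l) = 0 := by
  have hq : 0 < q := by omega
  rw [Finset.sum_congr rfl fun j _ => pow_mul' ζ j l]
  rw [geom_sum_root hq _ (root_pow_pow hζ l), if_neg (root_pow_ne_one hζ hl0 hl)]

include hζ in
theorem val_const (z : ℕ → ℤ) (α : ℤ) (hz : ∀ j, j < q → z j = if j = 0 then 0 else α) {l : ℕ}
    (hl0 : 0 < l) (hl : l < q) :
    - ∑ j ∈ Finset.range q, (z j : ℂ) * ζ ^ (j * l) = (α : ℂ) := by
  have hq : 0 < q := by omega
  have h1 : ∀ j ∈ Finset.range q, (z j : ℂ) * ζ ^ (j * l) =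
      (α : ℂ) * ζ ^ (j * l) - (if j = 0 then (α : ℂ) else 0) := by
    intro j hj
    rw [hz j (Finset.mem_range.mp hj)]
    by_cases h : j = 0
    · rw [if_pos h, if_pos h, h, zero_mul, pow_zero]; push_cast; ring
    · rw [if_neg h, if_neg h, sub_zero]
  rw [Finset.sum_congr rfl h1, Finset.sum_sub_distrib, ← Finset.mul_sum,
    sum_root_mul_pow hζ hl0 hl, Finset.sum_ite_eq' (Finset.range q) 0,
    if_pos (Finset.mem_range.mpr hq)]
  ring

include hζ in
theorem val_pair (z : ℕ → ℤ) (α : ℤ) (j₀ : ℕ) (hj₀ : 0 < j₀) (hj₀q : j₀ + j₀ < q)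
    (hz : ∀ j, j < q → z j = if j = j₀ ∨ j = q - j₀ then -α else 0) (l : ℕ) :
    - ∑ j ∈ Finset.range q, (z j : ℂ) * ζ ^ (j * l) =
      (α : ℂ) * (ζ ^ (j₀ * l) + (ζ ^ (j₀ * l))⁻¹) := by
  have hq : 0 < q := by omega
  have hζ0 : ζ ≠ 0 := root_ne_zero hζ hq
  have h1 : ∀ j ∈ Finset.range q, (z j : ℂ) * ζ ^ (j * l) =
      (if j = j₀ then -(α : ℂ) * ζ ^ (j * l) else 0) +
        (if j = q - j₀ then -(α : ℂ) * ζ ^ (j * l) else 0) := by
    intro j hj
    rw [hz j (Finset.mem_range.mp hj)]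
    by_cases h : j = j₀
    · have h' : ¬ j = q - j₀ := by omega
      rw [if_pos (Or.inl h), if_pos h, if_neg h', add_zero]; push_cast; ring
    · by_cases h' : j = q - j₀
      · rw [if_pos (Or.inr h'), if_neg h, if_pos h', zero_add]; push_cast; ring
      · rw [if_neg (by tauto), if_neg h, if_neg h', add_zero]; push_cast; ring
  rw [Finset.sum_congr rfl h1, Finset.sum_add_distrib, Finset.sum_ite_eq' (Finset.range q) j₀,
    Finset.sum_ite_eq' (Finset.range q) (q - j₀), if_pos (Finset.mem_range.mpr (by omega)),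
    if_pos (Finset.mem_range.mpr (by omega))]
  have h2 : ζ ^ ((q - j₀) * l) = (ζ ^ (j₀ * l))⁻¹ := by
    have h3 : ζ ^ ((q - j₀) * l) * ζ ^ (j₀ * l) = 1 := by
      rw [← pow_add, ← add_mul, Nat.sub_add_cancel (by omega), pow_mul, hζ.pow_eq_one, one_pow]
    exact eq_inv_of_mul_eq_one_left h3
  rw [h2]
  ring

include hζ in
theorem root_half (N : ℕ) (hN : 0 < N) (hq : q = 2 * N) : ζ ^ N = -1 := by
  have h1 : ζ ^ N * ζ ^ N = 1 := by
    rw [← pow_add, ← two_mul, ← hq, hζ.pow_eq_one]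
  rcases mul_self_eq_one_iff.mp h1 with h | h
  · exact absurd h (root_pow_ne_one hζ hN (by omega))
  · exact h

include hζ in
theorem val_mid (z : ℕ → ℤ) (γ : ℤ) (N : ℕ) (hN : 0 < N) (hq : q = 2 * N)
    (hz : ∀ j, j < q → z j = if j = N then γ else 0) (l : ℕ) :
    - ∑ j ∈ Finset.range q, (z j : ℂ) * ζ ^ (j * l) = (γ : ℂ) * (-1) ^ (l + 1) := by
  have h1 : ∀ j ∈ Finset.range q, (z j : ℂ) * ζ ^ (j * l) =
      (if j = N then (γ : ℂ) * ζ ^ (j * l) else 0) := by
    intro j hj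
    rw [hz j (Finset.mem_range.mp hj)]
    by_cases h : j = N
    · rw [if_pos h, if_pos h]
    · rw [if_neg h, if_neg h]; push_cast; ring
  rw [Finset.sum_congr rfl h1, Finset.sum_ite_eq' (Finset.range q) N,
    if_pos (Finset.mem_range.mpr (by omega)), pow_mul, root_half hζ N hN hq]
  ring

theorem val_zero (z : ℕ → ℤ) (hz : ∀ j, j < q → z j = 0) (l : ℕ) :
    - ∑ j ∈ Finset.range q, (z j : ℂ) * ζ ^ (j * l) = 0 := by
  have h1 : ∀ j ∈ Finset.range q, (z j : ℂ) * ζ ^ (j * l) = 0 := by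
    intro j hj
    rw [hz j (Finset.mem_range.mp hj)]; push_cast; ring
  rw [Finset.sum_eq_zero h1, neg_zero]

end values

end Cfsg.Agent.Lib.Helper75
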