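import Cfsg.Agent.Lib.Helper75.DihInvol
import Cfsg.Agent.Lib.Helper75.DihMain3
import Cfsg.Agent.Lib.Helper77.PPow

/-!
# Dihedral Sylow `2`-subgroups: the counting argument for the order formula
-/

set_option autoImplicit false
set_option linter.unusedSectionVars false
set_option linter.style.haveILetI false
set_option linter.unusedVariables false
set_option maxHeartbeats 1000000

universe u

namespace Cfsg.Agent.Lib.Helper75

open Cfsg

theorem dih_orderOf_conj {G : Type u} [Group G] (k w : G) :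
    orderOf (k * w * k⁻¹) = orderOf w := by
  have h1 := orderOf_injective (MulAut.conj k).toMonoidHom (MulAut.conj k).injective w
  simpa [MulAut.conj_apply] using h1

theorem dih_conj_comm_aux {G : Type u} [Group G] {w h a : G}
    (hyp : w * (h * a * h⁻¹) = (h * a * h⁻¹) * w) :
    a * (h⁻¹ * w * h) = (h⁻¹ * w * h) * a := by
  calc a * (h⁻¹ * w * h) = h⁻¹ * ((h * a * h⁻¹) * w) * h := by group
    _ = h⁻¹ * (w * (h * a * h⁻¹)) * h := by rw [hyp]
    _ = (h⁻¹ * w * h) * a := by group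

variable {G : Type u} [Group G] [Fintype G] (P : Sylow 2 G) {n : ℕ} (hn : 3 ≤ n)
  (e : (P : Subgroup G) ≃* DihedralGroup (2 ^ (n - 1))) (σ : G) (hσ : σ ∈ (P : Subgroup G))
  (hσo : orderOf σ = 2 ^ (n - 1)) {ζ : ℂ} (hζ : IsPrimitiveRoot ζ (2 ^ (n - 1)))
  (hone : ∀ x ∈ (P : Subgroup G), x * x = 1 → x ≠ 1 → IsConj (σ ^ 2 ^ (n - 2)) x)
  (Θ : G → ℂ) (hΘc : ∀ g h : G, Θ (h * g * h⁻¹) = Θ g)
  (hΘ : ∀ (l : ℕ) (y : G), σ ^ l * y = y * σ ^ l → ¬ 2 ∣ orderOf y →
    Θ (σ ^ l * y) = 2 - ζ ^ l - (ζ ^ l)⁻¹)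

include hn e hσ hσo hζ hone hΘc hΘ in
/-- **The key identity**: for an involution `z` and involutions `x, y ≠ z` of `C(z)`, the values
of `Θ` at `x y` and `x y z` add up to `4`. -/
theorem dih_theta_pair (z x y : G) (hz2 : z * z = 1) (hz1 : z ≠ 1) (hx2 : x * x = 1)
    (hx1 : x ≠ 1) (hxz : x ≠ z) (hcx : x * z = z * x) (hy2 : y * y = 1) (hy1 : y ≠ 1)
    (hyz : y ≠ z) (hcy : y * z = z * y) : Θ (x * y) + Θ (x * (y * z)) = 4 := by
  have hqN : 2 ^ (n - 1) = 2 * 2 ^ (n - 2) := by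
    rw [← pow_succ']; congr 1; omega
  have hζN : ζ ^ 2 ^ (n - 2) = -1 := root_half hζ (2 ^ (n - 2)) (by positivity) hqN
  set g := x * y with hg
  have hxyz : x * (y * z) = g * z := (mul_assoc x y z).symm
  have hgz : g * z = z * g := by
    calc g * z = x * (y * z) := hxyz.symm
      _ = x * (z * y) := by rw [hcy]
      _ = (x * z) * y := by rw [mul_assoc]
      _ = (z * x) * y := by rw [hcx]
      _ = z * g := by rw [mul_assoc]
  rw [hxyz]
  by_cases heven : 2 ∣ orderOf g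
  · obtain ⟨r, hr⟩ := heven
    have hr0 : 0 < r := by
      have := orderOf_pos g
      omega
    have hz0 : z = g ^ r :=
      dih_unique_center P hn e σ hσ hσo x y z hx2 hy2 hz2 hx1 hy1 hz1 (fun h => hxz h.symm)
        (fun h => hyz h.symm) hcx hcy hr0 hr
    obtain ⟨K, r', N, hcard, hpr, hrN, hN1⟩ :=
      Cfsg.Agent.Lib.Helper77.exists_ppart_exponent G 2 Nat.prime_two
    obtain ⟨w, huw, hcomm, hu2, hwodd⟩ :=
      Cfsg.Agent.Lib.Helper77.isPPart_pow Nat.prime_two hcard hpr hrN hN1 g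
    set u := g ^ N with hu
    have hw : w = u⁻¹ * g := by rw [← huw]; group
    have hwmem : w ∈ Subgroup.zpowers g := by
      rw [hw]
      exact Subgroup.mul_mem _ (Subgroup.inv_mem _ (Subgroup.pow_mem _ (Subgroup.mem_zpowers g) N))
        (Subgroup.mem_zpowers g)
    have hwr : w ^ r = 1 := by
      rw [← orderOf_dvd_iff_pow_eq_one]
      have h1 : orderOf w ∣ r * 2 := by
        rw [mul_comm, ← hr]
        exact orderOf_dvd_of_mem_zpowers hwmem
      have h2 : Nat.Coprime (orderOf w) 2 :=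
        Nat.Coprime.symm ((Nat.Prime.coprime_iff_not_dvd Nat.prime_two).mpr hwodd)
      exact Nat.Coprime.dvd_of_dvd_mul_right h2 h1
    have hzu : z = u ^ r := by
      rw [hz0, ← huw, hcomm.mul_pow, hwr, mul_one]
    have hzw : z * w = w * z := by
      have h1 : Commute z g := hgz.symm
      have h2 : Commute z u := h1.pow_right N
      rw [hw]
      exact (h2.inv_right.mul_right h1).eq
    obtain ⟨h, l, hul⟩ := dih_two_element_conj P hn e σ hσ hσo hone u hu2
    have hzl : z = h * (σ ^ l) ^ r * h⁻¹ := by rw [hzu, hul, conj_pow]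
    have hJ' : (σ ^ l) ^ r = σ ^ 2 ^ (n - 2) := by
      apply dih_rot_invol hn σ hσo
      · exact Subgroup.pow_mem _ (Subgroup.pow_mem _ (Subgroup.mem_zpowers σ) l) r
      · have : (σ ^ l) ^ r = h⁻¹ * z * h := by rw [hzl]; group
        rw [this]
        calc h⁻¹ * z * h * (h⁻¹ * z * h) = h⁻¹ * (z * z) * h := by group
          _ = 1 := by rw [hz2]; group
      · intro h1
        apply hz1
        rw [hzl, h1]
        group
    rw [hJ'] at hzl
    set w' := h⁻¹ * w * h with hw'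
    have hg_eq : g = h * (σ ^ l * w') * h⁻¹ := by
      rw [← huw, hul, hw']; group
    have hgz_eq : g * z = h * (σ ^ (l + 2 ^ (n - 2)) * w') * h⁻¹ := by
      calc g * z = u * (w * z) := by rw [← huw, mul_assoc]
        _ = u * (z * w) := by rw [hzw]
        _ = (h * σ ^ l * h⁻¹) * ((h * σ ^ 2 ^ (n - 2) * h⁻¹) * w) := by rw [← hul, ← hzl]
        _ = h * (σ ^ (l + 2 ^ (n - 2)) * w') * h⁻¹ := by rw [pow_add, hw']; group
    have c1 : σ ^ l * w' = w' * σ ^ l := by
      apply dih_conj_comm_aux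
      rw [← hul]
      exact hcomm.eq.symm
    have c0 : σ ^ 2 ^ (n - 2) * w' = w' * σ ^ 2 ^ (n - 2) := by
      apply dih_conj_comm_aux
      rw [← hzl]
      exact hzw.symm
    have c2 : σ ^ (l + 2 ^ (n - 2)) * w' = w' * σ ^ (l + 2 ^ (n - 2)) := by
      rw [pow_add]
      exact (Commute.mul_left (show Commute (σ ^ l) w' from c1)
        (show Commute (σ ^ 2 ^ (n - 2)) w' from c0)).eq
    have o1 : ¬ 2 ∣ orderOf w' := by
      have h1 := dih_orderOf_conj h⁻¹ w
      rw [inv_inv] at h1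
      rw [hw', h1]
      exact hwodd
    rw [hgz_eq, hΘc, hΘ _ w' c2 o1]
    rw [hg_eq, hΘc, hΘ _ w' c1 o1, pow_add, hζN]
    have hζl : ζ ^ l ≠ 0 := pow_ne_zero l (hζ.ne_zero (by positivity))
    field_simp
    ring
  · obtain ⟨h, hzJ⟩ := dih_invol_conj P σ hone z hz2 hz1
    have h0 : Θ g = 0 := by
      have h1 := hΘ 0 g (by rw [pow_zero, one_mul, mul_one]) heven
      rw [pow_zero, one_mul] at h1
      rw [h1]
      norm_num
    set g' := h⁻¹ * g * h with hg'
    have hgz_eq : g * z = h * (σ ^ 2 ^ (n - 2) * g') * h⁻¹ := by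
      rw [hgz, hzJ, hg']; group
    have c0 : σ ^ 2 ^ (n - 2) * g' = g' * σ ^ 2 ^ (n - 2) := by
      apply dih_conj_comm_aux
      rw [← hzJ]
      exact hgz
    have o1 : ¬ 2 ∣ orderOf g' := by
      have h1 := dih_orderOf_conj h⁻¹ g
      rw [inv_inv] at h1
      rw [hg', h1]
      exact heven
    rw [h0, hgz_eq, hΘc, hΘ _ g' c0 o1, hζN]
    norm_num

end Cfsg.Agent.Lib.Helper75
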