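import Cfsg.Agent.Lib.Helper75.DihCount

/-!
# Dihedral Sylow `2`-subgroups: the sum of `Θ` over the products of two involutions
-/

set_option autoImplicit false
set_option linter.unusedSectionVars false
set_option linter.style.haveILetI false
set_option linter.unusedVariables false
set_option maxHeartbeats 1000000

universe u

namespace Cfsg.Agent.Lib.Helper75

open Cfsg

section defs

variable (G : Type u) [Group G] [Fintype G] [DecidableEq G]

/-- The set of involutions of `G`. -/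
def invSet : Finset G := Finset.univ.filter (fun x : G => x * x = 1 ∧ x ≠ 1)

variable {G}

/-- The involutions of `C(z)` other than `z`. -/
def invCent (z : G) : Finset G := (invSet G).filter (fun x => x ≠ z ∧ x * z = z * x)

theorem mem_invSet {x : G} : x ∈ invSet G ↔ x * x = 1 ∧ x ≠ 1 := by
  simp [invSet]

theorem mem_invCent {z x : G} :
    x ∈ invCent z ↔ (x * x = 1 ∧ x ≠ 1) ∧ x ≠ z ∧ x * z = z * x := by
  simp [invCent, mem_invSet]

theorem card_invCent_conj (z h : G) : (invCent (h * z * h⁻¹)).card = (invCent z).card := by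
  apply Finset.card_nbij' (fun x => h⁻¹ * x * h) (fun x => h * x * h⁻¹)
  · intro x hx
    rw [Finset.mem_coe, mem_invCent] at hx ⊢
    beta_reduce
    obtain ⟨⟨h1, h2⟩, h3, h4⟩ := hx
    refine ⟨⟨?_, ?_⟩, ?_, ?_⟩
    · calc h⁻¹ * x * h * (h⁻¹ * x * h) = h⁻¹ * (x * x) * h := by group
        _ = 1 := by rw [h1]; group
    · intro h5
      apply h2
      calc x = h * (h⁻¹ * x * h) * h⁻¹ := by group
        _ = 1 := by rw [h5]; group
    · intro h5
      apply h3
      calc x = h * (h⁻¹ * x * h) * h⁻¹ := by group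
        _ = h * z * h⁻¹ := by rw [h5]
    · calc h⁻¹ * x * h * z = h⁻¹ * (x * (h * z * h⁻¹)) * h := by group
        _ = h⁻¹ * ((h * z * h⁻¹) * x) * h := by rw [h4]
        _ = z * (h⁻¹ * x * h) := by group
  · intro x hx
    rw [Finset.mem_coe, mem_invCent] at hx ⊢
    beta_reduce
    obtain ⟨⟨h1, h2⟩, h3, h4⟩ := hx
    refine ⟨⟨?_, ?_⟩, ?_, ?_⟩
    · calc h * x * h⁻¹ * (h * x * h⁻¹) = h * (x * x) * h⁻¹ := by group
        _ = 1 := by rw [h1]; group
    · intro h5
      apply h2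
      calc x = h⁻¹ * (h * x * h⁻¹) * h := by group
        _ = 1 := by rw [h5]; group
    · intro h5
      apply h3
      calc x = h⁻¹ * (h * x * h⁻¹) * h := by group
        _ = h⁻¹ * (h * z * h⁻¹) * h := by rw [h5]
        _ = z := by group
    · calc h * x * h⁻¹ * (h * z * h⁻¹) = h * (x * z) * h⁻¹ := by group
        _ = h * (z * x) * h⁻¹ := by rw [h4]
        _ = h * z * h⁻¹ * (h * x * h⁻¹) := by group
  · intro x _
    show h * (h⁻¹ * x * h) * h⁻¹ = x
    group
  · intro x _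
    show h⁻¹ * (h * x * h⁻¹) * h = x
    group

end defs

variable {G : Type u} [Group G] [Fintype G] [DecidableEq G] (P : Sylow 2 G) {n : ℕ} (hn : 3 ≤ n)
  (e : (P : Subgroup G) ≃* DihedralGroup (2 ^ (n - 1))) (σ : G) (hσ : σ ∈ (P : Subgroup G))
  (hσo : orderOf σ = 2 ^ (n - 1)) {ζ : ℂ} (hζ : IsPrimitiveRoot ζ (2 ^ (n - 1)))
  (hone : ∀ x ∈ (P : Subgroup G), x * x = 1 → x ≠ 1 → IsConj (σ ^ 2 ^ (n - 2)) x)
  (Θ : G → ℂ) (hΘc : ∀ g h : G, Θ (h * g * h⁻¹) = Θ g)
  (hΘ : ∀ (l : ℕ) (y : G), σ ^ l * y = y * σ ^ l → ¬ 2 ∣ orderOf y →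
    Θ (σ ^ l * y) = 2 - ζ ^ l - (ζ ^ l)⁻¹)

include hn e hσ hσo hζ hone hΘc hΘ in
theorem dih_sum_invCent (z : G) (hz : z ∈ invSet G) (x : G) (hx : x ∈ invCent z) :
    ∑ y ∈ invCent z, Θ (x * y) = 2 * ((invCent z).card : ℂ) := by
  obtain ⟨hz2, hz1⟩ := mem_invSet.mp hz
  obtain ⟨⟨hx2, hx1⟩, hxz, hcx⟩ := mem_invCent.mp hx
  have hzi : z⁻¹ = z := inv_eq_of_mul_eq_one_right hz2
  have hmaps : ∀ y ∈ invCent z, y * z ∈ invCent z := by
    intro y hy
    obtain ⟨⟨hy2, hy1⟩, hyz, hcy⟩ := mem_invCent.mp hy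
    rw [mem_invCent]
    refine ⟨⟨?_, ?_⟩, ?_, ?_⟩
    · calc y * z * (y * z) = y * (z * y) * z := by simp only [mul_assoc]
        _ = y * (y * z) * z := by rw [hcy]
        _ = (y * y) * (z * z) := by simp only [mul_assoc]
        _ = 1 := by rw [hy2, hz2, one_mul]
    · intro h
      apply hyz
      calc y = (y * z) * z⁻¹ := by group
        _ = z := by rw [h, one_mul, hzi]
    · intro h
      apply hy1
      calc y = (y * z) * z⁻¹ := by group
        _ = 1 := by rw [h, mul_inv_cancel]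
    · calc y * z * z = (z * y) * z := by rw [hcy]
        _ = z * (y * z) := by rw [mul_assoc]
  have hbij : ∑ y ∈ invCent z, Θ (x * (y * z)) = ∑ y ∈ invCent z, Θ (x * y) := by
    apply Finset.sum_nbij' (fun y => y * z) (fun y => y * z) hmaps hmaps
    · intro y _
      show y * z * z = y
      rw [mul_assoc, hz2, mul_one]
    · intro y _
      show y * z * z = y
      rw [mul_assoc, hz2, mul_one]
    · intro y _
      rfl
  have hpair : ∑ y ∈ invCent z, (Θ (x * y) + Θ (x * (y * z))) =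
      4 * ((invCent z).card : ℂ) := by
    rw [Finset.sum_congr rfl fun y hy => ?_, Finset.sum_const, nsmul_eq_mul, mul_comm]
    obtain ⟨⟨hy2, hy1⟩, hyz, hcy⟩ := mem_invCent.mp hy
    exact dih_theta_pair P hn e σ hσ hσo hζ hone Θ hΘc hΘ z x y hz2 hz1 hx2 hx1 hxz hcx hy2 hy1
      hyz hcy
  rw [Finset.sum_add_distrib, hbij] at hpair
  linear_combination (1 / 2 : ℂ) * hpair

include hn e hσ hσo hζ hone hΘc hΘ in
/-- **The counting side**: the sum of `Θ` over all products of two involutions. -/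
theorem dih_sum_theta :
    ∑ x ∈ invSet G, ∑ y ∈ invSet G, Θ (x * y) =
      2 * ((invSet G).card : ℂ) * ((invCent (σ ^ 2 ^ (n - 2))).card : ℂ) ^ 2 := by
  -- the number of involutions of `C(z)` other than `z` does not depend on `z`
  have hι : ∀ z ∈ invSet G, (invCent z).card = (invCent (σ ^ 2 ^ (n - 2))).card := by
    intro z hz
    obtain ⟨hz2, hz1⟩ := mem_invSet.mp hz
    obtain ⟨h, hzJ⟩ := dih_invol_conj P σ hone z hz2 hz1
    rw [hzJ, card_invCent_conj]
  -- the sum over `z`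
  have hS : ∀ z ∈ invSet G, ∑ x ∈ invCent z, ∑ y ∈ invCent z, Θ (x * y) =
      2 * ((invCent (σ ^ 2 ^ (n - 2))).card : ℂ) ^ 2 := by
    intro z hz
    rw [Finset.sum_congr rfl fun x hx =>
      dih_sum_invCent P hn e σ hσ hσo hζ hone Θ hΘc hΘ z hz x hx,
      Finset.sum_const, nsmul_eq_mul, hι z hz]
    ring
  have hS' : ∀ z : G, ∑ x ∈ invCent z, ∑ y ∈ invCent z, Θ (x * y) =
      ∑ x ∈ invSet G, ∑ y ∈ invSet G,
        if (x ≠ z ∧ x * z = z * x) ∧ (y ≠ z ∧ y * z = z * y) then Θ (x * y) else 0 := by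
    intro z
    unfold invCent
    rw [Finset.sum_filter]
    refine Finset.sum_congr rfl fun x _ => ?_
    rw [Finset.sum_filter]
    by_cases hx : (x ≠ z ∧ x * z = z * x)
    · rw [if_pos hx]
      refine Finset.sum_congr rfl fun y _ => ?_
      by_cases hy : (y ≠ z ∧ y * z = z * y)
      · rw [if_pos hy, if_pos ⟨hx, hy⟩]
      · rw [if_neg hy, if_neg (fun h => hy h.2)]
    · rw [if_neg hx]
      symm
      apply Finset.sum_eq_zero
      intro y _
      rw [if_neg (fun h => hx h.1)]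
  have htot : ∑ z ∈ invSet G, ∑ x ∈ invCent z, ∑ y ∈ invCent z, Θ (x * y) =
      ∑ x ∈ invSet G, ∑ y ∈ invSet G, Θ (x * y) := by
    rw [Finset.sum_congr rfl fun z _ => hS' z, Finset.sum_comm]
    refine Finset.sum_congr rfl fun x hx => ?_
    rw [Finset.sum_comm]
    refine Finset.sum_congr rfl fun y hy => ?_
    obtain ⟨hx2, hx1⟩ := mem_invSet.mp hx
    obtain ⟨hy2, hy1⟩ := mem_invSet.mp hy
    by_cases heven : 2 ∣ orderOf (x * y)
    · obtain ⟨r, hr⟩ := heven
      have hr0 : 0 < r := by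
        have := orderOf_pos (x * y)
        omega
      obtain ⟨h1, h2, h3, h4, h5, h6⟩ := invol_center hx2 hy2 hr0 hr
      rw [Finset.sum_eq_single ((x * y) ^ r)]
      · rw [if_pos]
        exact ⟨⟨fun h => h5 hy1 h.symm, h3⟩, ⟨fun h => h6 hx1 h.symm, h4⟩⟩
      · intro z hz hne
        rw [if_neg]
        rintro ⟨⟨hxz, hcx⟩, ⟨hyz, hcy⟩⟩
        obtain ⟨hz2, hz1⟩ := mem_invSet.mp hz
        exact hne (dih_unique_center P hn e σ hσ hσo x y z hx2 hy2 hz2 hx1 hy1 hz1
          (fun h => hxz h.symm) (fun h => hyz h.symm) hcx hcy hr0 hr)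
      · intro h
        exfalso
        exact h (mem_invSet.mpr ⟨h1, h2⟩)
    · have h0 : Θ (x * y) = 0 := by
        have h1 := hΘ 0 (x * y) (by rw [pow_zero, one_mul, mul_one]) heven
        rw [pow_zero, one_mul] at h1
        rw [h1]
        norm_num
      rw [h0]
      apply Finset.sum_eq_zero
      intro z _
      split_ifs <;> rfl
  rw [← htot, Finset.sum_congr rfl hS, Finset.sum_const, nsmul_eq_mul]
  ring

end Cfsg.Agent.Lib.Helper75
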