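import Cfsg.Agent.Lib.Helper75.DihIota
import Cfsg.Agent.Lib.Helper30.PPrimeCore

/-!
# Dihedral Sylow `2`-subgroups: counting the involutions of `C(J)`
-/

set_option autoImplicit false
set_option linter.unusedSectionVars false
set_option linter.style.haveILetI false
set_option linter.unusedVariables false
set_option maxHeartbeats 1000000

universe u

namespace Cfsg.Agent.Lib.Helper75

open Cfsg

section fin

variable {G : Type u} [Group G] [Finite G] (P : Sylow 2 G) {n : ℕ} (hn : 3 ≤ n)
  (e : (P : Subgroup G) ≃* DihedralGroup (2 ^ (n - 1))) (σ : G) (hσ : σ ∈ (P : Subgroup G))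
  (hσo : orderOf σ = 2 ^ (n - 1)) (τ : G) (hτ : τ ∈ (P : Subgroup G))
  (hrel : τ * σ * τ⁻¹ = σ⁻¹)

include hn e hσ hσo hτ hrel in
/-- `τ` and `σ τ` are not conjugate in `C(J)`. -/
theorem dih_tau_not_conj_centralizer (g : G)
    (hg : g * σ ^ 2 ^ (n - 2) = σ ^ 2 ^ (n - 2) * g) : g * (σ * τ) * g⁻¹ ≠ τ := by
  haveI : Fact (Nat.Prime 2) := ⟨Nat.prime_two⟩
  intro hconj
  set J := σ ^ 2 ^ (n - 2) with hJ
  set C := Subgroup.centralizer ({J} : Set G) with hC
  have hPC : (P : Subgroup G) ≤ C := dih_le_centralizer_J P hn e σ hσ hσo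
  set P' : Sylow 2 C := P.subtype hPC with hP'
  set K := pPrimeCore 2 C with hK
  obtain ⟨k, hk⟩ := dih_index_pPrimeCore_centralizer_J P hn e σ hσ hσo
  have hcop : (Nat.card K).Coprime 2 := Cfsg.Agent.Lib.Helper30.pPrimeCore_card_coprime 2
  have hpK : ¬ 2 ∣ Nat.card K := by
    intro h
    have := Nat.Coprime.eq_one_of_dvd hcop.symm h
    omega
  have hcard : Nat.card C = Nat.card K * 2 ^ k := by
    rw [← hk]
    exact (Subgroup.card_mul_index _).symm
  have hfac : (Nat.card C).factorization 2 = k := by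
    rw [hcard, Nat.factorization_mul Nat.card_pos.ne' (pow_ne_zero k (by norm_num)),
      Finsupp.add_apply, Nat.factorization_eq_zero_of_not_dvd hpK, zero_add,
      Nat.Prime.factorization_pow Nat.prime_two, Finsupp.single_eq_same]
  have hcardP' : Nat.card (P' : Subgroup C) = 2 ^ k := by
    rw [Sylow.card_eq_multiplicity, hfac]
  have hcompl : K.IsComplement' (P' : Subgroup C) := by
    apply Subgroup.isComplement'_of_coprime
    · rw [hcardP', ← hcard]
    · rw [hcardP']
      exact Nat.Coprime.pow_right k hcop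
  have hστP : σ * τ ∈ (P : Subgroup G) := (P : Subgroup G).mul_mem hσ hτ
  have hmem : ∀ x : C, x ∈ (P' : Subgroup C) ↔ (x : G) ∈ (P : Subgroup G) := by
    intro x
    rw [hP', Sylow.coe_subtype, Subgroup.mem_subgroupOf]
  have hgC : g ∈ C := Subgroup.mem_centralizer_singleton_iff.mpr hg
  obtain ⟨s, hs, hsxy⟩ := conj_mem_of_complement hcompl (⟨σ * τ, hPC hστP⟩ : C)
    (⟨τ, hPC hτ⟩ : C) ((hmem _).mpr hστP) ((hmem _).mpr hτ) (⟨g, hgC⟩ : C)
    (Subtype.ext hconj)
  have h1 := congrArg Subtype.val hsxy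
  simp only [Subgroup.coe_mul, Subgroup.coe_inv] at h1
  exact dih_tau_not_conj P hn e σ hσ hσo τ hτ hrel (s : G) ((hmem s).mp hs) h1

end fin

variable {G : Type u} [Group G] [Fintype G] [DecidableEq G] (P : Sylow 2 G) {n : ℕ} (hn : 3 ≤ n)
  (e : (P : Subgroup G) ≃* DihedralGroup (2 ^ (n - 1))) (σ : G) (hσ : σ ∈ (P : Subgroup G))
  (hσo : orderOf σ = 2 ^ (n - 1)) (τ : G) (hτ : τ ∈ (P : Subgroup G))
  (hrel : τ * σ * τ⁻¹ = σ⁻¹)

include hn e hσ hσo hτ hrel in
/-- The involutions of `C(J)` other than `J` form two classes of `C(J)`, those of `τ` and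
`σ τ`. -/
theorem dih_card_invCent :
    ∃ a b : ℕ, (invCent (σ ^ 2 ^ (n - 2))).card = a + b ∧
      a * Nat.card (Subgroup.centralizer ({σ ^ 2 ^ (n - 2), τ} : Set G)) =
        Nat.card (Subgroup.centralizer ({σ ^ 2 ^ (n - 2)} : Set G)) ∧
      b * Nat.card (Subgroup.centralizer ({σ ^ 2 ^ (n - 2), σ * τ} : Set G)) =
        Nat.card (Subgroup.centralizer ({σ ^ 2 ^ (n - 2)} : Set G)) := by
  classical
  haveI : Fact (Nat.Prime 2) := ⟨Nat.prime_two⟩
  set J := σ ^ 2 ^ (n - 2) with hJ
  have hJJ : J * J = 1 := dih_J_sq hn σ hσo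
  have hPC : (P : Subgroup G) ≤ Subgroup.centralizer ({J} : Set G) :=
    dih_le_centralizer_J P hn e σ hσ hσo
  have hPJ : ∀ x ∈ (P : Subgroup G), x * J = J * x := fun x hx =>
    Subgroup.mem_centralizer_singleton_iff.mp (hPC hx)
  set A := Finset.univ.filter (fun x : G => ∃ h : G, h * J = J * h ∧ h * τ * h⁻¹ = x) with hA
  set B := Finset.univ.filter (fun x : G => ∃ h : G, h * J = J * h ∧ h * (σ * τ) * h⁻¹ = x)
    with hB
  have hστP : σ * τ ∈ (P : Subgroup G) := (P : Subgroup G).mul_mem hσ hτ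
  have hστrel : (σ * τ) * σ * (σ * τ)⁻¹ = σ⁻¹ := by
    calc (σ * τ) * σ * (σ * τ)⁻¹ = σ * (τ * σ * τ⁻¹) * σ⁻¹ := by group
      _ = σ⁻¹ := by rw [hrel]; group
  refine ⟨A.card, B.card, ?_, ?_, ?_⟩
  · -- the partition
    have hsub : ∀ t : G, t ∈ (P : Subgroup G) → t * σ * t⁻¹ = σ⁻¹ → ∀ h : G, h * J = J * h →
        h * t * h⁻¹ ∈ invCent J := by
      intro t ht hinv h hh
      obtain ⟨ht2, ht1, htJ, _⟩ := dih_refl_facts P hn e σ hσ hσo t ht hinv
      have hhi : h⁻¹ * J = J * h⁻¹ := by
        calc h⁻¹ * J = h⁻¹ * (J * h) * h⁻¹ := by group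
          _ = h⁻¹ * (h * J) * h⁻¹ := by rw [hh]
          _ = J * h⁻¹ := by group
      rw [mem_invCent]
      refine ⟨⟨?_, ?_⟩, ?_, ?_⟩
      · calc h * t * h⁻¹ * (h * t * h⁻¹) = h * (t * t) * h⁻¹ := by group
          _ = 1 := by rw [ht2]; group
      · intro h1
        apply ht1
        calc t = h⁻¹ * (h * t * h⁻¹) * h := by group
          _ = 1 := by rw [h1]; group
      · intro h1
        apply htJ
        calc t = h⁻¹ * (h * t * h⁻¹) * h := by group
          _ = h⁻¹ * J * h := by rw [h1]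
          _ = J * h⁻¹ * h := by rw [hhi]
          _ = J := by group
      · calc h * t * h⁻¹ * J = h * t * (h⁻¹ * J) := by simp only [mul_assoc]
          _ = h * t * (J * h⁻¹) := by rw [hhi]
          _ = h * (t * J) * h⁻¹ := by simp only [mul_assoc]
          _ = h * (J * t) * h⁻¹ := by rw [hPJ t ht]
          _ = (h * J) * t * h⁻¹ := by simp only [mul_assoc]
          _ = (J * h) * t * h⁻¹ := by rw [hh]
          _ = J * (h * t * h⁻¹) := by simp only [mul_assoc]
    have hunion : invCent J = A ∪ B := by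
      ext x
      rw [Finset.mem_union, hA, hB, Finset.mem_filter, Finset.mem_filter]
      constructor
      · intro hx
        obtain ⟨⟨hx2, hx1⟩, hxJ, hcx⟩ := mem_invCent.mp hx
        have hE : IsPGroup 2 (Subgroup.zpowers x) := by
          apply IsPGroup.of_card (n := 1)
          rw [Nat.card_zpowers, pow_one]
          exact orderOf_eq_prime (by rw [pow_two]; exact hx2) hx1
        have hle : Subgroup.zpowers x ≤ Subgroup.centralizer ({J} : Set G) := by
          rw [Subgroup.zpowers_le]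
          exact Subgroup.mem_centralizer_singleton_iff.mpr hcx
        obtain ⟨a, haC, ha⟩ :=
          Cfsg.Agent.Lib.Helper50.exists_conj_mem_sylow_of_le P hPC hle hE
        have haJ : a * J = J * a := Subgroup.mem_centralizer_singleton_iff.mp haC
        have haiJ : a⁻¹ * J = J * a⁻¹ := by
          calc a⁻¹ * J = a⁻¹ * (J * a) * a⁻¹ := by group
            _ = a⁻¹ * (a * J) * a⁻¹ := by rw [haJ]
            _ = J * a⁻¹ := by group
        have hy := ha x (Subgroup.mem_zpowers x)
        have hy2 : (a * x * a⁻¹) * (a * x * a⁻¹) = 1 := by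
          calc a * x * a⁻¹ * (a * x * a⁻¹) = a * (x * x) * a⁻¹ := by group
            _ = 1 := by rw [hx2]; group
        have hy1 : a * x * a⁻¹ ≠ 1 := by
          intro h
          apply hx1
          calc x = a⁻¹ * (a * x * a⁻¹) * a := by group
            _ = 1 := by rw [h]; group
        have hyJ : a * x * a⁻¹ ≠ J := by
          intro h
          apply hxJ
          calc x = a⁻¹ * (a * x * a⁻¹) * a := by group
            _ = a⁻¹ * J * a := by rw [h]
            _ = J * a⁻¹ * a := by rw [haiJ]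
            _ = J := by group
        have hback : x = a⁻¹ * (a * x * a⁻¹) * a := by group
        rcases dih_cases P hn e σ hσ hσo _ hy with h | h
        · exact absurd (dih_rot_invol hn σ hσo _ h hy2 hy1) hyJ
        · obtain ⟨c, hc, hc'⟩ := dih_refl_conj P hn e σ hσ hσo τ hτ hrel _ hy h.1
          have hcP : c ∈ (P : Subgroup G) := by
            obtain ⟨k, rfl⟩ := Subgroup.mem_zpowers_iff.mp hc
            exact Subgroup.zpow_mem _ hσ k
          have hcJ : c * J = J * c := hPJ c hcP
          have hacJ : a⁻¹ * c * J = J * (a⁻¹ * c) := by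
            calc a⁻¹ * c * J = a⁻¹ * (c * J) := by rw [mul_assoc]
              _ = a⁻¹ * (J * c) := by rw [hcJ]
              _ = (a⁻¹ * J) * c := by rw [mul_assoc]
              _ = (J * a⁻¹) * c := by rw [haiJ]
              _ = J * (a⁻¹ * c) := by rw [mul_assoc]
          rcases hc' with h' | h'
          · left
            refine ⟨Finset.mem_univ _, a⁻¹ * c, hacJ, ?_⟩
            rw [hback, h']
            group
          · right
            refine ⟨Finset.mem_univ _, a⁻¹ * c, hacJ, ?_⟩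
            rw [hback, h']
            group
      · rintro (⟨-, h, hh, rfl⟩ | ⟨-, h, hh, rfl⟩)
        · exact hsub τ hτ hrel h hh
        · exact hsub (σ * τ) hστP hστrel h hh
    have hdisj : Disjoint A B := by
      rw [Finset.disjoint_left]
      intro x hxA hxB
      obtain ⟨-, h, hh, hx⟩ := Finset.mem_filter.mp hxA
      obtain ⟨-, h', hh', hx'⟩ := Finset.mem_filter.mp hxB
      have hhi : h⁻¹ * J = J * h⁻¹ := by
        calc h⁻¹ * J = h⁻¹ * (J * h) * h⁻¹ := by group
          _ = h⁻¹ * (h * J) * h⁻¹ := by rw [hh]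
          _ = J * h⁻¹ := by group
      have h1 : (h⁻¹ * h') * (σ * τ) * (h⁻¹ * h')⁻¹ = τ := by
        calc (h⁻¹ * h') * (σ * τ) * (h⁻¹ * h')⁻¹ = h⁻¹ * (h' * (σ * τ) * h'⁻¹) * h := by group
          _ = h⁻¹ * (h * τ * h⁻¹) * h := by rw [hx', ← hx]
          _ = τ := by group
      have h2 : h⁻¹ * h' * J = J * (h⁻¹ * h') := by
        calc h⁻¹ * h' * J = h⁻¹ * (h' * J) := by rw [mul_assoc]
          _ = h⁻¹ * (J * h') := by rw [hh']
          _ = (h⁻¹ * J) * h' := by rw [mul_assoc]
          _ = (J * h⁻¹) * h' := by rw [hhi]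
          _ = J * (h⁻¹ * h') := by rw [mul_assoc]
      exact dih_tau_not_conj_centralizer P hn e σ hσ hσo τ hτ hrel _ h2 h1
    rw [hunion, Finset.card_union_of_disjoint hdisj]
  · rw [card_centralizer_pair_eq, card_centralizer_singleton_eq]
    exact card_conj_under J τ
  · rw [card_centralizer_pair_eq, card_centralizer_singleton_eq]
    exact card_conj_under J (σ * τ)

end Cfsg.Agent.Lib.Helper75
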