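import Cfsg.Agent.Lib.Helper75.KleinPairs
import Cfsg.Agent.Lib.Helper75.DihCount2

/-!
# The sum of an irreducible character over the products of two involutions
-/

set_option autoImplicit false
set_option linter.unusedSectionVars false
set_option linter.style.haveILetI false
set_option linter.unusedVariables false
set_option maxHeartbeats 1000000

universe u

namespace Cfsg.Agent.Lib.Helper75

open Cfsg Cfsg.Agent.Lib.Helper77 Cfsg.Agent.Lib.Helper81
open scoped ComplexConjugate

variable {G : Type u} [Group G] [Fintype G] [DecidableEq G]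

/-- When the involutions form the class of `J`: the sum of an irreducible character `ψ` over
the products of two involutions is `|K|² ψ(J)² / ψ(1)`. -/
theorem sum_pairs_irr [Fintype (IrrCharacter G)] (J : G)
    (hconj : ∀ x : G, IsConj J x ↔ x ∈ invSet G) (ψ : IrrCharacter G) :
    ∑ x ∈ invSet G, ∑ y ∈ invSet G, (ψ : G → ℂ) (x * y) =
      ((invSet G).card : ℂ) ^ 2 * ((ψ : G → ℂ) J * (ψ : G → ℂ) J / (ψ : G → ℂ) 1) := by
  classical
  have hG0 : (Nat.card G : ℂ) ≠ 0 := Nat.cast_ne_zero.mpr Nat.card_pos.ne'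
  have hK : Nat.card {x : G // IsConj J x} = (invSet G).card := by
    rw [Nat.card_eq_fintype_card, Fintype.card_subtype]
    congr 1
    ext x
    rw [Finset.mem_filter]
    simp only [Finset.mem_univ, true_and]
    exact hconj x
  have h1 := classInner_invPairs J ψ
  rw [hK] at h1
  unfold classInner at h1
  -- the sum over `g`
  have h2 : ∑ g : G, invPairs J g * conj ((ψ : G → ℂ) g) =
      ∑ x ∈ invSet G, ∑ y ∈ invSet G, (ψ : G → ℂ) (x * y) := by
    rw [← Finset.sum_product', ← Finset.sum_fiberwise (invSet G ×ˢ invSet G)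
      (fun p : G × G => (p.1 * p.2)⁻¹) (fun p => (ψ : G → ℂ) (p.1 * p.2))]
    refine Finset.sum_congr rfl fun g _ => ?_
    have h3 : ∀ p ∈ (invSet G ×ˢ invSet G).filter (fun p : G × G => (p.1 * p.2)⁻¹ = g),
        (ψ : G → ℂ) (p.1 * p.2) = conj ((ψ : G → ℂ) g) := by
      intro p hp
      have h4 := (Finset.mem_filter.mp hp).2
      have h5 := Cfsg.Agent.Lib.Helper3.IsCharacter.inv
        (Cfsg.Agent.Lib.Helper3.IsIrrCharacter.isCharacter ψ.2) (p.1 * p.2)
      rw [← h4, h5, Complex.conj_conj]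
    rw [Finset.sum_congr rfl h3, Finset.sum_const, nsmul_eq_mul]
    congr 1
    unfold invPairs
    rw [Nat.card_eq_fintype_card, Fintype.card_subtype]
    congr 2
    ext p
    rw [Finset.mem_filter, Finset.mem_filter, Finset.mem_product]
    simp only [Finset.mem_univ, true_and]
    rw [hconj, hconj]
    constructor
    · rintro ⟨h6, h7, h8⟩
      exact ⟨⟨h6, h7⟩, by rw [h8, inv_inv]⟩
    · rintro ⟨⟨h6, h7⟩, h8⟩
      exact ⟨h6, h7, by rw [← h8, inv_inv]⟩
  rw [h2] at h1
  have h3 : ∑ x ∈ invSet G, ∑ y ∈ invSet G, (ψ : G → ℂ) (x * y) =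
      (Nat.card G : ℂ) * (((invSet G).card : ℂ) * ((invSet G).card : ℂ) / (Nat.card G : ℂ) *
        ((ψ : G → ℂ) J * (ψ : G → ℂ) J / (ψ : G → ℂ) 1)) := by
    rw [← h1, ← mul_assoc, mul_inv_cancel₀ hG0, one_mul]
  rw [h3]
  field_simp

end Cfsg.Agent.Lib.Helper75
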