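import Cfsg.Agent.Lib.Helper75.DihPoint
import Cfsg.Agent.Lib.Helper75.DihIota2
import Cfsg.Agent.Lib.Helper75.DihPairs
import Cfsg.Agent.Lib.Helper4.ClassCount

/-!
# Brauer's order formula for groups with dihedral Sylow `2`-subgroups and one class of involutions
-/

set_option autoImplicit false
set_option linter.unusedSectionVars false
set_option linter.style.haveILetI false
set_option linter.unusedVariables false
set_option maxHeartbeats 2000000

universe u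

namespace Cfsg.Agent.Lib.Helper75

open Cfsg Cfsg.Agent.Lib.Helper77 Cfsg.Agent.Lib.Helper81
open scoped ComplexConjugate

variable {G : Type u} [Group G] [Fintype G] [Fintype (IrrCharacter G)]
  {M : Ideal AlgInt} (hM : IsPModular 2 M) (P : Sylow 2 G) {n : ℕ} (hn : 3 ≤ n)
  (e : (P : Subgroup G) ≃* DihedralGroup (2 ^ (n - 1))) (σ : G) (hσ : σ ∈ (P : Subgroup G))
  (hσo : orderOf σ = 2 ^ (n - 1)) (τ : G) (hτ : τ ∈ (P : Subgroup G))
  (hrel : τ * σ * τ⁻¹ = σ⁻¹)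

include hn e hσ hσo hτ hrel in
/-- One class of involutions, from the fusion of `J`, `τ` and `σ τ`. -/
theorem dih_one_class
    (hconj : IsConj (σ ^ 2 ^ (n - 2)) τ ∧ IsConj (σ ^ 2 ^ (n - 2)) (σ * τ)) :
    ∀ x ∈ (P : Subgroup G), x * x = 1 → x ≠ 1 → IsConj (σ ^ 2 ^ (n - 2)) x := by
  intro x hx hx2 hx1
  rcases dih_cases P hn e σ hσ hσo x hx with h | h
  · rw [dih_rot_invol hn σ hσo x h hx2 hx1]
  · obtain ⟨c, _, hc | hc⟩ := dih_refl_conj P hn e σ hσ hσo τ hτ hrel x hx h.1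
    · exact hconj.1.trans (isConj_iff.mpr ⟨c, hc.symm⟩)
    · exact hconj.2.trans (isConj_iff.mpr ⟨c, hc.symm⟩)

include hM hn e hσ hσo hτ hrel in
/-- **Brauer's order formula** (complex form). -/
theorem dih_order_formula_aux
    (hconj : IsConj (σ ^ 2 ^ (n - 2)) τ ∧ IsConj (σ ^ 2 ^ (n - 2)) (σ * τ))
    (χ₁ : IrrCharacter G) (hχ₁ : χ₁ ∈ principalBlock M G)
    (h1 : (χ₁ : G → ℂ) ≠ (fun _ => 1)) (δ₁ : ℤ) (hδ₁ : δ₁ = 1 ∨ δ₁ = -1)
    (hval : ∀ l : ℕ, 0 < l → l < 2 ^ (n - 1) → (χ₁ : G → ℂ) (σ ^ l) = δ₁) :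
    ∃ (k ι : ℕ), k * Nat.card (Subgroup.centralizer ({σ ^ 2 ^ (n - 2)} : Set G)) = Nat.card G ∧
      (∃ a b : ℕ, ι = a + b ∧
        a * Nat.card (Subgroup.centralizer ({σ ^ 2 ^ (n - 2), τ} : Set G)) =
          Nat.card (Subgroup.centralizer ({σ ^ 2 ^ (n - 2)} : Set G)) ∧
        b * Nat.card (Subgroup.centralizer ({σ ^ 2 ^ (n - 2), σ * τ} : Set G)) =
          Nat.card (Subgroup.centralizer ({σ ^ 2 ^ (n - 2)} : Set G))) ∧
      (k : ℂ) * ((charDegree (χ₁ : G → ℂ) : ℂ) - δ₁) ^ 2 =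
        2 * (charDegree (χ₁ : G → ℂ) : ℂ) * ((charDegree (χ₁ : G → ℂ) : ℂ) + δ₁) * (ι : ℂ) ^ 2 := by
  classical
  obtain ⟨hN2, hN3, hqN⟩ := dih_N_facts hn
  have hq0 : 2 ^ (n - 1) ≠ 0 := by positivity
  have hζ : IsPrimitiveRoot (Complex.exp (2 * Real.pi * Complex.I / ((2 ^ (n - 1) : ℕ) : ℂ)))
      (2 ^ (n - 1)) := Complex.isPrimitiveRoot_exp _ hq0
  set ζ : ℂ := Complex.exp (2 * Real.pi * Complex.I / ((2 ^ (n - 1) : ℕ) : ℂ)) with hζdef
  have hζN : ζ ^ 2 ^ (n - 2) = -1 := root_half hζ (2 ^ (n - 2)) (by positivity) hqN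
  obtain ⟨hcard, a, c, c', χ', α, γ, γ', hα, hγ, hγ', hinj, ha0, hc0, hc'0, hac, hac', hcc',
    hχ'ne, hmem, hvals, hrho⟩ := dih_principalBlock_main hM P hn e σ hσ hσo hζ
  -- identify `χ₁`
  have hχa : χ₁ = a ∧ δ₁ = α := by
    have hl1 : 1 < 2 ^ (n - 1) := by omega
    have hl2 : 2 < 2 ^ (n - 1) := by omega
    have hlN : 2 ^ (n - 2) < 2 ^ (n - 1) := by omega
    rcases (hmem χ₁).mp hχ₁ with h | h | h | h | ⟨j, h⟩
    · exfalso
      apply h1
      rw [h]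
      funext g
      exact oneIrr_apply g
    · refine ⟨h, ?_⟩
      have h2 := hval 1 (by norm_num) hl1
      rw [h, (hvals 1 (by norm_num) hl1).1] at h2
      exact_mod_cast h2.symm
    · exfalso
      have v1 := hval 1 (by norm_num) hl1
      have v2 := hval 2 (by norm_num) hl2
      rw [h, (hvals 1 (by norm_num) hl1).2.1] at v1
      rw [h, (hvals 2 (by norm_num) hl2).2.1] at v2
      have h3 : (γ : ℂ) = 0 := by
        have : (γ : ℂ) * (-1) ^ (1 + 1) = (γ : ℂ) * (-1) ^ (2 + 1) := v1.trans v2.symm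
        norm_num at this
        linear_combination (1 / 2 : ℂ) * this
      have h4 : γ = 0 := by exact_mod_cast h3
      rcases hγ with h5 | h5 <;> omega
    · exfalso
      have v1 := hval 1 (by norm_num) hl1
      have v2 := hval 2 (by norm_num) hl2
      rw [h, (hvals 1 (by norm_num) hl1).2.2.1] at v1
      rw [h, (hvals 2 (by norm_num) hl2).2.2.1] at v2
      have h3 : (γ' : ℂ) = 0 := by
        have : (γ' : ℂ) * (-1) ^ (1 + 1) = (γ' : ℂ) * (-1) ^ (2 + 1) := v1.trans v2.symm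
        norm_num at this
        linear_combination (1 / 2 : ℂ) * this
      have h4 : γ' = 0 := by exact_mod_cast h3
      rcases hγ' with h5 | h5 <;> omega
    · exfalso
      have v := hval (2 ^ (n - 2)) (by positivity) hlN
      rw [h, (hvals (2 ^ (n - 2)) (by positivity) hlN).2.2.2 j, pow_mul', hζN] at v
      rcases neg_one_pow_eq_or ℂ ((j : ℕ) + 1) with hs | hs
      · rw [hs] at v
        rcases hα with rfl | rfl <;> rcases hδ₁ with rfl | rfl <;> norm_num at v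
      · rw [hs] at v
        rcases hα with rfl | rfl <;> rcases hδ₁ with rfl | rfl <;> norm_num at v
  obtain ⟨rfl, rfl⟩ := hχa
  -- the second character
  have hj0 : 0 < 2 ^ (n - 2) - 1 := by omega
  set χb : IrrCharacter G := χ' ⟨0, hj0⟩ with hχb
  have hχbP : χb ∈ principalBlock M G := (hmem χb).mpr (Or.inr (Or.inr (Or.inr (Or.inr ⟨_, rfl⟩))))
  set δ : ℂ := (δ₁ : ℂ) with hδ
  have hδ2 : δ * δ = 1 := by
    rcases hδ₁ with h | h <;> rw [hδ, h] <;> norm_num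
  have hvalb : ∀ l : ℕ, 0 < l → l < 2 ^ (n - 1) →
      (χb : G → ℂ) (σ ^ l) = δ * (ζ ^ l + (ζ ^ l)⁻¹) := by
    intro l hl0 hl
    have := (hvals l hl0 hl).2.2.2 ⟨0, hj0⟩
    simpa using this
  have hrhob : ∀ ρ : G, ¬ 2 ∣ orderOf ρ →
      1 + δ * (χ₁ : G → ℂ) ρ = δ * (χb : G → ℂ) ρ := fun ρ hρ => (hrho ρ hρ ⟨0, hj0⟩).2
  -- the class function `Θ`
  set Θ : G → ℂ := fun g => 1 + δ * (χ₁ : G → ℂ) g - δ * (χb : G → ℂ) g with hΘdef
  have hΘc : ∀ g h : G, Θ (h * g * h⁻¹) = Θ g := by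
    intro g h
    simp only [hΘdef]
    rw [Cfsg.Agent.Lib.Helper3.IsCharacter.isClassFunction
        (Cfsg.Agent.Lib.Helper3.IsIrrCharacter.isCharacter χ₁.2) g h,
      Cfsg.Agent.Lib.Helper3.IsCharacter.isClassFunction
        (Cfsg.Agent.Lib.Helper3.IsIrrCharacter.isCharacter χb.2) g h]
  have hΘ : ∀ (l : ℕ) (y : G), σ ^ l * y = y * σ ^ l → ¬ 2 ∣ orderOf y →
      Θ (σ ^ l * y) = 2 - ζ ^ l - (ζ ^ l)⁻¹ := by
    intro l y hcomm hodd
    have hσl : σ ^ l = σ ^ (l % 2 ^ (n - 1)) := by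
      rw [← hσo, pow_mod_orderOf]
    have hζl : ζ ^ l = ζ ^ (l % 2 ^ (n - 1)) := by
      conv_rhs => rw [hζ.eq_orderOf, pow_mod_orderOf]
    rw [hσl] at hcomm ⊢
    rw [hζl]
    have hlt : l % 2 ^ (n - 1) < 2 ^ (n - 1) := Nat.mod_lt _ (by positivity)
    rcases Nat.eq_zero_or_pos (l % 2 ^ (n - 1)) with h0 | h0
    · rw [h0, pow_zero, one_mul, pow_zero]
      simp only [hΘdef]
      rw [hrhob y hodd]
      norm_num
    · simp only [hΘdef]
      rw [dih_apply_pow_mul hM P hn e σ hσ hσo χ₁ hχ₁ _ h0 hlt y hcomm hodd,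
        dih_apply_pow_mul hM P hn e σ hσ hσo χb hχbP _ h0 hlt y hcomm hodd,
        hval _ h0 hlt, hvalb _ h0 hlt]
      linear_combination (1 - ζ ^ (l % 2 ^ (n - 1)) - (ζ ^ (l % 2 ^ (n - 1)))⁻¹) * hδ2
  have hone := dih_one_class P hn e σ hσ hσo τ hτ hrel hconj
  have hcount := dih_sum_theta P hn e σ hσ hσo hζ hone Θ hΘc hΘ
  -- the character side
  set J := σ ^ 2 ^ (n - 2) with hJ
  have hJ2 : J * J = 1 := dih_J_sq hn σ hσo
  have hJ1 : J ≠ 1 := dih_J_ne_one hn σ hσo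
  have hconjInv : ∀ x : G, IsConj J x ↔ x ∈ invSet G := by
    intro x
    rw [mem_invSet]
    constructor
    · intro h
      obtain ⟨c, rfl⟩ := isConj_iff.mp h
      constructor
      · calc c * J * c⁻¹ * (c * J * c⁻¹) = c * (J * J) * c⁻¹ := by group
          _ = 1 := by rw [hJ2]; group
      · intro h2
        apply hJ1
        calc J = c⁻¹ * (c * J * c⁻¹) * c := by group
          _ = 1 := by rw [h2]; group
    · rintro ⟨hx2, hx1⟩
      obtain ⟨h, hh⟩ := dih_invol_conj P σ hone x hx2 hx1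
      exact isConj_iff.mpr ⟨h, hh.symm⟩
  have hs1 := sum_pairs_irr J hconjInv (oneIrr G)
  have hs2 := sum_pairs_irr J hconjInv χ₁
  have hs3 := sum_pairs_irr J hconjInv χb
  have hlN : 2 ^ (n - 2) < 2 ^ (n - 1) := by omega
  rw [hval _ (by positivity) hlN, irr_apply_one_eq_charDegree χ₁] at hs2
  rw [hvalb _ (by positivity) hlN, hζN, irr_apply_one_eq_charDegree χb] at hs3
  simp only [oneIrr_apply] at hs1
  -- the degree of `χb`
  have hdeg : (charDegree (χb : G → ℂ) : ℂ) = (charDegree (χ₁ : G → ℂ) : ℂ) + δ := by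
    have h2 := hrhob 1 (by rw [orderOf_one]; norm_num)
    rw [irr_apply_one_eq_charDegree χ₁, irr_apply_one_eq_charDegree χb] at h2
    linear_combination (-δ) * h2 - ((charDegree (χb : G → ℂ) : ℂ) - (charDegree (χ₁ : G → ℂ) : ℂ)) * hδ2
  have hd1 : (charDegree (χ₁ : G → ℂ) : ℂ) ≠ 0 :=
    Nat.cast_ne_zero.mpr (irr_charDegree_ne_zero χ₁)
  have hdb : (charDegree (χ₁ : G → ℂ) : ℂ) + δ ≠ 0 := by
    rw [← hdeg]
    exact Nat.cast_ne_zero.mpr (irr_charDegree_ne_zero χb)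
  rw [hdeg] at hs3
  -- the sum of `Θ`
  have hsum : ∑ x ∈ invSet G, ∑ y ∈ invSet G, Θ (x * y) =
      (∑ x ∈ invSet G, ∑ y ∈ invSet G, ((oneIrr G : IrrCharacter G) : G → ℂ) (x * y)) +
      δ * (∑ x ∈ invSet G, ∑ y ∈ invSet G, (χ₁ : G → ℂ) (x * y)) -
      δ * (∑ x ∈ invSet G, ∑ y ∈ invSet G, (χb : G → ℂ) (x * y)) := by
    simp only [hΘdef, oneIrr_apply, Finset.mul_sum, ← Finset.sum_add_distrib,
      ← Finset.sum_sub_distrib]
  simp only [oneIrr_apply] at hsum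
  rw [hcount, hs1, hs2, hs3] at hsum
  -- the cardinalities
  have hK : Nat.card {x : G // IsConj J x} = (invSet G).card := by
    rw [Nat.card_eq_fintype_card, Fintype.card_subtype]
    congr 1
    ext x
    rw [Finset.mem_filter]
    simp only [Finset.mem_univ, true_and]
    exact hconjInv x
  have hKG := Cfsg.Agent.Lib.Helper4.card_conj_mul_card_centralizer J
  rw [hK] at hKG
  have hk0 : ((invSet G).card : ℂ) ≠ 0 := by
    apply Nat.cast_ne_zero.mpr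
    intro h
    rw [h, zero_mul] at hKG
    exact Nat.card_pos.ne' hKG.symm
  obtain ⟨a', b', hab, ha', hb'⟩ := dih_card_invCent P hn e σ hσ hσo τ hτ hrel
  refine ⟨(invSet G).card, (invCent J).card, hKG, ⟨a', b', hab, ha', hb'⟩, ?_⟩
  set k : ℂ := ((invSet G).card : ℂ) with hk
  set ι : ℂ := ((invCent J).card : ℂ) with hι
  set d : ℂ := (charDegree (χ₁ : G → ℂ) : ℂ) with hd
  -- hsum : 2 * k * ι ^ 2 = k ^ 2 * (1 * 1 / 1) + δ * (k ^ 2 * (δ * δ / d)) - δ * (k ^ 2 * (..))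
  have hE : 2 * ι ^ 2 = k * (1 + δ * (δ * δ / d) -
      δ * (δ * (-1 + (-1 : ℂ)⁻¹) * (δ * (-1 + (-1 : ℂ)⁻¹)) / (d + δ))) := by
    apply mul_left_cancel₀ hk0
    linear_combination hsum
  rw [hδ2] at hE
  have h4 : δ * (-1 + (-1 : ℂ)⁻¹) * (δ * (-1 + (-1 : ℂ)⁻¹)) = 4 := by
    norm_num
    linear_combination 4 * hδ2
  rw [h4] at hE
  have hfin : k * (d - δ) ^ 2 = 2 * d * (d + δ) * ι ^ 2 := by
    have h5 : k * (1 + δ * (1 / d) - δ * (4 / (d + δ))) * (d * (d + δ)) = k * (d - δ) ^ 2 := by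
      field_simp
      ring
    rw [← h5, ← hE]
    ring
  exact hfin

end Cfsg.Agent.Lib.Helper75
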