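import Mathlib

/-!
# Finite Fourier analysis on a cyclic subgroup
-/

set_option autoImplicit false

universe u

namespace Cfsg.Agent.Lib.Helper75

open scoped ComplexConjugate

/-- The average of the powers of a `q`-th root of unity. -/
theorem geom_avg {q : ℕ} (hq : 0 < q) (b : ℂ) (hb : b ^ q = 1) :
    (q : ℂ)⁻¹ * ∑ l ∈ Finset.range q, b ^ l = if b = 1 then 1 else 0 := by
  have hq0 : (q : ℂ) ≠ 0 := Nat.cast_ne_zero.mpr hq.ne'
  by_cases h : b = 1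
  · rw [if_pos h, h]
    simp [hq0]
  · rw [if_neg h]
    have h1 : (∑ l ∈ Finset.range q, b ^ l) * (b - 1) = 0 := by
      rw [geom_sum_mul, hb, sub_self]
    rcases mul_eq_zero.mp h1 with h2 | h2
    · rw [h2, mul_zero]
    · exact absurd (sub_eq_zero.mp h2) h

theorem geom_sum_root {q : ℕ} (hq : 0 < q) (b : ℂ) (hb : b ^ q = 1) :
    ∑ l ∈ Finset.range q, b ^ l = if b = 1 then (q : ℂ) else 0 := by
  have hq0 : (q : ℂ) ≠ 0 := Nat.cast_ne_zero.mpr hq.ne'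
  have h := geom_avg hq b hb
  split_ifs with h1
  · rw [if_pos h1] at h
    field_simp at h
    exact h
  · rw [if_neg h1] at h
    rcases mul_eq_zero.mp h with h2 | h2
    · exact absurd (inv_eq_zero.mp h2) hq0
    · exact h2

variable {G : Type u} [Group G]

/-- `D f i = [f|_⟨σ⟩, 1 - ω^i]` where `ω(σ) = ζ`. -/
noncomputable def dihD (σ : G) (q : ℕ) (ζ : ℂ) (f : G → ℂ) (i : ℕ) : ℂ :=
  (q : ℂ)⁻¹ * ∑ l ∈ Finset.range q, f (σ ^ l) * (1 - ((ζ ^ i)⁻¹) ^ l)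

theorem pow_eq_one_iff_of_primitive {q : ℕ} {ζ : ℂ} (hζ : IsPrimitiveRoot ζ q) (i : ℕ) :
    ζ ^ i = 1 ↔ q ∣ i := hζ.pow_eq_one_iff_dvd i

theorem root_pow_pow {q : ℕ} {ζ : ℂ} (hζ : IsPrimitiveRoot ζ q) (i : ℕ) : (ζ ^ i) ^ q = 1 := by
  rw [← pow_mul, mul_comm, pow_mul, hζ.pow_eq_one, one_pow]

theorem root_inv_pow_pow {q : ℕ} {ζ : ℂ} (hζ : IsPrimitiveRoot ζ q) (i : ℕ) :
    ((ζ ^ i)⁻¹) ^ q = 1 := by
  rw [inv_pow, root_pow_pow hζ, inv_one]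

theorem root_pow_ne_one {q : ℕ} {ζ : ℂ} (hζ : IsPrimitiveRoot ζ q) {i : ℕ} (hi0 : 0 < i)
    (hi : i < q) : ζ ^ i ≠ 1 := by
  intro h
  have := (hζ.pow_eq_one_iff_dvd i).mp h
  have := Nat.le_of_dvd hi0 this
  omega

theorem root_ne_zero {q : ℕ} {ζ : ℂ} (hζ : IsPrimitiveRoot ζ q) (hq : 0 < q) : ζ ≠ 0 :=
  hζ.ne_zero hq.ne'

theorem dihD_one {q : ℕ} {ζ : ℂ} (hζ : IsPrimitiveRoot ζ q) (σ : G) {i : ℕ} (hi0 : 0 < i)
    (hi : i < q) : dihD σ q ζ (fun _ => 1) i = 1 := by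
  have hq : 0 < q := by omega
  have hq0 : (q : ℂ) ≠ 0 := Nat.cast_ne_zero.mpr hq.ne'
  unfold dihD
  simp only [one_mul]
  rw [Finset.sum_sub_distrib, mul_sub, geom_avg hq _ (root_inv_pow_pow hζ i)]
  have h1 : (ζ ^ i)⁻¹ ≠ 1 := by
    intro h
    exact root_pow_ne_one hζ hi0 hi (inv_eq_one.mp h)
  rw [if_neg h1]
  simp [hq0]

theorem dihD_zero (σ : G) (q : ℕ) (ζ : ℂ) (f : G → ℂ) : dihD σ q ζ f 0 = 0 := by
  unfold dihD
  simp

/-- Fourier inversion. -/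
theorem dihD_inverse {q : ℕ} {ζ : ℂ} (hζ : IsPrimitiveRoot ζ q) (σ : G) (f : G → ℂ) {l : ℕ}
    (hl0 : 0 < l) (hl : l < q) :
    ∑ j ∈ Finset.range q, dihD σ q ζ f j * ζ ^ (j * l) = - f (σ ^ l) := by
  have hq : 0 < q := by omega
  have hq0 : (q : ℂ) ≠ 0 := Nat.cast_ne_zero.mpr hq.ne'
  have hζ0 : ζ ≠ 0 := root_ne_zero hζ hq
  unfold dihD
  have h1 : ∀ j ∈ Finset.range q,
      (q : ℂ)⁻¹ * (∑ l' ∈ Finset.range q, f (σ ^ l') * (1 - ((ζ ^ j)⁻¹) ^ l')) * ζ ^ (j * l) =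
      (q : ℂ)⁻¹ * ∑ l' ∈ Finset.range q,
        f (σ ^ l') * ((ζ ^ l) ^ j - (ζ ^ l * (ζ ^ l')⁻¹) ^ j) := by
    intro j _
    rw [mul_assoc, Finset.sum_mul]
    congr 1
    refine Finset.sum_congr rfl fun l' _ => ?_
    rw [mul_assoc]
    congr 1
    rw [sub_mul, one_mul, mul_pow, inv_pow, inv_pow, ← pow_mul, ← pow_mul, ← pow_mul,
      mul_comm l j, mul_comm l' j]
    ring
  rw [Finset.sum_congr rfl h1, ← Finset.mul_sum, Finset.sum_comm]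
  have h2 : ∀ l' ∈ Finset.range q,
      ∑ j ∈ Finset.range q, f (σ ^ l') * ((ζ ^ l) ^ j - (ζ ^ l * (ζ ^ l')⁻¹) ^ j) =
      f (σ ^ l') * (if l' = l then -(q : ℂ) else 0) := by
    intro l' hl'
    rw [← Finset.mul_sum, Finset.sum_sub_distrib]
    congr 1
    rw [geom_sum_root hq _ (root_pow_pow hζ l), if_neg (root_pow_ne_one hζ hl0 hl)]
    have hb : (ζ ^ l * (ζ ^ l')⁻¹) ^ q = 1 := by
      rw [mul_pow, inv_pow, root_pow_pow hζ, root_pow_pow hζ, inv_one, mul_one]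
    rw [geom_sum_root hq _ hb]
    have hl'q : l' < q := Finset.mem_range.mp hl'
    have hiff : ζ ^ l * (ζ ^ l')⁻¹ = 1 ↔ l' = l := by
      constructor
      · intro h
        have h3 : ζ ^ l = ζ ^ l' := by
          have hne : ζ ^ l' ≠ 0 := pow_ne_zero _ hζ0
          field_simp at h
          exact h
        exact (hζ.pow_inj hl hl'q h3).symm
      · intro h
        rw [h]
        exact mul_inv_cancel₀ (pow_ne_zero _ hζ0)
    by_cases h4 : l' = l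
    · rw [if_pos (hiff.mpr h4), if_pos h4]; ring
    · rw [if_neg (fun h => h4 (hiff.mp h)), if_neg h4]; ring
  rw [Finset.sum_congr rfl h2]
  rw [Finset.sum_eq_single_of_mem l (Finset.mem_range.mpr hl)]
  · rw [if_pos rfl]
    field_simp
  · intro b _ hb
    rw [if_neg hb, mul_zero]

end Cfsg.Agent.Lib.Helper75
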