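import Cfsg.Agent.Lib.Helper75.DihSylow2

/-!
# Groups with dihedral Sylow `2`-subgroups: fusion of rotations
-/

set_option autoImplicit false
set_option linter.unusedSectionVars false
set_option linter.style.haveILetI false

universe u

namespace Cfsg.Agent.Lib.Helper75

open Cfsg

variable {G : Type u} [Group G] [Finite G] (P : Sylow 2 G) {n : ℕ} (hn : 3 ≤ n)
  (e : (P : Subgroup G) ≃* DihedralGroup (2 ^ (n - 1))) (σ : G) (hσ : σ ∈ (P : Subgroup G))
  (hσo : orderOf σ = 2 ^ (n - 1))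

include hn e hσ hσo in
/-- Elements normalizing the rotation subgroup fix or invert `σ`. -/
theorem dih_normalizer_rot (h : G) (hh : h ∈ Subgroup.normalizer (Subgroup.zpowers σ : Set G)) :
    h * σ * h⁻¹ = σ ∨ h * σ * h⁻¹ = σ⁻¹ := by
  haveI : Fact (Nat.Prime 2) := ⟨Nat.prime_two⟩
  let ι : DihedralGroup (2 ^ (n - 1)) →* G :=
    (P : Subgroup G).subtype.comp e.symm.toMonoidHom
  have hι : Function.Injective ι := by
    intro a b hab
    have h1 : ((e.symm a : (P : Subgroup G)) : G) = ((e.symm b : (P : Subgroup G)) : G) := hab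
    exact e.symm.injective (Subtype.ext h1)
  have hrange : (P : Subgroup G) = ι.range := by
    ext x
    constructor
    · intro hx
      exact ⟨e ⟨x, hx⟩, by simp [ι]⟩
    · rintro ⟨a, rfl⟩
      exact (e.symm a).2
  have hTP : Subgroup.zpowers σ ≤ (P : Subgroup G) := by
    rw [Subgroup.zpowers_le]; exact hσ
  have hPN : (P : Subgroup G) ≤ Subgroup.normalizer (Subgroup.zpowers σ : Set G) := by
    intro x hx
    rw [Subgroup.mem_normalizer_iff]
    have key : ∀ y : G, y ∈ (P : Subgroup G) → ∀ t ∈ Subgroup.zpowers σ,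
        y * t * y⁻¹ ∈ Subgroup.zpowers σ := by
      intro y hy t ht
      obtain ⟨k, rfl⟩ := Subgroup.mem_zpowers_iff.mp ht
      rcases dih_cases P hn e σ hσ hσo y hy with h1 | h1
      · obtain ⟨j, rfl⟩ := Subgroup.mem_zpowers_iff.mp h1
        have : σ ^ j * σ ^ k * (σ ^ j)⁻¹ = σ ^ k := by
          rw [← zpow_add, ← zpow_neg, ← zpow_add]; congr 1; ring
        rw [this]; exact Subgroup.zpow_mem _ (Subgroup.mem_zpowers σ) k
      · rw [← conj_zpow, h1.1]
        exact Subgroup.zpow_mem _ (Subgroup.inv_mem _ (Subgroup.mem_zpowers σ)) k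
    intro t
    constructor
    · intro ht; exact key x hx t ht
    · intro ht
      have := key x⁻¹ (Subgroup.inv_mem _ hx) _ ht
      have h2 : x⁻¹ * (x * t * x⁻¹) * x⁻¹⁻¹ = t := by group
      rwa [h2] at this
  have hfn : Cfsg.Agent.Lib.Helper33.FN 2 (P : Subgroup G) (Subgroup.zpowers σ) := by
    unfold Cfsg.Agent.Lib.Helper33.FN
    rw [inf_eq_left.mpr hPN]
    intro hd
    exact P.not_dvd_index (dvd_trans hd (Subgroup.relIndex_dvd_index_of_le hPN))
  have hnk : ¬ IsKleinFour (Subgroup.zpowers σ) := by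
    intro hK
    have h1 : (⟨σ, Subgroup.mem_zpowers σ⟩ : Subgroup.zpowers σ) ^ 2 = 1 := by
      have := Monoid.pow_exponent_eq_one (⟨σ, Subgroup.mem_zpowers σ⟩ : Subgroup.zpowers σ)
      rwa [hK.exponent_two] at this
    have h2 : σ ^ 2 = 1 := by
      have := congrArg Subtype.val h1
      simpa using this
    have h3 := orderOf_dvd_of_pow_eq_one h2
    rw [hσo] at h3
    have h4 := Nat.le_of_dvd (by norm_num) h3
    have := dih_three_le hn
    omega
  obtain ⟨w, hwP, _, hw⟩ := Cfsg.Agent.Lib.Helper4.DS.normalizer_acts_like_sylow ι P hrange hι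
    (Subgroup.zpowers σ) hTP hfn hnk h hh
  rw [hw σ (Subgroup.mem_zpowers σ)]
  rcases dih_cases P hn e σ hσ hσo w hwP with h1 | h1
  · left
    obtain ⟨j, rfl⟩ := Subgroup.mem_zpowers_iff.mp h1
    have : σ ^ j * σ * (σ ^ j)⁻¹ = σ ^ j * σ ^ (1 : ℤ) * (σ ^ j)⁻¹ := by rw [zpow_one]
    rw [this, ← zpow_add, ← zpow_neg, ← zpow_add]
    have : j + 1 + -j = 1 := by ring
    rw [this, zpow_one]
  · right; exact h1.1

end Cfsg.Agent.Lib.Helper75

namespace Cfsg.Agent.Lib.Helper75

open Cfsg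

variable {G : Type u} [Group G] [Finite G] (P : Sylow 2 G) {n : ℕ} (hn : 3 ≤ n)
  (e : (P : Subgroup G) ≃* DihedralGroup (2 ^ (n - 1))) (σ : G) (hσ : σ ∈ (P : Subgroup G))
  (hσo : orderOf σ = 2 ^ (n - 1))

include hσo in
theorem dih_pow_sq_eq_one_iff (l : ℕ) (hl0 : 0 < l) (hl : l < 2 ^ (n - 1)) :
    σ ^ l * σ ^ l = 1 ↔ 2 * l = 2 ^ (n - 1) := by
  rw [← pow_add, ← two_mul]
  constructor
  · intro h
    have h1 := orderOf_dvd_of_pow_eq_one h
    rw [hσo] at h1
    obtain ⟨c, hc⟩ := h1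
    have hc1 : c = 1 := by
      rcases Nat.lt_or_ge c 1 with h | h
      · interval_cases c; omega
      · rcases Nat.lt_or_ge c 2 with h' | h'
        · omega
        · exfalso
          have : 2 ^ (n - 1) * 2 ≤ 2 ^ (n - 1) * c := Nat.mul_le_mul_left _ h'
          omega
    rw [hc, hc1, mul_one]
  · intro h
    rw [h, ← hσo, pow_orderOf_eq_one]

include hn e hσ hσo in
/-- Fusion of rotations: `σ ^ l` and `σ ^ m` are conjugate only if `m = ± l`. -/
theorem dih_isConj_pow (l m : ℕ) (hl0 : 0 < l) (hl : l < 2 ^ (n - 1)) (hm0 : 0 < m)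
    (hm : m < 2 ^ (n - 1)) (hconj : IsConj (σ ^ l) (σ ^ m)) : m = l ∨ m + l = 2 ^ (n - 1) := by
  haveI : Fact (Nat.Prime 2) := ⟨Nat.prime_two⟩
  obtain ⟨g, hg⟩ := isConj_iff.mp hconj
  have hsq : σ ^ m * σ ^ m = g * (σ ^ l * σ ^ l) * g⁻¹ := by
    rw [← hg]; group
  by_cases h2 : σ ^ l * σ ^ l = 1
  · left
    have h3 : σ ^ m * σ ^ m = 1 := by rw [hsq, h2]; group
    have h4 := (dih_pow_sq_eq_one_iff σ hσo l hl0 hl).mp h2
    have h5 := (dih_pow_sq_eq_one_iff σ hσo m hm0 hm).mp h3
    omega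
  · have hu2 : σ ^ m * σ ^ m ≠ 1 := by
      intro h
      apply h2
      have : σ ^ l * σ ^ l = g⁻¹ * (σ ^ m * σ ^ m) * g := by rw [hsq]; group
      rw [this, h]; group
    set u := σ ^ m with hu
    have huz : u ∈ Subgroup.zpowers σ := Subgroup.pow_mem _ (Subgroup.mem_zpowers σ) m
    set C := Subgroup.centralizer ({u} : Set G) with hC
    obtain ⟨hfac, _⟩ := dih_centralizer_rot P hn e σ hσ hσo u huz hu2
    have hTC : Subgroup.zpowers σ ≤ C := by
      rw [Subgroup.zpowers_le, hC, Subgroup.mem_centralizer_singleton_iff]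
      exact ((Commute.refl σ).pow_right m).eq
    have hcard1 : Nat.card ((Subgroup.zpowers σ).subgroupOf C) =
        2 ^ (Nat.card C).factorization 2 := by
      rw [hfac, Nat.card_congr (Subgroup.subgroupOfEquivOfLe hTC).toEquiv, Nat.card_zpowers, hσo]
    let Q₁ : Sylow 2 C := Sylow.ofCard _ hcard1
    have hgσC : g * σ * g⁻¹ ∈ C := by
      rw [hC, Subgroup.mem_centralizer_singleton_iff, ← hg]
      have : g * σ * g⁻¹ * (g * σ ^ l * g⁻¹) = g * (σ * σ ^ l) * g⁻¹ := by group
      rw [this]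
      have : g * σ ^ l * g⁻¹ * (g * σ * g⁻¹) = g * (σ ^ l * σ) * g⁻¹ := by group
      rw [this, ← pow_succ, ← pow_succ']
    let b : C := ⟨g * σ * g⁻¹, hgσC⟩
    have hob : orderOf b = 2 ^ (n - 1) := by
      rw [Subgroup.orderOf_mk]
      have : g * σ * g⁻¹ = MulAut.conj g σ := by simp [MulAut.conj_apply]
      rw [this, MulEquiv.orderOf_eq, hσo]
    have hB : IsPGroup 2 (Subgroup.zpowers b) := by
      apply IsPGroup.of_card (n := n - 1)
      rw [Nat.card_zpowers, hob]
    obtain ⟨a, ha⟩ := Cfsg.Agent.Lib.Helper50.exists_conj_mem_sylow Q₁ hB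
    have h3 := ha b (Subgroup.mem_zpowers b)
    have h4 : ((a * b * a⁻¹ : C) : G) ∈ Subgroup.zpowers σ := by
      have : a * b * a⁻¹ ∈ (Subgroup.zpowers σ).subgroupOf C := h3
      exact Subgroup.mem_subgroupOf.mp this
    set h : G := (a : G) * g with hh
    have h5 : h * σ * h⁻¹ ∈ Subgroup.zpowers σ := by
      have : h * σ * h⁻¹ = ((a * b * a⁻¹ : C) : G) := by
        simp only [hh, b, Subgroup.coe_mul, Subgroup.coe_inv]
        group
      rw [this]; exact h4
    -- `h` normalizes the rotation subgroup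
    have horder : orderOf (h * σ * h⁻¹) = 2 ^ (n - 1) := by
      have : h * σ * h⁻¹ = MulAut.conj h σ := by simp [MulAut.conj_apply]
      rw [this, MulEquiv.orderOf_eq, hσo]
    have hzeq : Subgroup.zpowers (h * σ * h⁻¹) = Subgroup.zpowers σ := by
      apply Subgroup.eq_of_le_of_card_ge
      · rw [Subgroup.zpowers_le]; exact h5
      · rw [Nat.card_zpowers, Nat.card_zpowers, horder, hσo]
    have hnorm : h ∈ Subgroup.normalizer (Subgroup.zpowers σ : Set G) := by
      rw [Subgroup.mem_normalizer_iff]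
      intro t
      constructor
      · intro ht
        obtain ⟨k, rfl⟩ := Subgroup.mem_zpowers_iff.mp ht
        rw [← conj_zpow]
        exact Subgroup.zpow_mem _ h5 k
      · intro ht
        rw [← hzeq] at ht
        obtain ⟨k, hk⟩ := Subgroup.mem_zpowers_iff.mp ht
        rw [conj_zpow] at hk
        have : t = σ ^ k := by
          have h6 : t = h⁻¹ * (h * t * h⁻¹) * h := by group
          rw [h6, ← hk]; group
        rw [this]; exact Subgroup.zpow_mem _ (Subgroup.mem_zpowers σ) k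
    have hau : (a : G) * u * (a : G)⁻¹ = u := by
      have := Subgroup.mem_centralizer_singleton_iff.mp a.2
      rw [this]; group
    have h7 : h * σ ^ l * h⁻¹ = u := by
      have : h * σ ^ l * h⁻¹ = (a : G) * (g * σ ^ l * g⁻¹) * (a : G)⁻¹ := by
        rw [hh]; group
      rw [this, hg, hau]
    rw [← conj_pow] at h7
    rcases dih_normalizer_rot P hn e σ hσ hσo h hnorm with h8 | h8
    · left
      rw [h8] at h7
      have := (pow_eq_pow_iff_modEq (x := σ) (n := l) (m := m)).mp h7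
      rw [hσo] at this
      have h9 := Nat.ModEq.eq_of_lt_of_lt this hl hm
      exact h9.symm
    · right
      rw [h8, inv_pow] at h7
      have h9 : σ ^ (m + l) = 1 := by
        rw [pow_add, ← hu, ← h7]; group
      have h10 := orderOf_dvd_of_pow_eq_one h9
      rw [hσo] at h10
      obtain ⟨c, hc⟩ := h10
      have hc1 : c = 1 := by
        rcases Nat.lt_or_ge c 1 with h' | h'
        · interval_cases c; omega
        · rcases Nat.lt_or_ge c 2 with h'' | h''
          · omega
          · exfalso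
            have : 2 ^ (n - 1) * 2 ≤ 2 ^ (n - 1) * c := Nat.mul_le_mul_left _ h''
            omega
      rw [hc, hc1, mul_one]

include hn e hσ hσo in
theorem dih_isConj_pow_neg (l m : ℕ) (hml : m + l = 2 ^ (n - 1)) : IsConj (σ ^ l) (σ ^ m) := by
  obtain ⟨τ, _, hτ, _⟩ := dih_exists_tau P hn e σ hσ hσo
  rw [isConj_iff]
  refine ⟨τ, ?_⟩
  rw [← conj_pow, hτ, inv_pow]
  apply inv_eq_of_mul_eq_one_left
  rw [← pow_add, hml, ← hσo, pow_orderOf_eq_one]

end Cfsg.Agent.Lib.Helper75
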