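import Cfsg.Agent.Lib.Helper75.DihFourier
import Cfsg.Agent.Lib.Helper38.AbelianRestrict
import Cfsg.Agent.Lib.Helper15.IrrCrit

/-!
# Integrality of the multiplicity differences on a cyclic subgroup
-/

set_option autoImplicit false
set_option linter.unusedSectionVars false
set_option linter.style.haveILetI false

universe u

namespace Cfsg.Agent.Lib.Helper75

open Cfsg
open scoped ComplexConjugate

variable {G : Type u} [Group G] [Fintype G]

open Classical in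
/-- For a character `χ` the numbers `D χ i` are integers. -/
theorem dihD_int (σ : G) {q : ℕ} (hσo : orderOf σ = q) (hq : 0 < q) {ζ : ℂ}
    (hζ : IsPrimitiveRoot ζ q) (χ : G → ℂ) (hχ : IsCharacter G χ) (i : ℕ) :
    ∃ z : ℤ, dihD σ q ζ χ i = (z : ℂ) := by
  have hq0 : (q : ℂ) ≠ 0 := Nat.cast_ne_zero.mpr hq.ne'
  set H := Subgroup.zpowers σ with hH
  haveI : Fintype H := Fintype.ofFinite _
  haveI : Fintype (IrrCharacter H) := Fintype.ofFinite _
  have hres : IsCharacter H (fun h : H => χ h) :=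
    Cfsg.Agent.Lib.Helper3.IsCharacter.restrict hχ H
  obtain ⟨m, _, hdec⟩ := Cfsg.Agent.Lib.Helper15.exists_nat_decomp hres
  let σ' : H := ⟨σ, Subgroup.mem_zpowers σ⟩
  set a : IrrCharacter H → ℂ := fun ψ => (ψ : H → ℂ) σ' with ha
  have hpow : ∀ (ψ : IrrCharacter H) (l : ℕ), (ψ : H → ℂ) (σ' ^ l) = (a ψ) ^ l := by
    intro ψ l
    rw [ha]
    simp only
    rw [← Cfsg.Agent.Lib.Helper38.irrHom_apply ψ (σ' ^ l), map_pow, Units.val_pow_eq_pow_val,
      Cfsg.Agent.Lib.Helper38.irrHom_apply]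
  have hσq : σ' ^ q = 1 := by
    apply Subtype.ext
    rw [Subgroup.coe_pow, Subgroup.coe_one]
    show σ ^ q = 1
    rw [← hσo, pow_orderOf_eq_one]
  have haq : ∀ ψ : IrrCharacter H, (a ψ) ^ q = 1 := by
    intro ψ
    rw [← hpow ψ q, hσq]
    exact (Cfsg.Agent.Lib.Helper38.irr_linear ψ).2
  have hval : ∀ l : ℕ, χ (σ ^ l) = ∑ ψ : IrrCharacter H, (m ψ : ℂ) * (a ψ) ^ l := by
    intro l
    have h1 := congrFun hdec (σ' ^ l)
    rw [Finset.sum_apply] at h1
    simp only [Pi.smul_apply, smul_eq_mul] at h1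
    have h2 : ((σ' ^ l : H) : G) = σ ^ l := by
      rw [Subgroup.coe_pow]
    rw [h2] at h1
    rw [h1]
    refine Finset.sum_congr rfl fun ψ _ => ?_
    rw [hpow ψ l]
  set B : ℂ := (ζ ^ i)⁻¹ with hB
  have hBq : B ^ q = 1 := root_inv_pow_pow hζ i
  refine ⟨∑ ψ : IrrCharacter H, (m ψ : ℤ) *
    ((if a ψ = 1 then 1 else 0) - (if a ψ * B = 1 then 1 else 0)), ?_⟩
  unfold dihD
  rw [← hB]
  have h3 : ∑ l ∈ Finset.range q, χ (σ ^ l) * (1 - B ^ l) =
      ∑ ψ : IrrCharacter H, (m ψ : ℂ) *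
        (∑ l ∈ Finset.range q, (a ψ) ^ l - ∑ l ∈ Finset.range q, (a ψ * B) ^ l) := by
    rw [Finset.sum_congr rfl fun l _ => by rw [hval l, Finset.sum_mul]]
    rw [Finset.sum_comm]
    refine Finset.sum_congr rfl fun ψ _ => ?_
    rw [← Finset.sum_sub_distrib, Finset.mul_sum]
    refine Finset.sum_congr rfl fun l _ => ?_
    rw [mul_pow]
    ring
  rw [h3, Finset.mul_sum]
  push_cast
  refine Finset.sum_congr rfl fun ψ _ => ?_
  have h4 := geom_avg hq (a ψ) (haq ψ)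
  have h5 := geom_avg hq (a ψ * B) (by rw [mul_pow, haq ψ, hBq, mul_one])
  have h6 : (q : ℂ)⁻¹ * ((m ψ : ℂ) *
      (∑ l ∈ Finset.range q, (a ψ) ^ l - ∑ l ∈ Finset.range q, (a ψ * B) ^ l)) =
      (m ψ : ℂ) * ((q : ℂ)⁻¹ * ∑ l ∈ Finset.range q, (a ψ) ^ l -
        (q : ℂ)⁻¹ * ∑ l ∈ Finset.range q, (a ψ * B) ^ l) := by ring
  rw [h6, h4, h5]

end Cfsg.Agent.Lib.Helper75
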