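import Cfsg.Agent.Lib.Helper75.DihBlock
import Cfsg.Agent.Lib.Helper75.DihInt

/-!
# Dihedral Sylow `2`-subgroups: the Gram matrix of the multiplicity differences
-/

set_option autoImplicit false
set_option linter.unusedSectionVars false
set_option linter.style.haveILetI false

universe u

namespace Cfsg.Agent.Lib.Helper75

open Cfsg Cfsg.Agent.Lib.Helper77 Cfsg.Agent.Lib.Helper81
open scoped ComplexConjugate

theorem conj_root_inv_pow {q : ℕ} (hq : 0 < q) {ζ : ℂ} (hζ : IsPrimitiveRoot ζ q) (j m : ℕ) :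
    conj (((ζ ^ j)⁻¹) ^ m) = (ζ ^ j) ^ m := by
  have h1 : ‖ζ ^ j‖ = 1 :=
    Complex.norm_eq_one_of_pow_eq_one (root_pow_pow hζ j) hq.ne'
  rw [map_pow, map_inv₀, ← Complex.inv_eq_conj h1, inv_inv]

variable {G : Type u} [Group G] [Fintype G] [Fintype (IrrCharacter G)]
  {M : Ideal AlgInt} (hM : IsPModular 2 M) (P : Sylow 2 G) {n : ℕ} (hn : 3 ≤ n)
  (e : (P : Subgroup G) ≃* DihedralGroup (2 ^ (n - 1))) (σ : G) (hσ : σ ∈ (P : Subgroup G))
  (hσo : orderOf σ = 2 ^ (n - 1)) {ζ : ℂ} (hζ : IsPrimitiveRoot ζ (2 ^ (n - 1)))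

open Classical in
include hM hn e hσ hσo hζ in
/-- The inner product of the vector `D(i)` with the column of `σ ^ m`. -/
theorem dih_sum_D_conj (i m : ℕ) (hm : m < 2 ^ (n - 1)) :
    ∑ χ ∈ Finset.univ.filter (fun χ : IrrCharacter G => χ ∈ principalBlock M G),
      dihD σ (2 ^ (n - 1)) ζ (χ : G → ℂ) i * conj ((χ : G → ℂ) (σ ^ m)) =
    2 - (ζ ^ i) ^ m - ((ζ ^ i)⁻¹) ^ m := by
  set q := 2 ^ (n - 1) with hq
  have hq0 : 0 < q := by rw [hq]; positivity
  have hqC : (q : ℂ) ≠ 0 := Nat.cast_ne_zero.mpr hq0.ne'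
  set A := ζ ^ i with hA
  have hAq : (A⁻¹) ^ q = 1 := root_inv_pow_pow hζ i
  have hA0 : A ≠ 0 := pow_ne_zero _ (root_ne_zero hζ hq0)
  unfold dihD
  have hqcast : ((q : ℕ) : ℂ) = (2 : ℂ) ^ (n - 1) := by rw [hq]; push_cast; rfl
  have h1 : ∀ χ : IrrCharacter G,
      ((q : ℂ)⁻¹ * ∑ l ∈ Finset.range q, (χ : G → ℂ) (σ ^ l) * (1 - (A⁻¹) ^ l)) *
        conj ((χ : G → ℂ) (σ ^ m)) =
      (q : ℂ)⁻¹ * ∑ l ∈ Finset.range q,
        (1 - (A⁻¹) ^ l) * ((χ : G → ℂ) (σ ^ l) * conj ((χ : G → ℂ) (σ ^ m))) := by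
    intro χ
    rw [mul_assoc, Finset.sum_mul]
    congr 1
    refine Finset.sum_congr rfl fun l _ => ?_
    ring
  rw [Finset.sum_congr rfl fun χ _ => h1 χ, ← Finset.mul_sum, Finset.sum_comm]
  have h2 : ∀ l ∈ Finset.range q,
      ∑ χ ∈ Finset.univ.filter (fun χ : IrrCharacter G => χ ∈ principalBlock M G),
        (1 - (A⁻¹) ^ l) * ((χ : G → ℂ) (σ ^ l) * conj ((χ : G → ℂ) (σ ^ m))) =
      (1 - (A⁻¹) ^ l) * ((if l = m then (q : ℂ) else 0) + (if l + m = q then (q : ℂ) else 0)) := by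
    intro l hl
    rw [← Finset.mul_sum]
    rcases Nat.eq_zero_or_pos l with h0 | h0
    · rw [h0, pow_zero, sub_self, zero_mul, zero_mul]
    · rw [dih_Phi hM P hn e σ hσ hσo l m h0 (Finset.mem_range.mp hl) hm, hqcast]
  rw [Finset.sum_congr rfl h2]
  simp only [mul_add, mul_ite, mul_zero]
  rw [Finset.sum_add_distrib, Finset.sum_ite_eq' (Finset.range q) m,
    if_pos (Finset.mem_range.mpr hm)]
  rcases Nat.eq_zero_or_pos m with h0 | h0
  · subst h0
    have h3 : ∀ l ∈ Finset.range q, (if l + 0 = q then (1 - (A⁻¹) ^ l) * (q : ℂ) else 0) = 0 := by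
      intro l hl
      have := Finset.mem_range.mp hl
      rw [if_neg (by omega)]
    rw [Finset.sum_eq_zero h3]
    simp
    norm_num
  · have h3 : ∑ l ∈ Finset.range q, (if l + m = q then (1 - (A⁻¹) ^ l) * (q : ℂ) else 0) =
        (1 - (A⁻¹) ^ (q - m)) * (q : ℂ) := by
      rw [Finset.sum_eq_single_of_mem (q - m) (Finset.mem_range.mpr (by omega))]
      · rw [if_pos (by omega)]
      · intro b _ hb
        rw [if_neg (by omega)]
    rw [h3]
    have h4 : (A⁻¹) ^ (q - m) = A ^ m := by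
      have h5 : (A⁻¹) ^ (q - m) * (A⁻¹) ^ m = 1 := by
        rw [← pow_add, Nat.sub_add_cancel hm.le, hAq]
      rw [eq_inv_of_mul_eq_one_left h5, inv_pow, inv_inv]
    rw [h4]
    field_simp
    ring

open Classical in
include hM hn e hσ hσo hζ in
/-- The Gram matrix of the vectors `D(i)`. -/
theorem dih_gram (i j : ℕ) (hi0 : 0 < i) (hi : i < 2 ^ (n - 1)) (hj0 : 0 < j)
    (hj : j < 2 ^ (n - 1)) :
    ∑ χ ∈ Finset.univ.filter (fun χ : IrrCharacter G => χ ∈ principalBlock M G),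
      dihD σ (2 ^ (n - 1)) ζ (χ : G → ℂ) i * conj (dihD σ (2 ^ (n - 1)) ζ (χ : G → ℂ) j) =
    2 + (if i = j then 1 else 0) + (if i + j = 2 ^ (n - 1) then 1 else 0) := by
  set q := 2 ^ (n - 1) with hq
  have hq0 : 0 < q := by rw [hq]; positivity
  have hqC : (q : ℂ) ≠ 0 := Nat.cast_ne_zero.mpr hq0.ne'
  set A := ζ ^ i with hA
  set B := ζ ^ j with hB
  have hζ0 : ζ ≠ 0 := root_ne_zero hζ hq0
  have hA0 : A ≠ 0 := pow_ne_zero _ hζ0
  have hB0 : B ≠ 0 := pow_ne_zero _ hζ0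
  have hAq : A ^ q = 1 := root_pow_pow hζ i
  have hBq : B ^ q = 1 := root_pow_pow hζ j
  have hA'q : (A⁻¹) ^ q = 1 := root_inv_pow_pow hζ i
  have hA1 : A ≠ 1 := root_pow_ne_one hζ hi0 hi
  have hB1 : B ≠ 1 := root_pow_ne_one hζ hj0 hj
  have hA'1 : A⁻¹ ≠ 1 := fun h => hA1 (inv_eq_one.mp h)
  have hcj : ∀ χ : IrrCharacter G, conj (dihD σ q ζ (χ : G → ℂ) j) =
      (q : ℂ)⁻¹ * ∑ m ∈ Finset.range q, conj ((χ : G → ℂ) (σ ^ m)) * (1 - B ^ m) := by
    intro χ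
    unfold dihD
    rw [map_mul, map_inv₀, Complex.conj_natCast, map_sum]
    congr 1
    refine Finset.sum_congr rfl fun m _ => ?_
    rw [map_mul, map_sub, map_one, conj_root_inv_pow hq0 hζ j m]
  have h1 : ∀ χ : IrrCharacter G,
      dihD σ q ζ (χ : G → ℂ) i * conj (dihD σ q ζ (χ : G → ℂ) j) =
      (q : ℂ)⁻¹ * ∑ m ∈ Finset.range q,
        (1 - B ^ m) * (dihD σ q ζ (χ : G → ℂ) i * conj ((χ : G → ℂ) (σ ^ m))) := by
    intro χ
    rw [hcj χ, mul_comm (dihD σ q ζ (χ : G → ℂ) i), mul_assoc, Finset.sum_mul]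
    congr 1
    refine Finset.sum_congr rfl fun m _ => ?_
    ring
  rw [Finset.sum_congr rfl fun χ _ => h1 χ, ← Finset.mul_sum, Finset.sum_comm]
  have h2 : ∀ m ∈ Finset.range q,
      ∑ χ ∈ Finset.univ.filter (fun χ : IrrCharacter G => χ ∈ principalBlock M G),
        (1 - B ^ m) * (dihD σ q ζ (χ : G → ℂ) i * conj ((χ : G → ℂ) (σ ^ m))) =
      2 - A ^ m - (A⁻¹) ^ m - 2 * B ^ m + (B * A) ^ m + (B * A⁻¹) ^ m := by
    intro m hm
    rw [← Finset.mul_sum, dih_sum_D_conj hM P hn e σ hσ hσo hζ i m (Finset.mem_range.mp hm)]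
    rw [mul_pow, mul_pow]
    ring
  rw [Finset.sum_congr rfl h2]
  simp only [Finset.sum_add_distrib, Finset.sum_sub_distrib, Finset.sum_const, Finset.card_range,
    ← Finset.mul_sum]
  rw [geom_sum_root hq0 A hAq, geom_sum_root hq0 _ hA'q, geom_sum_root hq0 B hBq,
    if_neg hA1, if_neg hA'1, if_neg hB1]
  have hBAq : (B * A) ^ q = 1 := by rw [mul_pow, hAq, hBq, mul_one]
  have hBA'q : (B * A⁻¹) ^ q = 1 := by rw [mul_pow, hA'q, hBq, mul_one]
  rw [geom_sum_root hq0 _ hBAq, geom_sum_root hq0 _ hBA'q]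
  have hiff1 : B * A = 1 ↔ i + j = q := by
    rw [hA, hB, ← pow_add, hζ.pow_eq_one_iff_dvd]
    constructor
    · intro h
      obtain ⟨c, hc⟩ := h
      have hc1 : c = 1 := by
        rcases Nat.lt_or_ge c 1 with h' | h'
        · interval_cases c; omega
        · rcases Nat.lt_or_ge c 2 with h'' | h''
          · omega
          · exfalso
            have : q * 2 ≤ q * c := Nat.mul_le_mul_left _ h''
            omega
      rw [hc1, mul_one] at hc
      omega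
    · intro h
      rw [add_comm, h]
  have hiff2 : B * A⁻¹ = 1 ↔ i = j := by
    constructor
    · intro h
      have h3 : B = A := by
        field_simp at h
        exact h
      exact (hζ.pow_inj hi hj h3.symm)
    · intro h
      rw [hA, hB, h]
      exact mul_inv_cancel₀ (pow_ne_zero _ hζ0)
  by_cases h3 : i = j <;> by_cases h4 : i + j = q
  · rw [if_pos (hiff1.mpr h4), if_pos (hiff2.mpr h3), if_pos h3, if_pos h4]
    field_simp
    rw [nsmul_eq_mul]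
    ring
  · rw [if_neg (fun h => h4 (hiff1.mp h)), if_pos (hiff2.mpr h3), if_pos h3, if_neg h4]
    field_simp
    rw [nsmul_eq_mul]
    ring
  · rw [if_pos (hiff1.mpr h4), if_neg (fun h => h3 (hiff2.mp h)), if_neg h3, if_pos h4]
    field_simp
    rw [nsmul_eq_mul]
    ring
  · rw [if_neg (fun h => h4 (hiff1.mp h)), if_neg (fun h => h3 (hiff2.mp h)), if_neg h3, if_neg h4]
    field_simp
    rw [nsmul_eq_mul]
    ring

open Classical in
include hM hσo in
/-- The vectors `D(i)` are orthogonal to the columns of the `2`-regular elements. -/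
theorem dih_sum_D_regular (i : ℕ) (ρ : G) (hρ : ¬ 2 ∣ orderOf ρ) :
    ∑ χ ∈ Finset.univ.filter (fun χ : IrrCharacter G => χ ∈ principalBlock M G),
      dihD σ (2 ^ (n - 1)) ζ (χ : G → ℂ) i * conj ((χ : G → ℂ) ρ) = 0 := by
  haveI : Fact (Nat.Prime 2) := ⟨Nat.prime_two⟩
  set q := 2 ^ (n - 1) with hq
  unfold dihD
  have h1 : ∀ χ : IrrCharacter G,
      ((q : ℂ)⁻¹ * ∑ l ∈ Finset.range q, (χ : G → ℂ) (σ ^ l) * (1 - ((ζ ^ i)⁻¹) ^ l)) *
        conj ((χ : G → ℂ) ρ) =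
      (q : ℂ)⁻¹ * ∑ l ∈ Finset.range q,
        (1 - ((ζ ^ i)⁻¹) ^ l) * ((χ : G → ℂ) (σ ^ l) * conj ((χ : G → ℂ) ρ)) := by
    intro χ
    rw [mul_assoc, Finset.sum_mul]
    congr 1
    refine Finset.sum_congr rfl fun l _ => ?_
    ring
  rw [Finset.sum_congr rfl fun χ _ => h1 χ, ← Finset.mul_sum, Finset.sum_comm]
  have h2 : ∀ l ∈ Finset.range q,
      ∑ χ ∈ Finset.univ.filter (fun χ : IrrCharacter G => χ ∈ principalBlock M G),
        (1 - ((ζ ^ i)⁻¹) ^ l) * ((χ : G → ℂ) (σ ^ l) * conj ((χ : G → ℂ) ρ)) = 0 := by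
    intro l hl
    rw [← Finset.mul_sum]
    rcases Nat.eq_zero_or_pos l with h0 | h0
    · rw [h0, pow_zero, sub_self, zero_mul]
    · have hpρ : IsPPart 2 ρ 1 :=
        ⟨ρ, one_mul ρ, Commute.one_left ρ, ⟨0, by rw [orderOf_one, pow_zero]⟩, hρ⟩
      have hnc : ¬ IsConj (σ ^ l) (1 : G) := fun hc =>
        dih_pow_ne_one σ hσo l h0 (Finset.mem_range.mp hl) (isConj_one_left.mp hc)
      have h3 := Cfsg.Agent.Lib.Helper77.IdemTrace.strong_block_orthogonality_finset hM (oneIrr G)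
        (dih_pow_isPPart σ hσo l) hpρ hnc
      have h4 : ∑ χ ∈ Finset.univ.filter (fun χ : IrrCharacter G => χ ∈ principalBlock M G),
          (χ : G → ℂ) (σ ^ l) * conj ((χ : G → ℂ) ρ) = 0 := h3
      rw [h4, mul_zero]
  rw [Finset.sum_eq_zero h2, mul_zero]

end Cfsg.Agent.Lib.Helper75
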