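import Mathlib

/-!
# Dihedral subgroups: normal form of the elements relative to a rotation of full order
-/

set_option autoImplicit false

namespace Cfsg.Agent.Lib.Helper75

open DihedralGroup

/-- If `P ≃* DihedralGroup q` with `q ≥ 3` and `σ ∈ P` has order `q`, every element of `P` is a
power of `σ` or an involution inverting `σ`; and some involution of `P` inverts `σ`. -/
theorem dih_struct {G : Type*} [Group G] (P : Subgroup G) {q : ℕ} (hq : 3 ≤ q)
    (e : P ≃* DihedralGroup q) (σ : G) (hσ : σ ∈ P) (hσo : orderOf σ = q) :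
    (∀ x ∈ P, x ∈ Subgroup.zpowers σ ∨ (x * σ * x⁻¹ = σ⁻¹ ∧ x * x = 1)) ∧
    (∃ τ ∈ P, τ * σ * τ⁻¹ = σ⁻¹ ∧ τ * τ = 1) := by
  have : NeZero q := ⟨by omega⟩
  set σ' : P := ⟨σ, hσ⟩ with hσ'
  have hos : orderOf (e σ') = q := by
    rw [MulEquiv.orderOf_eq, Subgroup.orderOf_mk, hσo]
  -- the image of `σ` is a rotation by a unit
  obtain ⟨i, hi⟩ : ∃ i : ZMod q, e σ' = r i := by
    cases h : e σ' with
    | r i => exact ⟨i, rfl⟩
    | sr i =>
      exfalso
      rw [h, orderOf_sr] at hos
      omega
  have hgcd : Nat.gcd q i.val = 1 := by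
    rw [hi, orderOf_r] at hos
    rcases Nat.div_eq_self.mp hos with h | h
    · omega
    · exact h
  have hunit : IsUnit i := by
    have := (ZMod.isUnit_iff_coprime i.val q).mpr (Nat.coprime_comm.mp hgcd)
    rwa [ZMod.natCast_zmod_val] at this
  obtain ⟨u, hu⟩ := hunit
  have hrot : ∀ j : ZMod q, ∃ k : ℕ, r j = (e σ') ^ k := by
    intro j
    refine ⟨(j * ((u⁻¹ : (ZMod q)ˣ) : ZMod q)).val, ?_⟩
    rw [hi, r_pow, ZMod.natCast_zmod_val, ← hu]
    congr 1
    rw [mul_comm j, ← mul_assoc, Units.mul_inv, one_mul]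
  have hinv : ∀ j : ZMod q, sr j * e σ' * (sr j)⁻¹ = (e σ')⁻¹ := by
    intro j
    rw [hi, sr_mul_r, inv_sr, sr_mul_sr, inv_r]
    congr 1
    ring
  constructor
  · intro x hx
    set x' : P := ⟨x, hx⟩ with hx'
    cases h : e x' with
    | r j =>
      left
      obtain ⟨k, hk⟩ := hrot j
      have h1 : e x' = e (σ' ^ k) := by rw [h, hk, map_pow]
      have h2 : x' = σ' ^ k := e.injective h1
      have h3 : x = σ ^ k := by
        have := congrArg Subtype.val h2
        simpa using this
      rw [h3]
      exact Subgroup.pow_mem _ (Subgroup.mem_zpowers σ) k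
    | sr j =>
      right
      have h1 : e (x' * σ' * x'⁻¹) = e (σ'⁻¹) := by
        rw [map_mul, map_mul, map_inv, map_inv, h, hinv j]
      have h2 := e.injective h1
      have h3 : e (x' * x') = e 1 := by
        rw [map_mul, h, sr_mul_self, map_one]
      have h4 := e.injective h3
      constructor
      · have := congrArg Subtype.val h2
        simpa using this
      · have := congrArg Subtype.val h4
        simpa using this
  · refine ⟨(e.symm (sr 0) : P), (e.symm (sr 0)).2, ?_, ?_⟩
    · have h1 : e (e.symm (sr 0) * σ' * (e.symm (sr 0))⁻¹) = e (σ'⁻¹) := by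
        rw [map_mul, map_mul, map_inv, map_inv, e.apply_symm_apply, hinv 0]
      have h2 := e.injective h1
      have := congrArg Subtype.val h2
      simpa using this
    · have h3 : e (e.symm (sr 0) * e.symm (sr 0)) = e 1 := by
        rw [map_mul, e.apply_symm_apply, sr_mul_self, map_one]
      have h4 := e.injective h3
      have := congrArg Subtype.val h4
      simpa using this

end Cfsg.Agent.Lib.Helper75
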