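import Cfsg.Agent.Lib.Helper75.DihSylow
import Cfsg.Agent.Lib.Helper4.DihedralAlperin
import Cfsg.Agent.S0514

/-!
# Groups with dihedral Sylow `2`-subgroups: the central involution and fusion of rotations
-/

set_option autoImplicit false
set_option linter.unusedSectionVars false
set_option linter.style.haveILetI false

universe u

namespace Cfsg.Agent.Lib.Helper75

open Cfsg

variable {G : Type u} [Group G] [Finite G] (P : Sylow 2 G) {n : ℕ} (hn : 3 ≤ n)
  (e : (P : Subgroup G) ≃* DihedralGroup (2 ^ (n - 1))) (σ : G) (hσ : σ ∈ (P : Subgroup G))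
  (hσo : orderOf σ = 2 ^ (n - 1))

include hn hσo in
theorem dih_J_sq : σ ^ 2 ^ (n - 2) * σ ^ 2 ^ (n - 2) = 1 := by
  rw [← pow_add, ← two_mul, ← pow_succ']
  have : n - 2 + 1 = n - 1 := by omega
  rw [this, ← hσo, pow_orderOf_eq_one]

include hn hσo in
theorem dih_J_ne_one : σ ^ 2 ^ (n - 2) ≠ 1 := by
  intro h
  have h1 := orderOf_dvd_of_pow_eq_one h
  rw [hσo] at h1
  have h2 := Nat.le_of_dvd (by positivity) h1
  have h3 : 2 ^ (n - 2) < 2 ^ (n - 1) := Nat.pow_lt_pow_right (by norm_num) (by omega)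
  omega

include hn hσo in
theorem dih_J_order : orderOf (σ ^ 2 ^ (n - 2)) = 2 := by
  apply orderOf_eq_prime
  · rw [sq]; exact dih_J_sq hn σ hσo
  · exact dih_J_ne_one hn σ hσo

include hn e hσ hσo in
theorem dih_le_centralizer_J :
    (P : Subgroup G) ≤ Subgroup.centralizer ({σ ^ 2 ^ (n - 2)} : Set G) := by
  intro x hx
  rw [Subgroup.mem_centralizer_singleton_iff]
  rcases dih_cases P hn e σ hσ hσo x hx with h | h
  · obtain ⟨k, rfl⟩ := Subgroup.mem_zpowers_iff.mp h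
    exact ((Commute.refl σ).zpow_left k).pow_right _ |>.eq
  · have h1 : x * σ ^ 2 ^ (n - 2) * x⁻¹ = (σ ^ 2 ^ (n - 2))⁻¹ := by
      rw [← conj_pow, h.1, inv_pow]
    have h2 : (σ ^ 2 ^ (n - 2))⁻¹ = σ ^ 2 ^ (n - 2) :=
      inv_eq_of_mul_eq_one_left (dih_J_sq hn σ hσo)
    rw [h2] at h1
    calc x * σ ^ 2 ^ (n - 2) = x * σ ^ 2 ^ (n - 2) * x⁻¹ * x := by group
      _ = σ ^ 2 ^ (n - 2) * x := by rw [h1]

include hn e in
theorem dih_factorization_card : (Nat.card G).factorization 2 = n := by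
  haveI : Fact (Nat.Prime 2) := ⟨Nat.prime_two⟩
  have h1 := P.card_eq_multiplicity
  rw [dih_card P hn e] at h1
  exact (Nat.pow_right_injective (le_refl 2) h1).symm

include hn e hσ hσo in
theorem dih_factorization_centralizer_J :
    (Nat.card (Subgroup.centralizer ({σ ^ 2 ^ (n - 2)} : Set G))).factorization 2 = n := by
  haveI : Fact (Nat.Prime 2) := ⟨Nat.prime_two⟩
  set C := Subgroup.centralizer ({σ ^ 2 ^ (n - 2)} : Set G) with hC
  have h1 : Nat.card (P : Subgroup G) ∣ Nat.card C :=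
    Subgroup.card_dvd_of_le (dih_le_centralizer_J P hn e σ hσ hσo)
  rw [dih_card P hn e] at h1
  have h2 : Nat.card C ∣ Nat.card G := Subgroup.card_subgroup_dvd_card C
  have hC0 : Nat.card C ≠ 0 := Nat.card_pos.ne'
  have hG0 : Nat.card G ≠ 0 := Nat.card_pos.ne'
  apply le_antisymm
  · rw [← dih_factorization_card P hn e]
    exact (Nat.factorization_le_iff_dvd hC0 hG0).mpr h2 2
  · exact (Nat.Prime.pow_dvd_iff_le_factorization Nat.prime_two hC0).mp h1

include hn e hσ hσo in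
theorem dih_index_pPrimeCore_centralizer_J :
    ∃ k : ℕ, (pPrimeCore 2 (Subgroup.centralizer ({σ ^ 2 ^ (n - 2)} : Set G))).index = 2 ^ k := by
  have h3 : 2 ≤ 2 ^ (n - 1) := by
    have := dih_three_le hn
    omega
  obtain ⟨N, hN, hodd, k, hk⟩ := Cfsg.Agent.S0514.result P (2 ^ (n - 1)) h3 ⟨e⟩
    (σ ^ 2 ^ (n - 2)) (dih_J_order hn σ hσo)
  have hcop : (Nat.card N).Coprime 2 := Nat.Coprime.symm (Nat.coprime_two_left.mpr hodd)
  have hle := Cfsg.Agent.Lib.Helper30.le_pPrimeCore 2 N hcop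
  have hdvd := Subgroup.index_dvd_of_le hle
  rw [hk] at hdvd
  obtain ⟨j, _, hj⟩ := (Nat.dvd_prime_pow Nat.prime_two).mp hdvd
  exact ⟨j, hj⟩

end Cfsg.Agent.Lib.Helper75
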