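import Cfsg.Agent.Lib.Helper75.DihFusion
import Cfsg.Agent.Lib.Helper75.DihSylow2
import Cfsg.Agent.Lib.Helper50.Basic

/-!
# Dihedral Sylow `2`-subgroups: involutions and `2`-elements
-/

set_option autoImplicit false
set_option linter.unusedSectionVars false
set_option linter.style.haveILetI false
set_option linter.unusedVariables false

universe u

namespace Cfsg.Agent.Lib.Helper75

open Cfsg

section general

variable {G : Type u} [Group G]

/-- The central involution of the dihedral group generated by two involutions whose product has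
even order. -/
theorem invol_center {x y : G} (hx : x * x = 1) (hy : y * y = 1) {r : ℕ} (hr0 : 0 < r)
    (hr : orderOf (x * y) = 2 * r) :
    (x * y) ^ r * (x * y) ^ r = 1 ∧ (x * y) ^ r ≠ 1 ∧ x * (x * y) ^ r = (x * y) ^ r * x ∧
      y * (x * y) ^ r = (x * y) ^ r * y ∧ (y ≠ 1 → (x * y) ^ r ≠ x) ∧
      (x ≠ 1 → (x * y) ^ r ≠ y) := by
  have hxi : x⁻¹ = x := inv_eq_of_mul_eq_one_right hx
  have hyi : y⁻¹ = y := inv_eq_of_mul_eq_one_right hy
  have h1 : (x * y) ^ r * (x * y) ^ r = 1 := by
    rw [← pow_add, ← two_mul, ← hr, pow_orderOf_eq_one]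
  have h2 : (x * y) ^ r ≠ 1 := by
    intro h
    have h3 := orderOf_dvd_of_pow_eq_one h
    rw [hr] at h3
    have := Nat.le_of_dvd hr0 h3
    omega
  have hzi : ((x * y) ^ r)⁻¹ = (x * y) ^ r := inv_eq_of_mul_eq_one_right h1
  have hinv : (x * y)⁻¹ = y * x := by
    rw [mul_inv_rev, hxi, hyi]
  have h3 : x * (x * y) ^ r * x⁻¹ = (x * y) ^ r := by
    rw [← conj_pow]
    have : x * (x * y) * x⁻¹ = (x * y)⁻¹ := by
      rw [hinv, hxi]
      calc x * (x * y) * x = (x * x) * y * x := by simp only [mul_assoc]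
        _ = y * x := by rw [hx, one_mul]
    rw [this, inv_pow, hzi]
  have h4 : y * (x * y) ^ r * y⁻¹ = (x * y) ^ r := by
    rw [← conj_pow]
    have : y * (x * y) * y⁻¹ = (x * y)⁻¹ := by
      rw [hinv, hyi]
      calc y * (x * y) * y = y * x * (y * y) := by simp only [mul_assoc]
        _ = y * x := by rw [hy, mul_one]
    rw [this, inv_pow, hzi]
  have h5 : x * (x * y) ^ r = (x * y) ^ r * x := by
    calc x * (x * y) ^ r = (x * (x * y) ^ r * x⁻¹) * x := by group
      _ = (x * y) ^ r * x := by rw [h3]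
  have h6 : y * (x * y) ^ r = (x * y) ^ r * y := by
    calc y * (x * y) ^ r = (y * (x * y) ^ r * y⁻¹) * y := by group
      _ = (x * y) ^ r * y := by rw [h4]
  -- if the central involution is `x` or `y` then `x` and `y` commute
  have key : ∀ w : G, (x * y) ^ r = w → w * (x * y) = (x * y) * w := by
    intro w hw
    rw [← hw]
    exact ((Commute.refl (x * y)).pow_left r).eq
  have hcomm_sq : x * y = y * x → r = 1 := by
    intro hc
    have h7 : (x * y) ^ 2 = 1 := by
      rw [pow_two]
      calc x * y * (x * y) = x * (y * x) * y := by simp only [mul_assoc]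
        _ = x * (x * y) * y := by rw [hc]
        _ = (x * x) * (y * y) := by simp only [mul_assoc]
        _ = 1 := by rw [hx, hy, one_mul]
    have h8 := orderOf_dvd_of_pow_eq_one h7
    rw [hr] at h8
    have := Nat.le_of_dvd (by norm_num) h8
    omega
  refine ⟨h1, h2, h5, h6, ?_, ?_⟩
  · intro hy1 h
    have h7 := key x h
    have hc : x * y = y * x := by
      have h8 : x * (x * y) = y := by rw [← mul_assoc, hx, one_mul]
      rw [h8] at h7
      calc x * y = x * (x * y * x) := by rw [← h7]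
        _ = (x * x) * y * x := by simp only [mul_assoc]
        _ = y * x := by rw [hx, one_mul]
    have hr1 := hcomm_sq hc
    rw [hr1, pow_one] at h
    apply hy1
    calc y = x⁻¹ * (x * y) := by group
      _ = x⁻¹ * x := by rw [h]
      _ = 1 := inv_mul_cancel x
  · intro hx1 h
    have h7 := key y h
    have hc : x * y = y * x := by
      have h8 : x * y * y = x := by rw [mul_assoc, hy, mul_one]
      rw [h8] at h7
      calc x * y = (y * (x * y)) * y := by rw [h7]
        _ = y * x * (y * y) := by simp only [mul_assoc]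
        _ = y * x := by rw [hy, mul_one]
    have hr1 := hcomm_sq hc
    rw [hr1, pow_one] at h
    apply hx1
    calc x = (x * y) * y⁻¹ := by group
      _ = y * y⁻¹ := by rw [h]
      _ = 1 := mul_inv_cancel y

/-- A subgroup generated by pairwise commuting elements of square one is a `2`-group. -/
theorem isPGroup_closure_of_comm_invol {k : Set G} (hcomm : ∀ x ∈ k, ∀ y ∈ k, x * y = y * x)
    (hsq : ∀ x ∈ k, x * x = 1) : IsPGroup 2 (Subgroup.closure k) := by
  haveI := Subgroup.isMulCommutative_closure hcomm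
  have h1 : ∀ g ∈ Subgroup.closure k, g * g = 1 := by
    intro g hg
    induction hg using Subgroup.closure_induction with
    | mem x hx => exact hsq x hx
    | one => exact one_mul 1
    | mul x y hx hy px py =>
      have hc : x * y = y * x := setLike_mul_comm hx hy
      calc x * y * (x * y) = x * (y * x) * y := by simp only [mul_assoc]
        _ = x * (x * y) * y := by rw [hc]
        _ = (x * x) * (y * y) := by simp only [mul_assoc]
        _ = 1 := by rw [px, py, one_mul]
    | inv x hx px =>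
      have : x⁻¹ = x := inv_eq_of_mul_eq_one_right px
      rw [this, px]
  intro g
  refine ⟨1, ?_⟩
  apply Subtype.ext
  rw [pow_one, pow_two, Subgroup.coe_mul, Subgroup.coe_one]
  exact h1 g.1 g.2

end general

variable {G : Type u} [Group G] [Finite G] (P : Sylow 2 G) {n : ℕ} (hn : 3 ≤ n)
  (e : (P : Subgroup G) ≃* DihedralGroup (2 ^ (n - 1))) (σ : G) (hσ : σ ∈ (P : Subgroup G))
  (hσo : orderOf σ = 2 ^ (n - 1))

include hn hσo in
/-- The only involution among the rotations is `J`. -/
theorem dih_rot_invol (x : G) (hx : x ∈ Subgroup.zpowers σ) (hx2 : x * x = 1) (hx1 : x ≠ 1) :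
    x = σ ^ 2 ^ (n - 2) := by
  classical
  rw [mem_zpowers_iff_mem_range_orderOf, Finset.mem_image] at hx
  obtain ⟨l, hl, rfl⟩ := hx
  rw [Finset.mem_range, hσo] at hl
  have hl0 : 0 < l := by
    rcases Nat.eq_zero_or_pos l with h | h
    · exfalso; apply hx1; rw [h, pow_zero]
    · exact h
  have h3 := (dih_pow_sq_eq_one_iff σ hσo l hl0 hl).mp hx2
  have h1 : 2 ^ (n - 1) = 2 * 2 ^ (n - 2) := by
    rw [← pow_succ']; congr 1; omega
  have h4 : l = 2 ^ (n - 2) := by omega
  rw [h4]

include hn hσo in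
theorem dih_sigma_sq_ne : σ * σ ≠ 1 := by
  intro h
  have h1 : orderOf σ ∣ 2 := orderOf_dvd_of_pow_eq_one (by rw [pow_two]; exact h)
  rw [hσo] at h1
  have h2 := Nat.le_of_dvd (by norm_num) h1
  have h3 : 2 ^ 2 ≤ 2 ^ (n - 1) := Nat.pow_le_pow_right (by norm_num) (by omega)
  omega

include hn e hσ hσo in
/-- Two distinct commuting involutions of `P`: one of them is `J`, or they differ by `J`. -/
theorem dih_comm_invol (x y : G) (hx : x ∈ (P : Subgroup G)) (hy : y ∈ (P : Subgroup G))
    (hx2 : x * x = 1) (hy2 : y * y = 1) (hx1 : x ≠ 1) (hy1 : y ≠ 1) (hxy : x * y = y * x)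
    (hne : x ≠ y) :
    x = σ ^ 2 ^ (n - 2) ∨ y = σ ^ 2 ^ (n - 2) ∨ x = σ ^ 2 ^ (n - 2) * y := by
  rcases dih_cases P hn e σ hσ hσo x hx with h | h
  · exact Or.inl (dih_rot_invol hn σ hσo x h hx2 hx1)
  rcases dih_cases P hn e σ hσ hσo y hy with h' | h'
  · exact Or.inr (Or.inl (dih_rot_invol hn σ hσo y h' hy2 hy1))
  right; right
  have hyi : y⁻¹ = y := inv_eq_of_mul_eq_one_right hy2
  have h1 : (x * y) * σ * (x * y)⁻¹ = σ := by
    calc (x * y) * σ * (x * y)⁻¹ = x * (y * σ * y⁻¹) * x⁻¹ := by group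
      _ = x * σ⁻¹ * x⁻¹ := by rw [h'.1]
      _ = (x * σ * x⁻¹)⁻¹ := by group
      _ = σ := by rw [h.1, inv_inv]
  have h2 : (x * y) * σ = σ * (x * y) := by
    calc (x * y) * σ = ((x * y) * σ * (x * y)⁻¹) * (x * y) := by group
      _ = σ * (x * y) := by rw [h1]
  have h3 : x * y ∈ Subgroup.zpowers σ :=
    dih_cent_mem P hn e σ hσ hσo (x * y) σ ((P : Subgroup G).mul_mem hx hy)
      (Subgroup.mem_zpowers σ) (dih_sigma_sq_ne hn σ hσo) h2
  have h4 : (x * y) * (x * y) = 1 := by
    calc x * y * (x * y) = x * (y * x) * y := by simp only [mul_assoc]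
      _ = x * (x * y) * y := by rw [hxy]
      _ = (x * x) * (y * y) := by simp only [mul_assoc]
      _ = 1 := by rw [hx2, hy2, one_mul]
  have h5 : x * y ≠ 1 := by
    intro h6
    apply hne
    calc x = (x * y) * y⁻¹ := by group
      _ = y := by rw [h6, one_mul, hyi]
  have h6 := dih_rot_invol hn σ hσo (x * y) h3 h4 h5
  calc x = (x * y) * y⁻¹ := by group
    _ = σ ^ 2 ^ (n - 2) * y := by rw [h6, hyi]

include hn e hσ hσo in
/-- **The `2`-rank is two**: three distinct pairwise commuting involutions multiply to `1`. -/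
theorem dih_rank (u v w : G) (hu2 : u * u = 1) (hv2 : v * v = 1) (hw2 : w * w = 1)
    (hu1 : u ≠ 1) (hv1 : v ≠ 1) (hw1 : w ≠ 1) (huv : u * v = v * u) (huw : u * w = w * u)
    (hvw : v * w = w * v) (hne1 : u ≠ v) (hne2 : u ≠ w) (hne3 : v ≠ w) : w = u * v := by
  haveI : Fact (Nat.Prime 2) := ⟨Nat.prime_two⟩
  have hE : IsPGroup 2 (Subgroup.closure ({u, v, w} : Set G)) := by
    apply isPGroup_closure_of_comm_invol
    · intro x hx y hy
      simp only [Set.mem_insert_iff, Set.mem_singleton_iff] at hx hy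
      rcases hx with rfl | rfl | rfl <;> rcases hy with rfl | rfl | rfl <;>
        first | rfl | assumption | (symm; assumption)
    · intro x hx
      simp only [Set.mem_insert_iff, Set.mem_singleton_iff] at hx
      rcases hx with rfl | rfl | rfl <;> assumption
  obtain ⟨a, ha⟩ := Cfsg.Agent.Lib.Helper50.exists_conj_mem_sylow P hE
  have huE : u ∈ Subgroup.closure ({u, v, w} : Set G) :=
    Subgroup.subset_closure (by simp)
  have hvE : v ∈ Subgroup.closure ({u, v, w} : Set G) :=
    Subgroup.subset_closure (by simp)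
  have hwE : w ∈ Subgroup.closure ({u, v, w} : Set G) :=
    Subgroup.subset_closure (by simp)
  have cj_sq : ∀ x : G, x * x = 1 → (a * x * a⁻¹) * (a * x * a⁻¹) = 1 := by
    intro x hx
    calc a * x * a⁻¹ * (a * x * a⁻¹) = a * (x * x) * a⁻¹ := by group
      _ = 1 := by rw [hx]; group
  have cj_ne : ∀ x y : G, x ≠ y → a * x * a⁻¹ ≠ a * y * a⁻¹ := by
    intro x y hxy h
    apply hxy
    calc x = a⁻¹ * (a * x * a⁻¹) * a := by group
      _ = a⁻¹ * (a * y * a⁻¹) * a := by rw [h]
      _ = y := by group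
  have cj_one : ∀ x : G, x ≠ 1 → a * x * a⁻¹ ≠ 1 := by
    intro x hx h
    apply hx
    calc x = a⁻¹ * (a * x * a⁻¹) * a := by group
      _ = 1 := by rw [h]; group
  have cj_comm : ∀ x y : G, x * y = y * x →
      (a * x * a⁻¹) * (a * y * a⁻¹) = (a * y * a⁻¹) * (a * x * a⁻¹) := by
    intro x y hxy
    calc a * x * a⁻¹ * (a * y * a⁻¹) = a * (x * y) * a⁻¹ := by group
      _ = a * (y * x) * a⁻¹ := by rw [hxy]
      _ = (a * y * a⁻¹) * (a * x * a⁻¹) := by group
  set J := σ ^ 2 ^ (n - 2) with hJ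
  have hJJ : J * J = 1 := dih_J_sq hn σ hσo
  set u' := a * u * a⁻¹ with hu'
  set v' := a * v * a⁻¹ with hv'
  set w' := a * w * a⁻¹ with hw'
  have key : w' = u' * v' := by
    have huv' := dih_comm_invol P hn e σ hσ hσo u' v' (ha u huE) (ha v hvE) (cj_sq u hu2)
      (cj_sq v hv2) (cj_one u hu1) (cj_one v hv1) (cj_comm u v huv) (cj_ne u v hne1)
    have huw' := dih_comm_invol P hn e σ hσ hσo u' w' (ha u huE) (ha w hwE) (cj_sq u hu2)
      (cj_sq w hw2) (cj_one u hu1) (cj_one w hw1) (cj_comm u w huw) (cj_ne u w hne2)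
    have hvw' := dih_comm_invol P hn e σ hσ hσo v' w' (ha v hvE) (ha w hwE) (cj_sq v hv2)
      (cj_sq w hw2) (cj_one v hv1) (cj_one w hw1) (cj_comm v w hvw) (cj_ne v w hne3)
    have n1 : u' ≠ v' := cj_ne u v hne1
    have n2 : u' ≠ w' := cj_ne u w hne2
    have n3 : v' ≠ w' := cj_ne v w hne3
    have hvv : v' * v' = 1 := cj_sq v hv2
    have hc : u' * v' = v' * u' := cj_comm u v huv
    rcases huv' with h | h | h
    · -- u' = J
      rcases hvw' with h' | h' | h'
      · exact absurd (h.trans h'.symm) n1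
      · exact absurd (h.trans h'.symm) n2
      · rw [h, h', ← mul_assoc, hJJ, one_mul]
    · -- v' = J
      rcases huw' with h' | h' | h'
      · exact absurd (h'.trans h.symm) n1
      · exact absurd (h.trans h'.symm) n3
      · rw [hc, h, h', ← mul_assoc, hJJ, one_mul]
    · -- u' = J v'
      rcases huw' with h' | h' | h'
      · rcases hvw' with h'' | h'' | h''
        · rw [h'', hJJ] at h
          exact absurd h (cj_one u hu1)
        · exact absurd (h'.trans h''.symm) n2
        · rw [h', h'', ← mul_assoc, hJJ, one_mul]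
      · rw [h, mul_assoc, hvv, mul_one, h']
      · exfalso
        apply n3
        have : J * v' = J * w' := h.symm.trans h'
        exact mul_left_cancel this
  calc w = a⁻¹ * w' * a := by rw [hw']; group
    _ = a⁻¹ * (u' * v') * a := by rw [key]
    _ = u * v := by rw [hu', hv']; group

variable (hone : ∀ x ∈ (P : Subgroup G), x * x = 1 → x ≠ 1 → IsConj (σ ^ 2 ^ (n - 2)) x)

include hone in
/-- With one class of involutions: every involution is conjugate to `J`. -/
theorem dih_invol_conj (x : G) (hx2 : x * x = 1) (hx1 : x ≠ 1) :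
    ∃ h : G, x = h * σ ^ 2 ^ (n - 2) * h⁻¹ := by
  haveI : Fact (Nat.Prime 2) := ⟨Nat.prime_two⟩
  have hE : IsPGroup 2 (Subgroup.zpowers x) := by
    apply IsPGroup.of_card (n := 1)
    rw [Nat.card_zpowers, pow_one]
    exact orderOf_eq_prime (by rw [pow_two]; exact hx2) hx1
  obtain ⟨a, ha⟩ := Cfsg.Agent.Lib.Helper50.exists_conj_mem_sylow P hE
  have h1 := ha x (Subgroup.mem_zpowers x)
  have h2 : (a * x * a⁻¹) * (a * x * a⁻¹) = 1 := by
    calc a * x * a⁻¹ * (a * x * a⁻¹) = a * (x * x) * a⁻¹ := by group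
      _ = 1 := by rw [hx2]; group
  have h3 : a * x * a⁻¹ ≠ 1 := by
    intro h
    apply hx1
    calc x = a⁻¹ * (a * x * a⁻¹) * a := by group
      _ = 1 := by rw [h]; group
  obtain ⟨c, hc⟩ := isConj_iff.mp (hone _ h1 h2 h3)
  refine ⟨a⁻¹ * c, ?_⟩
  calc x = a⁻¹ * (a * x * a⁻¹) * a := by group
    _ = a⁻¹ * (c * σ ^ 2 ^ (n - 2) * c⁻¹) * a := by rw [hc]
    _ = a⁻¹ * c * σ ^ 2 ^ (n - 2) * (a⁻¹ * c)⁻¹ := by group

include hn e hσ hσo hone in
/-- With one class of involutions: every `2`-element is conjugate to a rotation. -/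
theorem dih_two_element_conj (u : G) (hu : ∃ k : ℕ, orderOf u = 2 ^ k) :
    ∃ (h : G) (l : ℕ), u = h * σ ^ l * h⁻¹ := by
  haveI : Fact (Nat.Prime 2) := ⟨Nat.prime_two⟩
  obtain ⟨k, hk⟩ := hu
  have hE : IsPGroup 2 (Subgroup.zpowers u) := by
    apply IsPGroup.of_card (n := k)
    rw [Nat.card_zpowers, hk]
  obtain ⟨a, ha⟩ := Cfsg.Agent.Lib.Helper50.exists_conj_mem_sylow P hE
  have h1 := ha u (Subgroup.mem_zpowers u)
  have hback : u = a⁻¹ * (a * u * a⁻¹) * a := by group
  rcases dih_cases P hn e σ hσ hσo _ h1 with h | h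
  · rw [← mem_powers_iff_mem_zpowers, Submonoid.mem_powers_iff] at h
    obtain ⟨l, hl⟩ := h
    refine ⟨a⁻¹, l, ?_⟩
    rw [hl, inv_inv]
    exact hback
  · by_cases h3 : a * u * a⁻¹ = 1
    · refine ⟨1, 0, ?_⟩
      rw [hback, h3]
      group
    · obtain ⟨c, hc⟩ := isConj_iff.mp (hone _ h1 h.2 h3)
      refine ⟨a⁻¹ * c, 2 ^ (n - 2), ?_⟩
      calc u = a⁻¹ * (a * u * a⁻¹) * a := hback
        _ = a⁻¹ * (c * σ ^ 2 ^ (n - 2) * c⁻¹) * a := by rw [hc]
        _ = a⁻¹ * c * σ ^ 2 ^ (n - 2) * (a⁻¹ * c)⁻¹ := by group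

include hn e hσ hσo in
/-- **Uniqueness of the central involution**: an involution `z`, different from the involutions
`x` and `y` and commuting with both, is the central involution of `⟨x, y⟩` when `x y` has even
order. -/
theorem dih_unique_center (x y z : G) (hx2 : x * x = 1) (hy2 : y * y = 1) (hz2 : z * z = 1)
    (hx1 : x ≠ 1) (hy1 : y ≠ 1) (hz1 : z ≠ 1) (hzx : z ≠ x) (hzy : z ≠ y)
    (hcx : x * z = z * x) (hcy : y * z = z * y) {r : ℕ} (hr0 : 0 < r)
    (hr : orderOf (x * y) = 2 * r) : z = (x * y) ^ r := by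
  obtain ⟨h1, h2, h3, h4, h5, h6⟩ := invol_center hx2 hy2 hr0 hr
  by_contra hne
  set z₀ := (x * y) ^ r with hz₀
  have hzz₀ : z * z₀ = z₀ * z := by
    have : Commute z (x * y) := by
      show z * (x * y) = x * y * z
      calc z * (x * y) = (z * x) * y := by rw [mul_assoc]
        _ = (x * z) * y := by rw [hcx]
        _ = x * (z * y) := by rw [mul_assoc]
        _ = x * (y * z) := by rw [hcy]
        _ = x * y * z := by rw [mul_assoc]
    exact (this.pow_right r).eq
  -- z = z₀ * x
  have e1 := dih_rank P hn e σ hσ hσo z₀ x z h1 hx2 hz2 h2 hx1 hz1 h3.symm hzz₀.symm hcx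
    (h5 hy1) (fun h => hne h.symm) (fun h => hzx h.symm)
  have e2 := dih_rank P hn e σ hσ hσo z₀ y z h1 hy2 hz2 h2 hy1 hz1 h4.symm hzz₀.symm hcy
    (h6 hx1) (fun h => hne h.symm) (fun h => hzy h.symm)
  have hxy : x = y := mul_left_cancel (e1.symm.trans e2)
  rw [← hxy, hx2, orderOf_one] at hr
  omega

end Cfsg.Agent.Lib.Helper75
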