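import Cfsg.Agent.Lib.Helper75.DihCount2

/-!
# Dihedral Sylow `2`-subgroups: the involutions of the centralizer of the central involution
-/

set_option autoImplicit false
set_option linter.unusedSectionVars false
set_option linter.style.haveILetI false
set_option linter.unusedVariables false
set_option maxHeartbeats 1000000

universe u

namespace Cfsg.Agent.Lib.Helper75

open Cfsg

section general

variable {G : Type u} [Group G]

/-- In a group with a normal complement `N` of `S`, elements of `S` conjugate in the group are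
conjugate in `S`. -/
theorem conj_mem_of_complement {S N : Subgroup G} [hN : N.Normal] (hc : N.IsComplement' S)
    (x y : G) (hx : x ∈ S) (hy : y ∈ S) (g : G) (hg : g * x * g⁻¹ = y) :
    ∃ s ∈ S, s * x * s⁻¹ = y := by
  have hdisj : N ⊓ S = ⊥ := disjoint_iff.mp hc.disjoint
  obtain ⟨⟨⟨k, hk⟩, ⟨s, hs⟩⟩, hks⟩ := (hc.existsUnique g).exists
  simp only at hks
  refine ⟨s, hs, ?_⟩
  have hx'S : s * x * s⁻¹ ∈ S := S.mul_mem (S.mul_mem hs hx) (S.inv_mem hs)
  have h1 : k * (s * x * s⁻¹) * k⁻¹ = y := by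
    rw [← hg, ← hks]; group
  have h2 : y * (s * x * s⁻¹)⁻¹ ∈ N ⊓ S := by
    refine Subgroup.mem_inf.mpr ⟨?_, S.mul_mem hy (S.inv_mem hx'S)⟩
    rw [← h1]
    have : k * (s * x * s⁻¹) * k⁻¹ * (s * x * s⁻¹)⁻¹ =
        k * ((s * x * s⁻¹) * k⁻¹ * (s * x * s⁻¹)⁻¹) := by group
    rw [this]
    exact N.mul_mem hk (hN.conj_mem _ (N.inv_mem hk) _)
  rw [hdisj, Subgroup.mem_bot] at h2
  calc s * x * s⁻¹ = (y * (s * x * s⁻¹)⁻¹)⁻¹ * y := by group
    _ = y := by rw [h2, inv_one, one_mul]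

variable [Fintype G] [DecidableEq G]

theorem card_centralizer_singleton_eq (J : G) :
    Nat.card (Subgroup.centralizer ({J} : Set G)) =
      (Finset.univ.filter (fun h : G => h * J = J * h)).card := by
  have h1 : Nat.card (Subgroup.centralizer ({J} : Set G)) = Nat.card {h : G // h * J = J * h} :=
    Nat.card_congr (Equiv.subtypeEquivRight (fun x => Subgroup.mem_centralizer_singleton_iff))
  rw [h1, Nat.card_eq_fintype_card, Fintype.card_subtype]

theorem card_centralizer_pair_eq (J t : G) :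
    Nat.card (Subgroup.centralizer ({J, t} : Set G)) =
      (Finset.univ.filter (fun g : G => g * J = J * g ∧ g * t = t * g)).card := by
  have h1 : Nat.card (Subgroup.centralizer ({J, t} : Set G)) =
      Nat.card {g : G // g * J = J * g ∧ g * t = t * g} := by
    refine Nat.card_congr (Equiv.subtypeEquivRight (fun x => ?_))
    rw [Subgroup.mem_centralizer_iff]
    constructor
    · intro h
      exact ⟨(h J (by simp)).symm, (h t (by simp)).symm⟩
    · rintro ⟨h1, h2⟩ y hy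
      simp only [Set.mem_insert_iff, Set.mem_singleton_iff] at hy
      rcases hy with rfl | rfl
      · exact h1.symm
      · exact h2.symm
  rw [h1, Nat.card_eq_fintype_card, Fintype.card_subtype]

open Classical in
/-- Orbit-stabilizer for the conjugation action of `C(J)` on the class of `t`. -/
theorem card_conj_under (J t : G) :
    (Finset.univ.filter (fun x : G => ∃ h : G, h * J = J * h ∧ h * t * h⁻¹ = x)).card *
      (Finset.univ.filter (fun g : G => g * J = J * g ∧ g * t = t * g)).card =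
    (Finset.univ.filter (fun h : G => h * J = J * h)).card := by
  set A := Finset.univ.filter (fun x : G => ∃ h : G, h * J = J * h ∧ h * t * h⁻¹ = x) with hA
  set Cf := Finset.univ.filter (fun g : G => g * J = J * g ∧ g * t = t * g) with hCf
  set Hf := Finset.univ.filter (fun h : G => h * J = J * h) with hHf
  have hmaps : ∀ h ∈ Hf, h * t * h⁻¹ ∈ A := by
    intro h hh
    rw [hA, Finset.mem_filter]
    exact ⟨Finset.mem_univ _, h, (Finset.mem_filter.mp hh).2, rfl⟩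
  rw [Finset.card_eq_sum_card_fiberwise hmaps]
  rw [Finset.sum_congr rfl fun x hx => ?_, Finset.sum_const, smul_eq_mul]
  obtain ⟨h₀, hh₀, hx⟩ := (Finset.mem_filter.mp hx).2
  symm
  apply Finset.card_nbij' (fun g => h₀ * g) (fun h => h₀⁻¹ * h)
  · intro g hg
    obtain ⟨hg1, hg2⟩ := (Finset.mem_filter.mp hg).2
    rw [Finset.mem_coe, Finset.mem_filter, hHf, Finset.mem_filter]
    refine ⟨⟨Finset.mem_univ _, ?_⟩, ?_⟩
    · calc h₀ * g * J = h₀ * (g * J) := by rw [mul_assoc]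
        _ = h₀ * (J * g) := by rw [hg1]
        _ = (h₀ * J) * g := by rw [mul_assoc]
        _ = (J * h₀) * g := by rw [hh₀]
        _ = J * (h₀ * g) := by rw [mul_assoc]
    · calc h₀ * g * t * (h₀ * g)⁻¹ = h₀ * ((g * t) * g⁻¹) * h₀⁻¹ := by group
        _ = h₀ * ((t * g) * g⁻¹) * h₀⁻¹ := by rw [hg2]
        _ = h₀ * t * h₀⁻¹ := by group
        _ = x := hx
  · intro h hh
    obtain ⟨hh1, hh2⟩ := Finset.mem_filter.mp hh
    have hh3 : h * J = J * h := (Finset.mem_filter.mp hh1).2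
    rw [Finset.mem_coe, hCf, Finset.mem_filter]
    beta_reduce
    have hi : h₀⁻¹ * J = J * h₀⁻¹ := by
      calc h₀⁻¹ * J = h₀⁻¹ * (J * h₀) * h₀⁻¹ := by group
        _ = h₀⁻¹ * (h₀ * J) * h₀⁻¹ := by rw [hh₀]
        _ = J * h₀⁻¹ := by group
    refine ⟨Finset.mem_univ _, ?_, ?_⟩
    · calc h₀⁻¹ * h * J = h₀⁻¹ * (h * J) := by rw [mul_assoc]
        _ = h₀⁻¹ * (J * h) := by rw [hh3]
        _ = (h₀⁻¹ * J) * h := by rw [mul_assoc]
        _ = (J * h₀⁻¹) * h := by rw [hi]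
        _ = J * (h₀⁻¹ * h) := by rw [mul_assoc]
    · have h5 : h * t * h⁻¹ = h₀ * t * h₀⁻¹ := hh2.trans hx.symm
      calc h₀⁻¹ * h * t = h₀⁻¹ * (h * t * h⁻¹) * h := by group
        _ = h₀⁻¹ * (h₀ * t * h₀⁻¹) * h := by rw [h5]
        _ = t * (h₀⁻¹ * h) := by group
  · intro g _
    show h₀⁻¹ * (h₀ * g) = g
    group
  · intro h _
    show h₀ * (h₀⁻¹ * h) = h
    group

end general

section refl

variable {G : Type u} [Group G] [Finite G] (P : Sylow 2 G) {n : ℕ} (hn : 3 ≤ n)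
  (e : (P : Subgroup G) ≃* DihedralGroup (2 ^ (n - 1))) (σ : G) (hσ : σ ∈ (P : Subgroup G))
  (hσo : orderOf σ = 2 ^ (n - 1)) (τ : G) (hτ : τ ∈ (P : Subgroup G))
  (hrel : τ * σ * τ⁻¹ = σ⁻¹)

include hn e hσ hσo in
/-- Basic facts on the reflections of `P`. -/
theorem dih_refl_facts (t : G) (ht : t ∈ (P : Subgroup G)) (hinv : t * σ * t⁻¹ = σ⁻¹) :
    t * t = 1 ∧ t ≠ 1 ∧ t ≠ σ ^ 2 ^ (n - 2) ∧ t ∉ Subgroup.zpowers σ := by
  have h1 : t ∉ Subgroup.zpowers σ := by
    intro h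
    obtain ⟨k, rfl⟩ := Subgroup.mem_zpowers_iff.mp h
    have h2 : σ ^ k * σ * (σ ^ k)⁻¹ = σ := by
      have : Commute (σ ^ k) σ := (Commute.refl σ).zpow_left k
      rw [this.eq]; group
    rw [h2] at hinv
    apply dih_sigma_sq_ne hn σ hσo
    calc σ * σ = σ * σ⁻¹ := by rw [← hinv]
      _ = 1 := mul_inv_cancel σ
  refine ⟨?_, ?_, ?_, h1⟩
  · rcases dih_cases P hn e σ hσ hσo t ht with h | h
    · exact absurd h h1
    · exact h.2
  · intro h
    apply h1
    rw [h]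
    exact Subgroup.one_mem _
  · intro h
    apply h1
    rw [h]
    exact Subgroup.pow_mem _ (Subgroup.mem_zpowers σ) _

include hrel in
theorem dih_tau_zpow (j : ℤ) : τ * σ ^ j = σ ^ (-j) * τ := by
  have h1 : τ * σ ^ j * τ⁻¹ = σ ^ (-j) := by
    rw [← conj_zpow, hrel, inv_zpow']
  calc τ * σ ^ j = (τ * σ ^ j * τ⁻¹) * τ := by group
    _ = σ ^ (-j) * τ := by rw [h1]

include hn e hσ hσo hτ hrel in
/-- Every reflection of `P` is of the form `σ ^ k * τ`. -/
theorem dih_refl_form (y : G) (hy : y ∈ (P : Subgroup G)) (hinv : y * σ * y⁻¹ = σ⁻¹) :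
    ∃ k : ℤ, y = σ ^ k * τ := by
  obtain ⟨hτ2, _, _, _⟩ := dih_refl_facts P hn e σ hσ hσo τ hτ hrel
  have hτi : τ⁻¹ = τ := inv_eq_of_mul_eq_one_right hτ2
  have h1 : (y * τ) * σ * (y * τ)⁻¹ = σ := by
    calc (y * τ) * σ * (y * τ)⁻¹ = y * (τ * σ * τ⁻¹) * y⁻¹ := by group
      _ = y * σ⁻¹ * y⁻¹ := by rw [hrel]
      _ = (y * σ * y⁻¹)⁻¹ := by group
      _ = σ := by rw [hinv, inv_inv]
  have h2 : (y * τ) * σ = σ * (y * τ) := by
    calc (y * τ) * σ = ((y * τ) * σ * (y * τ)⁻¹) * (y * τ) := by group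
      _ = σ * (y * τ) := by rw [h1]
  have h3 : y * τ ∈ Subgroup.zpowers σ :=
    dih_cent_mem P hn e σ hσ hσo (y * τ) σ ((P : Subgroup G).mul_mem hy hτ)
      (Subgroup.mem_zpowers σ) (dih_sigma_sq_ne hn σ hσo) h2
  obtain ⟨k, hk⟩ := Subgroup.mem_zpowers_iff.mp h3
  refine ⟨k, ?_⟩
  calc y = (y * τ) * τ⁻¹ := by group
    _ = σ ^ k * τ := by rw [← hk, hτi]

include hn e hσ hσo hτ hrel in
/-- Conjugation in `P` preserves the parity of the exponent of a reflection. -/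
theorem dih_conj_refl (p : G) (hp : p ∈ (P : Subgroup G)) (j : ℤ) :
    ∃ m : ℤ, p * (σ ^ j * τ) * p⁻¹ = σ ^ (j + 2 * m) * τ := by
  obtain ⟨hτ2, _, _, _⟩ := dih_refl_facts P hn e σ hσ hσo τ hτ hrel
  have hτi : τ⁻¹ = τ := inv_eq_of_mul_eq_one_right hτ2
  rcases dih_cases P hn e σ hσ hσo p hp with h | h
  · obtain ⟨k, rfl⟩ := Subgroup.mem_zpowers_iff.mp h
    refine ⟨k, ?_⟩
    calc σ ^ k * (σ ^ j * τ) * (σ ^ k)⁻¹ = σ ^ k * σ ^ j * (τ * σ ^ (-k)) := by
          rw [zpow_neg]; group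
      _ = σ ^ k * σ ^ j * (σ ^ (-(-k)) * τ) := by rw [dih_tau_zpow σ τ hrel]
      _ = σ ^ (j + 2 * k) * τ := by
          rw [neg_neg, ← mul_assoc, ← zpow_add, ← zpow_add]
          congr 2
          ring
  · obtain ⟨k, rfl⟩ := dih_refl_form P hn e σ hσ hσo τ hτ hrel p hp h.1
    refine ⟨k - j, ?_⟩
    calc σ ^ k * τ * (σ ^ j * τ) * (σ ^ k * τ)⁻¹
        = σ ^ k * (τ * σ ^ (j - k)) * (τ * τ⁻¹) := by
          rw [zpow_sub]; group
      _ = σ ^ k * (σ ^ (-(j - k)) * τ) := by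
          rw [mul_inv_cancel, mul_one, dih_tau_zpow σ τ hrel]
      _ = σ ^ (j + 2 * (k - j)) * τ := by
          rw [← mul_assoc, ← zpow_add]
          congr 2
          ring

include hn e hσ hσo hτ hrel in
/-- `τ` and `σ τ` are not conjugate in `P`. -/
theorem dih_tau_not_conj (p : G) (hp : p ∈ (P : Subgroup G)) : p * (σ * τ) * p⁻¹ ≠ τ := by
  intro h
  obtain ⟨m, hm⟩ := dih_conj_refl P hn e σ hσ hσo τ hτ hrel p hp 1
  rw [zpow_one, h] at hm
  have h1 : σ ^ (1 + 2 * m) = 1 := by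
    calc σ ^ (1 + 2 * m) = (σ ^ (1 + 2 * m) * τ) * τ⁻¹ := by group
      _ = 1 := by rw [← hm, mul_inv_cancel]
  have h2 := (orderOf_dvd_iff_zpow_eq_one).mpr h1
  rw [hσo] at h2
  have h3 : (2 : ℤ) ∣ ((2 ^ (n - 1) : ℕ) : ℤ) := by
    have : (2 : ℕ) ∣ 2 ^ (n - 1) := dvd_pow_self 2 (by omega)
    exact_mod_cast this
  have h4 := dvd_trans h3 h2
  omega

include hn e hσ hσo hτ hrel in
/-- Every reflection of `P` is conjugate to `τ` or to `σ τ` under a rotation. -/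
theorem dih_refl_conj (y : G) (hy : y ∈ (P : Subgroup G)) (hinv : y * σ * y⁻¹ = σ⁻¹) :
    ∃ c ∈ Subgroup.zpowers σ, y = c * τ * c⁻¹ ∨ y = c * (σ * τ) * c⁻¹ := by
  obtain ⟨k, rfl⟩ := dih_refl_form P hn e σ hσ hσo τ hτ hrel y hy hinv
  obtain ⟨m, hm | hm⟩ := Int.even_or_odd' k
  · refine ⟨σ ^ m, Subgroup.zpow_mem_zpowers σ m, Or.inl ?_⟩
    calc σ ^ k * τ = σ ^ m * (σ ^ (-(-m)) * τ) := by
          rw [neg_neg, ← mul_assoc, ← zpow_add, hm]
          congr 2
          ring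
      _ = σ ^ m * (τ * σ ^ (-m)) := by rw [dih_tau_zpow σ τ hrel]
      _ = σ ^ m * τ * (σ ^ m)⁻¹ := by rw [zpow_neg]; group
  · refine ⟨σ ^ m, Subgroup.zpow_mem_zpowers σ m, Or.inr ?_⟩
    calc σ ^ k * τ = σ ^ m * σ * (σ ^ (-(-m)) * τ) := by
          rw [neg_neg, ← mul_assoc, hm]
          congr 1
          rw [mul_assoc, ← zpow_one_add, ← zpow_add]
          congr 1
          ring
      _ = σ ^ m * σ * (τ * σ ^ (-m)) := by rw [dih_tau_zpow σ τ hrel]
      _ = σ ^ m * (σ * τ) * (σ ^ m)⁻¹ := by rw [zpow_neg]; group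

end refl

end Cfsg.Agent.Lib.Helper75
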