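import Mathlib

/-!
# Integer vectors of small norm
-/

set_option autoImplicit false
set_option linter.unusedSectionVars false

namespace Cfsg.Agent.Lib.Helper75

variable {ι : Type*} [DecidableEq ι]

theorem int_pm_one_of_sq_le_three {z : ℤ} (h0 : z ≠ 0) (h : z ^ 2 ≤ 3) : z = 1 ∨ z = -1 := by
  have h1 : -2 < z := by nlinarith
  have h2 : z < 2 := by nlinarith
  omega

/-- A vector with positive norm has a nonzero entry; remove it. -/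
theorem exists_ne_zero_of_sq_sum (Y : Finset ι) (f : ι → ℤ) {k : ℤ} (hk : 0 < k)
    (h : ∑ x ∈ Y, f x ^ 2 = k) :
    ∃ a ∈ Y, f a ≠ 0 ∧ f a ^ 2 ≤ k ∧ ∑ x ∈ Y.erase a, f x ^ 2 = k - f a ^ 2 := by
  have h1 : ∃ a ∈ Y, f a ^ 2 ≠ 0 := by
    by_contra hcon
    have : ∑ x ∈ Y, f x ^ 2 = 0 := Finset.sum_eq_zero fun x hx => by
      by_contra h'
      exact hcon ⟨x, hx, h'⟩
    omega
  obtain ⟨a, ha, hfa⟩ := h1
  have h2 := Finset.add_sum_erase Y (fun x => f x ^ 2) ha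
  have h3 : 0 ≤ ∑ x ∈ Y.erase a, f x ^ 2 := Finset.sum_nonneg fun x _ => sq_nonneg _
  refine ⟨a, ha, fun h0 => hfa (by rw [h0]; ring), ?_, ?_⟩
  · omega
  · omega

theorem sq_sum_zero (Y : Finset ι) (f : ι → ℤ) (h : ∑ x ∈ Y, f x ^ 2 = 0) :
    ∀ x ∈ Y, f x = 0 := by
  intro x hx
  have h1 := (Finset.sum_eq_zero_iff_of_nonneg (fun x _ => sq_nonneg (f x))).mp h x hx
  exact pow_eq_zero_iff (by norm_num) |>.mp h1

theorem sq_sum_one (Y : Finset ι) (f : ι → ℤ) (h : ∑ x ∈ Y, f x ^ 2 = 1) :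
    ∃ a ∈ Y, (f a = 1 ∨ f a = -1) ∧ ∀ x ∈ Y, x ≠ a → f x = 0 := by
  obtain ⟨a, ha, h0, hle, hrest⟩ := exists_ne_zero_of_sq_sum Y f (by norm_num) h
  have hpm := int_pm_one_of_sq_le_three h0 (by omega)
  have hsq : f a ^ 2 = 1 := by rcases hpm with h | h <;> rw [h] <;> norm_num
  rw [hsq] at hrest
  have hz := sq_sum_zero (Y.erase a) f (by omega)
  exact ⟨a, ha, hpm, fun x hx hxa => hz x (Finset.mem_erase.mpr ⟨hxa, hx⟩)⟩

theorem sq_sum_two (Y : Finset ι) (f : ι → ℤ) (h : ∑ x ∈ Y, f x ^ 2 = 2) :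
    ∃ a ∈ Y, ∃ b ∈ Y, a ≠ b ∧ (f a = 1 ∨ f a = -1) ∧ (f b = 1 ∨ f b = -1) ∧
      ∀ x ∈ Y, x ≠ a → x ≠ b → f x = 0 := by
  obtain ⟨a, ha, h0, hle, hrest⟩ := exists_ne_zero_of_sq_sum Y f (by norm_num) h
  have hpm := int_pm_one_of_sq_le_three h0 (by omega)
  have hsq : f a ^ 2 = 1 := by rcases hpm with h | h <;> rw [h] <;> norm_num
  rw [hsq] at hrest
  obtain ⟨b, hb, hbpm, hbz⟩ := sq_sum_one (Y.erase a) f (by omega)
  refine ⟨a, ha, b, Finset.mem_of_mem_erase hb, (Finset.ne_of_mem_erase hb).symm, hpm, hbpm, ?_⟩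
  intro x hx hxa hxb
  exact hbz x (Finset.mem_erase.mpr ⟨hxa, hx⟩) hxb

theorem sq_sum_three (Y : Finset ι) (f : ι → ℤ) (h : ∑ x ∈ Y, f x ^ 2 = 3) :
    ∃ a ∈ Y, ∃ b ∈ Y, ∃ c ∈ Y, a ≠ b ∧ a ≠ c ∧ b ≠ c ∧ (f a = 1 ∨ f a = -1) ∧
      (f b = 1 ∨ f b = -1) ∧ (f c = 1 ∨ f c = -1) ∧
      ∀ x ∈ Y, x ≠ a → x ≠ b → x ≠ c → f x = 0 := by
  obtain ⟨a, ha, h0, hle, hrest⟩ := exists_ne_zero_of_sq_sum Y f (by norm_num) h
  have hpm := int_pm_one_of_sq_le_three h0 (by omega)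
  have hsq : f a ^ 2 = 1 := by rcases hpm with h | h <;> rw [h] <;> norm_num
  rw [hsq] at hrest
  obtain ⟨b, hb, c, hc, hbc, hbpm, hcpm, hz⟩ := sq_sum_two (Y.erase a) f (by omega)
  refine ⟨a, ha, b, Finset.mem_of_mem_erase hb, c, Finset.mem_of_mem_erase hc,
    (Finset.ne_of_mem_erase hb).symm, (Finset.ne_of_mem_erase hc).symm, hbc, hpm, hbpm, hcpm, ?_⟩
  intro x hx hxa hxb hxc
  exact hz x (Finset.mem_erase.mpr ⟨hxa, hx⟩) hxb hxc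

/-- every entry of a vector of norm at most three is `0` or `±1`. -/
theorem entry_of_sq_sum_le_three (Y : Finset ι) (f : ι → ℤ) (h : ∑ x ∈ Y, f x ^ 2 ≤ 3)
    (x : ι) (hx : x ∈ Y) : f x = 0 ∨ f x = 1 ∨ f x = -1 := by
  have h1 : f x ^ 2 ≤ ∑ y ∈ Y, f y ^ 2 :=
    Finset.single_le_sum (f := fun y => f y ^ 2) (fun y _ => sq_nonneg _) hx
  by_cases h0 : f x = 0
  · left; exact h0
  · right; exact int_pm_one_of_sq_le_three h0 (by omega)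

end Cfsg.Agent.Lib.Helper75
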