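import Cfsg.Agent.Lib.Helper75.DihLattice

/-!
# The lattice analysis for the principal block of a group with dihedral Sylow `2`-subgroups
-/

set_option autoImplicit false
set_option linter.unusedSectionVars false
set_option linter.unusedVariables false

namespace Cfsg.Agent.Lib.Helper75

variable {ι : Type*} [DecidableEq ι]

/-- The hypotheses of the lattice analysis. -/
structure LatHyp (X : Finset ι) (N : ℕ) (d : ι → ℕ → ℤ) (deg : ι → ℤ) (x₀ : ι) : Prop where
  hN2 : 2 ≤ N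
  hN3 : N ≠ 3
  hx₀ : x₀ ∈ X
  hd₀ : ∀ i, 1 ≤ i → i ≤ N → d x₀ i = 1
  hdeg₀ : deg x₀ = 1
  hpos : ∀ x ∈ X, 0 < deg x
  hgram : ∀ i j, 1 ≤ i → i ≤ N → 1 ≤ j → j ≤ N →
    ∑ x ∈ X, d x i * d x j = 2 + (if i = j then 1 else 0) + (if i = N ∧ j = N then 1 else 0)
  hdeg : ∀ i, 1 ≤ i → i ≤ N → ∑ x ∈ X, deg x * d x i = 0

namespace LatHyp

variable {X : Finset ι} {N : ℕ} {d : ι → ℕ → ℤ} {deg : ι → ℤ} {x₀ : ι}
  (H : LatHyp X N d deg x₀)

include H

theorem gramY (i j : ℕ) (hi1 : 1 ≤ i) (hi : i ≤ N) (hj1 : 1 ≤ j) (hj : j ≤ N) :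
    ∑ x ∈ X.erase x₀, d x i * d x j =
      1 + (if i = j then 1 else 0) + (if i = N ∧ j = N then 1 else 0) := by
  have h1 := Finset.add_sum_erase X (fun x => d x i * d x j) H.hx₀
  rw [H.hd₀ i hi1 hi, H.hd₀ j hj1 hj, H.hgram i j hi1 hi hj1 hj] at h1
  linarith

theorem degY (i : ℕ) (hi1 : 1 ≤ i) (hi : i ≤ N) :
    ∑ x ∈ X.erase x₀, deg x * d x i = -1 := by
  have h1 := Finset.add_sum_erase X (fun x => deg x * d x i) H.hx₀
  rw [H.hd₀ i hi1 hi, H.hdeg₀, H.hdeg i hi1 hi] at h1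
  linarith

theorem normY_lt (i : ℕ) (hi1 : 1 ≤ i) (hi : i < N) :
    ∑ x ∈ X.erase x₀, d x i ^ 2 = 2 := by
  have h1 := H.gramY i i hi1 hi.le hi1 hi.le
  rw [if_pos rfl, if_neg (by omega)] at h1
  have h2 : ∑ x ∈ X.erase x₀, d x i ^ 2 = ∑ x ∈ X.erase x₀, d x i * d x i :=
    Finset.sum_congr rfl fun x _ => by ring
  rw [h2, h1]; norm_num

theorem normY_N : ∑ x ∈ X.erase x₀, d x N ^ 2 = 3 := by
  have h1 := H.gramY N N (by have := H.hN2; omega) le_rfl (by have := H.hN2; omega) le_rfl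
  rw [if_pos rfl, if_pos ⟨rfl, rfl⟩] at h1
  have h2 : ∑ x ∈ X.erase x₀, d x N ^ 2 = ∑ x ∈ X.erase x₀, d x N * d x N :=
    Finset.sum_congr rfl fun x _ => by ring
  rw [h2, h1]; norm_num

theorem entryN (x : ι) (hx : x ∈ X.erase x₀) : d x N = 0 ∨ d x N = 1 ∨ d x N = -1 :=
  entry_of_sq_sum_le_three (X.erase x₀) (fun x => d x N) (by rw [H.normY_N]) x hx

/-- Step 1: the shape of the `i`-th vector relative to the `N`-th. -/
theorem step1 (i : ℕ) (hi1 : 1 ≤ i) (hi : i < N) :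
    ∃ a b, a ∈ X.erase x₀ ∧ b ∈ X.erase x₀ ∧ a ≠ b ∧ (d a i = 1 ∨ d a i = -1) ∧
      d a N = d a i ∧ (d b i = 1 ∨ d b i = -1) ∧ d b N = 0 ∧
      ∀ x ∈ X.erase x₀, x ≠ a → x ≠ b → d x i = 0 := by
  obtain ⟨a, ha, b, hb, hab, hpa, hpb, hz⟩ :=
    sq_sum_two (X.erase x₀) (fun x => d x i) (H.normY_lt i hi1 hi)
  have h1 := H.gramY i N hi1 hi.le (by omega) le_rfl
  rw [if_neg (by omega), if_neg (by omega)] at h1
  have h2 : ∑ x ∈ X.erase x₀, d x i * d x N = d a i * d a N + d b i * d b N := by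
    apply Finset.sum_eq_add_of_mem a b ha hb hab
    intro c hc hcab
    have : d c i = 0 := hz c hc hcab.1 hcab.2
    rw [this, zero_mul]
  rw [h2] at h1
  have haN := H.entryN a ha
  have hbN := H.entryN b hb
  by_cases hcase : d a N = 0
  · -- then `b` is the common element
    refine ⟨b, a, hb, ha, hab.symm, hpb, ?_, hpa, hcase, ?_⟩
    · rw [hcase] at h1
      rcases hpb with h | h <;> rcases hbN with h' | h' | h' <;> rw [h, h'] at h1 <;> omega
    · intro x hx hxb hxa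
      exact hz x hx hxa hxb
  · refine ⟨a, b, ha, hb, hab, hpa, ?_, hpb, ?_, hz⟩
    · rcases hpa with h | h <;> rcases haN with h' | h' | h' <;>
        rcases hpb with h'' | h'' <;> rcases hbN with h''' | h''' | h''' <;>
        rw [h, h', h'', h'''] at h1 <;> omega
    · rcases hpa with h | h <;> rcases haN with h' | h' | h' <;>
        rcases hpb with h'' | h'' <;> rcases hbN with h''' | h''' | h''' <;>
        rw [h, h', h'', h'''] at h1 <;> omega

/-- Step 3: two of the vectors share exactly one of their two entries. -/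
theorem pair_step (a b : ℕ → ι)
    (hab : ∀ i, 1 ≤ i → i < N → a i ∈ X.erase x₀ ∧ b i ∈ X.erase x₀ ∧ a i ≠ b i ∧
      (d (a i) i = 1 ∨ d (a i) i = -1) ∧ d (a i) N = d (a i) i ∧
      (d (b i) i = 1 ∨ d (b i) i = -1) ∧ d (b i) N = 0 ∧
      ∀ x ∈ X.erase x₀, x ≠ a i → x ≠ b i → d x i = 0)
    (i j : ℕ) (hi1 : 1 ≤ i) (hi : i < N) (hj1 : 1 ≤ j) (hj : j < N) (hij : i ≠ j) :
    (a i = a j ∧ d (a i) i = d (a j) j ∧ b i ≠ b j) ∨
    (b i = b j ∧ d (b i) i = d (b j) j ∧ a i ≠ a j) := by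
  obtain ⟨hai, hbi, habi, hpai, haNi, hpbi, hbNi, hzi⟩ := hab i hi1 hi
  obtain ⟨haj, hbj, habj, hpaj, haNj, hpbj, hbNj, hzj⟩ := hab j hj1 hj
  have h1 := H.gramY i j hi1 hi.le hj1 hj.le
  rw [if_neg hij, if_neg (by omega)] at h1
  have h2 : ∑ x ∈ X.erase x₀, d x i * d x j =
      d (a i) i * d (a i) j + d (b i) i * d (b i) j := by
    apply Finset.sum_eq_add_of_mem (a i) (b i) hai hbi habi
    intro c hc hcab
    rw [hzi c hc hcab.1 hcab.2, zero_mul]
  rw [h2] at h1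
  -- `a i ≠ b j` and `b i ≠ a j`
  have hne1 : a i ≠ b j := by
    intro h
    have : d (a i) N = 0 := by rw [h]; exact hbNj
    rw [haNi] at this
    rcases hpai with h' | h' <;> omega
  have hne2 : b i ≠ a j := by
    intro h
    have : d (a j) N = 0 := by rw [← h]; exact hbNi
    rw [haNj] at this
    rcases hpaj with h' | h' <;> omega
  have hA : d (a i) j = if a i = a j then d (a j) j else 0 := by
    split_ifs with h
    · rw [h]
    · exact hzj (a i) hai h hne1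
  have hB : d (b i) j = if b i = b j then d (b j) j else 0 := by
    split_ifs with h
    · rw [h]
    · exact hzj (b i) hbi hne2 h
  rw [hA, hB] at h1
  by_cases hc1 : a i = a j <;> by_cases hc2 : b i = b j
  · exfalso
    rw [if_pos hc1, if_pos hc2] at h1
    rcases hpai with h | h <;> rcases hpaj with h' | h' <;> rcases hpbi with h'' | h'' <;>
      rcases hpbj with h''' | h''' <;> rw [h, h', h'', h'''] at h1 <;> omega
  · left
    rw [if_pos hc1, if_neg hc2] at h1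
    refine ⟨hc1, ?_, hc2⟩
    rcases hpai with h | h <;> rcases hpaj with h' | h' <;> rw [h, h'] at h1 ⊢ <;> omega
  · right
    rw [if_neg hc1, if_pos hc2] at h1
    refine ⟨hc2, ?_, hc1⟩
    rcases hpbi with h | h <;> rcases hpbj with h' | h' <;> rw [h, h'] at h1 ⊢ <;> omega
  · exfalso
    rw [if_neg hc1, if_neg hc2] at h1
    omega

/-- Step 4: all the vectors share the entry lying in the support of the `N`-th vector. -/
theorem common_step (a b : ℕ → ι)
    (hab : ∀ i, 1 ≤ i → i < N → a i ∈ X.erase x₀ ∧ b i ∈ X.erase x₀ ∧ a i ≠ b i ∧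
      (d (a i) i = 1 ∨ d (a i) i = -1) ∧ d (a i) N = d (a i) i ∧
      (d (b i) i = 1 ∨ d (b i) i = -1) ∧ d (b i) N = 0 ∧
      ∀ x ∈ X.erase x₀, x ≠ a i → x ≠ b i → d x i = 0)
    (i j : ℕ) (hi1 : 1 ≤ i) (hi : i < N) (hj1 : 1 ≤ j) (hj : j < N) : a i = a j := by
  by_contra hne
  have hij : i ≠ j := fun h => hne (by rw [h])
  have hN4 : 4 ≤ N := by
    have := H.hN3
    omega
  obtain ⟨k, hk1, hk, hki, hkj⟩ : ∃ k, 1 ≤ k ∧ k < N ∧ k ≠ i ∧ k ≠ j := by
    by_cases h1 : i ≠ 1 ∧ j ≠ 1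
    · exact ⟨1, le_rfl, by omega, fun h => h1.1 h.symm, fun h => h1.2 h.symm⟩
    · by_cases h2 : i ≠ 2 ∧ j ≠ 2
      · exact ⟨2, by omega, by omega, fun h => h2.1 h.symm, fun h => h2.2 h.symm⟩
      · exact ⟨3, by omega, by omega, by omega, by omega⟩
  have hpij := H.pair_step a b hab i j hi1 hi hj1 hj hij
  have hpki := H.pair_step a b hab k i hk1 hk hi1 hi hki
  have hpkj := H.pair_step a b hab k j hk1 hk hj1 hj hkj
  rcases hpij with ⟨h, _, _⟩ | ⟨hbij, hβij, _⟩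
  · exact hne h
  rcases hpki with ⟨haki, _, hbki⟩ | ⟨hbki, hβki, haki⟩
  · rcases hpkj with ⟨hakj, _, _⟩ | ⟨hbkj, _, _⟩
    · exact hne (haki.symm.trans hakj)
    · exact hbki (hbkj.trans hbij.symm)
  rcases hpkj with ⟨hakj, _, hbkj⟩ | ⟨hbkj, hβkj, hakj⟩
  · exact hbkj (hbki.trans hbij)
  -- the bad configuration: a common `b`, three distinct `a`
  obtain ⟨hai, hbi, habi, hpai, haNi, hpbi, hbNi, hzi⟩ := hab i hi1 hi
  obtain ⟨haj, hbj, habj, hpaj, haNj, hpbj, hbNj, hzj⟩ := hab j hj1 hj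
  obtain ⟨hak, hbk, habk, hpak, haNk, hpbk, hbNk, hzk⟩ := hab k hk1 hk
  set T : Finset ι := {a i, a j, a k} with hT
  have hTY : T ⊆ X.erase x₀ := by
    intro x hx
    rw [hT, Finset.mem_insert, Finset.mem_insert, Finset.mem_singleton] at hx
    rcases hx with rfl | rfl | rfl
    · exact hai
    · exact haj
    · exact hak
  have hnotin1 : a i ∉ ({a j, a k} : Finset ι) := by
    rw [Finset.mem_insert, Finset.mem_singleton]
    rintro (h | h)
    · exact hne h
    · exact haki h.symm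
  have hnotin2 : a j ∉ ({a k} : Finset ι) := by
    rw [Finset.mem_singleton]
    exact fun h => hakj h.symm
  have hsqT : ∑ x ∈ T, d x N ^ 2 = 3 := by
    rw [hT, Finset.sum_insert hnotin1, Finset.sum_insert hnotin2, Finset.sum_singleton,
      haNi, haNj, haNk]
    rcases hpai with h | h <;> rcases hpaj with h' | h' <;> rcases hpak with h'' | h'' <;>
      rw [h, h', h''] <;> norm_num
  have hoff : ∀ x ∈ X.erase x₀, x ∉ T → d x N = 0 := by
    have h1 := Finset.sum_sdiff (f := fun x => d x N ^ 2) hTY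
    rw [hsqT, H.normY_N] at h1
    have h2 : ∑ x ∈ X.erase x₀ \ T, d x N ^ 2 = 0 := by linarith
    intro x hx hxT
    exact sq_sum_zero _ (fun x => d x N) h2 x (Finset.mem_sdiff.mpr ⟨hx, hxT⟩)
  have hdegN := H.degY N (by omega) le_rfl
  have hdegN' : ∑ x ∈ T, deg x * d x N = -1 := by
    rw [← hdegN]
    apply Finset.sum_subset hTY
    intro x hx hxT
    rw [hoff x hx hxT, mul_zero]
  rw [hT, Finset.sum_insert hnotin1, Finset.sum_insert hnotin2, Finset.sum_singleton,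
    haNi, haNj, haNk] at hdegN'
  have hdi := H.degY i hi1 hi.le
  have hdj := H.degY j hj1 hj.le
  have hdk := H.degY k hk1 hk.le
  have hsi : ∑ x ∈ X.erase x₀, deg x * d x i = deg (a i) * d (a i) i + deg (b i) * d (b i) i := by
    apply Finset.sum_eq_add_of_mem (a i) (b i) hai hbi habi
    intro c hc hcab
    rw [hzi c hc hcab.1 hcab.2, mul_zero]
  have hsj : ∑ x ∈ X.erase x₀, deg x * d x j = deg (a j) * d (a j) j + deg (b j) * d (b j) j := by
    apply Finset.sum_eq_add_of_mem (a j) (b j) haj hbj habj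
    intro c hc hcab
    rw [hzj c hc hcab.1 hcab.2, mul_zero]
  have hsk : ∑ x ∈ X.erase x₀, deg x * d x k = deg (a k) * d (a k) k + deg (b k) * d (b k) k := by
    apply Finset.sum_eq_add_of_mem (a k) (b k) hak hbk habk
    intro c hc hcab
    rw [hzk c hc hcab.1 hcab.2, mul_zero]
  rw [hsi] at hdi
  rw [hsj] at hdj
  rw [hsk] at hdk
  rw [← hβij, ← hbij] at hdj
  rw [hβki, hbki] at hdk
  have hposb : 0 < deg (b i) := H.hpos (b i) (Finset.mem_of_mem_erase hbi)
  generalize deg (a i) * d (a i) i = p1 at *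
  generalize deg (a j) * d (a j) j = p2 at *
  generalize deg (a k) * d (a k) k = p3 at *
  rcases hpbi with h | h <;> rw [h] at hdi hdj hdk <;> omega

/-- The outcome of the lattice analysis. -/
theorem lattice_main :
    ∃ (α γ γ' : ℤ) (a c c' : ι) (b : ℕ → ι),
      (α = 1 ∨ α = -1) ∧ (γ = 1 ∨ γ = -1) ∧ (γ' = 1 ∨ γ' = -1) ∧
      a ∈ X ∧ c ∈ X ∧ c' ∈ X ∧ (∀ j, 1 ≤ j → j < N → b j ∈ X) ∧
      a ≠ x₀ ∧ c ≠ x₀ ∧ c' ≠ x₀ ∧ a ≠ c ∧ a ≠ c' ∧ c ≠ c' ∧
      (∀ j, 1 ≤ j → j < N → b j ≠ x₀ ∧ b j ≠ a ∧ b j ≠ c ∧ b j ≠ c') ∧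
      (∀ j k, 1 ≤ j → j < N → 1 ≤ k → k < N → b j = b k → j = k) ∧
      (∀ i, 1 ≤ i → i ≤ N → d a i = α) ∧
      (∀ j, 1 ≤ j → j < N → ∀ i, 1 ≤ i → i ≤ N → d (b j) i = if i = j then -α else 0) ∧
      (∀ i, 1 ≤ i → i ≤ N → d c i = if i = N then γ else 0) ∧
      (∀ i, 1 ≤ i → i ≤ N → d c' i = if i = N then γ' else 0) ∧
      (∀ x ∈ X, x ≠ x₀ → x ≠ a → x ≠ c → x ≠ c' → (∀ j, 1 ≤ j → j < N → x ≠ b j) →
        ∀ i, 1 ≤ i → i ≤ N → d x i = 0) := by
  have : Nonempty ι := ⟨x₀⟩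
  have hN2 := H.hN2
  choose! a b hab using H.step1
  have h1N : 1 < N := by omega
  obtain ⟨ha1, hb1, hab1, hpa1, haN1, hpb1, hbN1, hz1⟩ := hab 1 le_rfl h1N
  set a₁ := a 1 with ha₁
  set α := d a₁ 1 with hα
  have hcommon : ∀ i, 1 ≤ i → i < N → a i = a₁ := fun i hi1 hi =>
    H.common_step a b hab i 1 hi1 hi le_rfl h1N
  have hαi : ∀ i, 1 ≤ i → i < N → d a₁ i = α := by
    intro i hi1 hi
    by_cases h : i = 1
    · rw [h]
    · rcases H.pair_step a b hab 1 i le_rfl h1N hi1 hi (fun h' => h h'.symm) with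
        ⟨_, h2, _⟩ | ⟨_, _, h2⟩
      · rw [hα, ha₁, h2, hcommon i hi1 hi]
      · exact absurd (hcommon i hi1 hi).symm h2
  have hαN : d a₁ N = α := haN1
  -- the `N`-th vector
  have hsq : ∑ x ∈ (X.erase x₀).erase a₁, d x N ^ 2 = 2 := by
    have h1 := Finset.add_sum_erase (X.erase x₀) (fun x => d x N ^ 2) ha1
    rw [H.normY_N] at h1
    rw [hαN] at h1
    have : α ^ 2 = 1 := by rcases hpa1 with h | h <;> rw [h] <;> norm_num
    omega
  obtain ⟨c, hc, c', hc', hcc', hpc, hpc', hzN⟩ := sq_sum_two _ (fun x => d x N) hsq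
  have hcY : c ∈ X.erase x₀ := Finset.mem_of_mem_erase hc
  have hc'Y : c' ∈ X.erase x₀ := Finset.mem_of_mem_erase hc'
  have hca : c ≠ a₁ := Finset.ne_of_mem_erase hc
  have hc'a : c' ≠ a₁ := Finset.ne_of_mem_erase hc'
  have hbN : ∀ j, 1 ≤ j → j < N → d (b j) N = 0 := fun j hj1 hj => (hab j hj1 hj).2.2.2.2.2.2.1
  have hbc : ∀ j, 1 ≤ j → j < N → b j ≠ c := by
    intro j hj1 hj h
    have := hbN j hj1 hj
    rw [h] at this
    rcases hpc with h' | h' <;> omega
  have hbc' : ∀ j, 1 ≤ j → j < N → b j ≠ c' := by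
    intro j hj1 hj h
    have := hbN j hj1 hj
    rw [h] at this
    rcases hpc' with h' | h' <;> omega
  have hba : ∀ j, 1 ≤ j → j < N → b j ≠ a₁ := by
    intro j hj1 hj h
    have := (hab j hj1 hj).2.2.1
    rw [hcommon j hj1 hj] at this
    exact this h.symm
  have hbinj : ∀ j k, 1 ≤ j → j < N → 1 ≤ k → k < N → b j = b k → j = k := by
    intro j k hj1 hj hk1 hk hjk
    by_contra hne
    rcases H.pair_step a b hab j k hj1 hj hk1 hk hne with ⟨_, _, h2⟩ | ⟨_, _, h2⟩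
    · exact h2 hjk
    · exact h2 ((hcommon j hj1 hj).trans (hcommon k hk1 hk).symm)
  -- the sign of the petals
  have hβ : ∀ j, 1 ≤ j → j < N → d (b j) j = -α := by
    intro j hj1 hj
    obtain ⟨haj, hbj, habj, hpaj, haNj, hpbj, hbNj, hzj⟩ := hab j hj1 hj
    have hdj := H.degY j hj1 hj.le
    have hsj : ∑ x ∈ X.erase x₀, deg x * d x j =
        deg (a j) * d (a j) j + deg (b j) * d (b j) j := by
      apply Finset.sum_eq_add_of_mem (a j) (b j) haj hbj habj
      intro c hc hcab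
      rw [hzj c hc hcab.1 hcab.2, mul_zero]
    rw [hsj, hcommon j hj1 hj, hαi j hj1 hj] at hdj
    have hpa : 0 < deg a₁ := H.hpos a₁ (Finset.mem_of_mem_erase ha1)
    have hpb : 0 < deg (b j) := H.hpos (b j) (Finset.mem_of_mem_erase hbj)
    rcases hpa1 with h | h <;> rcases hpbj with h' | h' <;> rw [h, h'] at hdj <;> omega
  refine ⟨α, d c N, d c' N, a₁, c, c', b, hpa1, hpc, hpc', Finset.mem_of_mem_erase ha1,
    Finset.mem_of_mem_erase hcY, Finset.mem_of_mem_erase hc'Y,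
    fun j hj1 hj => Finset.mem_of_mem_erase (hab j hj1 hj).2.1,
    Finset.ne_of_mem_erase ha1, Finset.ne_of_mem_erase hcY, Finset.ne_of_mem_erase hc'Y,
    hca.symm, hc'a.symm, hcc', ?_, hbinj, ?_, ?_, ?_, ?_, ?_⟩
  · intro j hj1 hj
    exact ⟨Finset.ne_of_mem_erase (hab j hj1 hj).2.1, hba j hj1 hj, hbc j hj1 hj, hbc' j hj1 hj⟩
  · intro i hi1 hi
    rcases Nat.lt_or_ge i N with h | h
    · exact hαi i hi1 h
    · have : i = N := by omega
      rw [this]; exact hαN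
  · intro j hj1 hj i hi1 hi
    split_ifs with h
    · rw [h]; exact hβ j hj1 hj
    · rcases Nat.lt_or_ge i N with h' | h'
      · have hzi := (hab i hi1 h').2.2.2.2.2.2.2
        apply hzi (b j) (hab j hj1 hj).2.1
        · rw [hcommon i hi1 h']; exact hba j hj1 hj
        · intro h''
          exact h (hbinj j i hj1 hj hi1 h' h'').symm
      · have : i = N := by omega
        rw [this]; exact hbN j hj1 hj
  · intro i hi1 hi
    split_ifs with h
    · rw [h]
    · have h' : i < N := by omega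
      have hzi := (hab i hi1 h').2.2.2.2.2.2.2
      apply hzi c hcY
      · rw [hcommon i hi1 h']; exact hca
      · exact fun h'' => hbc i hi1 h' h''.symm
  · intro i hi1 hi
    split_ifs with h
    · rw [h]
    · have h' : i < N := by omega
      have hzi := (hab i hi1 h').2.2.2.2.2.2.2
      apply hzi c' hc'Y
      · rw [hcommon i hi1 h']; exact hc'a
      · exact fun h'' => hbc' i hi1 h' h''.symm
  · intro x hx hx0 hxa hxc hxc' hxb i hi1 hi
    have hxY : x ∈ X.erase x₀ := Finset.mem_erase.mpr ⟨hx0, hx⟩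
    rcases Nat.lt_or_ge i N with h' | h'
    · have hzi := (hab i hi1 h').2.2.2.2.2.2.2
      apply hzi x hxY
      · rw [hcommon i hi1 h']; exact hxa
      · exact hxb i hi1 h'
    · have : i = N := by omega
      rw [this]
      exact hzN x (Finset.mem_erase.mpr ⟨hxa, hxY⟩) hxc hxc'

end LatHyp

end Cfsg.Agent.Lib.Helper75
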