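import Cfsg.Agent.Lib.Helper75.DihGram
import Cfsg.Agent.Lib.Helper75.DihLattice2
import Cfsg.Agent.Lib.Helper16.Degree
import Cfsg.Agent.Lib.Helper81.LocalRing

/-!
# The principal `2`-block of a group with dihedral Sylow `2`-subgroups: assembly
-/

set_option autoImplicit false
set_option linter.unusedSectionVars false
set_option linter.style.haveILetI false
set_option linter.unusedVariables false

universe u

namespace Cfsg.Agent.Lib.Helper75

open Cfsg Cfsg.Agent.Lib.Helper77 Cfsg.Agent.Lib.Helper81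
open scoped ComplexConjugate

/-- Members of the principal block do not vanish at elements whose class has odd size. -/
theorem principalBlock_apply_ne_zero_of_odd_index {G : Type u} [Group G] [Finite G] {M : Ideal AlgInt}
    (hM : IsPModular 2 M) (χ : IrrCharacter G) (hχ : χ ∈ principalBlock M G) (g : G)
    (hodd : ¬ 2 ∣ (Subgroup.centralizer ({g} : Set G)).index) : (χ : G → ℂ) g ≠ 0 := by
  intro h0
  have h1 : MemLocalIdeal M (centralChar (fun _ : G => (1 : ℂ)) g - centralChar (χ : G → ℂ) g) :=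
    hχ g
  unfold centralChar at h1
  rw [h0, mul_zero, zero_div, sub_zero, mul_one, div_one] at h1
  exact hodd ((memLocalIdeal_natCast_iff hM _).mp h1)

variable {G : Type u} [Group G] [Fintype G] [Fintype (IrrCharacter G)]
  {M : Ideal AlgInt} (hM : IsPModular 2 M) (P : Sylow 2 G) {n : ℕ} (hn : 3 ≤ n)
  (e : (P : Subgroup G) ≃* DihedralGroup (2 ^ (n - 1))) (σ : G) (hσ : σ ∈ (P : Subgroup G))
  (hσo : orderOf σ = 2 ^ (n - 1)) {ζ : ℂ} (hζ : IsPrimitiveRoot ζ (2 ^ (n - 1)))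

open Classical in
/-- The integer `D χ i`. -/
noncomputable def dihZ (σ : G) (n : ℕ) (ζ : ℂ) (χ : IrrCharacter G) (i : ℕ) : ℤ :=
  if h : ∃ z : ℤ, dihD σ (2 ^ (n - 1)) ζ (χ : G → ℂ) i = (z : ℂ) then h.choose else 0

include hσo hζ in
theorem dihZ_spec (χ : IrrCharacter G) (i : ℕ) :
    dihD σ (2 ^ (n - 1)) ζ (χ : G → ℂ) i = (dihZ σ n ζ χ i : ℂ) := by
  have h := dihD_int σ hσo (by positivity) hζ (χ : G → ℂ)
    (Cfsg.Agent.Lib.Helper3.IsIrrCharacter.isCharacter χ.2) i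
  unfold dihZ
  rw [dif_pos h]
  exact h.choose_spec

include hn in
theorem dih_N_facts : 2 ≤ 2 ^ (n - 2) ∧ 2 ^ (n - 2) ≠ 3 ∧ 2 ^ (n - 1) = 2 * 2 ^ (n - 2) := by
  have h1 : 2 ^ (n - 1) = 2 * 2 ^ (n - 2) := by
    rw [← pow_succ']; congr 1; omega
  have h2 : 2 ^ 1 ≤ 2 ^ (n - 2) := Nat.pow_le_pow_right (by norm_num) (by omega)
  have h3 : 2 ∣ 2 ^ (n - 2) := dvd_pow_self 2 (by omega)
  refine ⟨by omega, by omega, h1⟩

open Classical in
include hM hn e hσ hσo hζ in
/-- The hypotheses of the lattice analysis hold. -/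
theorem dih_latHyp :
    LatHyp (Finset.univ.filter (fun χ : IrrCharacter G => χ ∈ principalBlock M G)) (2 ^ (n - 2))
      (dihZ σ n ζ) (fun χ => (charDegree (χ : G → ℂ) : ℤ)) (oneIrr G) := by
  obtain ⟨hN2, hN3, hqN⟩ := dih_N_facts hn
  have hMp : M.IsPrime := hM.2.1.isPrime
  refine ⟨hN2, hN3, ?_, ?_, ?_, ?_, ?_, ?_⟩
  · exact Finset.mem_filter.mpr ⟨Finset.mem_univ _, oneIrr_mem_principalBlock hMp⟩
  · intro i hi1 hi
    have h1 := dihD_one hζ σ (i := i) (by omega) (by omega)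
    have h2 := dihZ_spec σ hσo hζ (oneIrr G) i
    have h3 : ((oneIrr G : IrrCharacter G) : G → ℂ) = fun _ => 1 := rfl
    rw [h3, h1] at h2
    exact_mod_cast h2.symm
  · have h3 : ((oneIrr G : IrrCharacter G) : G → ℂ) 1 = ((1 : ℕ) : ℂ) := by
      rw [oneIrr_apply, Nat.cast_one]
    rw [charDegree_eq_of_apply_one h3]
    rfl
  · intro χ _
    have := irr_charDegree_ne_zero χ
    positivity
  · intro i j hi1 hi hj1 hj
    have h1 := dih_gram hM P hn e σ hσ hσo hζ i j (by omega) (by omega) (by omega) (by omega)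
    have h2 : ∀ χ : IrrCharacter G,
        dihD σ (2 ^ (n - 1)) ζ (χ : G → ℂ) i * conj (dihD σ (2 ^ (n - 1)) ζ (χ : G → ℂ) j) =
        ((dihZ σ n ζ χ i * dihZ σ n ζ χ j : ℤ) : ℂ) := by
      intro χ
      rw [dihZ_spec σ hσo hζ χ i, dihZ_spec σ hσo hζ χ j, map_intCast]
      push_cast
      rfl
    rw [Finset.sum_congr rfl fun χ _ => h2 χ, ← Int.cast_sum] at h1
    have h3 : (i + j = 2 ^ (n - 1)) ↔ (i = 2 ^ (n - 2) ∧ j = 2 ^ (n - 2)) := by
      constructor
      · intro h; omega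
      · intro h; omega
    have h4 : ((2 + (if i = j then 1 else 0) +
        (if i = 2 ^ (n - 2) ∧ j = 2 ^ (n - 2) then 1 else 0) : ℤ) : ℂ) =
        2 + (if i = j then 1 else 0) + (if i + j = 2 ^ (n - 1) then 1 else 0) := by
      by_cases h5 : i = j <;> by_cases h6 : i + j = 2 ^ (n - 1)
      · simp only [if_pos h5, if_pos h6, if_pos (h3.mp h6)]; push_cast; ring
      · simp only [if_pos h5, if_neg h6, if_neg (fun h => h6 (h3.mpr h))]; push_cast; ring
      · simp only [if_neg h5, if_pos h6, if_pos (h3.mp h6)]; push_cast; ring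
      · simp only [if_neg h5, if_neg h6, if_neg (fun h => h6 (h3.mpr h))]; push_cast; ring
    rw [← h4] at h1
    exact_mod_cast h1
  · intro i hi1 hi
    have h1 := dih_sum_D_conj hM P hn e σ hσ hσo hζ i 0 (by positivity)
    have h2 : ∀ χ : IrrCharacter G,
        dihD σ (2 ^ (n - 1)) ζ (χ : G → ℂ) i * conj ((χ : G → ℂ) (σ ^ 0)) =
        (((charDegree (χ : G → ℂ) : ℤ) * dihZ σ n ζ χ i : ℤ) : ℂ) := by
      intro χ
      rw [pow_zero, irr_apply_one_eq_charDegree χ, Complex.conj_natCast,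
        dihZ_spec σ hσo hζ χ i]
      push_cast
      ring
    rw [Finset.sum_congr rfl fun χ _ => h2 χ, ← Int.cast_sum] at h1
    have h3 : (2 : ℂ) - (ζ ^ i) ^ 0 - ((ζ ^ i)⁻¹) ^ 0 = ((0 : ℤ) : ℂ) := by
      rw [pow_zero, pow_zero]; norm_num
    rw [h3] at h1
    exact_mod_cast h1

end Cfsg.Agent.Lib.Helper75
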