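import Cfsg.Agent.Lib.Helper75.DihMain

/-!
# The principal `2`-block of a group with dihedral Sylow `2`-subgroups: values on the rotations
-/

set_option autoImplicit false
set_option linter.unusedSectionVars false
set_option linter.style.haveILetI false
set_option linter.unusedVariables false

universe u

namespace Cfsg.Agent.Lib.Helper75

open Cfsg Cfsg.Agent.Lib.Helper77 Cfsg.Agent.Lib.Helper81
open scoped ComplexConjugate

variable {G : Type u} [Group G] [Fintype G] [Fintype (IrrCharacter G)]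
  {M : Ideal AlgInt} (hM : IsPModular 2 M) (P : Sylow 2 G) {n : ℕ} (hn : 3 ≤ n)
  (e : (P : Subgroup G) ≃* DihedralGroup (2 ^ (n - 1))) (σ : G) (hσ : σ ∈ (P : Subgroup G))
  (hσo : orderOf σ = 2 ^ (n - 1)) {ζ : ℂ} (hζ : IsPrimitiveRoot ζ (2 ^ (n - 1)))

open Classical in
include hM hn e hσ hσo hζ in
/-- The Gram matrix, over the integers. -/
theorem dih_gramZ (i j : ℕ) (hi0 : 0 < i) (hi : i < 2 ^ (n - 1)) (hj0 : 0 < j)
    (hj : j < 2 ^ (n - 1)) :
    ∑ χ ∈ Finset.univ.filter (fun χ : IrrCharacter G => χ ∈ principalBlock M G),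
      dihZ σ n ζ χ i * dihZ σ n ζ χ j =
    2 + (if i = j then 1 else 0) + (if i + j = 2 ^ (n - 1) then 1 else 0) := by
  have h1 := dih_gram hM P hn e σ hσ hσo hζ i j hi0 hi hj0 hj
  have h2 : ∀ χ : IrrCharacter G,
      dihD σ (2 ^ (n - 1)) ζ (χ : G → ℂ) i * conj (dihD σ (2 ^ (n - 1)) ζ (χ : G → ℂ) j) =
      ((dihZ σ n ζ χ i * dihZ σ n ζ χ j : ℤ) : ℂ) := by
    intro χ
    rw [dihZ_spec σ hσo hζ χ i, dihZ_spec σ hσo hζ χ j, map_intCast]
    push_cast
    rfl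
  rw [Finset.sum_congr rfl fun χ _ => h2 χ, ← Int.cast_sum] at h1
  have h4 : ((2 + (if i = j then 1 else 0) +
      (if i + j = 2 ^ (n - 1) then 1 else 0) : ℤ) : ℂ) =
      2 + (if i = j then 1 else 0) + (if i + j = 2 ^ (n - 1) then 1 else 0) := by
    push_cast
    rfl
  rw [← h4] at h1
  exact_mod_cast h1

open Classical in
include hM hn e hσ hσo hζ in
/-- Symmetry of the vectors `D(i)`. -/
theorem dihZ_symm (χ : IrrCharacter G) (hχ : χ ∈ principalBlock M G) (i : ℕ) (hi0 : 0 < i)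
    (hi : i < 2 ^ (n - 1)) : dihZ σ n ζ χ (2 ^ (n - 1) - i) = dihZ σ n ζ χ i := by
  set q := 2 ^ (n - 1) with hq
  by_cases hmid : i + i = q
  · have : q - i = i := by omega
    rw [this]
  · have hqi0 : 0 < q - i := by omega
    have hqi : q - i < q := by omega
    have h1 := dih_gramZ hM P hn e σ hσ hσo hζ i i hi0 hi hi0 hi
    have h2 := dih_gramZ hM P hn e σ hσ hσo hζ (q - i) (q - i) hqi0 hqi hqi0 hqi
    have h3 := dih_gramZ hM P hn e σ hσ hσo hζ i (q - i) hi0 hi hqi0 hqi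
    rw [if_pos rfl, if_neg hmid] at h1
    rw [if_pos rfl, if_neg (by omega)] at h2
    rw [if_neg (by omega), if_pos (by omega)] at h3
    have h4 : ∑ χ ∈ Finset.univ.filter (fun χ : IrrCharacter G => χ ∈ principalBlock M G),
        (dihZ σ n ζ χ (q - i) - dihZ σ n ζ χ i) ^ 2 = 0 := by
      have h5 : ∀ χ : IrrCharacter G, (dihZ σ n ζ χ (q - i) - dihZ σ n ζ χ i) ^ 2 =
          dihZ σ n ζ χ (q - i) * dihZ σ n ζ χ (q - i) + dihZ σ n ζ χ i * dihZ σ n ζ χ i -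
            2 * (dihZ σ n ζ χ i * dihZ σ n ζ χ (q - i)) := fun χ => by ring
      rw [Finset.sum_congr rfl fun χ _ => h5 χ, Finset.sum_sub_distrib, Finset.sum_add_distrib,
        ← Finset.mul_sum, h1, h2, h3]
      norm_num
    have h6 := sq_sum_zero _ (fun χ => dihZ σ n ζ χ (q - i) - dihZ σ n ζ χ i) h4 χ
      (Finset.mem_filter.mpr ⟨Finset.mem_univ _, hχ⟩)
    omega

include hσo hζ in
/-- The values on the rotations in terms of the integers `D χ j`. -/
theorem dih_value (χ : IrrCharacter G) (l : ℕ) (hl0 : 0 < l) (hl : l < 2 ^ (n - 1)) :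
    (χ : G → ℂ) (σ ^ l) =
      - ∑ j ∈ Finset.range (2 ^ (n - 1)), (dihZ σ n ζ χ j : ℂ) * ζ ^ (j * l) := by
  have h1 := dihD_inverse hζ σ (χ : G → ℂ) hl0 hl
  rw [Finset.sum_congr rfl fun j _ => by rw [dihZ_spec σ hσo hζ χ j]] at h1
  rw [h1, neg_neg]

include hσo hζ in
theorem dihZ_zero (χ : IrrCharacter G) : dihZ σ n ζ χ 0 = 0 := by
  have h1 := dihZ_spec σ hσo hζ χ 0
  rw [dihD_zero] at h1
  exact_mod_cast h1.symm

include hM hn e hσ hσo hζ in
/-- Folding an index into the first half. -/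
theorem dihZ_fold (χ : IrrCharacter G) (hχ : χ ∈ principalBlock M G) (j : ℕ) (hj0 : 0 < j)
    (hj : j < 2 ^ (n - 1)) :
    ∃ i, 1 ≤ i ∧ i ≤ 2 ^ (n - 2) ∧ (i = j ∨ i = 2 ^ (n - 1) - j) ∧
      dihZ σ n ζ χ j = dihZ σ n ζ χ i := by
  obtain ⟨hN2, hN3, hqN⟩ := dih_N_facts hn
  rcases Nat.lt_or_ge (2 ^ (n - 2)) j with h | h
  · refine ⟨2 ^ (n - 1) - j, by omega, by omega, Or.inr rfl, ?_⟩
    exact (dihZ_symm hM P hn e σ hσ hσo hζ χ hχ j hj0 hj).symm
  · exact ⟨j, hj0, h, Or.inl rfl, rfl⟩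

end Cfsg.Agent.Lib.Helper75
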