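import Cfsg.Agent.Lib.Helper75.DihMain3

/-!
# The principal `2`-block of a group with dihedral Sylow `2`-subgroups: the main theorem
-/

set_option autoImplicit false
set_option linter.unusedSectionVars false
set_option linter.style.haveILetI false
set_option linter.unusedVariables false
set_option maxHeartbeats 1000000

universe u

namespace Cfsg.Agent.Lib.Helper75

open Cfsg Cfsg.Agent.Lib.Helper77 Cfsg.Agent.Lib.Helper81
open scoped ComplexConjugate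

variable {G : Type u} [Group G] [Fintype G] [Fintype (IrrCharacter G)]
  {M : Ideal AlgInt} (hM : IsPModular 2 M) (P : Sylow 2 G) {n : ℕ} (hn : 3 ≤ n)
  (e : (P : Subgroup G) ≃* DihedralGroup (2 ^ (n - 1))) (σ : G) (hσ : σ ∈ (P : Subgroup G))
  (hσo : orderOf σ = 2 ^ (n - 1)) {ζ : ℂ} (hζ : IsPrimitiveRoot ζ (2 ^ (n - 1)))

open Classical in
include hM hσo hζ in
/-- The vectors `D(i)` are orthogonal to the columns of the `2`-regular elements (integer form,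
without conjugation). -/
theorem dih_sum_Z_regular (i : ℕ) (ρ : G) (hρ : ¬ 2 ∣ orderOf ρ) :
    ∑ χ ∈ Finset.univ.filter (fun χ : IrrCharacter G => χ ∈ principalBlock M G),
      (dihZ σ n ζ χ i : ℂ) * (χ : G → ℂ) ρ = 0 := by
  have h1 := dih_sum_D_regular hM σ hσo (ζ := ζ) i ρ hρ
  have h2 := congrArg conj h1
  rw [map_sum, map_zero] at h2
  rw [← h2]
  refine Finset.sum_congr rfl fun χ _ => ?_
  rw [map_mul, Complex.conj_conj, dihZ_spec σ hσo hζ χ i, map_intCast]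

open Classical in
include hM hn e hσ hσo hζ in
/-- **Brauer's theorem on the principal `2`-block of a group with dihedral Sylow
`2`-subgroups.** -/
theorem dih_principalBlock_main :
    (Finset.univ.filter (fun χ : IrrCharacter G => χ ∈ principalBlock M G)).card =
      3 + 2 ^ (n - 2) ∧
    ∃ (χ₁ χ₂ χ₃ : IrrCharacter G) (χ' : Fin (2 ^ (n - 2) - 1) → IrrCharacter G)
      (δ₁ δ₂ δ₃ : ℤ), (δ₁ = 1 ∨ δ₁ = -1) ∧ (δ₂ = 1 ∨ δ₂ = -1) ∧ (δ₃ = 1 ∨ δ₃ = -1) ∧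
      Function.Injective χ' ∧ χ₁ ≠ oneIrr G ∧ χ₂ ≠ oneIrr G ∧ χ₃ ≠ oneIrr G ∧
      χ₁ ≠ χ₂ ∧ χ₁ ≠ χ₃ ∧ χ₂ ≠ χ₃ ∧
      (∀ j, χ' j ≠ χ₁ ∧ χ' j ≠ χ₂ ∧ χ' j ≠ χ₃ ∧ χ' j ≠ oneIrr G) ∧
      (∀ χ : IrrCharacter G, χ ∈ principalBlock M G ↔
        (χ = oneIrr G ∨ χ = χ₁ ∨ χ = χ₂ ∨ χ = χ₃ ∨ ∃ j, χ = χ' j)) ∧
      (∀ l : ℕ, 0 < l → l < 2 ^ (n - 1) →
        (χ₁ : G → ℂ) (σ ^ l) = δ₁ ∧ (χ₂ : G → ℂ) (σ ^ l) = δ₂ * (-1) ^ (l + 1) ∧
        (χ₃ : G → ℂ) (σ ^ l) = δ₃ * (-1) ^ (l + 1) ∧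
        ∀ j : Fin (2 ^ (n - 2) - 1), (χ' j : G → ℂ) (σ ^ l) =
          δ₁ * (ζ ^ (((j : ℕ) + 1) * l) + (ζ ^ (((j : ℕ) + 1) * l))⁻¹)) ∧
      ∀ ρ : G, ¬ 2 ∣ orderOf ρ → ∀ j : Fin (2 ^ (n - 2) - 1),
        1 + δ₁ * (χ₁ : G → ℂ) ρ = -δ₂ * (χ₂ : G → ℂ) ρ - δ₃ * (χ₃ : G → ℂ) ρ ∧
        1 + δ₁ * (χ₁ : G → ℂ) ρ = δ₁ * (χ' j : G → ℂ) ρ := by
  obtain ⟨hN2, hN3, hqN⟩ := dih_N_facts hn
  have hMp : M.IsPrime := hM.2.1.isPrime
  have HL := dih_latHyp hM P hn e σ hσ hσo hζ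
  obtain ⟨α, γ, γ', a, c, c', b, hα, hγ, hγ', haB, hcB, hc'B, hbB, ha0, hc0, hc'0, hac, hac',
    hcc', hbne, hbinj, hda, hdb, hdc, hdc', hother⟩ := HL.lattice_main
  set B := Finset.univ.filter (fun χ : IrrCharacter G => χ ∈ principalBlock M G) with hB
  have hmem : ∀ χ : IrrCharacter G, χ ∈ B ↔ χ ∈ principalBlock M G := fun χ => by
    rw [hB, Finset.mem_filter]; simp
  have haP := (hmem a).mp haB
  have hcP := (hmem c).mp hcB
  have hc'P := (hmem c').mp hc'B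
  -- the profiles
  have hprof_a : ∀ j, j < 2 ^ (n - 1) → dihZ σ n ζ a j = if j = 0 then 0 else α := by
    intro j hj
    by_cases h0 : j = 0
    · rw [if_pos h0, h0, dihZ_zero σ hσo hζ]
    · rw [if_neg h0]
      obtain ⟨i, hi1, hi, _, hij⟩ := dihZ_fold hM P hn e σ hσ hσo hζ a haP j (by omega) hj
      rw [hij, hda i hi1 hi]
  have hprof_c : ∀ j, j < 2 ^ (n - 1) →
      dihZ σ n ζ c j = if j = 2 ^ (n - 2) then γ else 0 := by
    intro j hj
    by_cases h0 : j = 0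
    · rw [h0, dihZ_zero σ hσo hζ, if_neg (by omega)]
    · obtain ⟨i, hi1, hi, hor, hij⟩ := dihZ_fold hM P hn e σ hσ hσo hζ c hcP j (by omega) hj
      rw [hij, hdc i hi1 hi]
      have : i = 2 ^ (n - 2) ↔ j = 2 ^ (n - 2) := by omega
      by_cases h : i = 2 ^ (n - 2)
      · rw [if_pos h, if_pos (this.mp h)]
      · rw [if_neg h, if_neg (fun h' => h (this.mpr h'))]
  have hprof_c' : ∀ j, j < 2 ^ (n - 1) →
      dihZ σ n ζ c' j = if j = 2 ^ (n - 2) then γ' else 0 := by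
    intro j hj
    by_cases h0 : j = 0
    · rw [h0, dihZ_zero σ hσo hζ, if_neg (by omega)]
    · obtain ⟨i, hi1, hi, hor, hij⟩ := dihZ_fold hM P hn e σ hσ hσo hζ c' hc'P j (by omega) hj
      rw [hij, hdc' i hi1 hi]
      have : i = 2 ^ (n - 2) ↔ j = 2 ^ (n - 2) := by omega
      by_cases h : i = 2 ^ (n - 2)
      · rw [if_pos h, if_pos (this.mp h)]
      · rw [if_neg h, if_neg (fun h' => h (this.mpr h'))]
  have hprof_b : ∀ j₀, 1 ≤ j₀ → j₀ < 2 ^ (n - 2) → ∀ j, j < 2 ^ (n - 1) →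
      dihZ σ n ζ (b j₀) j = if j = j₀ ∨ j = 2 ^ (n - 1) - j₀ then -α else 0 := by
    intro j₀ hj₀1 hj₀ j hj
    have hbP := (hmem (b j₀)).mp (hbB j₀ hj₀1 hj₀)
    by_cases h0 : j = 0
    · rw [h0, dihZ_zero σ hσo hζ, if_neg (by omega)]
    · obtain ⟨i, hi1, hi, hor, hij⟩ :=
        dihZ_fold hM P hn e σ hσ hσo hζ (b j₀) hbP j (by omega) hj
      rw [hij, hdb j₀ hj₀1 hj₀ i hi1 hi]
      have : i = j₀ ↔ (j = j₀ ∨ j = 2 ^ (n - 1) - j₀) := by omega
      by_cases h : i = j₀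
      · rw [if_pos h, if_pos (this.mp h)]
      · rw [if_neg h, if_neg (fun h' => h (this.mpr h'))]
  -- the values
  have hval_a : ∀ l, 0 < l → l < 2 ^ (n - 1) → (a : G → ℂ) (σ ^ l) = (α : ℂ) := by
    intro l hl0 hl
    rw [dih_value σ hσo hζ a l hl0 hl]
    exact val_const hζ _ α hprof_a hl0 hl
  have hval_c : ∀ l, 0 < l → l < 2 ^ (n - 1) →
      (c : G → ℂ) (σ ^ l) = (γ : ℂ) * (-1) ^ (l + 1) := by
    intro l hl0 hl
    rw [dih_value σ hσo hζ c l hl0 hl]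
    exact val_mid hζ _ γ (2 ^ (n - 2)) (by omega) hqN hprof_c l
  have hval_c' : ∀ l, 0 < l → l < 2 ^ (n - 1) →
      (c' : G → ℂ) (σ ^ l) = (γ' : ℂ) * (-1) ^ (l + 1) := by
    intro l hl0 hl
    rw [dih_value σ hσo hζ c' l hl0 hl]
    exact val_mid hζ _ γ' (2 ^ (n - 2)) (by omega) hqN hprof_c' l
  have hval_b : ∀ j₀, 1 ≤ j₀ → j₀ < 2 ^ (n - 2) → ∀ l, 0 < l → l < 2 ^ (n - 1) →
      (b j₀ : G → ℂ) (σ ^ l) = (α : ℂ) * (ζ ^ (j₀ * l) + (ζ ^ (j₀ * l))⁻¹) := by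
    intro j₀ hj₀1 hj₀ l hl0 hl
    rw [dih_value σ hσo hζ (b j₀) l hl0 hl]
    exact val_pair hζ _ α j₀ (by omega) (by omega) (hprof_b j₀ hj₀1 hj₀) l
  -- the list is exhaustive
  have hoddidx : ¬ 2 ∣ (Subgroup.centralizer ({σ ^ 2 ^ (n - 2)} : Set G)).index := by
    intro h
    haveI : Fact (Nat.Prime 2) := ⟨Nat.prime_two⟩
    exact P.not_dvd_index (dvd_trans h
      (Subgroup.index_dvd_of_le (dih_le_centralizer_J P hn e σ hσ hσo)))
  set χ' : Fin (2 ^ (n - 2) - 1) → IrrCharacter G := fun j => b ((j : ℕ) + 1) with hχ'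
  have hjr : ∀ j : Fin (2 ^ (n - 2) - 1), 1 ≤ (j : ℕ) + 1 ∧ (j : ℕ) + 1 < 2 ^ (n - 2) := by
    intro j
    have := j.2
    omega
  have hexh : ∀ χ : IrrCharacter G, χ ∈ B →
      (χ = oneIrr G ∨ χ = a ∨ χ = c ∨ χ = c' ∨ ∃ j, χ = χ' j) := by
    intro χ hχ
    by_contra hcon
    rw [not_or, not_or, not_or, not_or] at hcon
    obtain ⟨h1, h2, h3, h4, h5⟩ := hcon
    have hχP := (hmem χ).mp hχ
    have hz : ∀ i, 1 ≤ i → i ≤ 2 ^ (n - 2) → dihZ σ n ζ χ i = 0 := by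
      apply hother χ hχ h1 h2 h3 h4
      intro j hj1 hj hj'
      apply h5
      refine ⟨⟨j - 1, by omega⟩, ?_⟩
      rw [hχ', hj']
      simp only
      congr 1
      omega
    have hall : ∀ j, j < 2 ^ (n - 1) → dihZ σ n ζ χ j = 0 := by
      intro j hj
      by_cases h0 : j = 0
      · rw [h0, dihZ_zero σ hσo hζ]
      · obtain ⟨i, hi1, hi, _, hij⟩ := dihZ_fold hM P hn e σ hσ hσo hζ χ hχP j (by omega) hj
        rw [hij, hz i hi1 hi]
    have hv : (χ : G → ℂ) (σ ^ 2 ^ (n - 2)) = 0 := by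
      rw [dih_value σ hσo hζ χ (2 ^ (n - 2)) (by omega) (by omega)]
      exact val_zero _ hall _
    exact principalBlock_apply_ne_zero_of_odd_index hM χ hχP _ hoddidx hv
  have hχ'inj : Function.Injective χ' := by
    intro j k hjk
    have := hbinj _ _ (hjr j).1 (hjr j).2 (hjr k).1 (hjr k).2 hjk
    exact Fin.ext (by omega)
  have hχ'B : ∀ j, χ' j ∈ B := fun j => hbB _ (hjr j).1 (hjr j).2
  have hχ'ne : ∀ j, χ' j ≠ a ∧ χ' j ≠ c ∧ χ' j ≠ c' ∧ χ' j ≠ oneIrr G := by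
    intro j
    obtain ⟨h1, h2, h3, h4⟩ := hbne _ (hjr j).1 (hjr j).2
    exact ⟨h2, h3, h4, h1⟩
  have hBeq : B = insert (oneIrr G) (insert a (insert c (insert c' (Finset.univ.image χ')))) := by
    ext χ
    simp only [Finset.mem_insert, Finset.mem_image, Finset.mem_univ, true_and]
    constructor
    · intro hχ
      rcases hexh χ hχ with h | h | h | h | ⟨j, h⟩
      · exact Or.inl h
      · exact Or.inr (Or.inl h)
      · exact Or.inr (Or.inr (Or.inl h))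
      · exact Or.inr (Or.inr (Or.inr (Or.inl h)))
      · exact Or.inr (Or.inr (Or.inr (Or.inr ⟨j, h.symm⟩)))
    · rintro (h | h | h | h | ⟨j, h⟩)
      · rw [h]; exact HL.hx₀
      · rw [h]; exact haB
      · rw [h]; exact hcB
      · rw [h]; exact hc'B
      · rw [← h]; exact hχ'B j
  have hni1 : oneIrr G ∉ insert a (insert c (insert c' (Finset.univ.image χ'))) := by
    simp only [Finset.mem_insert, Finset.mem_image, Finset.mem_univ, true_and, not_or, not_exists]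
    exact ⟨ha0.symm, hc0.symm, hc'0.symm, fun j => (hχ'ne j).2.2.2⟩
  have hni2 : a ∉ insert c (insert c' (Finset.univ.image χ')) := by
    simp only [Finset.mem_insert, Finset.mem_image, Finset.mem_univ, true_and, not_or, not_exists]
    exact ⟨hac, hac', fun j => (hχ'ne j).1⟩
  have hni3 : c ∉ insert c' (Finset.univ.image χ') := by
    simp only [Finset.mem_insert, Finset.mem_image, Finset.mem_univ, true_and, not_or, not_exists]
    exact ⟨hcc', fun j => (hχ'ne j).2.1⟩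
  have hni4 : c' ∉ Finset.univ.image χ' := by
    simp only [Finset.mem_image, Finset.mem_univ, true_and, not_exists]
    exact fun j => (hχ'ne j).2.2.1
  refine ⟨?_, a, c, c', χ', α, γ, γ', hα, hγ, hγ', hχ'inj, ha0, hc0, hc'0, hac, hac', hcc',
    hχ'ne, ?_, ?_, ?_⟩
  · rw [hBeq, Finset.card_insert_of_notMem hni1, Finset.card_insert_of_notMem hni2,
      Finset.card_insert_of_notMem hni3, Finset.card_insert_of_notMem hni4,
      Finset.card_image_of_injective _ hχ'inj, Finset.card_univ, Fintype.card_fin]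
    omega
  · intro χ
    rw [← hmem χ]
    constructor
    · exact hexh χ
    · rintro (h | h | h | h | ⟨j, h⟩)
      · rw [h]; exact HL.hx₀
      · rw [h]; exact haB
      · rw [h]; exact hcB
      · rw [h]; exact hc'B
      · rw [h]; exact hχ'B j
  · intro l hl0 hl
    refine ⟨hval_a l hl0 hl, hval_c l hl0 hl, hval_c' l hl0 hl, fun j => ?_⟩
    exact hval_b _ (hjr j).1 (hjr j).2 l hl0 hl
  · intro ρ hρ j₀
    have hsum : ∀ i : ℕ, ∑ χ ∈ B, (dihZ σ n ζ χ i : ℂ) * (χ : G → ℂ) ρ =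
        (dihZ σ n ζ (oneIrr G) i : ℂ) * 1 + ((dihZ σ n ζ a i : ℂ) * (a : G → ℂ) ρ +
          ((dihZ σ n ζ c i : ℂ) * (c : G → ℂ) ρ + ((dihZ σ n ζ c' i : ℂ) * (c' : G → ℂ) ρ +
            ∑ j : Fin (2 ^ (n - 2) - 1), (dihZ σ n ζ (χ' j) i : ℂ) * (χ' j : G → ℂ) ρ))) := by
      intro i
      rw [hBeq, Finset.sum_insert hni1, Finset.sum_insert hni2, Finset.sum_insert hni3,
        Finset.sum_insert hni4, Finset.sum_image (fun x _ y _ h => hχ'inj h), oneIrr_apply]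
    have hreg := fun i => dih_sum_Z_regular hM σ hσo hζ i ρ hρ
    constructor
    · have h1 := hreg (2 ^ (n - 2))
      rw [hsum] at h1
      have hN1 : 1 ≤ 2 ^ (n - 2) := by omega
      rw [HL.hd₀ _ hN1 le_rfl, hda _ hN1 le_rfl, hdc _ hN1 le_rfl, hdc' _ hN1 le_rfl,
        if_pos rfl, if_pos rfl] at h1
      have h2 : ∑ j : Fin (2 ^ (n - 2) - 1),
          (dihZ σ n ζ (χ' j) (2 ^ (n - 2)) : ℂ) * (χ' j : G → ℂ) ρ = 0 := by
        apply Finset.sum_eq_zero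
        intro j _
        rw [hχ']
        simp only
        rw [hdb _ (hjr j).1 (hjr j).2 _ hN1 le_rfl, if_neg (by have := (hjr j).2; omega)]
        push_cast
        ring
      rw [h2] at h1
      push_cast at h1
      linear_combination h1
    · have h1 := hreg ((j₀ : ℕ) + 1)
      rw [hsum] at h1
      obtain ⟨hj1, hj2⟩ := hjr j₀
      rw [HL.hd₀ _ hj1 hj2.le, hda _ hj1 hj2.le, hdc _ hj1 hj2.le, hdc' _ hj1 hj2.le,
        if_neg (by omega), if_neg (by omega)] at h1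
      have h2 : ∑ j : Fin (2 ^ (n - 2) - 1),
          (dihZ σ n ζ (χ' j) ((j₀ : ℕ) + 1) : ℂ) * (χ' j : G → ℂ) ρ =
          -(α : ℂ) * (χ' j₀ : G → ℂ) ρ := by
        rw [Finset.sum_eq_single_of_mem j₀ (Finset.mem_univ _)]
        · rw [hχ']
          simp only
          rw [hdb _ hj1 hj2 _ hj1 hj2.le, if_pos rfl]
          push_cast
          ring
        · intro j _ hj
          rw [hχ']
          simp only
          rw [hdb _ (hjr j).1 (hjr j).2 _ hj1 hj2.le,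
            if_neg (fun h => hj (Fin.ext (by omega)))]
          push_cast
          ring
      rw [h2] at h1
      push_cast at h1
      linear_combination h1

end Cfsg.Agent.Lib.Helper75
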