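import Cfsg.Agent.Lib.Helper75.PNilPoint
import Cfsg.Agent.Lib.Helper75.DihMain4

/-!
# Dihedral Sylow `2`-subgroups: characters of the principal block on the `2`-sections of rotations
-/

set_option autoImplicit false
set_option linter.unusedSectionVars false
set_option linter.style.haveILetI false
set_option linter.unusedVariables false

universe u

namespace Cfsg.Agent.Lib.Helper75

open Cfsg Cfsg.Agent.Lib.Helper77 Cfsg.Agent.Lib.Helper81
open scoped ComplexConjugate

section grp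

variable {G : Type u} [Group G] [Finite G] (P : Sylow 2 G) {n : ℕ} (hn : 3 ≤ n)
  (e : (P : Subgroup G) ≃* DihedralGroup (2 ^ (n - 1))) (σ : G) (hσ : σ ∈ (P : Subgroup G))
  (hσo : orderOf σ = 2 ^ (n - 1))

include hn e hσ hσo in
/-- The centralizer of every non-identity rotation has a normal `2`-complement. -/
theorem dih_pnil_pow (l : ℕ) (hl0 : 0 < l) (hl : l < 2 ^ (n - 1)) :
    ∃ k : ℕ, (pPrimeCore 2 (Subgroup.centralizer ({σ ^ l} : Set G))).index = 2 ^ k := by
  by_cases h2 : σ ^ l * σ ^ l = 1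
  · have h3 := (dih_pow_sq_eq_one_iff σ hσo l hl0 hl).mp h2
    obtain ⟨_, _, hqN⟩ := dih_N_facts hn
    have h4 : l = 2 ^ (n - 2) := by omega
    rw [h4]
    exact dih_index_pPrimeCore_centralizer_J P hn e σ hσ hσo
  · exact (dih_centralizer_rot P hn e σ hσ hσo (σ ^ l)
      (Subgroup.pow_mem _ (Subgroup.mem_zpowers σ) l) h2).2

include hσo in
theorem dih_pow_two_element (l : ℕ) : ∃ k : ℕ, orderOf (σ ^ l) = 2 ^ k := by
  have h1 : orderOf (σ ^ l) ∣ 2 ^ (n - 1) := by
    rw [← hσo]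
    exact orderOf_pow_dvd l
  obtain ⟨k, _, hk⟩ := (Nat.dvd_prime_pow Nat.prime_two).mp h1
  exact ⟨k, hk⟩

end grp

variable {G : Type u} [Group G] [Fintype G] [Fintype (IrrCharacter G)]
  {M : Ideal AlgInt} (hM : IsPModular 2 M) (P : Sylow 2 G) {n : ℕ} (hn : 3 ≤ n)
  (e : (P : Subgroup G) ≃* DihedralGroup (2 ^ (n - 1))) (σ : G) (hσ : σ ∈ (P : Subgroup G))
  (hσo : orderOf σ = 2 ^ (n - 1))

include hM hn e hσ hσo in
/-- A character of the principal block is constant on the `2`-section of a non-identity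
rotation. -/
theorem dih_apply_pow_mul (χ : IrrCharacter G) (hχ : χ ∈ principalBlock M G) (l : ℕ)
    (hl0 : 0 < l) (hl : l < 2 ^ (n - 1)) (y : G) (hy : σ ^ l * y = y * σ ^ l)
    (hyo : ¬ 2 ∣ orderOf y) : (χ : G → ℂ) (σ ^ l * y) = (χ : G → ℂ) (σ ^ l) := by
  classical
  haveI : Fact (Nat.Prime 2) := ⟨Nat.prime_two⟩
  haveI : Fintype (Subgroup.centralizer ({σ ^ l} : Set G)) := Fintype.ofFinite _
  haveI : Fintype (IrrCharacter (Subgroup.centralizer ({σ ^ l} : Set G))) := Fintype.ofFinite _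
  have hyC : y ∈ Subgroup.centralizer ({σ ^ l} : Set G) :=
    Subgroup.mem_centralizer_singleton_iff.mpr hy.symm
  have h1 := principalBlock_apply_section_of_pnilpotent hM (dih_pow_two_element σ hσo l)
    (dih_pnil_pow P hn e σ hσ hσo l hl0 hl) χ hχ ⟨y, hyC⟩
    (by rw [Subgroup.orderOf_mk]; exact hyo)
  exact h1

end Cfsg.Agent.Lib.Helper75
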