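import Cfsg.Agent.Lib.Helper75.DihGroup
import Cfsg.Agent.Lib.Helper50.Basic
import Cfsg.Agent.Lib.Helper50.Burnside
import Cfsg.Agent.Lib.Helper30.PPrimeCore

/-!
# Groups with dihedral Sylow `2`-subgroups: centralizers of rotations of order at least four
-/

set_option autoImplicit false
set_option linter.unusedSectionVars false
set_option linter.style.haveILetI false

universe u

namespace Cfsg.Agent.Lib.Helper75

open Cfsg

variable {G : Type u} [Group G] [Finite G] (P : Sylow 2 G) {n : ℕ} (hn : 3 ≤ n)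
  (e : (P : Subgroup G) ≃* DihedralGroup (2 ^ (n - 1))) (σ : G) (hσ : σ ∈ (P : Subgroup G))
  (hσo : orderOf σ = 2 ^ (n - 1))

include hn in
theorem dih_three_le : 3 ≤ 2 ^ (n - 1) := by
  have h1 : 2 ^ 2 ≤ 2 ^ (n - 1) := Nat.pow_le_pow_right (by norm_num) (by omega)
  omega

include hn e in
theorem dih_card : Nat.card (P : Subgroup G) = 2 ^ n := by
  rw [Nat.card_congr e.toEquiv, DihedralGroup.nat_card, ← pow_succ']
  congr 1
  omega

include hn e hσ hσo in
theorem dih_cases (x : G) (hx : x ∈ (P : Subgroup G)) :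
    x ∈ Subgroup.zpowers σ ∨ (x * σ * x⁻¹ = σ⁻¹ ∧ x * x = 1) :=
  (dih_struct (P : Subgroup G) (dih_three_le hn) e σ hσ hσo).1 x hx

include hn e hσ hσo in
theorem dih_exists_tau : ∃ τ ∈ (P : Subgroup G), τ * σ * τ⁻¹ = σ⁻¹ ∧ τ * τ = 1 :=
  (dih_struct (P : Subgroup G) (dih_three_le hn) e σ hσ hσo).2

include hn e hσ hσo in
/-- Elements of `P` whose square is not `1` are rotations. -/
theorem dih_mem_zpowers_of_sq_ne (v : G) (hv : v ∈ (P : Subgroup G)) (hv2 : v * v ≠ 1) :
    v ∈ Subgroup.zpowers σ := by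
  rcases dih_cases P hn e σ hσ hσo v hv with h | h
  · exact h
  · exact absurd h.2 hv2

include hn e hσ hσo in
/-- The centralizer in `P` of a rotation of order at least four consists of rotations. -/
theorem dih_cent_mem (x v : G) (hx : x ∈ (P : Subgroup G)) (hv : v ∈ Subgroup.zpowers σ)
    (hv2 : v * v ≠ 1) (hxv : x * v = v * x) : x ∈ Subgroup.zpowers σ := by
  rcases dih_cases P hn e σ hσ hσo x hx with h | h
  · exact h
  · exfalso
    obtain ⟨k, rfl⟩ := Subgroup.mem_zpowers_iff.mp hv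
    have h1 : x * σ ^ k * x⁻¹ = (σ ^ k)⁻¹ := by
      rw [← conj_zpow, h.1, inv_zpow]
    apply hv2
    have h2 : x * σ ^ k * x⁻¹ = σ ^ k := by rw [hxv]; group
    rw [h2] at h1
    calc σ ^ k * σ ^ k = σ ^ k * (σ ^ k)⁻¹ := by rw [← h1]
      _ = 1 := mul_inv_cancel _

include hn e hσ hσo in
/-- The rotation subgroup is a Sylow `2`-subgroup of the centralizer of a rotation `u` of order at
least four; in particular the `2`-part of `|C(u)|` is `2 ^ (n - 1)` and `C(u)` has a normal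
`2`-complement. -/
theorem dih_centralizer_rot (u : G) (hu : u ∈ Subgroup.zpowers σ) (hu2 : u * u ≠ 1) :
    (Nat.card (Subgroup.centralizer ({u} : Set G))).factorization 2 = n - 1 ∧
    ∃ k : ℕ, (pPrimeCore 2 (Subgroup.centralizer ({u} : Set G))).index = 2 ^ k := by
  haveI : Fact (Nat.Prime 2) := ⟨Nat.prime_two⟩
  set C := Subgroup.centralizer ({u} : Set G) with hC
  have hσC : σ ∈ C := by
    rw [hC, Subgroup.mem_centralizer_singleton_iff]
    obtain ⟨k, rfl⟩ := Subgroup.mem_zpowers_iff.mp hu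
    exact (Commute.zpow_right (Commute.refl σ) k).eq
  let σ' : C := ⟨σ, hσC⟩
  have hoσ' : orderOf σ' = 2 ^ (n - 1) := by
    rw [← hσo]; exact Subgroup.orderOf_mk σ hσC
  have hpz : IsPGroup 2 (Subgroup.zpowers σ') := by
    apply IsPGroup.of_card (n := n - 1)
    rw [Nat.card_zpowers, hoσ']
  obtain ⟨Q, hQ⟩ := hpz.exists_le_sylow
  have huC : u ∈ C := by
    rw [hC, Subgroup.mem_centralizer_singleton_iff]
  have huQ : (⟨u, huC⟩ : C) ∈ (Q : Subgroup C) := by
    apply hQ
    obtain ⟨k, hk⟩ := Subgroup.mem_zpowers_iff.mp hu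
    rw [Subgroup.mem_zpowers_iff]
    refine ⟨k, ?_⟩
    apply Subtype.ext
    rw [Subgroup.coe_zpow]
    exact hk
  -- every element of `Q` is a power of `σ`
  have hB : IsPGroup 2 ((Q : Subgroup C).map C.subtype) := Q.isPGroup'.map _
  obtain ⟨c, hc⟩ := Cfsg.Agent.Lib.Helper50.exists_conj_mem_sylow P hB
  have huB : u ∈ (Q : Subgroup C).map C.subtype := ⟨⟨u, huC⟩, huQ, rfl⟩
  have hcu := hc u huB
  have hcu2 : (c * u * c⁻¹) * (c * u * c⁻¹) ≠ 1 := by
    intro h
    apply hu2
    have : u * u = c⁻¹ * ((c * u * c⁻¹) * (c * u * c⁻¹)) * c := by group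
    rw [this, h]; group
  have hcuz := dih_mem_zpowers_of_sq_ne P hn e σ hσ hσo _ hcu hcu2
  have hpow : ∀ x ∈ (Q : Subgroup C), c * (x : G) * c⁻¹ ∈ Subgroup.zpowers σ := by
    intro x hx
    have hxB : (x : G) ∈ (Q : Subgroup C).map C.subtype := ⟨x, hx, rfl⟩
    have h1 := hc (x : G) hxB
    have hxu : (x : G) * u = u * (x : G) := Subgroup.mem_centralizer_singleton_iff.mp x.2
    have h4 : (c * (x : G) * c⁻¹) * (c * u * c⁻¹) = (c * u * c⁻¹) * (c * (x : G) * c⁻¹) := by
      have e1 : (c * (x : G) * c⁻¹) * (c * u * c⁻¹) = c * ((x : G) * u) * c⁻¹ := by group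
      have e2 : (c * u * c⁻¹) * (c * (x : G) * c⁻¹) = c * (u * (x : G)) * c⁻¹ := by group
      rw [e1, e2, hxu]
    exact dih_cent_mem P hn e σ hσ hσo _ _ h1 hcuz hcu2 h4
  -- hence `|Q| ≤ 2 ^ (n - 1)`
  have hle : Nat.card (Q : Subgroup C) ≤ 2 ^ (n - 1) := by
    have hinj : Function.Injective
        (fun x : (Q : Subgroup C) => (⟨c * ((x : C) : G) * c⁻¹, hpow x x.2⟩ : Subgroup.zpowers σ)) := by
      intro x y hxy
      have h1 : c * ((x : C) : G) * c⁻¹ = c * ((y : C) : G) * c⁻¹ := congrArg Subtype.val hxy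
      have h2 : ((x : C) : G) = ((y : C) : G) := by
        have : ((x : C) : G) = c⁻¹ * (c * ((x : C) : G) * c⁻¹) * c := by group
        rw [this, h1]; group
      exact Subtype.ext (Subtype.ext h2)
    have := Nat.card_le_card_of_injective _ hinj
    rwa [Nat.card_zpowers, hσo] at this
  have hQeq : (Q : Subgroup C) = Subgroup.zpowers σ' := by
    symm
    apply Subgroup.eq_of_le_of_card_ge hQ
    rw [Nat.card_zpowers, hoσ']
    exact hle
  have hQcard : Nat.card (Q : Subgroup C) = 2 ^ (n - 1) := by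
    rw [hQeq, Nat.card_zpowers, hoσ']
  have hfac : (Nat.card C).factorization 2 = n - 1 := by
    have h1 := Q.card_eq_multiplicity
    rw [hQcard] at h1
    exact (Nat.pow_right_injective (le_refl 2) h1).symm
  refine ⟨hfac, ?_⟩
  have hcyc : IsCyclic (Q : Subgroup C) := by
    rw [hQeq]; infer_instance
  have h2C : 2 ∣ Nat.card C := by
    have h1 : Nat.card (Q : Subgroup C) ∣ Nat.card C := Subgroup.card_subgroup_dvd_card _
    rw [hQcard] at h1
    exact dvd_trans (dvd_pow_self 2 (by omega)) h1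
  have hmf : (Nat.card C).minFac = 2 := (Nat.minFac_eq_two_iff _).2 h2C
  have hNC := IsCyclic.normalizer_le_centralizer hmf (P := Q) hcyc
  have hcompl := Cfsg.Agent.Lib.Helper50.pPrimeCore_isComplement' Q hNC
  refine ⟨n - 1, ?_⟩
  rw [hcompl.symm.index_eq_card, hQcard]

end Cfsg.Agent.Lib.Helper75
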