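import Cfsg.Agent.Lib.Helper80.JointEigen

/-!
# Character values on involutions and on Klein four-groups
-/

set_option autoImplicit false

universe u

namespace Cfsg.Agent.Lib.Helper75

open Cfsg

theorem eq_one_or_neg_one_of_pow_orderOf {G : Type u} [Group G] {z : G} (hz : z * z = 1) {c : ℂ}
    (hc : c ^ orderOf z = 1) : c = 1 ∨ c = -1 := by
  have h2 : orderOf z ∣ 2 := orderOf_dvd_of_pow_eq_one (by rw [pow_two]; exact hz)
  obtain ⟨m, hm⟩ := h2
  have h3 : c ^ 2 = 1 := by rw [hm, pow_mul, hc, one_pow]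
  have h4 : (c - 1) * (c + 1) = 0 := by ring_nf; rw [h3]; ring
  rcases mul_eq_zero.mp h4 with h | h
  · left; exact sub_eq_zero.mp h
  · right; exact eq_neg_of_add_eq_zero_left h

theorem exists_int_sum_of_signs {n : ℕ} (α : Fin n → ℂ) (hα : ∀ i, α i = 1 ∨ α i = -1) :
    ∃ a : ℤ, ∑ i, α i = (a : ℂ) := by
  classical
  refine ⟨∑ i, (if α i = 1 then (1 : ℤ) else -1), ?_⟩
  push_cast
  refine Finset.sum_congr rfl fun i _ => ?_
  rcases hα i with h | h
  · rw [if_pos h, h]
  · have hne : α i ≠ 1 := by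
      rw [h]
      norm_num
    rw [if_neg hne, h]

/-- The value of a character at an element of order dividing two is a rational integer. -/
theorem exists_int_of_sq_one {G : Type u} [Group G] [Finite G] {χ : G → ℂ}
    (hχ : IsCharacter G χ) {z : G} (hz : z * z = 1) : ∃ a : ℤ, χ z = (a : ℂ) := by
  obtain ⟨n, α, β, hα, -, h⟩ := Cfsg.Agent.Lib.Helper80.exists_joint_eigenvalues hχ z 1 (by simp)
  have h1 := h 1 0
  simp only [pow_one, pow_zero, mul_one] at h1
  rw [h1]
  exact exists_int_sum_of_signs α fun i => eq_one_or_neg_one_of_pow_orderOf hz (hα i)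

/-- If a character of degree `d` takes the same integer value `a` at the three non-identity
elements `x, y, x y` of a Klein four-group, then `d ≡ a (mod 4)`. -/
theorem four_dvd_sub_of_klein {G : Type u} [Group G] [Finite G] {χ : G → ℂ}
    (hχ : IsCharacter G χ) {x y : G} (hxy : x * y = y * x) (hx : x * x = 1) (hy : y * y = 1)
    (d : ℕ) (hd : χ 1 = (d : ℂ)) (a : ℤ) (hxa : χ x = (a : ℂ)) (hya : χ y = (a : ℂ))
    (hxya : χ (x * y) = (a : ℂ)) : (4 : ℤ) ∣ (d : ℤ) - a := by
  classical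
  obtain ⟨n, α, β, hα, hβ, h⟩ := Cfsg.Agent.Lib.Helper80.exists_joint_eigenvalues hχ x y hxy
  have hα' : ∀ i, α i = 1 ∨ α i = -1 := fun i => eq_one_or_neg_one_of_pow_orderOf hx (hα i)
  have hβ' : ∀ i, β i = 1 ∨ β i = -1 := fun i => eq_one_or_neg_one_of_pow_orderOf hy (hβ i)
  have h00 := h 0 0
  have h10 := h 1 0
  have h01 := h 0 1
  have h11 := h 1 1
  simp only [pow_one, pow_zero, mul_one, one_mul] at h00 h10 h01 h11
  rw [hd] at h00
  rw [hxa] at h10
  rw [hya] at h01
  rw [hxya] at h11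
  have hsum : (d : ℂ) + a + a + a = ∑ i, (1 + α i) * (1 + β i) := by
    have e : ∀ i, (1 + α i) * (1 + β i) = 1 + α i + β i + α i * β i := fun i => by ring
    rw [Finset.sum_congr rfl fun i _ => e i, Finset.sum_add_distrib, Finset.sum_add_distrib,
      Finset.sum_add_distrib, ← h00, ← h10, ← h01, ← h11]
  have hterm : ∀ i, (1 + α i) * (1 + β i) =
      ((4 * (if α i = 1 ∧ β i = 1 then (1 : ℤ) else 0) : ℤ) : ℂ) := by
    intro i
    rcases hα' i with ha | ha <;> rcases hβ' i with hb | hb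
    · rw [if_pos ⟨ha, hb⟩, ha, hb]; push_cast; ring
    · have : ¬ (α i = 1 ∧ β i = 1) := by
        rintro ⟨-, h2⟩
        rw [hb] at h2
        norm_num at h2
      rw [if_neg this, hb]; push_cast; ring
    · have : ¬ (α i = 1 ∧ β i = 1) := by
        rintro ⟨h2, -⟩
        rw [ha] at h2
        norm_num at h2
      rw [if_neg this, ha]; push_cast; ring
    · have : ¬ (α i = 1 ∧ β i = 1) := by
        rintro ⟨h2, -⟩
        rw [ha] at h2
        norm_num at h2
      rw [if_neg this, ha]; push_cast; ring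
  rw [Finset.sum_congr rfl fun i _ => hterm i, ← Int.cast_sum, ← Finset.mul_sum] at hsum
  have hZ : (d : ℤ) + a + a + a = 4 * ∑ i : Fin n, (if α i = 1 ∧ β i = 1 then (1 : ℤ) else 0) := by
    have : (((d : ℤ) + a + a + a : ℤ) : ℂ) =
        ((4 * ∑ i : Fin n, (if α i = 1 ∧ β i = 1 then (1 : ℤ) else 0) : ℤ) : ℂ) := by
      rw [← hsum]
      push_cast
      ring
    exact_mod_cast this
  refine ⟨∑ i : Fin n, (if α i = 1 ∧ β i = 1 then (1 : ℤ) else 0) - a, ?_⟩
  linarith

end Cfsg.Agent.Lib.Helper75
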