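import Cfsg.Agent.Lib.Helper75.PrincipalSection
import Cfsg.Agent.Lib.Helper75.KleinCent
import Cfsg.Agent.Lib.Helper75.InvolValues
import Cfsg.Agent.Lib.Helper77.StrongOrth

/-!
# The principal 2-block of a group with Klein four Sylow 2-subgroups and one class of involutions
-/

set_option autoImplicit false

universe u

namespace Cfsg.Agent.Lib.Helper75

open Cfsg Cfsg.Agent.Lib.Helper77 Cfsg.Agent.Lib.Helper81
open scoped ComplexConjugate

variable {G : Type u} [Group G] [Fintype G]

omit [Fintype G] in
theorem orderOf_eq_two_of_sq {z : G} (hzz : z * z = 1) (hz1 : z ≠ 1) : orderOf z = 2 :=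
  orderOf_eq_prime (by rw [pow_two]; exact hzz) hz1

/-- A member of the principal `2`-block does not vanish at an element centralized by a Sylow
`2`-subgroup. -/
theorem principalBlock_apply_ne_zero {M : Ideal AlgInt} (hM : IsPModular 2 M) (P : Sylow 2 G)
    {z : G} (hPz : (P : Subgroup G) ≤ Subgroup.centralizer ({z} : Set G))
    (χ : IrrCharacter G) (hχ : χ ∈ principalBlock M G) : (χ : G → ℂ) z ≠ 0 := by
  haveI : Fact (Nat.Prime 2) := ⟨Nat.prime_two⟩
  intro h0
  have h1 : MemLocalIdeal M (centralChar (fun _ : G => (1 : ℂ)) z - centralChar (χ : G → ℂ) z) :=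
    hχ z
  unfold centralChar at h1
  rw [h0, mul_zero, zero_div, sub_zero, mul_one, div_one] at h1
  have h2 := (memLocalIdeal_natCast_iff hM _).mp h1
  have h3 : (Subgroup.centralizer ({z} : Set G)).index ∣ (P : Subgroup G).index :=
    Subgroup.index_dvd_of_le hPz
  exact P.not_dvd_index (h2.trans h3)

/-- The hypotheses: the Sylow `2`-subgroup `P` has order four and exponent two, and all
involutions are conjugate. -/
structure KleinHyp (G : Type u) [Group G] (P : Sylow 2 G) : Prop where
  card : Nat.card P = 4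
  exp : ∀ u ∈ (P : Subgroup G), u * u = 1
  one : ∀ s t : G, orderOf s = 2 → orderOf t = 2 → IsConj s t

omit [Fintype G] in
theorem KleinHyp.le_centralizer {P : Sylow 2 G} (H : KleinHyp G P) {z : G}
    (hzP : z ∈ (P : Subgroup G)) : (P : Subgroup G) ≤ Subgroup.centralizer ({z} : Set G) := by
  intro u hu
  rw [Subgroup.mem_centralizer_singleton_iff]
  exact comm_of_exp_two H.exp hu hzP

theorem KleinHyp.factorization_centralizer {P : Sylow 2 G} (H : KleinHyp G P) {z : G}
    (hzP : z ∈ (P : Subgroup G)) :
    (Nat.card (Subgroup.centralizer ({z} : Set G))).factorization 2 = 2 := by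
  haveI : Fact (Nat.Prime 2) := ⟨Nat.prime_two⟩
  have hG2 : (Nat.card G).factorization 2 = 2 := by
    have h1 := P.card_eq_multiplicity
    rw [H.card] at h1
    have h2 : (2 : ℕ) ^ 2 = 2 ^ (Nat.card G).factorization 2 := by rw [← h1]; norm_num
    exact (Nat.pow_right_injective (le_refl 2) h2).symm
  have hC0 : Nat.card (Subgroup.centralizer ({z} : Set G)) ≠ 0 := Nat.card_pos.ne'
  have hG0 : Nat.card G ≠ 0 := Nat.card_pos.ne'
  apply le_antisymm
  · have h5 := (Nat.factorization_le_iff_dvd hC0 hG0).mpr (Subgroup.card_subgroup_dvd_card _) 2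
    rw [hG2] at h5
    exact h5
  · have h4 : 2 ^ 2 ∣ Nat.card (Subgroup.centralizer ({z} : Set G)) := by
      have := Subgroup.card_dvd_of_le (H.le_centralizer hzP)
      rw [H.card] at this
      exact this
    exact (Nat.Prime.pow_dvd_iff_le_factorization Nat.prime_two hC0).mp h4

open Classical in
/-- The squares of the values at an involution of the members of the principal block add up
to four. -/
theorem KleinHyp.sum_sq [Fintype (IrrCharacter G)] {M : Ideal AlgInt} (hM : IsPModular 2 M)
    {P : Sylow 2 G} (H : KleinHyp G P) {z : G} (hzP : z ∈ (P : Subgroup G)) (hz1 : z ≠ 1) :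
    ∑ χ ∈ Finset.univ.filter (fun χ : IrrCharacter G => χ ∈ principalBlock M G),
      (χ : G → ℂ) z * conj ((χ : G → ℂ) z) = 4 := by
  haveI : Fact (Nat.Prime 2) := ⟨Nat.prime_two⟩
  haveI : Fintype (Subgroup.centralizer ({z} : Set G)) := Fintype.ofFinite _
  haveI : Fintype (IrrCharacter (Subgroup.centralizer ({z} : Set G))) := Fintype.ofFinite _
  have hz2 : orderOf z = 2 := orderOf_eq_two_of_sq (H.exp z hzP) hz1
  have hx : ∃ k : ℕ, orderOf z = 2 ^ k := ⟨1, by rw [hz2, pow_one]⟩
  have hidx : ∃ k : ℕ, (pPrimeCore 2 (Subgroup.centralizer ({z} : Set G))).index = 2 ^ k :=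
    ⟨2, by rw [index_pPrimeCore_centralizer_klein P H.card H.exp hzP hz1]; norm_num⟩
  have h1 := sum_principalBlock_section_of_pnilpotent hM hx hidx
    (1 : Subgroup.centralizer ({z} : Set G)) (by rw [orderOf_one]; norm_num)
  rw [H.factorization_centralizer hzP] at h1
  simp only [Subgroup.coe_one, mul_one] at h1
  rw [h1]
  norm_num

end Cfsg.Agent.Lib.Helper75
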