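import Mathlib
import Cfsg.Agent.Lib.Helper4.ClassCount
import Cfsg.Agent.Lib.Helper50.Basic
import Cfsg.Agent.Lib.Helper75.KleinCent

/-!
# Counting pairs of involutions in a `2`-nilpotent group with Klein four Sylow subgroups
-/

set_option autoImplicit false

universe u

namespace Cfsg.Agent.Lib.Helper75

variable {C : Type u} [Group C] [Finite C]

/-- The setting: `K` is a normal subgroup of odd order and index four of `C`, `Q` a Sylow
`2`-subgroup of exponent two, and `J` a central involution. -/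
structure KleinCentHyp (K : Subgroup C) (Q : Sylow 2 C) (J : C) : Prop where
  odd : Odd (Nat.card K)
  card : Nat.card C = 4 * Nat.card K
  cardQ : Nat.card Q = 4
  exp : ∀ u ∈ (Q : Subgroup C), u * u = 1
  memJ : J ∈ (Q : Subgroup C)
  neJ : J ≠ 1
  central : ∀ c : C, c * J = J * c

namespace KleinCentHyp

variable {K : Subgroup C} [K.Normal] {Q : Sylow 2 C} {J : C}

omit [Finite C] [K.Normal] in
theorem eq_one_of_sq (H : KleinCentHyp K Q J) {k : C} (hk : k ∈ K) (hkk : k * k = 1) : k = 1 := by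
  have h1 : orderOf k ∣ 2 := orderOf_dvd_of_pow_eq_one (by rw [pow_two]; exact hkk)
  have h2 : orderOf k ∣ Nat.card K := Subgroup.orderOf_dvd_natCard K hk
  have h3 : orderOf k ∣ Nat.gcd 2 (Nat.card K) := Nat.dvd_gcd h1 h2
  have h4 : Nat.gcd 2 (Nat.card K) = 1 := by
    rw [← Nat.coprime_iff_gcd_eq_one]
    exact (Nat.coprime_two_left).mpr H.odd
  rw [h4, Nat.dvd_one] at h3
  exact orderOf_eq_one_iff.mp h3

omit [Finite C] [K.Normal] in
theorem comm (H : KleinCentHyp K Q J) {a b : C} (ha : a ∈ (Q : Subgroup C))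
    (hb : b ∈ (Q : Subgroup C)) : a * b = b * a :=
  comm_of_exp_two H.exp ha hb

omit [Finite C] in
/-- The projection to `C ⧸ K` is injective on `Q`. -/
theorem mk_injOn (H : KleinCentHyp K Q J) {a b : C} (ha : a ∈ (Q : Subgroup C))
    (hb : b ∈ (Q : Subgroup C)) (hab : (a : C ⧸ K) = (b : C ⧸ K)) : a = b := by
  have h1 : a⁻¹ * b ∈ K := QuotientGroup.eq.mp hab
  have h2 : a⁻¹ * b ∈ (Q : Subgroup C) := Subgroup.mul_mem _ (Subgroup.inv_mem _ ha) hb
  have h3 := H.eq_one_of_sq h1 (H.exp _ h2)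
  exact (inv_mul_eq_one.mp h3)

theorem card_quotient (H : KleinCentHyp K Q J) : Nat.card (C ⧸ K) = 4 := by
  have h1 := K.card_mul_index
  rw [H.card, Subgroup.index_eq_card] at h1
  have h2 : 0 < Nat.card K := Nat.card_pos
  have h3 : Nat.card K * Nat.card (C ⧸ K) = Nat.card K * 4 := by rw [h1, mul_comm]
  exact Nat.eq_of_mul_eq_mul_left h2 h3

/-- The projection to `C ⧸ K` maps `Q` onto `C ⧸ K`. -/
theorem exists_mem_mk_eq (H : KleinCentHyp K Q J) (a : C ⧸ K) :
    ∃ q ∈ (Q : Subgroup C), (q : C ⧸ K) = a := by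
  let f : ↥(Q : Subgroup C) → C ⧸ K := fun q => ((q : C) : C ⧸ K)
  have hf : Function.Injective f := by
    intro q q' h
    exact Subtype.ext (H.mk_injOn q.2 q'.2 h)
  have hc : Nat.card (C ⧸ K) ≤ Nat.card (Q : Subgroup C) := by
    rw [H.card_quotient]
    exact H.cardQ.ge
  obtain ⟨q, hq⟩ := (hf.bijective_of_nat_card_le hc).surjective a
  exact ⟨q, q.2, hq⟩

theorem comm_quotient (H : KleinCentHyp K Q J) (a b : C ⧸ K) : a * b = b * a := by
  obtain ⟨q, hq, rfl⟩ := H.exists_mem_mk_eq a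
  obtain ⟨q', hq', rfl⟩ := H.exists_mem_mk_eq b
  rw [← QuotientGroup.mk_mul, ← QuotientGroup.mk_mul, H.comm hq hq']

/-- For `q ∈ Q` outside `{1, J}`, the centralizer of `q` is the centralizer of `Q`. -/
theorem centralizer_eq (H : KleinCentHyp K Q J) {q : C} (hq : q ∈ (Q : Subgroup C))
    (hq1 : q ≠ 1) (hqJ : q ≠ J) :
    Subgroup.centralizer ({q} : Set C) = Subgroup.centralizer ((Q : Subgroup C) : Set C) := by
  apply le_antisymm
  · intro c hc
    have hcq : c * q = q * c := Subgroup.mem_centralizer_singleton_iff.mp hc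
    -- the subgroup of `Q` commuting with `c`
    let L : Subgroup C := (Q : Subgroup C) ⊓ Subgroup.centralizer ({c} : Set C)
    have h1L : (1 : C) ∈ L := Subgroup.one_mem _
    have hJL : J ∈ L := ⟨H.memJ, Subgroup.mem_centralizer_singleton_iff.mpr (H.central c).symm⟩
    have hqL : q ∈ L := ⟨hq, Subgroup.mem_centralizer_singleton_iff.mpr hcq.symm⟩
    have hLQ : L ≤ (Q : Subgroup C) := inf_le_left
    have hdvd : Nat.card L ∣ 4 := by
      have := Subgroup.card_dvd_of_le hLQ
      rw [show Nat.card (Q : Subgroup C) = 4 from H.cardQ] at this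
      exact this
    have h3 : 3 ≤ Nat.card L := by
      classical
      haveI : Fintype L := Fintype.ofFinite _
      let S : Finset L := {⟨1, h1L⟩, ⟨J, hJL⟩, ⟨q, hqL⟩}
      have hS : S.card = 3 := by
        rw [Finset.card_insert_of_notMem, Finset.card_insert_of_notMem, Finset.card_singleton]
        · simp only [Finset.mem_singleton, Subtype.mk.injEq]
          exact fun h => hqJ h.symm
        · simp only [Finset.mem_insert, Finset.mem_singleton, Subtype.mk.injEq]
          rintro (h | h)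
          · exact H.neJ h.symm
          · exact hq1 h.symm
      have := Finset.card_le_univ S
      rw [hS, ← Nat.card_eq_fintype_card] at this
      exact this
    have h4 : Nat.card L = 4 := by
      have hle : Nat.card L ≤ 4 := Nat.le_of_dvd (by norm_num) hdvd
      interval_cases h : Nat.card L
      · norm_num at hdvd
      · rfl
    have hLeq : L = (Q : Subgroup C) := by
      apply Subgroup.eq_of_le_of_card_ge hLQ
      rw [h4]
      exact H.cardQ.le
    rw [Subgroup.mem_centralizer_iff]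
    intro x hx
    have hxL : x ∈ L := by rw [hLeq]; exact hx
    exact Subgroup.mem_centralizer_singleton_iff.mp hxL.2
  · exact Subgroup.centralizer_le (Set.singleton_subset_iff.mpr hq)

/-- Elements of square one in the coset of `q ∈ Q` are the conjugates of `q`. -/
theorem sq_one_iff_isConj (H : KleinCentHyp K Q J) {q : C} (hq : q ∈ (Q : Subgroup C))
    (hq1 : q ≠ 1) (u : C) :
    (u * u = 1 ∧ (u : C ⧸ K) = (q : C ⧸ K)) ↔ IsConj q u := by
  haveI : Fact (Nat.Prime 2) := ⟨Nat.prime_two⟩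
  constructor
  · rintro ⟨huu, huq⟩
    have hpg : IsPGroup 2 (Subgroup.zpowers u) := by
      have h1 : orderOf u ∣ 2 := orderOf_dvd_of_pow_eq_one (by rw [pow_two]; exact huu)
      rcases (Nat.dvd_prime Nat.prime_two).mp h1 with h | h
      · apply IsPGroup.of_card (n := 0)
        rw [Nat.card_zpowers, h, pow_zero]
      · apply IsPGroup.of_card (n := 1)
        rw [Nat.card_zpowers, h, pow_one]
    obtain ⟨a, ha⟩ := Cfsg.Agent.Lib.Helper50.exists_conj_mem_sylow Q hpg
    have h1 := ha u (Subgroup.mem_zpowers u)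
    have h2 : ((a * u * a⁻¹ : C) : C ⧸ K) = (q : C ⧸ K) := by
      rw [QuotientGroup.mk_mul, QuotientGroup.mk_mul, H.comm_quotient (a : C ⧸ K),
        mul_assoc, ← QuotientGroup.mk_mul, mul_inv_cancel, QuotientGroup.mk_one, mul_one, huq]
    have h3 := H.mk_injOn h1 hq h2
    rw [isConj_iff]
    refine ⟨a⁻¹, ?_⟩
    rw [← h3]
    simp only [mul_assoc, inv_inv, inv_mul_cancel_left, inv_mul_cancel, mul_one]
  · intro h
    obtain ⟨c, hc⟩ := isConj_iff.mp h
    constructor
    · rw [← hc]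
      have := H.exp q hq
      calc c * q * c⁻¹ * (c * q * c⁻¹) = c * (q * q) * c⁻¹ := by
            simp only [mul_assoc, inv_mul_cancel_left]
        _ = 1 := by rw [this, mul_one, mul_inv_cancel]
    · rw [← hc, QuotientGroup.mk_mul, QuotientGroup.mk_mul, H.comm_quotient (c : C ⧸ K),
        mul_assoc, ← QuotientGroup.mk_mul, mul_inv_cancel, QuotientGroup.mk_one, mul_one]

/-- The number of elements of square one in a coset `a ≠ 1, J K` of `K`. -/
theorem card_sq_one_coset (H : KleinCentHyp K Q J) (a : C ⧸ K) (ha1 : a ≠ 1)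
    (haJ : a ≠ (J : C ⧸ K)) :
    Nat.card {u : C // u * u = 1 ∧ (u : C ⧸ K) = a} *
      Nat.card (Subgroup.centralizer ((Q : Subgroup C) : Set C)) = Nat.card C := by
  obtain ⟨q, hq, rfl⟩ := H.exists_mem_mk_eq a
  have hq1 : q ≠ 1 := by
    intro h
    apply ha1
    rw [h]
    exact QuotientGroup.mk_one K
  have hqJ : q ≠ J := by
    intro h
    apply haJ
    rw [h]
  rw [← H.centralizer_eq hq hq1 hqJ, ← Cfsg.Agent.Lib.Helper4.card_conj_mul_card_centralizer q]
  congr 1
  exact Nat.card_congr (Equiv.subtypeEquivRight fun u => H.sq_one_iff_isConj hq hq1 u)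

open Classical in
/-- **The count.**  The number of pairs `(u, v)` of involutions of `C` with `u v ∈ J K`, times
`|C_C(Q)|²`, is `2 |C|²`. -/
theorem card_pairs (H : KleinCentHyp K Q J) :
    Nat.card {p : C × C // p.1 * p.1 = 1 ∧ p.1 ≠ 1 ∧ p.2 * p.2 = 1 ∧ p.2 ≠ 1 ∧
        J⁻¹ * (p.1 * p.2) ∈ K} *
      Nat.card (Subgroup.centralizer ((Q : Subgroup C) : Set C)) ^ 2 = 2 * Nat.card C ^ 2 := by
  haveI : Fintype C := Fintype.ofFinite _
  haveI : Fintype (C ⧸ K) := Fintype.ofFinite _
  set cQ := Nat.card (Subgroup.centralizer ((Q : Subgroup C) : Set C)) with hcQ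
  -- `J ∉ K`
  have hJK : (J : C ⧸ K) ≠ 1 := by
    intro h
    have h1 : J ∈ K := (QuotientGroup.eq_one_iff J).mp h
    exact H.neJ (H.eq_one_of_sq h1 (H.exp J H.memJ))
  -- elements of square one in `K`
  have hK1 : ∀ u : C, u * u = 1 → (u : C ⧸ K) = 1 → u = 1 := by
    intro u huu hu
    exact H.eq_one_of_sq ((QuotientGroup.eq_one_iff u).mp hu) huu
  -- squares in the quotient
  have hsq : ∀ a : C ⧸ K, a * a = 1 := by
    intro a
    obtain ⟨q, hq, rfl⟩ := H.exists_mem_mk_eq a
    rw [← QuotientGroup.mk_mul, H.exp q hq]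
    rfl
  set s : Finset (C × C) := Finset.univ.filter (fun p : C × C =>
    p.1 * p.1 = 1 ∧ p.1 ≠ 1 ∧ p.2 * p.2 = 1 ∧ p.2 ≠ 1 ∧ J⁻¹ * (p.1 * p.2) ∈ K) with hs
  set t : Finset (C ⧸ K) := (Finset.univ.erase (1 : C ⧸ K)).erase (J : C ⧸ K) with ht
  have htcard : t.card = 2 := by
    rw [ht, Finset.card_erase_of_mem, Finset.card_erase_of_mem (Finset.mem_univ _),
      Finset.card_univ, ← Nat.card_eq_fintype_card, H.card_quotient]
    exact Finset.mem_erase.mpr ⟨hJK, Finset.mem_univ _⟩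
  have hmem_t : ∀ a : C ⧸ K, a ∈ t ↔ a ≠ 1 ∧ a ≠ (J : C ⧸ K) := by
    intro a
    rw [ht, Finset.mem_erase, Finset.mem_erase]
    constructor
    · rintro ⟨h1, h2, -⟩
      exact ⟨h2, h1⟩
    · rintro ⟨h1, h2⟩
      exact ⟨h2, h1, Finset.mem_univ _⟩
  have hmaps : ∀ p ∈ s, ((p.1 : C) : C ⧸ K) ∈ t := by
    intro p hp
    obtain ⟨h1, h2, h3, h4, h5⟩ := (Finset.mem_filter.mp hp).2
    rw [hmem_t]
    constructor
    · intro h
      exact h2 (hK1 p.1 h1 h)
    · intro h
      apply h4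
      apply hK1 p.2 h3
      have h6 : ((J : C) : C ⧸ K) = ((p.1 * p.2 : C) : C ⧸ K) := QuotientGroup.eq.mpr h5
      rw [QuotientGroup.mk_mul, h] at h6
      have h7 := hsq (J : C ⧸ K)
      calc ((p.2 : C) : C ⧸ K) = (J : C ⧸ K) * ((J : C ⧸ K) * (p.2 : C ⧸ K)) := by
            rw [← mul_assoc, h7, one_mul]
        _ = 1 := by rw [← h6, h7]
  have hcard := Finset.card_eq_sum_card_fiberwise hmaps
  -- each fiber
  set A : (C ⧸ K) → Finset C := fun a =>
    Finset.univ.filter (fun u : C => u * u = 1 ∧ (u : C ⧸ K) = a) with hA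
  have hAcard : ∀ a ∈ t, (A a).card * cQ = Nat.card C := by
    intro a ha
    obtain ⟨h1, h2⟩ := (hmem_t a).mp ha
    rw [← H.card_sq_one_coset a h1 h2, Nat.card_eq_fintype_card, Fintype.card_subtype]
  have hfiber : ∀ a ∈ t, s.filter (fun p => ((p.1 : C) : C ⧸ K) = a) =
      (A a) ×ˢ (A (a * (J : C ⧸ K))) := by
    intro a ha
    obtain ⟨ha1, haJ⟩ := (hmem_t a).mp ha
    ext p
    simp only [hs, hA, Finset.mem_filter, Finset.mem_univ, true_and, Finset.mem_product]
    constructor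
    · rintro ⟨⟨h1, h2, h3, h4, h5⟩, h6⟩
      refine ⟨⟨h1, h6⟩, h3, ?_⟩
      have h7 : ((J : C) : C ⧸ K) = ((p.1 * p.2 : C) : C ⧸ K) := QuotientGroup.eq.mpr h5
      rw [QuotientGroup.mk_mul, h6] at h7
      rw [h7, ← mul_assoc, hsq a, one_mul]
    · rintro ⟨⟨h1, h2⟩, h3, h4⟩
      refine ⟨⟨h1, ?_, h3, ?_, ?_⟩, h2⟩
      · intro h
        apply ha1
        rw [← h2, h]
        rfl
      · intro h
        apply haJ
        rw [h] at h4
        have h5 : (1 : C ⧸ K) = a * (J : C ⧸ K) := h4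
        calc a = a * ((J : C ⧸ K) * (J : C ⧸ K)) := by rw [hsq, mul_one]
          _ = (a * (J : C ⧸ K)) * (J : C ⧸ K) := by rw [mul_assoc]
          _ = (J : C ⧸ K) := by rw [← h5, one_mul]
      · apply QuotientGroup.eq.mp
        rw [QuotientGroup.mk_mul, h2, h4, ← mul_assoc, hsq a, one_mul]
  have hmulmem : ∀ a ∈ t, a * (J : C ⧸ K) ∈ t := by
    intro a ha
    obtain ⟨ha1, haJ⟩ := (hmem_t a).mp ha
    rw [hmem_t]
    constructor
    · intro h
      apply haJ
      calc a = a * ((J : C ⧸ K) * (J : C ⧸ K)) := by rw [hsq, mul_one]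
        _ = (a * (J : C ⧸ K)) * (J : C ⧸ K) := by rw [mul_assoc]
        _ = (J : C ⧸ K) := by rw [h, one_mul]
    · intro h
      apply ha1
      have : a * (J : C ⧸ K) = 1 * (J : C ⧸ K) := by rw [one_mul]; exact h
      exact mul_right_cancel this
  have hC0 : 0 < Nat.card C := Nat.card_pos
  have hcQ0 : 0 < cQ := Nat.card_pos
  rw [Nat.card_eq_fintype_card, Fintype.card_subtype]
  show s.card * cQ ^ 2 = 2 * Nat.card C ^ 2
  rw [hcard, Finset.sum_mul]
  have hterm : ∀ a ∈ t, (s.filter (fun p => ((p.1 : C) : C ⧸ K) = a)).card * cQ ^ 2 =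
      Nat.card C ^ 2 := by
    intro a ha
    rw [hfiber a ha, Finset.card_product]
    have h1 := hAcard a ha
    have h2 := hAcard _ (hmulmem a ha)
    calc (A a).card * (A (a * (J : C ⧸ K))).card * cQ ^ 2
        = ((A a).card * cQ) * ((A (a * (J : C ⧸ K))).card * cQ) := by ring
      _ = Nat.card C ^ 2 := by rw [h1, h2]; ring
  rw [Finset.sum_congr rfl hterm, Finset.sum_const, htcard, smul_eq_mul]

end KleinCentHyp

end Cfsg.Agent.Lib.Helper75
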