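import Cfsg.Agent.Lib.Helper75.KleinFS
import Cfsg.Agent.Lib.Helper75.InvolValues

/-!
# Degrees in the principal block of a group with Klein four Sylow subgroups
-/

set_option autoImplicit false

universe u

namespace Cfsg.Agent.Lib.Helper75

open Cfsg Cfsg.Agent.Lib.Helper77 Cfsg.Agent.Lib.Helper81
open scoped ComplexConjugate

variable {G : Type u} [Group G] [Fintype G]

omit [Fintype G] in
/-- A third element of a Klein four Sylow subgroup. -/
theorem KleinHyp.exists_third [Finite G] {P : Sylow 2 G} (H : KleinHyp G P) {J : G}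
    (hJP : J ∈ (P : Subgroup G)) : ∃ t ∈ (P : Subgroup G), t ≠ 1 ∧ t ≠ J := by
  classical
  haveI : Fintype (P : Subgroup G) := Fintype.ofFinite _
  by_contra hcon
  have hall : ∀ t : (P : Subgroup G), t ∈ ({⟨1, Subgroup.one_mem _⟩, ⟨J, hJP⟩} :
      Finset (P : Subgroup G)) := by
    intro t
    by_contra ht
    apply hcon
    refine ⟨t, t.2, ?_, ?_⟩
    · intro h
      apply ht
      rw [Finset.mem_insert]
      left
      exact Subtype.ext h
    · intro h
      apply ht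
      rw [Finset.mem_insert, Finset.mem_singleton]
      right
      exact Subtype.ext h
  have h1 : Fintype.card (P : Subgroup G) ≤
      ({⟨1, Subgroup.one_mem _⟩, ⟨J, hJP⟩} : Finset (P : Subgroup G)).card :=
    Finset.card_le_card_of_surjOn id (fun t _ => ⟨t, hall t, rfl⟩) |>.trans' (by
      rw [← Finset.card_univ])
  have h2 : ({⟨1, Subgroup.one_mem _⟩, ⟨J, hJP⟩} : Finset (P : Subgroup G)).card ≤ 2 :=
    Finset.card_le_two
  have h3 : Nat.card (P : Subgroup G) = 4 := H.card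
  rw [Nat.card_eq_fintype_card] at h3
  omega

/-- The degree of an irreducible character is congruent modulo four to its value at an
involution. -/
theorem KleinHyp.four_dvd_degree_sub {P : Sylow 2 G} (H : KleinHyp G P) {J : G}
    (hJP : J ∈ (P : Subgroup G)) (hJ1 : J ≠ 1) (χ : IrrCharacter G) (d : ℕ)
    (hd : (χ : G → ℂ) 1 = (d : ℂ)) (a : ℤ) (ha : (χ : G → ℂ) J = (a : ℂ)) :
    (4 : ℤ) ∣ (d : ℤ) - a := by
  obtain ⟨t, htP, ht1, htJ⟩ := H.exists_third hJP
  have hchar := Cfsg.Agent.Lib.Helper3.IsIrrCharacter.isCharacter χ.2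
  have hcl := Cfsg.Agent.Lib.Helper3.IsCharacter.isClassFunction hchar
  have hJJ := H.exp J hJP
  have htt := H.exp t htP
  have hJt : J * t = t * J := comm_of_exp_two H.exp hJP htP
  have hJ2 : orderOf J = 2 := orderOf_eq_two_of_sq hJJ hJ1
  have hval : ∀ s : G, s * s = 1 → s ≠ 1 → (χ : G → ℂ) s = (a : ℂ) := by
    intro s hss hs1
    have hs2 : orderOf s = 2 := orderOf_eq_two_of_sq hss hs1
    obtain ⟨c, hc⟩ := isConj_iff.mp (H.one J s hJ2 hs2)
    rw [← hc, hcl J c, ha]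
  have hJt1 : J * t ≠ 1 := by
    intro h
    apply htJ
    have h1 : t = J⁻¹ := (inv_eq_of_mul_eq_one_right h).symm
    rw [h1]
    exact inv_eq_of_mul_eq_one_right hJJ
  have hJtP : J * t ∈ (P : Subgroup G) := Subgroup.mul_mem _ hJP htP
  exact four_dvd_sub_of_klein hchar hJt hJJ htt d hd a ha (hval t htt ht1)
    (hval (J * t) (H.exp _ hJtP) hJt1)

/-- In the case `ε = (1, 1, -1)`, the characters `χ₁` and `χ₂` are complex conjugate; in
particular they have the same degree. -/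
theorem KleinHyp.degree_eq [Fintype (IrrCharacter G)] {M : Ideal AlgInt}
    (hM : IsPModular 2 M) {P : Sylow 2 G} (H : KleinHyp G P) {J : G}
    (hJP : J ∈ (P : Subgroup G)) (hJ1 : J ≠ 1) {χ₁ χ₂ χ₃ : IrrCharacter G}
    (hB : principalBlock M G = {χ : IrrCharacter G |
      (χ : G → ℂ) = (fun _ => 1) ∨ χ = χ₁ ∨ χ = χ₂ ∨ χ = χ₃})
    (hdist : (χ₁ : G → ℂ) ≠ (fun _ => 1) ∧ (χ₂ : G → ℂ) ≠ (fun _ => 1) ∧
      (χ₃ : G → ℂ) ≠ (fun _ => 1) ∧ χ₁ ≠ χ₂ ∧ χ₁ ≠ χ₃ ∧ χ₂ ≠ χ₃)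
    (h1 : (χ₁ : G → ℂ) J = 1) (h2 : (χ₂ : G → ℂ) J = 1) (h3 : (χ₃ : G → ℂ) J = -1) :
    (χ₁ : G → ℂ) 1 = (χ₂ : G → ℂ) 1 := by
  classical
  -- degrees are odd
  have hoddeg : ∀ χ : IrrCharacter G, (χ : G → ℂ) J = 1 →
      ∃ d : ℕ, (χ : G → ℂ) 1 = (d : ℂ) ∧ Odd d := by
    intro χ hχ
    obtain ⟨d, -, hd, -, -⟩ := Cfsg.Agent.Lib.Helper16.irr_degree_spec χ
    refine ⟨d, hd, ?_⟩
    have h4 := H.four_dvd_degree_sub hJP hJ1 χ d hd 1 (by rw [hχ]; norm_num)
    have h5 : ((d : ℤ) - 1) % 4 = 0 := Int.emod_eq_zero_of_dvd h4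
    have h6 : (d : ℤ) % 2 = 1 := by omega
    rw [Nat.odd_iff]
    omega
  obtain ⟨d1, hd1, hd1odd⟩ := hoddeg χ₁ h1
  obtain ⟨d2, hd2, hd2odd⟩ := hoddeg χ₂ h2
  -- the Frobenius–Schur identity
  have hfs := H.fs_identity hM hJP hJ1
  rw [sum_principalBlock_four hB hdist] at hfs
  have hν0 : (Nat.card G : ℂ)⁻¹ * ∑ s : G, ((oneIrr G : IrrCharacter G) : G → ℂ) (s * s) = 1 := by
    simp only [oneIrr_apply, Finset.sum_const, Finset.card_univ, nsmul_eq_mul, mul_one]
    rw [Nat.card_eq_fintype_card]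
    exact inv_mul_cancel₀ (Nat.cast_ne_zero.mpr Fintype.card_ne_zero)
  rw [hν0, oneIrr_apply, h1, h2, h3] at hfs
  obtain ⟨t1, r1⟩ := Cfsg.Agent.Lib.Helper74.fs_trichotomy χ₁.2
  obtain ⟨t2, r2⟩ := Cfsg.Agent.Lib.Helper74.fs_trichotomy χ₂.2
  obtain ⟨t3, -⟩ := Cfsg.Agent.Lib.Helper74.fs_trichotomy χ₃.2
  -- `χ₁` is not real
  have hnr : ∃ s : G, ((χ₁ : G → ℂ) s).im ≠ 0 := by
    by_contra hcon
    have hreal : ∀ g : G, ((χ₁ : G → ℂ) g).im = 0 := by
      intro g
      by_contra h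
      exact hcon ⟨g, h⟩
    have hν1 := Cfsg.Agent.Lib.Helper74.fs_eq_one_of_real_of_odd χ₁.2 hreal hd1 hd1odd
    rw [hν1] at hfs
    -- `ν₂ = -1`
    have hν2 : (Nat.card G : ℂ)⁻¹ * ∑ s : G, (χ₂ : G → ℂ) (s * s) = -1 := by
      rcases t2 with h | h | h
      · exfalso
        rw [h] at hfs
        rcases t3 with h' | h' | h' <;> rw [h'] at hfs <;> norm_num at hfs
      · exfalso
        rw [h] at hfs
        rcases t3 with h' | h' | h' <;> rw [h'] at hfs <;> norm_num at hfs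
      · exact h
    have hreal2 : ∀ g : G, ((χ₂ : G → ℂ) g).im = 0 := by
      intro g
      by_contra h
      have h0 := r2.mpr ⟨g, h⟩
      rw [hν2] at h0
      norm_num at h0
    have hν2' := Cfsg.Agent.Lib.Helper74.fs_eq_one_of_real_of_odd χ₂.2 hreal2 hd2 hd2odd
    rw [hν2] at hν2'
    norm_num at hν2'
  obtain ⟨s, hs⟩ := hnr
  -- the conjugate of `χ₁`
  have hc1 : χ₁ ∈ principalBlock M G := by
    rw [hB]
    exact Or.inr (Or.inl rfl)
  have hconj := conj_mem_principalBlock χ₁ hc1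
  rw [hB] at hconj
  rcases hconj with h | h | h | h
  · exfalso
    have h4 := congrFun h s
    simp only at h4
    have h5 : (χ₁ : G → ℂ) s = 1 := by
      have := congrArg (starRingEnd ℂ) h4
      rw [Complex.conj_conj, map_one] at this
      exact this
    rw [h5] at hs
    simp at hs
  · exfalso
    have h4 := congrArg (fun χ : IrrCharacter G => (χ : G → ℂ) s) h
    simp only at h4
    exact hs (Complex.conj_eq_iff_im.mp h4)
  · have h4 := congrArg (fun χ : IrrCharacter G => (χ : G → ℂ) 1) h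
    simp only at h4
    rw [← h4, hd1, map_natCast]
  · exfalso
    have h4 := congrArg (fun χ : IrrCharacter G => (χ : G → ℂ) J) h
    simp only at h4
    rw [h1, h3, map_one] at h4
    norm_num at h4

end Cfsg.Agent.Lib.Helper75
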