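import Cfsg.Agent.Lib.Helper75.KleinFour
import Cfsg.Agent.Lib.Helper74.FS7
import Cfsg.Agent.Lib.Helper3.OddOrder

/-!
# Frobenius–Schur indicators in the principal block of a group with Klein four Sylow subgroups
-/

set_option autoImplicit false

universe u

namespace Cfsg.Agent.Lib.Helper75

open Cfsg Cfsg.Agent.Lib.Helper77 Cfsg.Agent.Lib.Helper81
open scoped ComplexConjugate

variable {G : Type u} [Group G] [Fintype G]

open Classical in
/-- The number of square roots of `g`. -/
noncomputable def sqrtCount (g : G) : ℂ := ∑ h : G, if h * h = g then (1 : ℂ) else 0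

theorem isClassFunction_sqrtCount : IsClassFunction G (sqrtCount (G := G)) := by
  classical
  intro g x
  unfold sqrtCount
  refine (Fintype.sum_equiv (MulAut.conj x).toEquiv _ _ fun h => ?_).symm
  have h1 : (MulAut.conj x).toEquiv h = x * h * x⁻¹ := rfl
  rw [h1]
  have h2 : x * h * x⁻¹ * (x * h * x⁻¹) = x * (h * h) * x⁻¹ := by
    simp only [mul_assoc, inv_mul_cancel_left]
  rw [h2]
  by_cases hh : h * h = g
  · rw [if_pos hh, if_pos (by rw [hh])]
  · rw [if_neg hh, if_neg]
    intro h3
    apply hh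
    have h4 : x⁻¹ * (x * (h * h) * x⁻¹) * x = x⁻¹ * (x * g * x⁻¹) * x := by rw [h3]
    simpa [mul_assoc] using h4

theorem classInner_sqrtCount (χ : G → ℂ) :
    classInner (sqrtCount (G := G)) χ = conj ((Nat.card G : ℂ)⁻¹ * ∑ s : G, χ (s * s)) := by
  classical
  unfold classInner sqrtCount
  rw [map_mul, map_inv₀, map_natCast, map_sum]
  congr 1
  simp only [Finset.sum_mul]
  rw [Finset.sum_comm]
  refine Finset.sum_congr rfl fun h _ => ?_
  simp only [ite_mul, one_mul, zero_mul]
  rw [Finset.sum_ite_eq Finset.univ (h * h) (fun g => conj (χ g)), if_pos (Finset.mem_univ _)]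

omit [Fintype G] in
/-- In a group whose Sylow `2`-subgroups have exponent two, `J c` has no square root when `J` is
an involution and `c` has odd order and commutes with `J`. -/
theorem KleinHyp.no_sqrt [Finite G] {P : Sylow 2 G} (H : KleinHyp G P) {J c : G} (hJJ : J * J = 1)
    (hJ1 : J ≠ 1) (hJc : c * J = J * c) {m : ℕ} (hm : Odd m) (hcm : c ^ m = 1) (h : G) :
    h * h ≠ J * c := by
  haveI : Fact (Nat.Prime 2) := ⟨Nat.prime_two⟩
  intro hh
  have hJm : J ^ m = J := by
    obtain ⟨k, rfl⟩ := hm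
    rw [pow_succ, pow_mul, pow_two, hJJ, one_pow, one_mul]
  have hcomm : Commute J c := hJc.symm
  have h1 : (J * c) ^ m = J := by
    rw [hcomm.mul_pow, hJm, hcm, mul_one]
  set y := h ^ m with hy
  have hyy : y * y = J := by
    rw [hy, ← pow_add, ← two_mul, pow_mul, pow_two, hh, h1]
  have hy4 : y ^ (2 ^ 2) = 1 := by
    have : y ^ (2 ^ 2) = (y * y) * (y * y) := by
      rw [show (2 : ℕ) ^ 2 = 2 + 2 by norm_num, pow_add, pow_two]
    rw [this, hyy, hJJ]
  obtain ⟨k, -, hk⟩ := (Nat.dvd_prime_pow Nat.prime_two).mp (orderOf_dvd_of_pow_eq_one hy4)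
  have hpg : IsPGroup 2 (Subgroup.zpowers y) := by
    apply IsPGroup.of_card (n := k)
    rw [Nat.card_zpowers, hk]
  obtain ⟨a, ha⟩ := Cfsg.Agent.Lib.Helper50.exists_conj_mem_sylow P hpg
  have h2 := H.exp _ (ha y (Subgroup.mem_zpowers y))
  have h3 : a * y * a⁻¹ * (a * y * a⁻¹) = a * (y * y) * a⁻¹ := by
    simp only [mul_assoc, inv_mul_cancel_left]
  rw [h3, hyy] at h2
  apply hJ1
  calc J = a⁻¹ * (a * J * a⁻¹) * a := by simp only [mul_assoc, inv_mul_cancel_left, inv_mul_cancel, mul_one]
    _ = 1 := by rw [h2, mul_one, inv_mul_cancel]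

open Classical in
/-- The Frobenius–Schur indicators of the principal block, weighted by the values at an
involution, add up to zero. -/
theorem KleinHyp.fs_identity [Fintype (IrrCharacter G)] {M : Ideal AlgInt}
    (hM : IsPModular 2 M) {P : Sylow 2 G} (H : KleinHyp G P) {J : G}
    (hJP : J ∈ (P : Subgroup G)) (hJ1 : J ≠ 1) :
    ∑ χ ∈ Finset.univ.filter (fun χ : IrrCharacter G => χ ∈ principalBlock M G),
      conj ((Nat.card G : ℂ)⁻¹ * ∑ s : G, (χ : G → ℂ) (s * s)) * (χ : G → ℂ) J = 0 := by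
  haveI : Fact (Nat.Prime 2) := ⟨Nat.prime_two⟩
  haveI : Fintype (Subgroup.centralizer ({J} : Set G)) := Fintype.ofFinite _
  haveI : Fintype (IrrCharacter (Subgroup.centralizer ({J} : Set G))) := Fintype.ofFinite _
  have hJJ : J * J = 1 := H.exp J hJP
  have hJ2 : orderOf J = 2 := orderOf_eq_two_of_sq hJJ hJ1
  have hx : ∃ k : ℕ, orderOf J = 2 ^ k := ⟨1, by rw [hJ2, pow_one]⟩
  have hidx4 := index_pPrimeCore_centralizer_klein P H.card H.exp hJP hJ1
  have hidx : ∃ k : ℕ, (pPrimeCore 2 (Subgroup.centralizer ({J} : Set G))).index = 2 ^ k :=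
    ⟨2, by rw [hidx4]; norm_num⟩
  have hmain := sum_principalBlock_classInner_section hM hx hidx (isClassFunction_sqrtCount (G := G))
  simp only [classInner_sqrtCount] at hmain
  rw [hmain]
  have hcop : (Nat.card (pPrimeCore 2 (Subgroup.centralizer ({J} : Set G)))).Coprime 2 :=
    Cfsg.Agent.Lib.Helper30.pPrimeCore_card_coprime 2
  have hKodd : Odd (Nat.card (pPrimeCore 2 (Subgroup.centralizer ({J} : Set G)))) :=
    (Nat.coprime_two_right).mp hcop
  rw [Finset.sum_eq_zero, mul_zero]
  intro c _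
  split_ifs with hc
  · unfold sqrtCount
    refine Finset.sum_eq_zero fun h _ => ?_
    rw [if_neg]
    have hJc : (c : G) * J = J * (c : G) := Subgroup.mem_centralizer_singleton_iff.mp c.2
    have hm : Odd (orderOf c) :=
      Odd.of_dvd_nat hKodd (Subgroup.orderOf_dvd_natCard _ hc)
    have hcm : (c : G) ^ orderOf c = 1 := by
      have h1 : c ^ orderOf c = 1 := pow_orderOf_eq_one c
      have h2 := congrArg Subtype.val h1
      rw [Subgroup.coe_pow] at h2
      exact h2
    exact H.no_sqrt hJJ hJ1 hJc hm hcm h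
  · rfl

/-- The principal block is closed under complex conjugation. -/
theorem conj_mem_principalBlock {M : Ideal AlgInt} (ψ : IrrCharacter G)
    (hψ : ψ ∈ principalBlock M G) :
    (⟨fun g => conj ((ψ : G → ℂ) g), Cfsg.Agent.Lib.Helper3.IsIrrCharacter.conj ψ.2⟩ :
      IrrCharacter G) ∈ principalBlock M G := by
  intro g
  have h1 := hψ g⁻¹
  have hcent : Subgroup.centralizer ({g⁻¹} : Set G) = Subgroup.centralizer ({g} : Set G) := by
    ext x
    rw [Subgroup.mem_centralizer_singleton_iff, Subgroup.mem_centralizer_singleton_iff]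
    constructor
    · intro h
      calc x * g = g * (g⁻¹ * x) * g := by group
        _ = g * (x * g⁻¹) * g := by rw [h]
        _ = g * x := by group
    · intro h
      calc x * g⁻¹ = g⁻¹ * (g * x) * g⁻¹ := by group
        _ = g⁻¹ * (x * g) * g⁻¹ := by rw [h]
        _ = g⁻¹ * x := by group
  have h2 : centralChar (fun _ : G => (1 : ℂ)) g⁻¹ = centralChar (fun _ : G => (1 : ℂ)) g := by
    unfold centralChar
    rw [hcent]
  have hfin : Finite G := Finite.of_fintype G
  have hinv := Cfsg.Agent.Lib.Helper3.IsCharacter.inv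
    (Cfsg.Agent.Lib.Helper3.IsIrrCharacter.isCharacter ψ.2)
  have h3 : centralChar (ψ : G → ℂ) g⁻¹ =
      centralChar (fun g => conj ((ψ : G → ℂ) g)) g := by
    unfold centralChar
    rw [hcent, hinv g]
    have h4 : conj ((ψ : G → ℂ) 1) = (ψ : G → ℂ) 1 := by
      rw [irr_apply_one_eq_charDegree, map_natCast]
    simp only [h4]
  rw [h2, h3] at h1
  exact h1

end Cfsg.Agent.Lib.Helper75
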