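import Cfsg.Agent.Lib.Helper75.KleinBlock

/-!
# Groups of order `4 g₀`, `g₀` odd, without a normal `2`-complement
-/

set_option autoImplicit false

universe u

namespace Cfsg.Agent.Lib.Helper75

open Cfsg Cfsg.Agent.Lib.Helper77

variable {G : Type u} [Group G] [Finite G]

omit [Finite G] in
theorem orderOf_conj_eq (k u : G) : orderOf (k * u * k⁻¹) = orderOf u :=
  orderOf_injective (MulAut.conj k).toMonoidHom (MulAut.conj k).injective u

/-- A group of order `4 g₀` with `g₀` odd and without a normal subgroup of order `g₀` has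
Klein four Sylow `2`-subgroups and a single class of involutions. -/
theorem kleinHyp_of_no_normal_complement {g₀ : ℕ} (hg₀ : Odd g₀) (hG : Nat.card G = 4 * g₀)
    (hnc : ¬ ∃ N : Subgroup G, N.Normal ∧ Nat.card N = g₀) (P : Sylow 2 G) : KleinHyp G P := by
  haveI : Fact (Nat.Prime 2) := ⟨Nat.prime_two⟩
  have hp : Nat.Prime 2 := Nat.prime_two
  have hg2 : ¬ 2 ∣ g₀ := fun h => (Nat.not_even_iff_odd.mpr hg₀) (even_iff_two_dvd.mpr h)
  -- `|P| = 4`
  have hfac : (Nat.card G).factorization 2 = 2 := by
    rw [hG, Nat.factorization_mul (by norm_num) hg₀.pos.ne', Finsupp.add_apply,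
      Nat.factorization_eq_zero_of_not_dvd hg2, add_zero]
    have : (4 : ℕ) = 2 ^ 2 := by norm_num
    rw [this, Nat.Prime.factorization_pow hp, Finsupp.single_eq_same]
  have hP4 : Nat.card P = 4 := by
    rw [P.card_eq_multiplicity, hfac]
    norm_num
  -- the normalizer does not centralize
  have hnot : ¬ (Subgroup.normalizer ((P : Subgroup G) : Set G) ≤
      Subgroup.centralizer ((P : Subgroup G) : Set G)) := by
    intro hP
    apply hnc
    refine ⟨(MonoidHom.transferSylow P hP).ker, inferInstance, ?_⟩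
    have h1 := MonoidHom.ker_transferSylow_isComplement' P hP
    have h2 := h1.card_mul_card
    rw [hP4, hG] at h2
    omega
  -- `P` is commutative
  have hcomm : ∀ a ∈ (P : Subgroup G), ∀ b ∈ (P : Subgroup G), a * b = b * a := by
    intro a ha b hb
    have h1 : Nat.card (P : Subgroup G) = 2 ^ 2 := by rw [hP4]; norm_num
    have h2 := IsPGroup.commutative_of_card_eq_prime_sq h1 ⟨a, ha⟩ ⟨b, hb⟩
    exact congrArg Subtype.val h2
  -- an element of the normalizer which does not centralize
  obtain ⟨n, hnN, hnC⟩ := SetLike.not_le_iff_exists.mp hnot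
  -- its odd part
  obtain ⟨K, r, N, hcard, hpr, hrN, hN1⟩ := exists_ppart_exponent G 2 hp
  obtain ⟨y, hy1, hy2, ⟨k, hk⟩, hy4⟩ := isPPart_pow hp hcard hpr hrN hN1 n
  have hn2N : n ^ N ∈ Subgroup.normalizer ((P : Subgroup G) : Set G) := Subgroup.pow_mem _ hnN N
  have hyeq : y = (n ^ N)⁻¹ * n := eq_inv_mul_of_mul_eq hy1
  have hyN : y ∈ Subgroup.normalizer ((P : Subgroup G) : Set G) := by
    rw [hyeq]
    exact Subgroup.mul_mem _ (Subgroup.inv_mem _ hn2N) hnN
  have hn2P : n ^ N ∈ (P : Subgroup G) := by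
    have hpg : IsPGroup 2 (Subgroup.zpowers (n ^ N)) := by
      apply IsPGroup.of_card (n := k)
      rw [Nat.card_zpowers, hk]
    have h1 := hpg.inf_normalizer_sylow P
    have h2 : n ^ N ∈ Subgroup.zpowers (n ^ N) ⊓ Subgroup.normalizer ((P : Subgroup G) : Set G) :=
      ⟨Subgroup.mem_zpowers _, hn2N⟩
    have h3 : n ^ N ∈ Subgroup.zpowers (n ^ N) ⊓ (P : Subgroup G) := h1.le h2
    exact h3.2
  -- `y` does not centralize `P`
  have hyC : ∃ u ∈ (P : Subgroup G), y * u * y⁻¹ ≠ u := by
    by_contra hcon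
    apply hnC
    rw [Subgroup.mem_centralizer_iff]
    intro u hu
    have h1 : y * u * y⁻¹ = u := by
      by_contra h
      exact hcon ⟨u, hu, h⟩
    have h2 : y * u = u * y := by
      calc y * u = (y * u * y⁻¹) * y := by group
        _ = u * y := by rw [h1]
    have h3 : n ^ N * u = u * n ^ N := hcomm _ hn2P _ hu
    rw [← hy1]
    calc u * (n ^ N * y) = (u * n ^ N) * y := by rw [mul_assoc]
      _ = n ^ N * (u * y) := by rw [← h3, mul_assoc]
      _ = n ^ N * y * u := by rw [← h2, mul_assoc]
  obtain ⟨u, huP, hyu⟩ := hyC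
  -- conjugation by `y`
  have hconjP : ∀ v ∈ (P : Subgroup G), y * v * y⁻¹ ∈ (P : Subgroup G) := by
    intro v hv
    exact (Subgroup.mem_normalizer_iff.mp hyN v).mp hv
  -- iterating
  have hodd : Odd (orderOf y) := Nat.odd_iff.mpr (Nat.two_dvd_ne_zero.mp hy4)
  set u1 := y * u * y⁻¹ with hu1
  set u2 := y * u1 * y⁻¹ with hu2
  have hu1P : u1 ∈ (P : Subgroup G) := hconjP u huP
  have hu2P : u2 ∈ (P : Subgroup G) := hconjP u1 hu1P
  have hu_ne : u ≠ 1 := by
    intro h
    apply hyu
    rw [hu1, h, mul_one, mul_inv_cancel]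
  have hu1_ne : u1 ≠ 1 := by
    intro h
    apply hu_ne
    have : y⁻¹ * u1 * y = u := by
      rw [hu1]
      simp only [mul_assoc, inv_mul_cancel, mul_one, inv_mul_cancel_left]
    rw [← this, h, mul_one, inv_mul_cancel]
  have hu2_ne : u2 ≠ 1 := by
    intro h
    apply hu1_ne
    have : y⁻¹ * u2 * y = u1 := by
      rw [hu2]
      simp only [mul_assoc, inv_mul_cancel, mul_one, inv_mul_cancel_left]
    rw [← this, h, mul_one, inv_mul_cancel]
  have hu12 : u1 ≠ u2 := by
    intro h
    apply hyu
    have h1 : y⁻¹ * u1 * y = u := by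
      rw [hu1]
      simp only [mul_assoc, inv_mul_cancel, mul_one, inv_mul_cancel_left]
    have h2 : y⁻¹ * u2 * y = u1 := by
      rw [hu2]
      simp only [mul_assoc, inv_mul_cancel, mul_one, inv_mul_cancel_left]
    rw [← h] at h2
    rw [h1] at h2
    exact h2.symm
  -- `u2 ≠ u`, as `y` has odd order
  have hu2u : u2 ≠ u := by
    intro h
    -- then `y ^ 2` centralizes `u`, hence so does `y`
    have hsq : Commute (y * y) u := by
      show y * y * u = u * (y * y)
      have h1 : y * (y * u * y⁻¹) * y⁻¹ = u := h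
      calc y * y * u = (y * (y * u * y⁻¹) * y⁻¹) * (y * y) := by
            simp only [mul_assoc, inv_mul_cancel_left, inv_mul_cancel, mul_one]
        _ = u * (y * y) := by rw [h1]
    obtain ⟨m, hm⟩ := hodd
    have h1 : y = (y * y) ^ (m + 1) := by
      rw [← pow_two, ← pow_mul]
      have : 2 * (m + 1) = orderOf y + 1 := by omega
      rw [this, pow_succ, pow_orderOf_eq_one, one_mul]
    have h2 : Commute y u := by
      rw [h1]
      exact hsq.pow_left _
    apply hyu
    rw [hu1, h2.eq, mul_assoc, mul_inv_cancel, mul_one]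
  -- the four elements of `P`
  have hall : ∀ v ∈ (P : Subgroup G), v = 1 ∨ v = u ∨ v = u1 ∨ v = u2 := by
    intro v hv
    by_contra hcon
    have hv1 : v ≠ 1 := fun h => hcon (Or.inl h)
    have hvu : v ≠ u := fun h => hcon (Or.inr (Or.inl h))
    have hvu1 : v ≠ u1 := fun h => hcon (Or.inr (Or.inr (Or.inl h)))
    have hvu2 : v ≠ u2 := fun h => hcon (Or.inr (Or.inr (Or.inr h)))
    haveI : Fintype (P : Subgroup G) := Fintype.ofFinite _
    classical
    let S : Finset (P : Subgroup G) :=
      {⟨1, Subgroup.one_mem _⟩, ⟨u, huP⟩, ⟨u1, hu1P⟩, ⟨u2, hu2P⟩, ⟨v, hv⟩}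
    have hS : S.card = 5 := by
      rw [Finset.card_insert_of_notMem, Finset.card_insert_of_notMem,
        Finset.card_insert_of_notMem, Finset.card_insert_of_notMem, Finset.card_singleton]
      · simp only [Finset.mem_singleton, Subtype.mk.injEq]
        exact fun h => hvu2 h.symm
      · simp only [Finset.mem_insert, Finset.mem_singleton, Subtype.mk.injEq]
        rintro (h | h)
        · exact hu12 h
        · exact hvu1 h.symm
      · simp only [Finset.mem_insert, Finset.mem_singleton, Subtype.mk.injEq]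
        rintro (h | h | h)
        · exact hyu h.symm
        · exact hu2u h.symm
        · exact hvu h.symm
      · simp only [Finset.mem_insert, Finset.mem_singleton, Subtype.mk.injEq]
        rintro (h | h | h | h)
        · exact hu_ne h.symm
        · exact hu1_ne h.symm
        · exact hu2_ne h.symm
        · exact hv1 h.symm
    have h1 := Finset.card_le_univ S
    rw [hS, ← Nat.card_eq_fintype_card] at h1
    have h2 : Nat.card (P : Subgroup G) = 4 := hP4
    omega
  -- orders
  have ho1 : orderOf u1 = orderOf u := orderOf_conj_eq y u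
  have ho2 : orderOf u2 = orderOf u := by
    rw [hu2, orderOf_conj_eq y u1, ho1]
  -- an involution in `P`
  have hdvd : 2 ∣ Nat.card (P : Subgroup G) := by
    have : Nat.card (P : Subgroup G) = 4 := hP4
    rw [this]
    norm_num
  obtain ⟨w, hw⟩ := exists_prime_orderOf_dvd_card' 2 hdvd
  have hw' : orderOf (w : G) = 2 := by rw [Subgroup.orderOf_coe]; exact hw
  have hou : orderOf u = 2 := by
    rcases hall (w : G) w.2 with h | h | h | h
    · rw [h, orderOf_one] at hw'
      norm_num at hw'
    · rw [← h]; exact hw'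
    · rw [← ho1, ← h]; exact hw'
    · rw [← ho2, ← h]; exact hw'
  have hsq : ∀ v : G, orderOf v = 2 → v * v = 1 := by
    intro v hv
    rw [← pow_two, ← hv, pow_orderOf_eq_one]
  refine ⟨hP4, ?_, ?_⟩
  · intro v hv
    rcases hall v hv with h | h | h | h
    · rw [h, mul_one]
    · rw [h]; exact hsq u hou
    · rw [h]; exact hsq u1 (ho1.trans hou)
    · rw [h]; exact hsq u2 (ho2.trans hou)
  · -- all involutions are conjugate to `u`
    have hcu : ∀ s : G, orderOf s = 2 → IsConj s u := by
      intro s hs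
      have hpg : IsPGroup 2 (Subgroup.zpowers s) := by
        apply IsPGroup.of_card (n := 1)
        rw [Nat.card_zpowers, hs, pow_one]
      obtain ⟨a, ha⟩ := Cfsg.Agent.Lib.Helper50.exists_conj_mem_sylow P hpg
      have h1 := ha s (Subgroup.mem_zpowers s)
      have h2 : orderOf (a * s * a⁻¹) = 2 := by rw [orderOf_conj_eq, hs]
      have hsa : IsConj s (a * s * a⁻¹) := isConj_iff.mpr ⟨a, rfl⟩
      have hu1c : IsConj u u1 := isConj_iff.mpr ⟨y, rfl⟩
      have hu2c : IsConj u1 u2 := isConj_iff.mpr ⟨y, rfl⟩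
      rcases hall _ h1 with h | h | h | h
      · rw [h, orderOf_one] at h2
        norm_num at h2
      · rw [h] at hsa; exact hsa
      · rw [h] at hsa; exact hsa.trans hu1c.symm
      · rw [h] at hsa; exact hsa.trans (hu1c.trans hu2c).symm
    intro s t hs ht
    exact (hcu s hs).trans (hcu t ht).symm

end Cfsg.Agent.Lib.Helper75
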