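import Cfsg.Agent.Lib.Helper75.KleinPairs2

/-!
# Brauer's order formula for groups with Klein four Sylow `2`-subgroups: the character identity
-/

set_option autoImplicit false

universe u

namespace Cfsg.Agent.Lib.Helper75

open Cfsg Cfsg.Agent.Lib.Helper77 Cfsg.Agent.Lib.Helper81
open scoped ComplexConjugate

variable {G : Type u} [Group G] [Fintype G]

open Classical in
/-- **Brauer's order formula, character form.** -/
theorem KleinHyp.order_identity [Fintype (IrrCharacter G)] {M : Ideal AlgInt}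
    (hM : IsPModular 2 M) {P : Sylow 2 G} (H : KleinHyp G P) {J : G}
    (hJP : J ∈ (P : Subgroup G)) (hJ1 : J ≠ 1) :
    (∑ χ ∈ Finset.univ.filter (fun χ : IrrCharacter G => χ ∈ principalBlock M G),
      (χ : G → ℂ) J * (χ : G → ℂ) J * (χ : G → ℂ) J / (χ : G → ℂ) 1) * (Nat.card G : ℂ) *
      (Nat.card (Subgroup.centralizer ((P : Subgroup G) : Set G)) : ℂ) ^ 2 =
    8 * (Nat.card (Subgroup.centralizer ({J} : Set G)) : ℂ) ^ 3 := by
  haveI : Fact (Nat.Prime 2) := ⟨Nat.prime_two⟩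
  haveI : Fintype (Subgroup.centralizer ({J} : Set G)) := Fintype.ofFinite _
  haveI : Fintype (IrrCharacter (Subgroup.centralizer ({J} : Set G))) := Fintype.ofFinite _
  have hJ2 : orderOf J = 2 := orderOf_eq_two_of_sq (H.exp J hJP) hJ1
  have hx : ∃ k : ℕ, orderOf J = 2 ^ k := ⟨1, by rw [hJ2, pow_one]⟩
  have hidx4 := index_pPrimeCore_centralizer_klein P H.card H.exp hJP hJ1
  have hidx : ∃ k : ℕ, (pPrimeCore 2 (Subgroup.centralizer ({J} : Set G))).index = 2 ^ k :=
    ⟨2, by rw [hidx4]; norm_num⟩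
  have hmain := sum_principalBlock_classInner_section hM hx hidx (isClassFunction_invPairs J)
  rw [H.sum_invPairs hJP hJ1] at hmain
  -- the count
  have hKC := H.kleinCentHyp hJP hJ1
  have hcount := hKC.card_pairs
  rw [H.card_centralizer_subtype hJP] at hcount
  have hcardC := hKC.card
  -- class size
  have hcl := Cfsg.Agent.Lib.Helper4.card_conj_mul_card_centralizer J
  -- abbreviations
  set T := Nat.card {p : Subgroup.centralizer ({J} : Set G) × Subgroup.centralizer ({J} : Set G) //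
      p.1 * p.1 = 1 ∧ p.1 ≠ 1 ∧ p.2 * p.2 = 1 ∧ p.2 ≠ 1 ∧
      (⟨J, Subgroup.mem_centralizer_singleton_iff.mpr rfl⟩ :
        Subgroup.centralizer ({J} : Set G))⁻¹ * (p.1 * p.2) ∈
        pPrimeCore 2 (Subgroup.centralizer ({J} : Set G))} with hT
  set cP := Nat.card (Subgroup.centralizer ((P : Subgroup G) : Set G)) with hcP
  set cJ := Nat.card (Subgroup.centralizer ({J} : Set G)) with hcJ
  set k := Nat.card {x : G // IsConj J x} with hk
  set nK := Nat.card (pPrimeCore 2 (Subgroup.centralizer ({J} : Set G))) with hnK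
  set g := Nat.card G with hg
  have hcount' : (T : ℂ) * (cP : ℂ) ^ 2 = 2 * (cJ : ℂ) ^ 2 := by exact_mod_cast hcount
  have hcardC' : (cJ : ℂ) = 4 * (nK : ℂ) := by exact_mod_cast hcardC
  have hcl' : (k : ℂ) * (cJ : ℂ) = (g : ℂ) := by exact_mod_cast hcl
  have hg0 : (g : ℂ) ≠ 0 := Nat.cast_ne_zero.mpr Nat.card_pos.ne'
  have hcJ0 : (cJ : ℂ) ≠ 0 := Nat.cast_ne_zero.mpr Nat.card_pos.ne'
  have hnK0 : (nK : ℂ) ≠ 0 := Nat.cast_ne_zero.mpr Nat.card_pos.ne'
  have hcP0 : (cP : ℂ) ≠ 0 := Nat.cast_ne_zero.mpr Nat.card_pos.ne'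
  -- rewrite the left side
  have hleft : ∑ χ ∈ Finset.univ.filter (fun χ : IrrCharacter G => χ ∈ principalBlock M G),
      classInner (invPairs J) (χ : G → ℂ) * (χ : G → ℂ) J =
      (k : ℂ) * (k : ℂ) / (g : ℂ) *
      ∑ χ ∈ Finset.univ.filter (fun χ : IrrCharacter G => χ ∈ principalBlock M G),
      (χ : G → ℂ) J * (χ : G → ℂ) J * (χ : G → ℂ) J / (χ : G → ℂ) 1 := by
    rw [Finset.mul_sum]
    refine Finset.sum_congr rfl fun χ _ => ?_
    rw [classInner_invPairs]
    ring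
  rw [hleft] at hmain
  set S := ∑ χ ∈ Finset.univ.filter (fun χ : IrrCharacter G => χ ∈ principalBlock M G),
      (χ : G → ℂ) J * (χ : G → ℂ) J * (χ : G → ℂ) J / (χ : G → ℂ) 1 with hS
  -- solve
  have hk' : (k : ℂ) = (g : ℂ) / (cJ : ℂ) := by
    rw [← hcl']
    field_simp
  have hT' : (T : ℂ) = 2 * (cJ : ℂ) ^ 2 / (cP : ℂ) ^ 2 := by
    rw [← hcount']
    field_simp
  have hnK' : (nK : ℂ) = (cJ : ℂ) / 4 := by
    rw [hcardC']
    ring
  rw [hk', hT', hnK'] at hmain
  field_simp at hmain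
  linear_combination hmain

end Cfsg.Agent.Lib.Helper75
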