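import Cfsg.Agent.Lib.Helper75.SectionClass
import Cfsg.Agent.Lib.Helper75.PrincipalSection

/-!
# The principal block on a `p`-section with `p`-nilpotent centralizer, for class functions
-/

set_option autoImplicit false

universe u

namespace Cfsg.Agent.Lib.Helper75

open Cfsg Cfsg.Agent.Lib.Helper77 Cfsg.Agent.Lib.Helper81
open scoped ComplexConjugate

section pnil

variable {C : Type u} [Group C] [Fintype C]

open Classical in
/-- In a group `C` with a normal `p`-complement `K`, the principal block behaves like the regular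
character of `C / K`. -/
theorem sum_principalBlock_one_mul_conj_of_pnilpotent [Fintype (IrrCharacter C)] {p : ℕ}
    [Fact p.Prime] {M : Ideal AlgInt} (hM : IsPModular p M)
    (hidx : ∃ k : ℕ, (pPrimeCore p C).index = p ^ k) (c : C) :
    ∑ χ ∈ Finset.univ.filter (fun χ : IrrCharacter C => χ ∈ principalBlock M C),
      (χ : C → ℂ) 1 * conj ((χ : C → ℂ) c) =
    if c ∈ pPrimeCore p C then ((pPrimeCore p C).index : ℂ) else 0 := by
  have hp : p.Prime := Fact.out
  have hMp : M.IsPrime := hM.2.1.isPrime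
  obtain ⟨k, hk⟩ := hidx
  have hcop : (Nat.card (pPrimeCore p C)).Coprime p :=
    Cfsg.Agent.Lib.Helper30.pPrimeCore_card_coprime p
  have hpK : ¬ p ∣ Nat.card (pPrimeCore p C) := by
    intro h
    have := Nat.Coprime.eq_one_of_dvd hcop.symm h
    exact hp.one_lt.ne' this
  have hb₀ := Cfsg.Agent.S0939.result p M hM ⟨k, hk⟩
  by_cases hc : c ∈ pPrimeCore p C
  · rw [if_pos hc]
    have h1 : ¬ p ∣ orderOf (1 : C) := by
      rw [orderOf_one]
      exact hp.one_lt.ne' ∘ Nat.dvd_one.mp
    have h2 := sum_principalBlock_mul_conj_of_pnilpotent hM ⟨k, hk⟩ (1 : C) h1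
    have hcard : Nat.card C = Nat.card (pPrimeCore p C) * p ^ k := by
      rw [← hk]
      exact (Subgroup.card_mul_index _).symm
    have hfac : (Nat.card C).factorization p = k := by
      rw [hcard, Nat.factorization_mul Nat.card_pos.ne' (pow_ne_zero k hp.ne_zero),
        Finsupp.add_apply, Nat.factorization_eq_zero_of_not_dvd hpK, zero_add,
        Nat.Prime.factorization_pow hp, Finsupp.single_eq_same]
    rw [hfac, ← hk] at h2
    rw [← h2]
    refine Finset.sum_congr rfl fun χ hχ => ?_
    have h3 := (Finset.mem_filter.mp hχ).2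
    rw [hb₀] at h3
    rw [h3 c hc]
  · rw [if_neg hc]
    have hsing : p ∣ orderOf c := by
      by_contra h
      exact hc (Cfsg.Agent.Lib.Helper16.mem_of_regular_of_index _ hk h)
    have h1 : ¬ p ∣ orderOf (1 : C) := by
      rw [orderOf_one]
      exact hp.one_lt.ne' ∘ Nat.dvd_one.mp
    have h2 := Cfsg.Agent.Lib.Helper16.weak_block_orthogonality_finset hM (oneIrr C) h1 hsing
    have h3 : blockOf M ((oneIrr C : IrrCharacter C) : C → ℂ) = principalBlock M C :=
      (eq_principalBlock_iff hMp (oneIrr C)).mpr (oneIrr_mem_principalBlock hMp)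
    rw [h3] at h2
    exact h2

open Classical in
/-- In a group `C` with a normal `p`-complement `K`: the sum of `[θ, χ] χ(1)` over the principal
block is the average of `θ` over `K`. -/
theorem sum_principalBlock_classInner_of_pnilpotent [Fintype (IrrCharacter C)] {p : ℕ}
    [Fact p.Prime] {M : Ideal AlgInt} (hM : IsPModular p M)
    (hidx : ∃ k : ℕ, (pPrimeCore p C).index = p ^ k) (θ : C → ℂ) :
    ∑ χ ∈ Finset.univ.filter (fun χ : IrrCharacter C => χ ∈ principalBlock M C),
      classInner θ (χ : C → ℂ) * (χ : C → ℂ) 1 =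
    (Nat.card (pPrimeCore p C) : ℂ)⁻¹ *
      ∑ c : C, if c ∈ pPrimeCore p C then θ c else 0 := by
  have hC0 : (Nat.card C : ℂ) ≠ 0 := Nat.cast_ne_zero.mpr Nat.card_pos.ne'
  have hK0 : (Nat.card (pPrimeCore p C) : ℂ) ≠ 0 := Nat.cast_ne_zero.mpr Nat.card_pos.ne'
  have hcard : (Nat.card C : ℂ) =
      (Nat.card (pPrimeCore p C) : ℂ) * ((pPrimeCore p C).index : ℂ) := by
    rw [← Nat.cast_mul, Subgroup.card_mul_index]
  unfold classInner
  have h1 : ∀ χ : IrrCharacter C,
      ((Nat.card C : ℂ)⁻¹ * ∑ g : C, θ g * conj ((χ : C → ℂ) g)) * (χ : C → ℂ) 1 =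
      (Nat.card C : ℂ)⁻¹ * ∑ g : C, θ g * ((χ : C → ℂ) 1 * conj ((χ : C → ℂ) g)) := by
    intro χ
    rw [mul_assoc, Finset.sum_mul]
    congr 1
    refine Finset.sum_congr rfl fun g _ => ?_
    ring
  rw [Finset.sum_congr rfl fun χ _ => h1 χ, ← Finset.mul_sum, Finset.sum_comm]
  have h2 : ∀ g : C, ∑ χ ∈ Finset.univ.filter (fun χ : IrrCharacter C => χ ∈ principalBlock M C),
      θ g * ((χ : C → ℂ) 1 * conj ((χ : C → ℂ) g)) =
      ((pPrimeCore p C).index : ℂ) * (if g ∈ pPrimeCore p C then θ g else 0) := by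
    intro g
    rw [← Finset.mul_sum, sum_principalBlock_one_mul_conj_of_pnilpotent hM hidx g]
    split_ifs <;> ring
  have hI0 : ((pPrimeCore p C).index : ℂ) ≠ 0 := by
    intro h
    rw [h, mul_zero] at hcard
    exact hC0 hcard
  rw [Finset.sum_congr rfl fun g _ => h2 g, ← Finset.mul_sum, hcard]
  field_simp

end pnil

variable {G : Type u} [Group G] [Fintype G]

open Classical in
/-- For a `p`-element `x` whose centralizer `C` has a normal `p`-complement `K`, and a class
function `θ` of `G`: the value at `x` of the principal block part of `θ` is the average of `θ`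
over `x K`. -/
theorem sum_principalBlock_classInner_section [Fintype (IrrCharacter G)] {p : ℕ} [Fact p.Prime]
    {M : Ideal AlgInt} (hM : IsPModular p M) {x : G} (hx : ∃ k : ℕ, orderOf x = p ^ k)
    [Fintype (Subgroup.centralizer ({x} : Set G))]
    [Fintype (IrrCharacter (Subgroup.centralizer ({x} : Set G)))]
    (hidx : ∃ k : ℕ, (pPrimeCore p (Subgroup.centralizer ({x} : Set G))).index = p ^ k)
    {θ : G → ℂ} (hθ : IsClassFunction G θ) :
    ∑ χ ∈ Finset.univ.filter (fun χ : IrrCharacter G => χ ∈ principalBlock M G),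
      classInner θ (χ : G → ℂ) * (χ : G → ℂ) x =
    (Nat.card (pPrimeCore p (Subgroup.centralizer ({x} : Set G))) : ℂ)⁻¹ *
      ∑ c : Subgroup.centralizer ({x} : Set G),
        if c ∈ pPrimeCore p (Subgroup.centralizer ({x} : Set G)) then θ (x * (c : G)) else 0 := by
  have hp : p.Prime := Fact.out
  have h1 : ¬ p ∣ orderOf (1 : Subgroup.centralizer ({x} : Set G)) := by
    rw [orderOf_one]
    exact hp.one_lt.ne' ∘ Nat.dvd_one.mp
  have h2 := sum_block_classInner_section hM hx (isPBlock_principalBlock M) hθ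
    (1 : Subgroup.centralizer ({x} : Set G)) h1
  rw [Subgroup.coe_one, mul_one] at h2
  rw [h2, ← sum_principalBlock_classInner_of_pnilpotent hM hidx
    (fun c : Subgroup.centralizer ({x} : Set G) => θ (x * (c : G)))]
  apply Finset.sum_congr
  · ext ψ
    simp only [Finset.mem_filter, Finset.mem_univ, true_and]
    exact isInducedBlock_principal_iff hM hx ψ
  · intro ψ _
    rfl

end Cfsg.Agent.Lib.Helper75
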