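import Cfsg.Agent.Lib.Helper75.KleinCount
import Cfsg.Agent.Lib.Helper75.KleinFusion
import Cfsg.Agent.Lib.Helper75.PNilSection
import Cfsg.Agent.S0840

/-!
# Pairs of involutions with a given product, as a class function
-/

set_option autoImplicit false

universe u

namespace Cfsg.Agent.Lib.Helper75

open Cfsg Cfsg.Agent.Lib.Helper77 Cfsg.Agent.Lib.Helper81
open scoped ComplexConjugate

variable {G : Type u} [Group G] [Fintype G]

/-- The number of pairs of conjugates of `J` whose product is `g⁻¹`. -/
noncomputable def invPairs (J g : G) : ℂ :=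
  (Nat.card {p : G × G // IsConj J p.1 ∧ IsConj J p.2 ∧ p.1 * p.2 = g⁻¹} : ℂ)

theorem invPairs_eq [Fintype (IrrCharacter G)] (J g : G) :
    invPairs J g = (Nat.card {x : G // IsConj J x} : ℂ) * (Nat.card {x : G // IsConj J x} : ℂ) /
      (Nat.card G : ℂ) *
      ∑ χ : IrrCharacter G, ((χ : G → ℂ) J * (χ : G → ℂ) J / (χ : G → ℂ) 1) * (χ : G → ℂ) g := by
  unfold invPairs
  rw [Cfsg.Agent.S0840.result J J g⁻¹, finsum_eq_sum_of_fintype]
  congr 1
  refine Finset.sum_congr rfl fun χ _ => ?_
  have h1 := Cfsg.Agent.Lib.Helper3.IsCharacter.inv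
    (Cfsg.Agent.Lib.Helper3.IsIrrCharacter.isCharacter χ.2) g
  rw [h1, Complex.conj_conj]
  ring

theorem isClassFunction_invPairs [Fintype (IrrCharacter G)] (J : G) :
    IsClassFunction G (invPairs J) := by
  intro g h
  rw [invPairs_eq, invPairs_eq]
  congr 1
  refine Finset.sum_congr rfl fun χ _ => ?_
  rw [Cfsg.Agent.Lib.Helper3.IsCharacter.isClassFunction
    (Cfsg.Agent.Lib.Helper3.IsIrrCharacter.isCharacter χ.2) g h]

theorem classInner_invPairs [Fintype (IrrCharacter G)] (J : G) (ψ : IrrCharacter G) :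
    classInner (invPairs J) (ψ : G → ℂ) =
      (Nat.card {x : G // IsConj J x} : ℂ) * (Nat.card {x : G // IsConj J x} : ℂ) /
      (Nat.card G : ℂ) * ((ψ : G → ℂ) J * (ψ : G → ℂ) J / (ψ : G → ℂ) 1) := by
  classical
  have h1 : invPairs J = ∑ χ : IrrCharacter G,
      ((Nat.card {x : G // IsConj J x} : ℂ) * (Nat.card {x : G // IsConj J x} : ℂ) /
      (Nat.card G : ℂ) * ((χ : G → ℂ) J * (χ : G → ℂ) J / (χ : G → ℂ) 1)) • (χ : G → ℂ) := by
    funext g
    rw [invPairs_eq, Finset.sum_apply, Finset.mul_sum]
    refine Finset.sum_congr rfl fun χ _ => ?_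
    simp only [Pi.smul_apply, smul_eq_mul]
    ring
  rw [h1, Cfsg.Agent.Lib.Helper3.classInner_sum_left]
  simp only [Cfsg.Agent.Lib.Helper3.classInner_smul_left]
  rw [Finset.sum_eq_single ψ]
  · rw [Cfsg.Agent.Lib.Helper3.classInner_irr ψ.2 ψ.2, if_pos rfl, mul_one]
  · intro χ _ hχ
    rw [Cfsg.Agent.Lib.Helper3.classInner_irr χ.2 ψ.2, if_neg, mul_zero]
    intro h
    exact hχ (Subtype.ext h)
  · intro h
    exact absurd (Finset.mem_univ ψ) h

omit [Fintype G] in
/-- The hypotheses of the counting lemma hold in the centralizer of an involution. -/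
theorem KleinHyp.kleinCentHyp [Finite G] {P : Sylow 2 G} (H : KleinHyp G P) {J : G}
    (hJP : J ∈ (P : Subgroup G)) (hJ1 : J ≠ 1) :
    KleinCentHyp (pPrimeCore 2 (Subgroup.centralizer ({J} : Set G)))
      (P.subtype (H.le_centralizer hJP))
      (⟨J, Subgroup.mem_centralizer_singleton_iff.mpr rfl⟩ :
        Subgroup.centralizer ({J} : Set G)) := by
  have hidx := index_pPrimeCore_centralizer_klein P H.card H.exp hJP hJ1
  have hcop : (Nat.card (pPrimeCore 2 (Subgroup.centralizer ({J} : Set G)))).Coprime 2 :=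
    Cfsg.Agent.Lib.Helper30.pPrimeCore_card_coprime 2
  refine ⟨?_, ?_, ?_, ?_, ?_, ?_, ?_⟩
  · exact (Nat.coprime_two_right).mp hcop
  · have h1 := (pPrimeCore 2 (Subgroup.centralizer ({J} : Set G))).card_mul_index
    rw [hidx] at h1
    rw [← h1, mul_comm]
  · rw [Sylow.coe_subtype]
    have h1 : Nat.card ((P : Subgroup G).subgroupOf (Subgroup.centralizer ({J} : Set G))) =
        Nat.card (P : Subgroup G) :=
      Nat.card_congr (Subgroup.subgroupOfEquivOfLe (H.le_centralizer hJP)).toEquiv
    rw [h1]
    exact H.card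
  · intro u hu
    rw [Sylow.coe_subtype, Subgroup.mem_subgroupOf] at hu
    apply Subtype.ext
    exact H.exp (u : G) hu
  · rw [Sylow.coe_subtype, Subgroup.mem_subgroupOf]
    exact hJP
  · intro h
    exact hJ1 (congrArg Subtype.val h)
  · intro c
    apply Subtype.ext
    exact Subgroup.mem_centralizer_singleton_iff.mp c.2

omit [Fintype G] in
/-- The centralizer of the Sylow subgroup inside `C(J)` has the same order as in `G`. -/
theorem KleinHyp.card_centralizer_subtype [Finite G] {P : Sylow 2 G} (H : KleinHyp G P) {J : G}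
    (hJP : J ∈ (P : Subgroup G)) :
    Nat.card (Subgroup.centralizer (((P.subtype (H.le_centralizer hJP) :
      Sylow 2 (Subgroup.centralizer ({J} : Set G))) :
      Subgroup (Subgroup.centralizer ({J} : Set G))) :
      Set (Subgroup.centralizer ({J} : Set G)))) =
    Nat.card (Subgroup.centralizer ((P : Subgroup G) : Set G)) := by
  have hle : Subgroup.centralizer ((P : Subgroup G) : Set G) ≤
      Subgroup.centralizer ({J} : Set G) :=
    Subgroup.centralizer_le (Set.singleton_subset_iff.mpr hJP)
  have h1 : Subgroup.centralizer (((P.subtype (H.le_centralizer hJP) :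
      Sylow 2 (Subgroup.centralizer ({J} : Set G))) :
      Subgroup (Subgroup.centralizer ({J} : Set G))) :
      Set (Subgroup.centralizer ({J} : Set G))) =
      (Subgroup.centralizer ((P : Subgroup G) : Set G)).subgroupOf
        (Subgroup.centralizer ({J} : Set G)) := by
    ext c
    rw [Subgroup.mem_subgroupOf, Subgroup.mem_centralizer_iff, Subgroup.mem_centralizer_iff]
    constructor
    · intro h y hy
      have h2 := h ⟨y, H.le_centralizer hJP hy⟩ (by
        show (⟨y, H.le_centralizer hJP hy⟩ : Subgroup.centralizer ({J} : Set G)) ∈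
          ((P.subtype (H.le_centralizer hJP) : Sylow 2 (Subgroup.centralizer ({J} : Set G))) :
            Subgroup (Subgroup.centralizer ({J} : Set G)))
        rw [Sylow.coe_subtype, Subgroup.mem_subgroupOf]
        exact hy)
      exact congrArg Subtype.val h2
    · intro h x hx
      have hx' : x ∈ ((P.subtype (H.le_centralizer hJP) :
          Sylow 2 (Subgroup.centralizer ({J} : Set G))) :
            Subgroup (Subgroup.centralizer ({J} : Set G))) := hx
      rw [Sylow.coe_subtype, Subgroup.mem_subgroupOf] at hx'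
      apply Subtype.ext
      exact h (x : G) hx'
  rw [h1]
  exact Nat.card_congr (Subgroup.subgroupOfEquivOfLe hle).toEquiv

end Cfsg.Agent.Lib.Helper75
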