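import Cfsg.Agent.Lib.Helper75.KleinPairs

/-!
# The sum of the pair-counting class function over `J K`
-/

set_option autoImplicit false

universe u

namespace Cfsg.Agent.Lib.Helper75

open Cfsg Cfsg.Agent.Lib.Helper77 Cfsg.Agent.Lib.Helper81
open scoped ComplexConjugate

variable {G : Type u} [Group G] [Fintype G]

omit [Fintype G] in
/-- In a group with one class of involutions, the conjugates of an involution `J` are the
involutions. -/
theorem KleinHyp.isConj_iff_invol {P : Sylow 2 G} (H : KleinHyp G P) {J : G}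
    (hJP : J ∈ (P : Subgroup G)) (hJ1 : J ≠ 1) (u : G) :
    IsConj J u ↔ (u * u = 1 ∧ u ≠ 1) := by
  have hJ2 : orderOf J = 2 := orderOf_eq_two_of_sq (H.exp J hJP) hJ1
  constructor
  · intro h
    obtain ⟨c, hc⟩ := isConj_iff.mp h
    have h2 : orderOf u = 2 := by rw [← hc, orderOf_conj_eq, hJ2]
    constructor
    · rw [← pow_two, ← h2, pow_orderOf_eq_one]
    · intro h1
      rw [h1, orderOf_one] at h2
      norm_num at h2
  · rintro ⟨h1, h2⟩
    exact H.one J u hJ2 (orderOf_eq_two_of_sq h1 h2)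

omit [Fintype G] in
/-- An involution inverting `J c`, with `c` of odd order commuting with the involution `J`,
centralizes `J`. -/
theorem comm_of_inverts {J c u : G} (hJJ : J * J = 1) (hJc : c * J = J * c) {m : ℕ}
    (hm : Odd m) (hcm : c ^ m = 1) (hu : u * (J * c) * u⁻¹ = (J * c)⁻¹) : u * J = J * u := by
  have hJm : J ^ m = J := by
    obtain ⟨k, rfl⟩ := hm
    rw [pow_succ, pow_mul, pow_two, hJJ, one_pow, one_mul]
  have hcomm : Commute J c := hJc.symm
  have h1 : (J * c) ^ m = J := by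
    rw [hcomm.mul_pow, hJm, hcm, mul_one]
  have h2 : u * J * u⁻¹ = J⁻¹ := by
    calc u * J * u⁻¹ = u * (J * c) ^ m * u⁻¹ := by rw [h1]
      _ = (u * (J * c) * u⁻¹) ^ m := (conj_pow).symm
      _ = ((J * c)⁻¹) ^ m := by rw [hu]
      _ = J⁻¹ := by rw [inv_pow, h1]
  have hJi : J⁻¹ = J := inv_eq_of_mul_eq_one_right hJJ
  rw [hJi] at h2
  calc u * J = (u * J * u⁻¹) * u := by group
    _ = J * u := by rw [h2]

open Classical in
/-- The sum of the pair-counting function over `J K` is the number of pairs of involutions of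
`C(J)` whose product lies in `J K`. -/
theorem KleinHyp.sum_invPairs {P : Sylow 2 G} (H : KleinHyp G P) {J : G}
    (hJP : J ∈ (P : Subgroup G)) (hJ1 : J ≠ 1)
    [Fintype (Subgroup.centralizer ({J} : Set G))] :
    (∑ c : Subgroup.centralizer ({J} : Set G),
      if c ∈ pPrimeCore 2 (Subgroup.centralizer ({J} : Set G)) then invPairs J (J * (c : G))
      else 0) =
    (Nat.card {p : Subgroup.centralizer ({J} : Set G) × Subgroup.centralizer ({J} : Set G) //
      p.1 * p.1 = 1 ∧ p.1 ≠ 1 ∧ p.2 * p.2 = 1 ∧ p.2 ≠ 1 ∧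
      (⟨J, Subgroup.mem_centralizer_singleton_iff.mpr rfl⟩ :
        Subgroup.centralizer ({J} : Set G))⁻¹ * (p.1 * p.2) ∈
        pPrimeCore 2 (Subgroup.centralizer ({J} : Set G))} : ℂ) := by
  set J' : Subgroup.centralizer ({J} : Set G) :=
    ⟨J, Subgroup.mem_centralizer_singleton_iff.mpr rfl⟩ with hJ'
  set K := pPrimeCore 2 (Subgroup.centralizer ({J} : Set G)) with hK
  have hJJ : J * J = 1 := H.exp J hJP
  have hJ'J' : J' * J' = 1 := Subtype.ext hJJ
  have hJ'i : J'⁻¹ = J' := inv_eq_of_mul_eq_one_right hJ'J'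
  have hcent : ∀ c : Subgroup.centralizer ({J} : Set G), c * J' = J' * c := by
    intro c
    apply Subtype.ext
    exact Subgroup.mem_centralizer_singleton_iff.mp c.2
  have hinv := H.isConj_iff_invol hJP hJ1
  have hcop : (Nat.card K).Coprime 2 := Cfsg.Agent.Lib.Helper30.pPrimeCore_card_coprime 2
  have hKodd : Odd (Nat.card K) := (Nat.coprime_two_right).mp hcop
  -- odd exponent for elements of `K`
  have hodd : ∀ c : Subgroup.centralizer ({J} : Set G), c ∈ K →
      ∃ m : ℕ, Odd m ∧ (c : G) ^ m = 1 := by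
    intro c hc
    refine ⟨orderOf c, Odd.of_dvd_nat hKodd (Subgroup.orderOf_dvd_natCard K hc), ?_⟩
    have h1 : c ^ orderOf c = 1 := pow_orderOf_eq_one c
    have h2 := congrArg Subtype.val h1
    rw [Subgroup.coe_pow] at h2
    exact h2
  -- membership in the centralizer
  have hmemC : ∀ c : Subgroup.centralizer ({J} : Set G), c ∈ K → ∀ u v : G,
      u * u = 1 → v * v = 1 → u * v = (J * (c : G))⁻¹ →
      u ∈ Subgroup.centralizer ({J} : Set G) ∧ v ∈ Subgroup.centralizer ({J} : Set G) := by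
    intro c hc u v huu hvv huv
    obtain ⟨m, hm, hcm⟩ := hodd c hc
    have hJc : (c : G) * J = J * (c : G) := Subgroup.mem_centralizer_singleton_iff.mp c.2
    have hui : u⁻¹ = u := inv_eq_of_mul_eq_one_right huu
    have hvi : v⁻¹ = v := inv_eq_of_mul_eq_one_right hvv
    have hg : J * (c : G) = v * u := by
      have : (J * (c : G)) = (u * v)⁻¹ := by rw [huv, inv_inv]
      rw [this, mul_inv_rev, hui, hvi]
    constructor
    · rw [Subgroup.mem_centralizer_singleton_iff]
      apply comm_of_inverts hJJ hJc hm hcm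
      rw [← huv, hg, hui]
      calc u * (v * u) * u = u * v * (u * u) := by simp only [mul_assoc]
        _ = u * v := by rw [huu, mul_one]
    · rw [Subgroup.mem_centralizer_singleton_iff]
      apply comm_of_inverts hJJ hJc hm hcm
      rw [← huv, hg, hvi]
      calc v * (v * u) * v = (v * v) * u * v := by simp only [mul_assoc]
        _ = u * v := by rw [hvv, one_mul]
  -- the two finsets
  set s : Finset (Subgroup.centralizer ({J} : Set G) × Subgroup.centralizer ({J} : Set G)) :=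
    Finset.univ.filter (fun p => p.1 * p.1 = 1 ∧ p.1 ≠ 1 ∧ p.2 * p.2 = 1 ∧ p.2 ≠ 1 ∧
      J'⁻¹ * (p.1 * p.2) ∈ K) with hs
  set t : Finset (Subgroup.centralizer ({J} : Set G)) :=
    Finset.univ.filter (fun c => c ∈ K) with ht
  have hmaps : ∀ p ∈ s, J'⁻¹ * (p.1 * p.2)⁻¹ ∈ t := by
    intro p hp
    obtain ⟨-, -, -, -, h5⟩ := (Finset.mem_filter.mp hp).2
    rw [ht, Finset.mem_filter]
    refine ⟨Finset.mem_univ _, ?_⟩
    have h6 : J'⁻¹ * (p.1 * p.2)⁻¹ = (J'⁻¹ * (p.1 * p.2))⁻¹ := by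
      calc J'⁻¹ * (p.1 * p.2)⁻¹ = J' * (p.1 * p.2)⁻¹ := by rw [hJ'i]
        _ = (p.1 * p.2)⁻¹ * J' := (hcent _).symm
        _ = (J'⁻¹ * (p.1 * p.2))⁻¹ := by rw [mul_inv_rev J'⁻¹, inv_inv]
    rw [h6]
    exact K.inv_mem h5
  have hcard := Finset.card_eq_sum_card_fiberwise hmaps
  -- the fibers
  have hfiber : ∀ c ∈ t, (s.filter (fun p => J'⁻¹ * (p.1 * p.2)⁻¹ = c)).card =
      Nat.card {p : G × G // IsConj J p.1 ∧ IsConj J p.2 ∧ p.1 * p.2 = (J * (c : G))⁻¹} := by
    intro c hc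
    have hcK : c ∈ K := (Finset.mem_filter.mp hc).2
    rw [Nat.card_eq_fintype_card, Fintype.card_subtype]
    refine Finset.card_bij (fun p _ => ((p.1 : G), (p.2 : G))) ?_ ?_ ?_
    · intro p hp
      obtain ⟨hp1, hp2⟩ := Finset.mem_filter.mp hp
      obtain ⟨h1, h2, h3, h4, -⟩ := (Finset.mem_filter.mp hp1).2
      rw [Finset.mem_filter]
      refine ⟨Finset.mem_univ _, ?_, ?_, ?_⟩
      · rw [hinv]
        exact ⟨congrArg Subtype.val h1, fun h => h2 (Subtype.ext h)⟩
      · rw [hinv]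
        exact ⟨congrArg Subtype.val h3, fun h => h4 (Subtype.ext h)⟩
      · have h5 : p.1 * p.2 = (J' * c)⁻¹ := by
          have : (p.1 * p.2)⁻¹ = J' * c := by
            rw [← hp2, ← mul_assoc, mul_inv_cancel, one_mul]
          rw [← this, inv_inv]
        exact congrArg Subtype.val h5
    · intro p _ q _ h
      have h1 := congrArg Prod.fst h
      have h2 := congrArg Prod.snd h
      exact Prod.ext (Subtype.ext h1) (Subtype.ext h2)
    · intro q hq
      obtain ⟨h1, h2, h3⟩ := (Finset.mem_filter.mp hq).2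
      rw [hinv] at h1 h2
      obtain ⟨hu, hv⟩ := hmemC c hcK q.1 q.2 h1.1 h2.1 h3
      have hprod : (⟨q.1, hu⟩ : Subgroup.centralizer ({J} : Set G)) * ⟨q.2, hv⟩ = (J' * c)⁻¹ :=
        Subtype.ext h3
      refine ⟨(⟨q.1, hu⟩, ⟨q.2, hv⟩), ?_, rfl⟩
      rw [Finset.mem_filter, hs, Finset.mem_filter]
      refine ⟨⟨Finset.mem_univ _, Subtype.ext h1.1, fun h => h1.2 (congrArg Subtype.val h),
        Subtype.ext h2.1, fun h => h2.2 (congrArg Subtype.val h), ?_⟩, ?_⟩
      · show J'⁻¹ * ((⟨q.1, hu⟩ : Subgroup.centralizer ({J} : Set G)) * ⟨q.2, hv⟩) ∈ K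
        rw [hprod, mul_inv_rev, hJ'i, hcent c⁻¹, ← mul_assoc, hJ'J', one_mul]
        exact K.inv_mem hcK
      · show J'⁻¹ * ((⟨q.1, hu⟩ : Subgroup.centralizer ({J} : Set G)) * ⟨q.2, hv⟩)⁻¹ = c
        rw [hprod, inv_inv, ← mul_assoc, inv_mul_cancel, one_mul]
  -- assemble
  rw [Nat.card_eq_fintype_card, Fintype.card_subtype]
  show _ = ((s.card : ℕ) : ℂ)
  rw [hcard, Nat.cast_sum, ← Finset.sum_filter]
  refine Finset.sum_congr rfl fun c hc => ?_
  rw [hfiber c hc]
  rfl

end Cfsg.Agent.Lib.Helper75
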