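import Cfsg.Agent.Lib.Helper75.KleinBlock2
import Cfsg.Agent.Lib.Helper74.BR2

/-!
# The principal 2-block for Klein four Sylow 2-subgroups with one class of involutions has
2-regular rank three
-/

set_option autoImplicit false

universe u

namespace Cfsg.Agent.Lib.Helper75

open Cfsg Cfsg.Agent.Lib.Helper77 Cfsg.Agent.Lib.Helper81
open scoped ComplexConjugate

variable {G : Type u} [Group G] [Fintype G]

/-- Every `2`-element is the identity or an involution conjugate to `z`. -/
theorem KleinHyp.two_element {P : Sylow 2 G} (H : KleinHyp G P) {z : G}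
    (hzP : z ∈ (P : Subgroup G)) (hz1 : z ≠ 1) {g : G} (hg : ∃ k : ℕ, orderOf g = 2 ^ k) :
    g = 1 ∨ IsConj g z := by
  haveI : Fact (Nat.Prime 2) := ⟨Nat.prime_two⟩
  by_cases hg1 : g = 1
  · exact Or.inl hg1
  right
  obtain ⟨k, hk⟩ := hg
  have hpg : IsPGroup 2 (Subgroup.zpowers g) := by
    apply IsPGroup.of_card (n := k)
    rw [Nat.card_zpowers, hk]
  obtain ⟨Q, hQ⟩ := hpg.exists_le_sylow
  obtain ⟨c, hc⟩ := MulAction.exists_smul_eq G Q P
  have hgQ : g ∈ (Q : Subgroup G) := hQ (Subgroup.mem_zpowers g)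
  have hcg : c * g * c⁻¹ ∈ (P : Subgroup G) := by
    rw [← hc]
    rw [Sylow.coe_subgroup_smul, Subgroup.mem_pointwise_smul_iff_inv_smul_mem]
    simp only [MulAut.smul_def, MulAut.conj_inv_apply]
    have : c⁻¹ * (c * g * c⁻¹) * c = g := by group
    rw [this]
    exact hgQ
  have hcg1 : c * g * c⁻¹ ≠ 1 := by
    intro h
    apply hg1
    have : g = c⁻¹ * (c * g * c⁻¹) * c := by group
    rw [this, h]
    group
  have hcg2 : orderOf (c * g * c⁻¹) = 2 := orderOf_eq_two_of_sq (H.exp _ hcg) hcg1
  have hz2 : orderOf z = 2 := orderOf_eq_two_of_sq (H.exp z hzP) hz1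
  have h1 : IsConj g (c * g * c⁻¹) := isConj_iff.mpr ⟨c, rfl⟩
  exact h1.trans (H.one _ _ hcg2 hz2)

open Classical in
theorem KleinHyp.blockRank_principal [Fintype (IrrCharacter G)] {M : Ideal AlgInt}
    (hM : IsPModular 2 M) {P : Sylow 2 G} (H : KleinHyp G P) {z : G}
    (hzP : z ∈ (P : Subgroup G)) (hz1 : z ≠ 1) :
    blockRank 2 (principalBlock M G) = 3 := by
  haveI : Fact (Nat.Prime 2) := ⟨Nat.prime_two⟩
  have hMp : M.IsPrime := hM.2.1.isPrime
  have hG : (Nat.card G : ℂ) ≠ 0 := Nat.cast_ne_zero.mpr Nat.card_pos.ne'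
  have hz2 : orderOf z = 2 := orderOf_eq_two_of_sq (H.exp z hzP) hz1
  set B := Finset.univ.filter (fun χ : IrrCharacter G => χ ∈ principalBlock M G) with hBdef
  -- four characters
  have hcardB : B.card = 4 := by
    obtain ⟨ζ₂, ζ₃, ζ₄, ε, -, h2ne, h3ne, h4ne, h23, h24, h34, hmem, -, -, -⟩ :=
      H.four_chars hM hzP hz1
    have hB : B = {oneIrr G, ζ₂, ζ₃, ζ₄} := by
      ext χ
      simp only [hBdef, Finset.mem_filter, Finset.mem_univ, true_and, Finset.mem_insert,
        Finset.mem_singleton]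
      exact hmem χ
    rw [hB, Finset.card_insert_of_notMem, Finset.card_insert_of_notMem,
      Finset.card_insert_of_notMem, Finset.card_singleton]
    · simp only [Finset.mem_singleton]; exact h34
    · simp only [Finset.mem_insert, Finset.mem_singleton, not_or]; exact ⟨h23, h24⟩
    · simp only [Finset.mem_insert, Finset.mem_singleton, not_or]
      exact ⟨fun h => h2ne h.symm, fun h => h3ne h.symm, fun h => h4ne h.symm⟩
  set F : G → ℂ := fun g => ∑ χ ∈ B, (χ : G → ℂ) g * conj ((χ : G → ℂ) g) with hFdef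
  have hF : IsClassFunction G F := by
    intro g h
    show ∑ χ ∈ B, (χ : G → ℂ) (h * g * h⁻¹) * conj ((χ : G → ℂ) (h * g * h⁻¹)) =
      ∑ χ ∈ B, (χ : G → ℂ) g * conj ((χ : G → ℂ) g)
    refine Finset.sum_congr rfl fun χ _ => ?_
    rw [Cfsg.Agent.Lib.Helper3.IsCharacter.isClassFunction
      (Cfsg.Agent.Lib.Helper3.IsIrrCharacter.isCharacter χ.2) g h]
  -- total
  have htot : ∑ g : G, F g = (Nat.card G : ℂ) * 4 := by
    rw [hFdef, Finset.sum_comm]
    have h1a : ∀ χ ∈ B, ∑ g : G, (χ : G → ℂ) g * conj ((χ : G → ℂ) g) = (Nat.card G : ℂ) := by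
      intro χ _
      have h2 := Cfsg.Agent.Lib.Helper3.classInner_irr χ.2 χ.2
      unfold Cfsg.classInner at h2
      rw [if_pos rfl] at h2
      rw [← mul_one (Nat.card G : ℂ), ← h2, ← mul_assoc, mul_inv_cancel₀ hG, one_mul]
    rw [Finset.sum_congr rfl h1a, Finset.sum_const, nsmul_eq_mul, hcardB, mul_comm]
    norm_num
  -- sections
  have hX : ∀ x ∈ ({1, z} : Finset G), ∃ k : ℕ, orderOf x = 2 ^ k := by
    intro x hx
    rw [Finset.mem_insert, Finset.mem_singleton] at hx
    rcases hx with rfl | rfl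
    · exact ⟨0, by rw [orderOf_one, pow_zero]⟩
    · exact ⟨1, by rw [hz2, pow_one]⟩
  have hnc : ∀ g : G, IsConj g (1 : G) → g = 1 := by
    intro g h
    obtain ⟨c, hc⟩ := isConj_iff.mp h
    have : g = c⁻¹ * (c * g * c⁻¹) * c := by group
    rw [this, hc]
    group
  have hXrep : ∀ g : G, (∃ k : ℕ, orderOf g = 2 ^ k) →
      ∃! x, x ∈ ({1, z} : Finset G) ∧ IsConj g x := by
    intro g hg
    rcases H.two_element hzP hz1 hg with h | h
    · refine ⟨1, ⟨by simp, by rw [h]⟩, ?_⟩
      rintro y ⟨hy, hyc⟩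
      rw [Finset.mem_insert, Finset.mem_singleton] at hy
      rcases hy with rfl | rfl
      · rfl
      · exfalso
        rw [h] at hyc
        exact hz1 (hnc _ hyc.symm)
    · refine ⟨z, ⟨by simp, h⟩, ?_⟩
      rintro y ⟨hy, hyc⟩
      rw [Finset.mem_insert, Finset.mem_singleton] at hy
      rcases hy with rfl | rfl
      · exfalso
        have hg1 : g = 1 := hnc g hyc
        rw [hg1] at h
        exact hz1 (hnc _ h.symm)
      · rfl
  have hsec := sum_eq_sum_sections Nat.prime_two ({1, z} : Finset G) hX hXrep F hF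
  rw [Finset.sum_pair (Ne.symm hz1)] at hsec
  -- first term
  have ht1 : ((Subgroup.centralizer ({1} : Set G)).index : ℂ) *
      ∑ᶠ c : Subgroup.centralizer ({1} : Set G),
        pRegularPart 2 (fun c : Subgroup.centralizer ({1} : Set G) => F (1 * (c : G))) c =
      (Nat.card G : ℂ) * (blockRank 2 (principalBlock M G) : ℂ) := by
    have htop : Subgroup.centralizer ({1} : Set G) = ⊤ := by
      rw [Subgroup.eq_top_iff']
      intro g
      rw [Subgroup.mem_centralizer_singleton_iff, mul_one, one_mul]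
    have hidx : (Subgroup.centralizer ({1} : Set G)).index = 1 := by
      rw [htop, Subgroup.index_top]
    rw [hidx, Nat.cast_one, one_mul]
    haveI : Fintype (Subgroup.centralizer ({1} : Set G)) := Fintype.ofFinite _
    rw [finsum_eq_sum_of_fintype]
    have h1 := Cfsg.Agent.Lib.Helper74.card_mul_blockRank 2 M hM (oneIrr G)
    have h1' : (Nat.card G : ℂ) * (blockRank 2 (principalBlock M G) : ℂ) =
        ∑ x : G, ∑ χ ∈ B, pRegularPart 2 (χ : G → ℂ) x * (χ : G → ℂ) x⁻¹ := h1
    rw [h1']
    rw [Finset.sum_subtype (Finset.univ : Finset G)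
      (p := fun g : G => g ∈ Subgroup.centralizer ({1} : Set G))
      (fun g => by simp [htop])
      (fun g => ∑ χ ∈ B, pRegularPart 2 (χ : G → ℂ) g * (χ : G → ℂ) g⁻¹)]
    refine Finset.sum_congr rfl fun c _ => ?_
    rw [Cfsg.Agent.Lib.Helper74.pRegularPart_apply]
    by_cases hc : 2 ∣ orderOf c
    · rw [if_neg (fun h => h hc)]
      symm
      refine Finset.sum_eq_zero fun χ _ => ?_
      rw [Cfsg.Agent.Lib.Helper74.pRegularPart_apply, Subgroup.orderOf_coe,
        if_neg (fun h => h hc), zero_mul]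
    · rw [if_pos hc, one_mul]
      refine Finset.sum_congr rfl fun χ _ => ?_
      rw [Cfsg.Agent.Lib.Helper74.pRegularPart_apply, Subgroup.orderOf_coe, if_pos hc,
        Cfsg.Agent.Lib.Helper3.IsCharacter.inv
          (Cfsg.Agent.Lib.Helper3.IsIrrCharacter.isCharacter χ.2)]
  -- second term
  have ht2 : ((Subgroup.centralizer ({z} : Set G)).index : ℂ) *
      ∑ᶠ c : Subgroup.centralizer ({z} : Set G),
        pRegularPart 2 (fun c : Subgroup.centralizer ({z} : Set G) => F (z * (c : G))) c =
      (Nat.card G : ℂ) := by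
    haveI : Fintype (Subgroup.centralizer ({z} : Set G)) := Fintype.ofFinite _
    haveI : Fintype (IrrCharacter (Subgroup.centralizer ({z} : Set G))) := Fintype.ofFinite _
    rw [finsum_eq_sum_of_fintype]
    have hx : ∃ k : ℕ, orderOf z = 2 ^ k := ⟨1, by rw [hz2, pow_one]⟩
    have hidx4 := index_pPrimeCore_centralizer_klein P H.card H.exp hzP hz1
    have hidx : ∃ k : ℕ, (pPrimeCore 2 (Subgroup.centralizer ({z} : Set G))).index = 2 ^ k :=
      ⟨2, by rw [hidx4]; norm_num⟩
    haveI hKn : (pPrimeCore 2 (Subgroup.centralizer ({z} : Set G))).Normal :=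
      Cfsg.Agent.Lib.Helper22.pPrimeCore_normal' 2 _
    have hterm : ∀ c : Subgroup.centralizer ({z} : Set G),
        pRegularPart 2 (fun c : Subgroup.centralizer ({z} : Set G) => F (z * (c : G))) c =
        if c ∈ pPrimeCore 2 (Subgroup.centralizer ({z} : Set G)) then (4 : ℂ) else 0 := by
      intro c
      rw [Cfsg.Agent.Lib.Helper74.pRegularPart_apply]
      by_cases hc : 2 ∣ orderOf c
      · rw [if_neg (fun h => h hc), if_neg]
        intro hcK
        have hcop := Cfsg.Agent.Lib.Helper30.pPrimeCore_card_coprime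
          (G := Subgroup.centralizer ({z} : Set G)) 2
        have h1 : orderOf c ∣ Nat.card (pPrimeCore 2 (Subgroup.centralizer ({z} : Set G))) := by
          have := orderOf_dvd_natCard (⟨c, hcK⟩ : pPrimeCore 2 (Subgroup.centralizer ({z} : Set G)))
          rwa [← Subgroup.orderOf_coe] at this
        have h2 : 2 ∣ Nat.card (pPrimeCore 2 (Subgroup.centralizer ({z} : Set G))) := hc.trans h1
        have := Nat.Coprime.eq_one_of_dvd hcop.symm h2
        norm_num at this
      · rw [if_pos hc, if_pos (Cfsg.Agent.Lib.Helper16.mem_of_regular_of_index _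
          (show (pPrimeCore 2 (Subgroup.centralizer ({z} : Set G))).index = 2 ^ 2 by
            rw [hidx4]; norm_num) hc)]
        have h1 := sum_principalBlock_section_of_pnilpotent hM hx hidx c hc
        rw [H.factorization_centralizer hzP] at h1
        show ∑ χ ∈ B, (χ : G → ℂ) (z * (c : G)) * conj ((χ : G → ℂ) (z * (c : G))) = 4
        rw [h1]
        norm_num
    rw [Finset.sum_congr rfl fun c _ => hterm c, ← Finset.sum_filter, Finset.sum_const,
      nsmul_eq_mul]
    have hcardK : (Finset.univ.filter (fun c : Subgroup.centralizer ({z} : Set G) =>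
        c ∈ pPrimeCore 2 (Subgroup.centralizer ({z} : Set G)))).card =
        Nat.card (pPrimeCore 2 (Subgroup.centralizer ({z} : Set G))) := by
      rw [Nat.card_eq_fintype_card, Fintype.card_subtype]
    rw [hcardK]
    have h5 := (pPrimeCore 2 (Subgroup.centralizer ({z} : Set G))).card_mul_index
    rw [hidx4] at h5
    have h6 := (Subgroup.centralizer ({z} : Set G)).card_mul_index
    have h7 : (Nat.card (pPrimeCore 2 (Subgroup.centralizer ({z} : Set G))) : ℂ) * 4 =
        (Nat.card (Subgroup.centralizer ({z} : Set G)) : ℂ) := by exact_mod_cast h5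
    rw [h7, mul_comm]
    exact_mod_cast h6
  rw [ht1, ht2, htot] at hsec
  have h8 : (Nat.card G : ℂ) * 4 = (Nat.card G : ℂ) * ((blockRank 2 (principalBlock M G) : ℂ) + 1) := by
    rw [hsec]; ring
  have h9 := mul_left_cancel₀ hG h8
  have h10 : (blockRank 2 (principalBlock M G) : ℂ) = 3 := by
    have : (4 : ℂ) = (blockRank 2 (principalBlock M G) : ℂ) + 1 := h9
    linear_combination -this
  exact_mod_cast h10

end Cfsg.Agent.Lib.Helper75
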