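import Mathlib
import Cfsg.Prelude.Def_Characters
import Cfsg.Agent.Lib.Helper79.Basic
import Cfsg.Agent.Lib.Helper3.CharBasic

set_option autoImplicit false
set_option linter.unusedSectionVars false

namespace Cfsg.Agent.Lib.Helper75

open Subgroup MulAction

section Transfer

variable {G : Type*} [Group G] (N : Subgroup G) [hN : N.Normal] [N.FiniteIndex]
  {A : Type*} [CommGroup A] (ϕ : N →* A)

/-- The transfer of an invariant homomorphism on a normal subgroup of finite index is the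
`index`-th power on that subgroup. -/
theorem transfer_eq_pow_index_of_invariant
    (hinv : ∀ (g : G) (n : N), ϕ ⟨g * n * g⁻¹, hN.conj_mem n n.2 g⟩ = ϕ n) (h : N) :
    MonoidHom.transfer ϕ (h : G) = ϕ h ^ N.index := by
  classical
  let := N.fintypeQuotientOfFiniteIndex
  rw [MonoidHom.transfer_eq_prod_quotient_orbitRel_zpowers_quot]
  have key : ∀ q : Quotient (orbitRel (zpowers (h : G)) (G ⧸ N)),
      ϕ ⟨q.out.out⁻¹ * (h : G) ^ Function.minimalPeriod ((h : G) • ·) q.out * q.out.out,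
        QuotientGroup.out_conj_pow_minimalPeriod_mem N (h : G) q.out⟩ =
      ϕ h ^ Function.minimalPeriod ((h : G) • ·) q.out := by
    intro q
    have h1 := hinv (q.out.out⁻¹) (h ^ Function.minimalPeriod ((h : G) • ·) q.out)
    rw [map_pow] at h1
    rw [← h1]
    congr 1
    apply Subtype.ext
    simp
  rw [Finset.prod_congr rfl (fun q _ => key q), Finset.prod_pow_eq_pow_sum,
    ← Subgroup.index_eq_sum_minimalPeriod N (h : G)]

/-- **Coprime extension of invariant linear characters.** -/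
theorem exists_monoidHom_extension
    (hinv : ∀ (g : G) (n : N), ϕ ⟨g * n * g⁻¹, hN.conj_mem n n.2 g⟩ = ϕ n)
    (k : ℕ) (hk0 : k ≠ 0) (hk : ∀ n : N, ϕ n ^ k = 1) (hcop : Nat.Coprime N.index k) :
    ∃ μ : G →* A, (∀ n : N, μ n = ϕ n) ∧ ∀ g : G, μ g ^ k = 1 := by
  classical
  obtain ⟨c, -, hc⟩ := Nat.exists_mul_mod_eq_of_coprime 1 hcop hk0
  have hc' : N.index * c ≡ 1 [MOD k] := hc
  refine ⟨(MonoidHom.transfer ϕ) ^ c, ?_, ?_⟩
  · intro n
    rw [MonoidHom.pow_apply, transfer_eq_pow_index_of_invariant N ϕ hinv n, ← pow_mul]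
    conv_rhs => rw [← pow_one (ϕ n)]
    rw [pow_eq_pow_iff_modEq]
    exact hc'.of_dvd (orderOf_dvd_of_pow_eq_one (hk n))
  · intro g
    rw [MonoidHom.pow_apply, ← pow_mul, mul_comm, pow_mul]
    have : (MonoidHom.transfer ϕ g) ^ k = 1 := by
      let := N.fintypeQuotientOfFiniteIndex
      rw [MonoidHom.transfer_eq_prod_quotient_orbitRel_zpowers_quot, ← Finset.prod_pow]
      exact Finset.prod_eq_one (fun q _ => hk _)
    rw [this, one_pow]

/-- Uniqueness of the coprime extension. -/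
theorem monoidHom_extension_unique (μ μ' : G →* A) (k : ℕ)
    (hμ : ∀ g : G, μ g ^ k = 1) (hμ' : ∀ g : G, μ' g ^ k = 1)
    (hagree : ∀ n : N, μ n = μ' n) (hcop : Nat.Coprime N.index k) : μ = μ' := by
  ext g
  have h1 : (μ g / μ' g) ^ k = 1 := by rw [div_pow, hμ, hμ', div_one]
  have h2 : (μ g / μ' g) ^ N.index = 1 := by
    rw [div_pow, ← map_pow, ← map_pow]
    have hmem : g ^ N.index ∈ N := Subgroup.pow_index_mem N g
    have := hagree ⟨g ^ N.index, hmem⟩
    simp only at this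
    rw [this, div_self']
  have h3 : orderOf (μ g / μ' g) = 1 := by
    have d1 := orderOf_dvd_of_pow_eq_one h1
    have d2 := orderOf_dvd_of_pow_eq_one h2
    exact Nat.eq_one_of_dvd_coprimes hcop d2 d1
  rw [orderOf_eq_one_iff] at h3
  exact div_eq_one.1 h3

end Transfer

section Char

open Cfsg

universe u

variable {G : Type u} [Group G] [Finite G] (N : Subgroup G) [hN : N.Normal]

/-- **Coprime extension of invariant linear characters** (character form). -/
theorem exists_linear_extension {lam : N → ℂ} (hlam : IsCharacter N lam) (hlam1 : lam 1 = 1)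
    (hinv : ∀ (g : G) (n : N), lam ⟨g * n * g⁻¹, hN.conj_mem n n.2 g⟩ = lam n)
    (k : ℕ) (hk0 : k ≠ 0) (hk : ∀ n : N, lam n ^ k = 1) (hcop : Nat.Coprime N.index k) :
    ∃ μ : G → ℂ, IsIrrCharacter G μ ∧ μ 1 = 1 ∧ (∀ n : N, μ n = lam n) ∧ ∀ g : G, μ g ^ k = 1 := by
  obtain ⟨φ, hφ⟩ := Cfsg.Agent.Lib.Helper79.exists_monoidHom_of_isCharacter_of_one hlam hlam1
  have hinv' : ∀ (g : G) (n : N), φ ⟨g * n * g⁻¹, hN.conj_mem n n.2 g⟩ = φ n := by
    intro g n
    apply Units.ext
    rw [← hφ, ← hφ]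
    exact hinv g n
  have hk' : ∀ n : N, φ n ^ k = 1 := by
    intro n
    apply Units.ext
    rw [Units.val_pow_eq_pow_val, ← hφ, Units.val_one]
    exact hk n
  obtain ⟨μ, hμ1, hμ2⟩ := exists_monoidHom_extension N φ hinv' k hk0 hk' hcop
  refine ⟨fun g => ((μ g : ℂˣ) : ℂ), Cfsg.Agent.Lib.Helper79.isIrrCharacter_of_monoidHom μ, ?_, ?_, ?_⟩
  · simp
  · intro n
    show ((μ (n : G) : ℂˣ) : ℂ) = lam n
    rw [hμ1 n, hφ n]
  · intro g
    have := congrArg (fun u : ℂˣ => (u : ℂ)) (hμ2 g)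
    simpa using this

end Char

end Cfsg.Agent.Lib.Helper75
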