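import Mathlib
import Cfsg.Agent.Lib.Helper75.LoCountDefs

/-! # LO-COUNT sub-leaf COUNT-FIX (helper75): the stabiliser of an anisotropic vector in the congruence stabiliser -/

set_option autoImplicit false
set_option linter.unusedSectionVars false
set_option linter.unusedVariables false

namespace Cfsg.Agent.Lib.Helper21.Lo

open Matrix

variable {F : Type*} [Field F] [Fintype F] [DecidableEq F]

/-- the functional `y ↦ v ⬝ᵥ M *ᵥ y` -/
def countfixPhi {n : ℕ} (M : Matrix (Fin n) (Fin n) F) (v : Fin n → F) : (Fin n → F) →ₗ[F] F where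
  toFun y := v ⬝ᵥ M *ᵥ y
  map_add' y z := by rw [Matrix.mulVec_add, dotProduct_add]
  map_smul' c y := by rw [Matrix.mulVec_smul, dotProduct_smul]; rfl

theorem countfixPhi_apply {n : ℕ} (M : Matrix (Fin n) (Fin n) F) (v y : Fin n → F) :
    countfixPhi M v y = v ⬝ᵥ M *ᵥ y := rfl

/-- invariance of the bilinear form under the congruence stabiliser -/
theorem countfix_inv {n : ℕ} (M : Matrix (Fin n) (Fin n) F) (g : Matrix (Fin n) (Fin n) F)
    (hg : g * M * gᵀ = M) (x y : Fin n → F) :
    (x ᵥ* g) ⬝ᵥ M *ᵥ (y ᵥ* g) = x ⬝ᵥ M *ᵥ y := by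
  have h1 : y ᵥ* g = gᵀ *ᵥ y := (Matrix.mulVec_transpose g y).symm
  rw [h1, Matrix.mulVec_mulVec, ← Matrix.dotProduct_mulVec, Matrix.mulVec_mulVec, ← Matrix.mul_assoc, hg]

/-- `x ↦ x ᵥ* g` is injective for invertible `g` -/
theorem countfix_vecMul_inj {n : ℕ} (g : GL (Fin n) F) (x y : Fin n → F)
    (h : x ᵥ* (g : Matrix (Fin n) (Fin n) F) = y ᵥ* (g : Matrix (Fin n) (Fin n) F)) : x = y := by
  have h1 : (g : Matrix (Fin n) (Fin n) F) * ((g⁻¹ : GL (Fin n) F) : Matrix (Fin n) (Fin n) F) = 1 := by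
    rw [← Units.val_mul, mul_inv_cancel, Units.val_one]
  have h2 := congrArg (fun z => z ᵥ* ((g⁻¹ : GL (Fin n) F) : Matrix (Fin n) (Fin n) F)) h
  simp only [Matrix.vecMul_vecMul, h1, Matrix.vecMul_one] at h2
  exact h2

theorem count_fix_card_le (m : ℕ) (M : Matrix (Fin (m + 1)) (Fin (m + 1)) F)
    (hM : M.transpose = M) (v : Fin (m + 1) → F) (hv : v ⬝ᵥ M *ᵥ v ≠ 0) :
    Nat.card (countStabVec M v) ≤ ∏ i : Fin m, (Fintype.card F ^ m - Fintype.card F ^ (i : ℕ)) := by
  classical
  have hφ0 : countfixPhi M v ≠ 0 := by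
    intro h
    apply hv
    rw [← countfixPhi_apply, h, LinearMap.zero_apply]
  have hfin : Module.finrank F (LinearMap.ker (countfixPhi M v)) = m := by
    have h1 := Module.Dual.finrank_ker_add_one_of_ne_zero hφ0
    rw [Module.finrank_fintype_fun_eq_card, Fintype.card_fin] at h1
    omega
  obtain ⟨h⟩ : Nonempty (Module.Basis (Fin m) F (LinearMap.ker (countfixPhi M v))) :=
    ⟨Module.finBasisOfFinrankEq F _ hfin⟩
  have hcard := card_linearIndependent (K := F) (V := LinearMap.ker (countfixPhi M v)) (k := m)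
    (le_of_eq hfin.symm)
  rw [hfin] at hcard
  rw [← hcard]
  -- the injection
  have hmem : ∀ (g : countStabVec M v) (j : Fin m),
      ((h j : LinearMap.ker (countfixPhi M v)) : Fin (m + 1) → F) ᵥ*
        ((g : GL (Fin (m + 1)) F) : Matrix (Fin (m + 1)) (Fin (m + 1)) F) ∈
        LinearMap.ker (countfixPhi M v) := by
    intro g j
    obtain ⟨hg1, hg2⟩ := (mem_countStabVec M v g.1).mp g.2
    rw [LinearMap.mem_ker, countfixPhi_apply]
    have h1 := countfix_inv M _ hg1 v ((h j : LinearMap.ker (countfixPhi M v)) : Fin (m + 1) → F)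
    rw [hg2] at h1
    rw [h1]
    have h2 := (h j).2
    rw [LinearMap.mem_ker, countfixPhi_apply] at h2
    exact h2
  have hlin : ∀ g : countStabVec M v, LinearIndependent F
      (fun j : Fin m => (⟨((h j : LinearMap.ker (countfixPhi M v)) : Fin (m + 1) → F) ᵥ*
        ((g : GL (Fin (m + 1)) F) : Matrix (Fin (m + 1)) (Fin (m + 1)) F), hmem g j⟩ :
          LinearMap.ker (countfixPhi M v))) := by
    intro g
    apply LinearIndependent.of_comp (LinearMap.ker (countfixPhi M v)).subtype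
    have hker : LinearMap.ker ((Matrix.vecMulLinear
        ((g : GL (Fin (m + 1)) F) : Matrix (Fin (m + 1)) (Fin (m + 1)) F)).comp
        (LinearMap.ker (countfixPhi M v)).subtype) = ⊥ := by
      rw [LinearMap.ker_eq_bot]
      intro a b hab
      apply Subtype.ext
      exact countfix_vecMul_inj (g : GL (Fin (m + 1)) F) _ _ hab
    have h5 := h.linearIndependent.map' ((Matrix.vecMulLinear
        ((g : GL (Fin (m + 1)) F) : Matrix (Fin (m + 1)) (Fin (m + 1)) F)).comp
        (LinearMap.ker (countfixPhi M v)).subtype) hker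
    have hfun : ((LinearMap.ker (countfixPhi M v)).subtype ∘
        fun j : Fin m => (⟨((h j : LinearMap.ker (countfixPhi M v)) : Fin (m + 1) → F) ᵥ*
        ((g : GL (Fin (m + 1)) F) : Matrix (Fin (m + 1)) (Fin (m + 1)) F), hmem g j⟩ :
          LinearMap.ker (countfixPhi M v))) =
        (⇑((Matrix.vecMulLinear
        ((g : GL (Fin (m + 1)) F) : Matrix (Fin (m + 1)) (Fin (m + 1)) F)).comp
        (LinearMap.ker (countfixPhi M v)).subtype) ∘ ⇑h) := by
      funext j
      rfl
    rw [hfun]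
    exact h5
  let Φ : countStabVec M v →
      {s : Fin m → LinearMap.ker (countfixPhi M v) // LinearIndependent F s} :=
    fun g => ⟨_, hlin g⟩
  apply Nat.card_le_card_of_injective Φ
  intro g g' hgg
  have h1 : ∀ j : Fin m, ((h j : LinearMap.ker (countfixPhi M v)) : Fin (m + 1) → F) ᵥ*
        ((g : GL (Fin (m + 1)) F) : Matrix (Fin (m + 1)) (Fin (m + 1)) F) =
      ((h j : LinearMap.ker (countfixPhi M v)) : Fin (m + 1) → F) ᵥ*
        ((g' : GL (Fin (m + 1)) F) : Matrix (Fin (m + 1)) (Fin (m + 1)) F) := by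
    intro j
    have h2 := congrArg (fun s => ((s.1 j : LinearMap.ker (countfixPhi M v)) : Fin (m + 1) → F)) hgg
    exact h2
  have hA : (Matrix.vecMulLinear ((g : GL (Fin (m + 1)) F) : Matrix (Fin (m + 1)) (Fin (m + 1)) F)).comp
        (LinearMap.ker (countfixPhi M v)).subtype =
      (Matrix.vecMulLinear ((g' : GL (Fin (m + 1)) F) : Matrix (Fin (m + 1)) (Fin (m + 1)) F)).comp
        (LinearMap.ker (countfixPhi M v)).subtype := by
    apply h.ext
    intro j
    exact h1 j
  obtain ⟨_, hg2⟩ := (mem_countStabVec M v g.1).mp g.2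
  obtain ⟨_, hg2'⟩ := (mem_countStabVec M v g'.1).mp g'.2
  have hall : ∀ x : Fin (m + 1) → F,
      x ᵥ* ((g : GL (Fin (m + 1)) F) : Matrix (Fin (m + 1)) (Fin (m + 1)) F) =
      x ᵥ* ((g' : GL (Fin (m + 1)) F) : Matrix (Fin (m + 1)) (Fin (m + 1)) F) := by
    intro x
    set t := countfixPhi M v x / (v ⬝ᵥ M *ᵥ v) with ht
    have hy : x - t • v ∈ LinearMap.ker (countfixPhi M v) := by
      rw [LinearMap.mem_ker, map_sub, map_smul, countfixPhi_apply M v v, smul_eq_mul, ht,
        div_mul_cancel₀ _ hv, sub_self]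
    have hx : x = t • v + (x - t • v) := by abel
    have h3 := congrArg (fun A : LinearMap.ker (countfixPhi M v) →ₗ[F] (Fin (m + 1) → F) =>
      A ⟨x - t • v, hy⟩) hA
    simp only [LinearMap.comp_apply, Submodule.subtype_apply, Matrix.vecMulLinear_apply] at h3
    rw [hx, Matrix.add_vecMul, Matrix.add_vecMul, Matrix.smul_vecMul, Matrix.smul_vecMul, hg2, hg2', h3]
  apply Subtype.ext
  apply Units.ext
  ext i j
  have h4 := congrFun (hall (Pi.single i 1)) j
  simpa [Matrix.single_one_vecMul] using h4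

end Cfsg.Agent.Lib.Helper21.Lo
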