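import Mathlib
import Cfsg.Agent.Lib.Helper75.LoCountDefs
import Cfsg.Agent.Lib.Helper75.LoCountFIX
import Cfsg.Agent.Lib.Helper5.LoCountORB
import Cfsg.Agent.Lib.Helper43.LoCountFAM
import Cfsg.Agent.Lib.Helper33.LoCountGL
import Cfsg.Agent.Lib.Helper61.LoCountLEVEL
import Cfsg.Agent.Lib.Helper44.LoCountVEC

/-! # Lo sub-hive (helper21; half (B) of the We hive S2347), leaf LO-COUNT (helper75): `exists_congr_family`,
exact statement of tools/helper21/LoSkel.lean.txt.  Orbit-stabiliser: `|Stab(M)| ≤ |{Q = Q v}| |Stab_v| ≤ 2 q^m ∏_{i<m}(q^m - q^i)`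
and `|GL_(m+1)| = (q^(m+1) - 1) q^m ∏_{i<m} (q^m - q^i)`.  Sub-leaves: COUNT-VEC, COUNT-LEVEL, COUNT-GL (helper33),
COUNT-ORB (helper5), COUNT-FAM (helper43), COUNT-FIX (helper75). -/

set_option autoImplicit false

namespace Cfsg.Agent.Lib.Helper21.Lo

open Matrix

variable {F : Type*} [Field F] [Fintype F] [DecidableEq F]

theorem exists_congr_family (hodd : Odd (Fintype.card F)) (n : ℕ) (M : Matrix (Fin n) (Fin n) F)
    (hM : M.transpose = M) (h0 : M ≠ 0) :
    ∃ g : Fin ((Fintype.card F ^ n - 1) / 2) → GL (Fin n) F, ∀ i j, i ≠ j →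
      (g i : Matrix (Fin n) (Fin n) F) * M * (g i : Matrix (Fin n) (Fin n) F).transpose ≠
        (g j : Matrix (Fin n) (Fin n) F) * M * (g j : Matrix (Fin n) (Fin n) F).transpose := by
  classical
  -- `2 ≠ 0`
  have h2 : (2 : F) ≠ 0 := by
    intro h
    have hchar : ringChar F = 2 := by
      have : ringChar F ∣ 2 := by
        rw [← CharP.cast_eq_zero_iff F (ringChar F) 2]
        exact_mod_cast h
      rcases (Nat.dvd_prime Nat.prime_two).mp this with h1 | h1
      · exact absurd h1 (CharP.ringChar_ne_one)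
      · exact h1
    have heven := FiniteField.even_card_of_char_two hchar
    exact (Nat.not_even_iff_odd.mpr hodd) (Nat.even_iff.mpr heven)
  cases n with
  | zero => exact absurd (Subsingleton.elim M 0) h0
  | succ m =>
    obtain ⟨v, hv⟩ := count_exists_vec h2 (m + 1) M hM h0
    apply count_family (countStab M)
      (fun g : GL (Fin (m + 1)) F => (g : Matrix (Fin (m + 1)) (Fin (m + 1)) F) * M *
        (g : Matrix (Fin (m + 1)) (Fin (m + 1)) F).transpose)
    · intro g h hgh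
      rw [mem_countStab]
      have h1 : ((g⁻¹ : GL (Fin (m + 1)) F) : Matrix (Fin (m + 1)) (Fin (m + 1)) F) *
          (g : Matrix (Fin (m + 1)) (Fin (m + 1)) F) = 1 := by
        rw [← Units.val_mul, inv_mul_cancel, Units.val_one]
      have h3 : (g : Matrix (Fin (m + 1)) (Fin (m + 1)) F)ᵀ *
          ((g⁻¹ : GL (Fin (m + 1)) F) : Matrix (Fin (m + 1)) (Fin (m + 1)) F)ᵀ = 1 := by
        rw [← transpose_mul, h1, transpose_one]
      rw [Units.val_mul, transpose_mul]
      calc ((g⁻¹ : GL (Fin (m + 1)) F) : Matrix (Fin (m + 1)) (Fin (m + 1)) F) *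
            (h : Matrix (Fin (m + 1)) (Fin (m + 1)) F) * M *
            ((h : Matrix (Fin (m + 1)) (Fin (m + 1)) F)ᵀ *
              ((g⁻¹ : GL (Fin (m + 1)) F) : Matrix (Fin (m + 1)) (Fin (m + 1)) F)ᵀ)
          = ((g⁻¹ : GL (Fin (m + 1)) F) : Matrix (Fin (m + 1)) (Fin (m + 1)) F) *
            ((h : Matrix (Fin (m + 1)) (Fin (m + 1)) F) * M *
              (h : Matrix (Fin (m + 1)) (Fin (m + 1)) F)ᵀ) *
              ((g⁻¹ : GL (Fin (m + 1)) F) : Matrix (Fin (m + 1)) (Fin (m + 1)) F)ᵀ := by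
            simp only [Matrix.mul_assoc]
        _ = ((g⁻¹ : GL (Fin (m + 1)) F) : Matrix (Fin (m + 1)) (Fin (m + 1)) F) *
            ((g : Matrix (Fin (m + 1)) (Fin (m + 1)) F) * M *
              (g : Matrix (Fin (m + 1)) (Fin (m + 1)) F)ᵀ) *
              ((g⁻¹ : GL (Fin (m + 1)) F) : Matrix (Fin (m + 1)) (Fin (m + 1)) F)ᵀ := by
            rw [← hgh]
        _ = (((g⁻¹ : GL (Fin (m + 1)) F) : Matrix (Fin (m + 1)) (Fin (m + 1)) F) *
            (g : Matrix (Fin (m + 1)) (Fin (m + 1)) F)) * M *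
            ((g : Matrix (Fin (m + 1)) (Fin (m + 1)) F)ᵀ *
              ((g⁻¹ : GL (Fin (m + 1)) F) : Matrix (Fin (m + 1)) (Fin (m + 1)) F)ᵀ) := by
            simp only [Matrix.mul_assoc]
        _ = M := by rw [h1, h3, Matrix.one_mul, Matrix.mul_one]
    · have hS := count_stab_card_le (m + 1) M v
      have hX := count_level_card_le m M hM v hv
      have hV := count_fix_card_le m M hM v hv
      rw [count_card_GL m]
      set q := Fintype.card F with hq
      set γ := ∏ i : Fin m, (q ^ m - q ^ (i : ℕ)) with hγ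
      have h4 : Nat.card (countStab M) ≤ 2 * q ^ m * γ :=
        hS.trans (Nat.mul_le_mul hX hV)
      have h5 : (q ^ (m + 1) - 1) / 2 * 2 ≤ q ^ (m + 1) - 1 := Nat.div_mul_le_self _ _
      calc (q ^ (m + 1) - 1) / 2 * Nat.card (countStab M)
          ≤ (q ^ (m + 1) - 1) / 2 * (2 * q ^ m * γ) := Nat.mul_le_mul_left _ h4
        _ = ((q ^ (m + 1) - 1) / 2 * 2) * q ^ m * γ := by ring
        _ ≤ (q ^ (m + 1) - 1) * q ^ m * γ :=
            Nat.mul_le_mul_right _ (Nat.mul_le_mul_right _ h5)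

end Cfsg.Agent.Lib.Helper21.Lo
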