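import Mathlib
import Cfsg.Prelude.Def_Characters
import Cfsg.Agent.Lib.Helper3.CharBasic
import Cfsg.Agent.Lib.Helper3.CharOps
import Cfsg.Agent.Lib.Helper3.OddOrder
import Cfsg.Agent.Lib.Helper3.Induced
import Cfsg.Agent.Lib.Helper15.Gallagher
import Cfsg.Agent.Lib.Helper15.LinearChar
import Cfsg.Agent.Lib.Helper25.Ind
import Cfsg.Agent.Lib.Helper79.Basic
import Cfsg.Agent.Lib.Helper75.Clifford
import Cfsg.Agent.Lib.Helper75.CliffordCorr
import Cfsg.Agent.Lib.Helper75.PowMap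
import Cfsg.Agent.Lib.Helper75.PGroupSum
import Cfsg.Agent.Lib.Helper75.GaloisTwist
import Cfsg.Agent.Lib.Helper75.Constituent

/-!
# Characters fixed by a Galois automorphism of 2-power order, over a normal subgroup of odd index

`KHyp G k e` packages the hypotheses on the exponent `k`: the power map `g ↦ g ^ k` induces a
field automorphism `σ` of `2`-power order which inverts the roots of unity of odd order.
-/

set_option autoImplicit false
set_option linter.style.haveILetI false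
set_option linter.unusedSectionVars false

namespace Cfsg.Agent.Lib.Helper75

open Cfsg
open scoped ComplexConjugate

universe u

/-- Hypotheses on the exponent `k`: coprime to `|G|`, of `2`-power order modulo `|G|`, and
inverting the elements of odd order. -/
structure KHyp (G : Type*) [Group G] (k e : ℕ) : Prop where
  cop : Nat.Coprime k (Nat.card G)
  pow : k ^ (2 ^ e) ≡ 1 [MOD Nat.card G]
  inv : ∀ g : G, Odd (orderOf g) → g ^ k = g⁻¹

theorem KHyp.subgroup {G : Type*} [Group G] [Finite G] {k e : ℕ} (h : KHyp G k e)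
    (P : Subgroup G) : KHyp P k e where
  cop := Nat.Coprime.coprime_dvd_right (Subgroup.card_subgroup_dvd_card P) h.cop
  pow := h.pow.of_dvd (Subgroup.card_subgroup_dvd_card P)
  inv := by
    intro g hg
    apply Subtype.ext
    rw [Subgroup.coe_pow, Subgroup.coe_inv]
    apply h.inv
    rwa [Subgroup.orderOf_coe]

/-- `g ^ (k + 1)` lies in every normal subgroup of odd index. -/
theorem KHyp.pow_succ_mem {G : Type*} [Group G] [Finite G] {k e : ℕ} (h : KHyp G k e)
    (N : Subgroup G) [N.Normal] (hidx : Odd N.index) (g : G) : g ^ (k + 1) ∈ N := by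
  obtain ⟨a, b, hb, hab⟩ := Nat.exists_eq_two_pow_mul_odd (orderOf_pos g).ne'
  have h2a : (2 : ℕ) ^ a ≠ 0 := pow_ne_zero _ (by norm_num)
  have hord : orderOf (g ^ 2 ^ a) = b := by
    rw [orderOf_pow_of_dvd h2a ⟨b, hab⟩, hab, Nat.mul_div_cancel_left _ (Nat.pos_of_ne_zero h2a)]
  have h1 : (g ^ 2 ^ a) ^ (k + 1) = 1 := by
    rw [pow_succ, h.inv _ (hord ▸ hb), inv_mul_cancel]
  have h2 : ((g : G ⧸ N)) ^ (2 ^ a * (k + 1)) = 1 := by
    rw [← QuotientGroup.mk_pow, pow_mul, h1, QuotientGroup.mk_one]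
  have h3 : orderOf (g : G ⧸ N) ∣ 2 ^ a * (k + 1) := orderOf_dvd_of_pow_eq_one h2
  have h4 : orderOf (g : G ⧸ N) ∣ N.index := by
    rw [Subgroup.index_eq_card]
    exact orderOf_dvd_natCard _
  have h5 : Nat.Coprime (orderOf (g : G ⧸ N)) (2 ^ a) := by
    apply Nat.Coprime.pow_right
    have hodd : Odd (orderOf (g : G ⧸ N)) := Odd.of_dvd_nat hidx h4
    exact Nat.coprime_two_right.mpr hodd
  have h6 : orderOf (g : G ⧸ N) ∣ k + 1 := h5.dvd_of_dvd_mul_left h3
  have h7 : ((g : G ⧸ N)) ^ (k + 1) = 1 := orderOf_dvd_iff_pow_eq_one.1 h6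
  rw [← QuotientGroup.mk_pow] at h7
  exact (QuotientGroup.eq_one_iff _).1 h7

/-- The power map coprime to the group order preserves inner products. -/
theorem classInner_pow {G : Type u} [Group G] [Fintype G] (k : ℕ)
    (hk : Nat.Coprime k (Nat.card G)) (f f' : G → ℂ) :
    classInner (fun g => f (g ^ k)) (fun g => f' (g ^ k)) = classInner f f' := by
  unfold classInner
  congr 1
  exact Fintype.sum_equiv (powCoprime hk.symm) _ _ (fun n => rfl)

/-- **Weighted fixed point congruence** for a permutation of `p`-power order. -/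
theorem sum_modEq_sum_fixed_perm {X : Type*} [Fintype X] [DecidableEq X] (p e : ℕ)
    [Fact p.Prime] (f : Equiv.Perm X) (hf : f ^ p ^ e = 1) (w : X → ℕ)
    (hw : ∀ x, w (f x) = w x) :
    ∑ x, w x ≡ ∑ x ∈ Finset.univ.filter (fun x => f x = x), w x [MOD p] := by
  classical
  have hpow : ∀ g ∈ Subgroup.zpowers f, ∃ n : ℕ, f ^ n = g := by
    intro g hg
    have := (mem_powers_iff_mem_zpowers (x := f) (y := g)).2 hg
    exact Submonoid.mem_powers_iff _ _ |>.1 this
  have hP : IsPGroup p (Subgroup.zpowers f) := by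
    rintro ⟨g, hg⟩
    obtain ⟨n, rfl⟩ := hpow g hg
    refine ⟨e, ?_⟩
    apply Subtype.ext
    rw [Subgroup.coe_pow, Subgroup.coe_one]
    show (f ^ n) ^ p ^ e = 1
    rw [← pow_mul, mul_comm, pow_mul, hf, one_pow]
  have hwn : ∀ (n : ℕ) (x : X), w ((f ^ n) x) = w x := by
    intro n
    induction n with
    | zero => intro x; simp
    | succ n ih =>
      intro x
      rw [pow_succ, Equiv.Perm.mul_apply, ih, hw]
  have hw' : ∀ (g : Subgroup.zpowers f) (x : X), w (g • x) = w x := by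
    rintro ⟨g, hg⟩ x
    obtain ⟨n, rfl⟩ := hpow g hg
    exact hwn n x
  have hfix : ∀ x : X, x ∈ MulAction.fixedPoints (Subgroup.zpowers f) X ↔ f x = x := by
    intro x
    constructor
    · intro hx
      exact hx ⟨f, Subgroup.mem_zpowers f⟩
    · rintro hx ⟨g, hg⟩
      obtain ⟨n, rfl⟩ := hpow g hg
      exact Equiv.Perm.pow_apply_eq_self_of_apply_eq_self hx n
  have := sum_modEq_sum_fixedPoints hP w hw'
  have hfilt : Finset.univ.filter (fun x : X => x ∈ MulAction.fixedPoints (Subgroup.zpowers f) X)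
      = Finset.univ.filter (fun x => f x = x) := by
    apply Finset.filter_congr
    intro x _
    exact hfix x
  rw [hfilt] at this
  exact this

section Parity

variable {G : Type u} [Group G] [Fintype G]

theorem KHyp.pow_pow_eq {k e : ℕ} (hk : KHyp G k e) (g : G) : g ^ (k ^ 2 ^ e) = g := by
  conv_rhs => rw [← pow_one g]
  rw [pow_eq_pow_iff_modEq]
  exact hk.pow.of_dvd (orderOf_dvd_natCard g)

theorem KHyp.pow_pow_eq' {k e : ℕ} (hk : KHyp G k e) (g : G) :
    g ^ (k ^ (2 ^ e - 1) * k) = g := by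
  rw [← pow_succ, Nat.sub_add_cancel Nat.one_le_two_pow]
  exact hk.pow_pow_eq g

theorem KHyp.pow_pow_eq'' {k e : ℕ} (hk : KHyp G k e) (g : G) :
    g ^ (k * k ^ (2 ^ e - 1)) = g := by
  rw [mul_comm]
  exact hk.pow_pow_eq' g

/-- The power twist as a permutation of the irreducible characters. -/
noncomputable def powPerm (k e : ℕ) (hk : KHyp G k e) : Equiv.Perm (IrrCharacter G) where
  toFun := powIrr k hk.cop
  invFun := powIrr (k ^ (2 ^ e - 1)) (Nat.Coprime.pow_left _ hk.cop)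
  left_inv χ := by
    rw [powIrr_powIrr]
    exact powIrr_eq_self_of_forall _ _ hk.pow_pow_eq' χ
  right_inv χ := by
    rw [powIrr_powIrr]
    exact powIrr_eq_self_of_forall _ _ hk.pow_pow_eq'' χ

theorem powPerm_apply (k e : ℕ) (hk : KHyp G k e) (χ : IrrCharacter G) (g : G) :
    ((powPerm k e hk χ : IrrCharacter G) : G → ℂ) g = (χ : G → ℂ) (g ^ k) :=
  powIrr_apply k hk.cop χ g

theorem powPerm_pow (k e : ℕ) (hk : KHyp G k e) : powPerm k e hk ^ 2 ^ e = 1 := by
  ext1 χ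
  rw [← Equiv.Perm.iterate_eq_pow]
  show (powIrr k hk.cop)^[2 ^ e] χ = χ
  rw [powIrr_iterate]
  exact powIrr_eq_self_of_forall _ _ hk.pow_pow_eq χ

theorem powPerm_eq_iff (k e : ℕ) (hk : KHyp G k e) (χ : IrrCharacter G) :
    powPerm k e hk χ = χ ↔ ∀ g : G, (χ : G → ℂ) (g ^ k) = (χ : G → ℂ) g :=
  powIrr_eq_iff k hk.cop χ

open Cfsg.Agent.Lib.Helper3 in
/-- **Parity lemma.** For irreducible characters `χ, χ'` fixed by the power twist and a normal
subgroup `N` of odd index, `[χ'_N, χ_N] ≡ [χ', χ]` modulo `2`. -/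
theorem parity_restrict (N : Subgroup G) [hN : N.Normal] [Fintype N] (hidx : Odd N.index)
    {k e : ℕ} (hk : KHyp G k e) (χ χ' : IrrCharacter G)
    (hχ : ∀ g : G, (χ : G → ℂ) (g ^ k) = (χ : G → ℂ) g)
    (hχ' : ∀ g : G, (χ' : G → ℂ) (g ^ k) = (χ' : G → ℂ) g) :
    ∃ r : ℕ, classInner (fun n : N => (χ' : G → ℂ) n) (fun n : N => (χ : G → ℂ) n) = (r : ℂ) ∧
      r ≡ (if χ' = χ then 1 else 0) [MOD 2] := by
  classical
  haveI : Fintype (IrrCharacter G) := Fintype.ofFinite _
  have hχc : IsCharacter G (χ : G → ℂ) := IsIrrCharacter.isCharacter χ.2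
  have hχ'c : IsCharacter G (χ' : G → ℂ) := IsIrrCharacter.isCharacter χ'.2
  obtain ⟨ψ, hψdef⟩ : ∃ ψ : G → ℂ, ψ = (χ' : G → ℂ) * (fun g => conj ((χ : G → ℂ) g)) := ⟨_, rfl⟩
  have hψapply : ∀ g : G, ψ g = (χ' : G → ℂ) g * conj ((χ : G → ℂ) g) := by
    intro g; rw [hψdef]; rfl
  have hψc : IsCharacter G ψ := by rw [hψdef]; exact IsCharacter.mul hχ'c (IsCharacter.conj hχc)
  obtain ⟨m, hm, hψ⟩ := IsCharacter.exists_mult hψc
  have hdeg : ∀ l : IrrCharacter G, ∃ n : ℕ, (l : G → ℂ) 1 = (n : ℂ) ∧ 0 < n ∧ n ∣ Nat.card G :=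
    irr_degree_nat
  choose d hd hdpos _ using hdeg
  let inK : IrrCharacter G → Prop := fun l => ∀ n : N, (l : G → ℂ) n = (l : G → ℂ) 1
  let w : IrrCharacter G → ℕ := fun l => if inK l then m l * d l else 0
  have hNne : (Nat.card N : ℂ) ≠ 0 := by
    exact_mod_cast (Nat.card_pos (α := N)).ne'
  -- sums over N
  have hsumN : ∀ l : IrrCharacter G,
      ∑ n : N, (l : G → ℂ) n = if inK l then (Nat.card N : ℂ) * d l else 0 := by
    intro l
    rcases Helper15.coset_sum_irr N l.2 with h | h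
    · have hin : inK l := fun n => by have := h n 1; rwa [mul_one] at this
      rw [if_pos hin, Finset.sum_congr rfl (fun n _ => hin n), Finset.sum_const, Finset.card_univ,
        nsmul_eq_mul, hd, Nat.card_eq_fintype_card]
    · have h1 := h 1
      simp only [mul_one] at h1
      have hnin : ¬ inK l := by
        intro hin
        rw [Finset.sum_congr rfl (fun n _ => hin n), Finset.sum_const, Finset.card_univ,
          nsmul_eq_mul, hd, ← Nat.card_eq_fintype_card] at h1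
        rcases mul_eq_zero.1 h1 with h0 | h0
        · exact hNne h0
        · have : d l = 0 := by exact_mod_cast h0
          exact (hdpos l).ne' this
      rw [if_neg hnin, h1]
  -- Step A
  have hA : classInner (fun n : N => (χ' : G → ℂ) n) (fun n : N => (χ : G → ℂ) n) =
      ((∑ l, w l : ℕ) : ℂ) := by
    rw [Helper25.classInner_def]
    have h1 : ∀ n : N, (χ' : G → ℂ) n * conj ((χ : G → ℂ) n) =
        ∑ l : IrrCharacter G, (m l : ℂ) * (l : G → ℂ) n := by
      intro n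
      have := congrFun hψ (n : G)
      rw [hψapply] at this
      simp only [Finset.sum_apply, Pi.smul_apply, smul_eq_mul] at this
      exact this
    simp_rw [h1]
    rw [Finset.sum_comm]
    simp_rw [← Finset.mul_sum, hsumN]
    push_cast
    rw [Finset.mul_sum]
    apply Finset.sum_congr rfl
    intro l _
    by_cases hin : inK l
    · simp only [w, if_pos hin]; push_cast; field_simp
    · simp only [w, if_neg hin]; simp
  -- Step B
  let σ := powPerm k e hk
  have hσapply : ∀ (l : IrrCharacter G) (g : G),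
      ((σ l : IrrCharacter G) : G → ℂ) g = (l : G → ℂ) (g ^ k) := fun l g => powPerm_apply k e hk l g
  have hψfix : ∀ g : G, ψ (g ^ k) = ψ g := by
    intro g; rw [hψapply, hψapply, hχ, hχ']
  have hmσ : ∀ l, m (σ l) = m l := by
    intro l
    have h1 : ((m (σ l) : ℕ) : ℂ) = (m l : ℂ) := by
      rw [← hm, ← hm]
      have h3 : ((σ l : IrrCharacter G) : G → ℂ) = fun g => (l : G → ℂ) (g ^ k) :=
        funext (hσapply l)
      rw [h3]
      have h2 : ψ = fun g => ψ (g ^ k) := funext (fun g => (hψfix g).symm)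
      conv_lhs => rw [h2]
      exact classInner_pow k hk.cop ψ l
    exact_mod_cast h1
  have hdσ : ∀ l, d (σ l) = d l := by
    intro l
    have : ((d (σ l) : ℕ) : ℂ) = (d l : ℂ) := by
      rw [← hd, ← hd, hσapply, one_pow]
    exact_mod_cast this
  have hKσ : ∀ l, inK (σ l) ↔ inK l := by
    intro l
    constructor
    · intro h n
      have hkN : Nat.Coprime k (Nat.card N) := (hk.subgroup N).cop
      obtain ⟨n', rfl⟩ := (powCoprime hkN.symm).surjective n
      have := h n'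
      rw [hσapply, hσapply, one_pow] at this
      rw [← this]
      rfl
    · intro h n
      rw [hσapply, hσapply, one_pow]
      have := h (n ^ k)
      rwa [Subgroup.coe_pow] at this
  have hwσ : ∀ l, w (σ l) = w l := by
    intro l
    show (if inK (σ l) then m (σ l) * d (σ l) else 0) = if inK l then m l * d l else 0
    rw [hmσ, hdσ]
    exact if_congr (hKσ l) rfl rfl
  -- Step C
  let one : IrrCharacter G := ⟨fun _ => 1, isIrrCharacter_one⟩
  have hfixone : ∀ l : IrrCharacter G, σ l = l → inK l → l = one := by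
    intro l hl hin
    obtain ⟨φ, hφ, hφl⟩ := Helper79.isIrrCharacter_deflate l.2 N (fun x hx => hin ⟨x, hx⟩)
    have hoddQ : Odd (Nat.card (G ⧸ N)) := by rw [← Subgroup.index_eq_card]; exact hidx
    have hreal : ∀ x : G ⧸ N, (φ x).im = 0 := by
      intro x
      obtain ⟨g, rfl⟩ := QuotientGroup.mk_surjective x
      have h1 : φ ((g : G ⧸ N))⁻¹ = φ (g : G ⧸ N) := by
        have hmem := hk.pow_succ_mem N hidx g
        have h2 : ((g ^ k : G) : G ⧸ N) = ((g : G ⧸ N))⁻¹ := by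
          apply eq_inv_of_mul_eq_one_left
          rw [← QuotientGroup.mk_mul, ← pow_succ]
          exact (QuotientGroup.eq_one_iff _).2 hmem
        rw [← h2, hφl, hφl]
        have := congrArg (fun t : IrrCharacter G => (t : G → ℂ) g) hl
        simp only [hσapply] at this
        exact this
      have h3 := IsCharacter.inv (IsIrrCharacter.isCharacter hφ) (g : G ⧸ N)
      rw [h1] at h3
      exact Complex.conj_eq_iff_im.1 h3.symm
    have := eq_one_of_real_of_odd hoddQ hφ hreal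
    apply Subtype.ext
    funext g
    show (l : G → ℂ) g = 1
    rw [← hφl, this]
  have hσpow : σ ^ 2 ^ e = 1 := powPerm_pow k e hk
  haveI : Fact (Nat.Prime 2) := ⟨Nat.prime_two⟩
  have hmod := sum_modEq_sum_fixed_perm 2 e σ hσpow w hwσ
  have hone_fix : σ one = one := by
    apply Subtype.ext; funext g; rw [hσapply]
  have hsumfix : ∑ x ∈ Finset.univ.filter (fun x => σ x = x), w x = w one := by
    apply Finset.sum_eq_single_of_mem one (by simp [hone_fix])
    intro l hl hne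
    have hl' : σ l = l := (Finset.mem_filter.1 hl).2
    have : ¬ inK l := fun hin => hne (hfixone l hl' hin)
    simp only [w, if_neg this]
  have hinKone : inK one := fun n => rfl
  have hdone : d one = 1 := by
    have h1 := hd one
    have h2 : ((d one : ℕ) : ℂ) = ((1 : ℕ) : ℂ) := by rw [← h1]; simp [one]
    exact_mod_cast h2
  have hmone : m one = if χ' = χ then 1 else 0 := by
    have h1 : ((m one : ℕ) : ℂ) = classInner (χ' : G → ℂ) (χ : G → ℂ) := by
      rw [← hm]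
      unfold classInner
      congr 1
      apply Finset.sum_congr rfl; intro g _
      rw [hψapply]
      simp [one]
    rw [classInner_irr χ'.2 χ.2] at h1
    by_cases hc : χ' = χ
    · rw [if_pos hc]; rw [if_pos (congrArg Subtype.val hc)] at h1; exact_mod_cast h1
    · rw [if_neg hc]; rw [if_neg (fun h => hc (Subtype.ext h))] at h1; exact_mod_cast h1
  refine ⟨∑ l, w l, hA, ?_⟩
  rw [hsumfix] at hmod
  have hwone : w one = m one := by simp only [w, if_pos hinKone, hdone, mul_one]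
  rw [hwone, hmone] at hmod
  exact hmod

open Cfsg.Agent.Lib.Helper3 in
/-- Inner product of the restrictions of two irreducible characters lying over the same `θ₀`. -/
theorem restrict_inner_eq (N : Subgroup G) [hN : N.Normal] [Fintype N]
    [Fintype (IrrCharacter N)] (χ₁ χ₂ : IrrCharacter G)
    (a₁ a₂ : IrrCharacter N → ℕ)
    (ha₁ : ∀ ϑ : IrrCharacter N, classInner (fun n : N => (χ₁ : G → ℂ) n) (ϑ : N → ℂ) = (a₁ ϑ : ℂ))
    (hsum₁ : (fun n : N => (χ₁ : G → ℂ) n) = ∑ ϑ : IrrCharacter N, (a₁ ϑ : ℂ) • (ϑ : N → ℂ))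
    (ha₂ : ∀ ϑ : IrrCharacter N, classInner (fun n : N => (χ₂ : G → ℂ) n) (ϑ : N → ℂ) = (a₂ ϑ : ℂ))
    (hsum₂ : (fun n : N => (χ₂ : G → ℂ) n) = ∑ ϑ : IrrCharacter N, (a₂ ϑ : ℂ) • (ϑ : N → ℂ))
    (θ₀ : IrrCharacter N) (h₁ : a₁ θ₀ ≠ 0) :
    classInner (fun n : N => (χ₂ : G → ℂ) n) (fun n : N => (χ₁ : G → ℂ) n) =
      ((a₂ θ₀ * ∑ ϑ, a₁ ϑ : ℕ) : ℂ) := by
  have hχ₂cf : IsClassFunction G (χ₂ : G → ℂ) :=
    IsCharacter.isClassFunction (IsIrrCharacter.isCharacter χ₂.2)
  calc classInner (fun n : N => (χ₂ : G → ℂ) n) (fun n : N => (χ₁ : G → ℂ) n)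
      = classInner (∑ ϑ : IrrCharacter N, (a₂ ϑ : ℂ) • (ϑ : N → ℂ))
          (∑ ϑ : IrrCharacter N, (a₁ ϑ : ℂ) • (ϑ : N → ℂ)) := by rw [← hsum₂, ← hsum₁]
    _ = ∑ ϑ : IrrCharacter N, (a₂ ϑ : ℂ) * conj (a₁ ϑ : ℂ) := classInner_sum_sum _ _
    _ = ∑ ϑ : IrrCharacter N, ((a₂ θ₀ * a₁ ϑ : ℕ) : ℂ) := by
        apply Finset.sum_congr rfl
        intro ϑ _
        rw [Complex.conj_natCast]
        by_cases h0 : a₁ ϑ = 0
        · rw [h0]; simp
        · have hne : classInner (fun n : N => (χ₁ : G → ℂ) n) (ϑ : N → ℂ) ≠ 0 := by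
            rw [ha₁]; exact_mod_cast h0
          have hne₀ : classInner (fun n : N => (χ₁ : G → ℂ) n) (θ₀ : N → ℂ) ≠ 0 := by
            rw [ha₁]; exact_mod_cast h₁
          obtain ⟨g, hg⟩ := clifford_conj N χ₁.2 θ₀.2 ϑ.2 hne₀ hne
          have : (a₂ ϑ : ℂ) = (a₂ θ₀ : ℂ) := by
            rw [← ha₂, ← ha₂, hg]
            conv_lhs => rw [← conjFun_restrict N g hχ₂cf, classInner_conjFun]
          rw [this]
          push_cast
          ring
    _ = ((a₂ θ₀ * ∑ ϑ, a₁ ϑ : ℕ) : ℂ) := by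
        rw [Finset.mul_sum]
        push_cast
        rfl

open Cfsg.Agent.Lib.Helper3 in
/-- **Uniqueness.** Two irreducible characters fixed by the power twist and lying over the same
irreducible character of a normal subgroup of odd index are equal. -/
theorem unique_fixed_over (N : Subgroup G) [hN : N.Normal] [Fintype N] (hidx : Odd N.index)
    {k e : ℕ} (hk : KHyp G k e) (χ χ' : IrrCharacter G)
    (hχ : ∀ g : G, (χ : G → ℂ) (g ^ k) = (χ : G → ℂ) g)
    (hχ' : ∀ g : G, (χ' : G → ℂ) (g ^ k) = (χ' : G → ℂ) g)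
    {θ : N → ℂ} (hθ : IsIrrCharacter N θ)
    (h : classInner (fun n : N => (χ : G → ℂ) n) θ ≠ 0)
    (h' : classInner (fun n : N => (χ' : G → ℂ) n) θ ≠ 0) : χ' = χ := by
  classical
  haveI : Fintype (IrrCharacter N) := Fintype.ofFinite _
  have hχN : IsCharacter N (fun n : N => (χ : G → ℂ) n) :=
    IsCharacter.restrict (IsIrrCharacter.isCharacter χ.2) N
  have hχ'N : IsCharacter N (fun n : N => (χ' : G → ℂ) n) :=
    IsCharacter.restrict (IsIrrCharacter.isCharacter χ'.2) N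
  obtain ⟨a, ha, hsum⟩ := IsCharacter.exists_mult hχN
  obtain ⟨a', ha', hsum'⟩ := IsCharacter.exists_mult hχ'N
  let θ₀ : IrrCharacter N := ⟨θ, hθ⟩
  have he : a θ₀ ≠ 0 := by
    intro h0
    apply h
    have := ha θ₀
    rw [h0] at this
    simpa using this
  have he' : a' θ₀ ≠ 0 := by
    intro h0
    apply h'
    have := ha' θ₀
    rw [h0] at this
    simpa using this
  -- (χ', χ')
  obtain ⟨r₁, hr₁, hr₁'⟩ := parity_restrict N hidx hk χ' χ' hχ' hχ'
  rw [restrict_inner_eq N χ' χ' a' a' ha' hsum' ha' hsum' θ₀ he'] at hr₁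
  rw [if_pos rfl] at hr₁'
  have h1 : a' θ₀ * ∑ ϑ, a' ϑ = r₁ := by exact_mod_cast hr₁
  -- (χ, χ)
  obtain ⟨r₂, hr₂, hr₂'⟩ := parity_restrict N hidx hk χ χ hχ hχ
  rw [restrict_inner_eq N χ χ a a ha hsum ha hsum θ₀ he] at hr₂
  rw [if_pos rfl] at hr₂'
  have h2 : a θ₀ * ∑ ϑ, a ϑ = r₂ := by exact_mod_cast hr₂
  -- (χ', χ)
  obtain ⟨r₃, hr₃, hr₃'⟩ := parity_restrict N hidx hk χ χ' hχ hχ'
  rw [restrict_inner_eq N χ χ' a a' ha hsum ha' hsum' θ₀ he] at hr₃
  have h3 : a' θ₀ * ∑ ϑ, a ϑ = r₃ := by exact_mod_cast hr₃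
  have ho1 : Odd (a' θ₀ * ∑ ϑ, a' ϑ) := by
    rw [h1, Nat.odd_iff]; exact hr₁'
  have ho2 : Odd (a θ₀ * ∑ ϑ, a ϑ) := by
    rw [h2, Nat.odd_iff]; exact hr₂'
  have ho3 : Odd (a' θ₀ * ∑ ϑ, a ϑ) := by
    rw [Nat.odd_mul]
    exact ⟨(Nat.odd_mul.1 ho1).1, (Nat.odd_mul.1 ho2).2⟩
  rw [h3, Nat.odd_iff] at ho3
  by_contra hne
  rw [if_neg hne] at hr₃'
  have : r₃ % 2 = 0 := hr₃'
  omega

open Cfsg.Agent.Lib.Helper3 in
/-- **Existence.** Over an irreducible character of a normal subgroup of odd index fixed by the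
power twist there lies an irreducible character fixed by the power twist. -/
theorem exists_fixed_over (N : Subgroup G) [hN : N.Normal] [Fintype N] (hidx : Odd N.index)
    {k e : ℕ} (hk : KHyp G k e) {θ : N → ℂ} (hθ : IsIrrCharacter N θ)
    (hθk : ∀ n : N, θ (n ^ k) = θ n)
    (hS0887 : ∀ (χ : IrrCharacter G) (c d : ℕ),
      classInner (fun n : N => (χ : G → ℂ) n) θ ≠ 0 → (χ : G → ℂ) 1 = c → θ 1 = d →
        d ∣ c ∧ c / d ∣ N.index) :
    ∃ χ : IrrCharacter G, (∀ g : G, (χ : G → ℂ) (g ^ k) = (χ : G → ℂ) g) ∧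
      classInner (fun n : N => (χ : G → ℂ) n) θ ≠ 0 := by
  classical
  haveI : Fintype (IrrCharacter G) := Fintype.ofFinite _
  have hΘc : IsCharacter G (indFun N θ) := isCharacter_indFun N (IsIrrCharacter.isCharacter hθ)
  obtain ⟨a, ha, hΘ⟩ := IsCharacter.exists_mult hΘc
  have hdeg : ∀ l : IrrCharacter G, ∃ n : ℕ, (l : G → ℂ) 1 = (n : ℂ) ∧ 0 < n ∧ n ∣ Nat.card G :=
    irr_degree_nat
  choose d hd hdpos _ using hdeg
  obtain ⟨dθ, hdθ, hdθpos, _⟩ := irr_degree_nat (⟨θ, hθ⟩ : IrrCharacter N)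
  have hdθ' : θ 1 = (dθ : ℂ) := hdθ
  have hcf : ∀ χ : IrrCharacter G, IsClassFunction G (χ : G → ℂ) := fun χ =>
    IsCharacter.isClassFunction (IsIrrCharacter.isCharacter χ.2)
  have ha' : ∀ χ : IrrCharacter G, (a χ : ℂ) = classInner θ (fun n : N => (χ : G → ℂ) n) := by
    intro χ
    rw [← ha, Helper25.frobenius_reciprocity N θ _ (hcf χ)]
  have hover : ∀ χ : IrrCharacter G, a χ ≠ 0 →
      classInner (fun n : N => (χ : G → ℂ) n) θ ≠ 0 := by
    intro χ h0 hz
    apply h0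
    have := ha' χ
    rw [Helper3.classInner_conj_symm, hz, map_zero] at this
    exact_mod_cast this
  let w : IrrCharacter G → ℕ := fun χ => a χ * (d χ / dθ)
  have hw1 : ∀ χ, w χ * dθ = a χ * d χ := by
    intro χ
    by_cases h0 : a χ = 0
    · simp [w, h0]
    · obtain ⟨hdvd, _⟩ := hS0887 χ (d χ) dθ (hover χ h0) (hd χ) hdθ'
      show a χ * (d χ / dθ) * dθ = a χ * d χ
      rw [mul_assoc, Nat.div_mul_cancel hdvd]
  have hsum : (∑ χ, w χ) * dθ = N.index * dθ := by
    rw [Finset.sum_mul]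
    simp_rw [hw1]
    have h1 := congrFun hΘ 1
    rw [indFun_apply_one, hdθ'] at h1
    simp only [Finset.sum_apply, Pi.smul_apply, smul_eq_mul, hd] at h1
    have h2 : ((N.index * dθ : ℕ) : ℂ) = ((∑ χ, a χ * d χ : ℕ) : ℂ) := by
      push_cast
      exact h1
    exact (Nat.cast_injective h2).symm
  have hsum' : ∑ χ, w χ = N.index := Nat.eq_of_mul_eq_mul_right hdθpos hsum
  -- invariance
  let σ := powPerm k e hk
  have hσapply : ∀ (l : IrrCharacter G) (g : G),
      ((σ l : IrrCharacter G) : G → ℂ) g = (l : G → ℂ) (g ^ k) := fun l g => powPerm_apply k e hk l g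
  have hkN : Nat.Coprime k (Nat.card N) := (hk.subgroup N).cop
  have haσ : ∀ l, a (σ l) = a l := by
    intro l
    have h1 : ((a (σ l) : ℕ) : ℂ) = (a l : ℂ) := by
      rw [ha', ha']
      have h2 : (fun n : N => ((σ l : IrrCharacter G) : G → ℂ) n) =
          fun n : N => (fun n' : N => (l : G → ℂ) n') (n ^ k) := by
        funext n
        rw [hσapply]
        show (l : G → ℂ) ((n : G) ^ k) = (l : G → ℂ) ((n ^ k : N) : G)
        rw [Subgroup.coe_pow]
      have h4 := classInner_pow k hkN θ (fun n' : N => (l : G → ℂ) n')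
      have h5 : (fun g : N => θ (g ^ k)) = θ := funext hθk
      rw [h5] at h4
      rw [h2]
      exact h4
    exact_mod_cast h1
  have hdσ : ∀ l, d (σ l) = d l := by
    intro l
    have : ((d (σ l) : ℕ) : ℂ) = (d l : ℂ) := by
      rw [← hd, ← hd, hσapply, one_pow]
    exact_mod_cast this
  have hwσ : ∀ l, w (σ l) = w l := by
    intro l
    show a (σ l) * (d (σ l) / dθ) = a l * (d l / dθ)
    rw [haσ, hdσ]
  haveI : Fact (Nat.Prime 2) := ⟨Nat.prime_two⟩
  have hmod := sum_modEq_sum_fixed_perm 2 e σ (powPerm_pow k e hk) w hwσ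
  rw [hsum'] at hmod
  have hne : ∑ x ∈ Finset.univ.filter (fun x => σ x = x), w x ≠ 0 := by
    intro h0
    rw [h0] at hmod
    have h1 : N.index % 2 = 0 := hmod
    have h2 := Nat.odd_iff.1 hidx
    omega
  obtain ⟨χ, hχmem, hχne⟩ := Finset.exists_ne_zero_of_sum_ne_zero hne
  have hχfix : σ χ = χ := (Finset.mem_filter.1 hχmem).2
  refine ⟨χ, (powPerm_eq_iff k e hk χ).1 hχfix, hover χ ?_⟩
  intro h0
  apply hχne
  simp [w, h0]

open Cfsg.Agent.Lib.Helper3 in
/-- **Fixed extension.** If `θ` is fixed by the power twist and extends to `G`, then it has an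
extension fixed by the power twist (the index of `N` being odd). -/
theorem exists_fixed_extension_of_extension (N : Subgroup G) [hN : N.Normal] [Fintype N]
    (hidx : Odd N.index) {k e : ℕ} (hk : KHyp G k e) {θ : N → ℂ} (hθ : IsIrrCharacter N θ)
    (hθk : ∀ n : N, θ (n ^ k) = θ n) {χ₀ : G → ℂ} (hχ₀ : IsIrrCharacter G χ₀)
    (hext : ∀ n : N, χ₀ n = θ n) :
    ∃ χ₁ : G → ℂ, IsIrrCharacter G χ₁ ∧ (∀ n : N, χ₁ n = θ n) ∧ ∀ g : G, χ₁ (g ^ k) = χ₁ g := by
  classical
  have hχN : IsIrrCharacter N (fun n : N => χ₀ n) := by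
    have : (fun n : N => χ₀ n) = θ := funext hext
    rw [this]; exact hθ
  have hψ : IsIrrCharacter G (fun g => χ₀ (g ^ k)) := isIrrCharacter_pow hχ₀ k hk.cop
  have hψN : (fun n : N => (fun g => χ₀ (g ^ k)) (n : G)) = fun n : N => χ₀ n := by
    funext n
    show χ₀ ((n : G) ^ k) = χ₀ n
    rw [← Subgroup.coe_pow, hext, hext, hθk]
  have hne : classInner (fun n : N => (fun g => χ₀ (g ^ k)) (n : G)) (fun n : N => χ₀ n) ≠ 0 := by
    rw [hψN, classInner_irr hχN hχN, if_pos rfl]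
    exact one_ne_zero
  obtain ⟨μ, hμ, hμN, hμeq, _⟩ := Helper15.exists_mul_ext N hχ₀ hχN hψ hne
  have hχ₀1 : χ₀ 1 ≠ 0 := by
    obtain ⟨n, hn, hnpos, _⟩ := irr_degree_nat (⟨χ₀, hχ₀⟩ : IrrCharacter G)
    have hn' : χ₀ 1 = (n : ℂ) := hn
    rw [hn']
    exact_mod_cast hnpos.ne'
  have hμ1 : μ 1 = 1 := by
    have h1 := congrFun hμeq 1
    simp only [Pi.mul_apply, one_pow] at h1
    have h2 : (μ 1 - 1) * χ₀ 1 = 0 := by rw [sub_mul, ← h1]; ring
    rcases mul_eq_zero.1 h2 with h3 | h3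
    · exact sub_eq_zero.1 h3
    · exact absurd h3 hχ₀1
  have hlin : IsCharacter G μ ∧ μ 1 = 1 := ⟨IsIrrCharacter.isCharacter hμ, hμ1⟩
  have hμmul := Helper15.linChar_mul hlin
  have hμpow : ∀ (g : G) (n : ℕ), μ (g ^ n) = μ g ^ n := by
    intro g n
    exact map_pow (Helper15.linCharHom hlin) g n
  have hμNone : ∀ x ∈ N, μ x = 1 := by
    intro x hx
    have := hμN ⟨x, hx⟩ 1
    rw [mul_one] at this
    rw [this, hμ1]
  have hμm : ∀ g : G, μ g ^ N.index = 1 := by
    intro g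
    rw [← hμpow]
    exact hμNone _ (Subgroup.pow_index_mem N g)
  have hμk : ∀ g : G, μ g ^ (k + 1) = 1 := by
    intro g
    rw [← hμpow]
    exact hμNone _ (hk.pow_succ_mem N hidx g)
  obtain ⟨j, hj⟩ := hidx
  -- N.index = 2 * j + 1, exponent j + 1
  let ν' : G →* ℂˣ := (Helper15.linCharUnitsHom hlin) ^ (j + 1)
  have hν'apply : ∀ g : G, ((ν' g : ℂˣ) : ℂ) = μ g ^ (j + 1) := by
    intro g
    show (((Helper15.linCharUnitsHom hlin g) ^ (j + 1) : ℂˣ) : ℂ) = μ g ^ (j + 1)
    rw [Units.val_pow_eq_pow_val, Helper15.linCharUnitsHom_apply]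
  have hν : IsIrrCharacter G (fun g => ((ν' g : ℂˣ) : ℂ)) := Helper79.isIrrCharacter_of_monoidHom ν'
  have hνN : ∀ (n : N) (g : G), (fun g => ((ν' g : ℂˣ) : ℂ)) ((n : G) * g) =
      (fun g => ((ν' g : ℂˣ) : ℂ)) g := by
    intro n g
    show ((ν' ((n : G) * g) : ℂˣ) : ℂ) = ((ν' g : ℂˣ) : ℂ)
    rw [hν'apply, hν'apply, hμN]
  refine ⟨(fun g => ((ν' g : ℂˣ) : ℂ)) * χ₀,
    Helper15.isIrrCharacter_mul_ext N hχ₀ hχN hν hνN, ?_, ?_⟩
  · intro n
    show ((ν' (n : G) : ℂˣ) : ℂ) * χ₀ n = θ n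
    rw [hν'apply, hμNone _ n.2, one_pow, one_mul, hext]
  · intro g
    show ((ν' (g ^ k) : ℂˣ) : ℂ) * χ₀ (g ^ k) = ((ν' g : ℂˣ) : ℂ) * χ₀ g
    have h1 : χ₀ (g ^ k) = μ g * χ₀ g := congrFun hμeq g
    rw [hν'apply, hν'apply, h1, hμpow]
    have hz0 : μ g ≠ 0 := Helper15.linChar_ne_zero hlin g
    have hzm : μ g ^ (2 * j + 1) = 1 := by rw [← hj]; exact hμm g
    have hzk := hμk g
    -- (z^k)^(j+1) * z = z^(j+1)
    have key : (μ g ^ k) ^ (j + 1) * μ g = μ g ^ (j + 1) := by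
      have hz1 : μ g ^ (j + 1) ≠ 0 := pow_ne_zero _ hz0
      apply mul_right_cancel₀ hz1
      calc (μ g ^ k) ^ (j + 1) * μ g * μ g ^ (j + 1)
          = (μ g ^ (k + 1)) ^ (j + 1) * μ g := by ring
        _ = μ g := by rw [hzk, one_pow, one_mul]
        _ = μ g ^ (2 * j + 1) * μ g := by rw [hzm, one_mul]
        _ = μ g ^ (j + 1) * μ g ^ (j + 1) := by ring
    rw [← mul_assoc, key]

end Parity

end Cfsg.Agent.Lib.Helper75
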