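import Mathlib
import Cfsg.Prelude.Def_Blocks
import Cfsg.Agent.Lib.Helper75.OddIndex
import Cfsg.Agent.Lib.Helper77.Fourier
import Cfsg.Agent.Lib.Helper81.LocalRing
import Cfsg.Agent.S0952
import Cfsg.Agent.S0887

/-!
# Principal 2-blocks and characters fixed by a Galois automorphism of 2-power order

For `N` normal of odd index in `G`, `θ ∈ Irr(N)` and `χ ∈ Irr(G)` over `θ`, both fixed by the power
twist of `KHyp`: `χ` lies in the principal `2`-block of `G` iff `θ` lies in the principal `2`-block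
of `N`.  The proof is a parity count with the central characters evaluated at the sum of the
elements of odd order.
-/

set_option autoImplicit false
set_option linter.style.haveILetI false
set_option linter.unusedSectionVars false

namespace Cfsg.Agent.Lib.Helper75

open Cfsg
open Cfsg.Agent.Lib.Helper3 Cfsg.Agent.Lib.Helper77 Cfsg.Agent.Lib.Helper81
open scoped ComplexConjugate

universe u

section OddInd

variable {G : Type u} [Group G]

/-- The indicator function of the elements of odd order. -/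
noncomputable def oddInd (G : Type u) [Group G] : G → ℂ := fun x =>
  if ¬ 2 ∣ orderOf x then 1 else 0

theorem oddInd_isClassFunction : IsClassFunction G (oddInd G) := by
  intro g h
  unfold oddInd
  have : orderOf (h * g * h⁻¹) = orderOf g := by
    rw [← MulAut.conj_apply]
    exact (MulAut.conj h).orderOf_eq g
  rw [this]

theorem oddInd_memLocalRing {M : Ideal AlgInt} (hM : M.IsPrime) (g : G) :
    MemLocalRing M (oddInd G g) := by
  unfold oddInd
  split_ifs
  · exact memLocalRing_zero hM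
  · exact memLocalRing_one hM

theorem conj_oddInd (g : G) : conj (oddInd G g) = oddInd G g := by
  unfold oddInd
  split_ifs <;> simp

theorem oddInd_coe (N : Subgroup G) (n : N) : oddInd G (n : G) = oddInd N n := by
  unfold oddInd
  rw [Subgroup.orderOf_coe]

/-- The number of elements of odd order is odd. -/
theorem sum_oddInd_odd [Fintype G] : ∃ m : ℕ, Odd m ∧ ∑ x : G, oddInd G x = (m : ℂ) := by
  classical
  let X := {x : G // ¬ 2 ∣ orderOf x}
  let ι : X → X := fun x => ⟨x.1⁻¹, by rw [orderOf_inv]; exact x.2⟩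
  have hι : ∀ x, ι (ι x) = x := fun x => Subtype.ext (inv_inv x.1)
  let x₀ : X := ⟨1, by rw [orderOf_one]; norm_num⟩
  have hfix : ∀ x, ι x = x ↔ x = x₀ := by
    intro x
    constructor
    · intro h
      have h1 : x.1⁻¹ = x.1 := congrArg Subtype.val h
      have h2 : x.1 ^ 2 = 1 := by
        rw [pow_two]
        nth_rewrite 1 [← h1]
        exact inv_mul_cancel x.1
      have h3 : orderOf x.1 ∣ 2 := orderOf_dvd_of_pow_eq_one h2
      rcases (Nat.dvd_prime Nat.prime_two).1 h3 with h4 | h4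
      · apply Subtype.ext
        exact orderOf_eq_one_iff.1 h4
      · exfalso
        apply x.2
        rw [h4]
    · rintro rfl
      apply Subtype.ext
      exact inv_one
  obtain ⟨T, hT⟩ := exists_half_sum_involution ι hι x₀ hfix
  have hcount := hT (fun _ => 1) (fun _ => rfl)
  simp only [Finset.sum_const, Finset.card_univ, smul_eq_mul, mul_one] at hcount
  refine ⟨Fintype.card X, ⟨T.card, by rw [hcount]; ring⟩, ?_⟩
  unfold oddInd
  rw [Finset.sum_boole, Fintype.card_subtype]

end OddInd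

section Block

variable {G : Type u} [Group G] [Fintype G]

/-- Characters outside the principal `2`-block are orthogonal to the indicator of the elements of
odd order. -/
theorem sum_oddInd_mul_eq_zero {M : Ideal AlgInt} (hM : IsPModular 2 M) (ψ : IrrCharacter G)
    (hψ : ψ ∉ principalBlock M G) : ∑ x : G, oddInd G x * (ψ : G → ℂ) x = 0 := by
  classical
  haveI : Fact (Nat.Prime 2) := ⟨Nat.prime_two⟩
  haveI : Fintype (IrrCharacter G) := Fintype.ofFinite _
  have h := Cfsg.Agent.S0952.orth_regular 2 M hM ψ ⟨fun _ => 1, isIrrCharacter_one⟩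
    (fun hs => hψ (sameBlock_symm hs))
  rw [Finset.sum_filter] at h
  rw [← h]
  apply Finset.sum_congr rfl
  intro x _
  unfold oddInd
  split_ifs <;> simp

theorem omega_oddInd_eq_zero {M : Ideal AlgInt} (hM : IsPModular 2 M) (ψ : IrrCharacter G)
    (hψ : ψ ∉ principalBlock M G) : omega (ψ : G → ℂ) (oddInd G) = 0 := by
  unfold omega
  rw [sum_oddInd_mul_eq_zero hM ψ hψ, zero_div]

/-- For members of the principal block the central character at the sum of the elements of odd
order is congruent to their number. -/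
theorem omega_oddInd_sub_mem {M : Ideal AlgInt} (hM : IsPModular 2 M) (ψ : IrrCharacter G)
    (hψ : ψ ∈ principalBlock M G) :
    MemLocalIdeal M ((∑ x : G, oddInd G x) - omega (ψ : G → ℂ) (oddInd G)) := by
  have hMp := isPrime_of_isPModular hM
  have hcf1 : IsClassFunction G (fun _ : G => (1 : ℂ)) := fun _ _ => rfl
  have hcfψ : IsClassFunction G (ψ : G → ℂ) :=
    IsCharacter.isClassFunction (IsIrrCharacter.isCharacter ψ.2)
  have h := memLocalIdeal_omega_sub hMp hcf1 hcfψ hψ oddInd_isClassFunction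
    (oddInd_memLocalRing hMp)
  have h1 : omega (fun _ : G => (1 : ℂ)) (oddInd G) = ∑ x, oddInd G x := by
    unfold omega
    simp
  rwa [h1] at h

/-- **Weights.** For `θ` fixed by the power twist, `θ^G / θ(1) = ∑ w(ψ) ψ / ψ(1)` with natural
weights `w`, invariant under the power twist, supported on the characters over `θ`, of sum `|G : N|`. -/
theorem exists_weight (N : Subgroup G) [hN : N.Normal] [Fintype N]
    {k e : ℕ} (hk : KHyp G k e) {θ : N → ℂ} (hθ : IsIrrCharacter N θ)
    (hθk : ∀ n : N, θ (n ^ k) = θ n) [Fintype (IrrCharacter G)] :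
    ∃ w : IrrCharacter G → ℕ,
      (∀ ψ : IrrCharacter G, w ψ ≠ 0 → classInner (fun n : N => (ψ : G → ℂ) n) θ ≠ 0) ∧
      (∀ ψ : IrrCharacter G, w (powPerm k e hk ψ) = w ψ) ∧
      ∑ ψ, w ψ = N.index ∧
      ∀ x : G, indFun N θ x = θ 1 * ∑ ψ : IrrCharacter G, (w ψ : ℂ) * ((ψ : G → ℂ) x / (ψ : G → ℂ) 1) := by
  classical
  have hΘc : IsCharacter G (indFun N θ) := isCharacter_indFun N (IsIrrCharacter.isCharacter hθ)
  obtain ⟨a, ha, hΘ⟩ := IsCharacter.exists_mult hΘc
  have hdeg : ∀ l : IrrCharacter G, ∃ n : ℕ, (l : G → ℂ) 1 = (n : ℂ) ∧ 0 < n ∧ n ∣ Nat.card G :=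
    irr_degree_nat
  choose d hd hdpos _ using hdeg
  obtain ⟨dθ, hdθ, hdθpos, _⟩ := irr_degree_nat (⟨θ, hθ⟩ : IrrCharacter N)
  have hdθ' : θ 1 = (dθ : ℂ) := hdθ
  have hcf : ∀ χ : IrrCharacter G, IsClassFunction G (χ : G → ℂ) := fun χ =>
    IsCharacter.isClassFunction (IsIrrCharacter.isCharacter χ.2)
  have ha' : ∀ χ : IrrCharacter G, (a χ : ℂ) = classInner θ (fun n : N => (χ : G → ℂ) n) := by
    intro χ
    rw [← ha, Helper25.frobenius_reciprocity N θ _ (hcf χ)]
  have hover : ∀ χ : IrrCharacter G, a χ ≠ 0 →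
      classInner (fun n : N => (χ : G → ℂ) n) θ ≠ 0 := by
    intro χ h0 hz
    apply h0
    have := ha' χ
    rw [Helper3.classInner_conj_symm, hz, map_zero] at this
    exact_mod_cast this
  let w : IrrCharacter G → ℕ := fun χ => a χ * (d χ / dθ)
  have hw1 : ∀ χ, w χ * dθ = a χ * d χ := by
    intro χ
    by_cases h0 : a χ = 0
    · simp [w, h0]
    · obtain ⟨hdvd, _⟩ := Cfsg.Agent.S0887.result N χ.1 χ.2 θ hθ (hover χ h0) (d χ) dθ (hd χ) hdθ'
      show a χ * (d χ / dθ) * dθ = a χ * d χ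
      rw [mul_assoc, Nat.div_mul_cancel hdvd]
  have hsum : (∑ χ, w χ) * dθ = N.index * dθ := by
    rw [Finset.sum_mul]
    simp_rw [hw1]
    have h1 := congrFun hΘ 1
    rw [indFun_apply_one, hdθ'] at h1
    simp only [Finset.sum_apply, Pi.smul_apply, smul_eq_mul, hd] at h1
    have h2 : ((N.index * dθ : ℕ) : ℂ) = ((∑ χ, a χ * d χ : ℕ) : ℂ) := by
      push_cast
      exact h1
    exact (Nat.cast_injective h2).symm
  have hsum' : ∑ χ, w χ = N.index := Nat.eq_of_mul_eq_mul_right hdθpos hsum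
  let σ := powPerm k e hk
  have hσapply : ∀ (l : IrrCharacter G) (g : G),
      ((σ l : IrrCharacter G) : G → ℂ) g = (l : G → ℂ) (g ^ k) := fun l g => powPerm_apply k e hk l g
  have hkN : Nat.Coprime k (Nat.card N) := (hk.subgroup N).cop
  have haσ : ∀ l, a (σ l) = a l := by
    intro l
    have h1 : ((a (σ l) : ℕ) : ℂ) = (a l : ℂ) := by
      rw [ha', ha']
      have h2 : (fun n : N => ((σ l : IrrCharacter G) : G → ℂ) n) =
          fun n : N => (fun n' : N => (l : G → ℂ) n') (n ^ k) := by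
        funext n
        rw [hσapply]
        show (l : G → ℂ) ((n : G) ^ k) = (l : G → ℂ) ((n ^ k : N) : G)
        rw [Subgroup.coe_pow]
      have h4 := classInner_pow k hkN θ (fun n' : N => (l : G → ℂ) n')
      have h5 : (fun g : N => θ (g ^ k)) = θ := funext hθk
      rw [h5] at h4
      rw [h2]
      exact h4
    exact_mod_cast h1
  have hdσ : ∀ l, d (σ l) = d l := by
    intro l
    have : ((d (σ l) : ℕ) : ℂ) = (d l : ℂ) := by
      rw [← hd, ← hd, hσapply, one_pow]
    exact_mod_cast this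
  refine ⟨w, ?_, ?_, hsum', ?_⟩
  · intro ψ hψ
    apply hover
    intro h0
    apply hψ
    simp [w, h0]
  · intro l
    show a (σ l) * (d (σ l) / dθ) = a l * (d l / dθ)
    rw [haσ, hdσ]
  · intro x
    have h1 := congrFun hΘ x
    simp only [Finset.sum_apply, Pi.smul_apply, smul_eq_mul] at h1
    rw [h1, Finset.mul_sum]
    apply Finset.sum_congr rfl
    intro ψ _
    have hd0 : ((d ψ : ℕ) : ℂ) ≠ 0 := by exact_mod_cast (hdpos ψ).ne'
    have h2 : ((w ψ : ℕ) : ℂ) * (dθ : ℂ) = (a ψ : ℂ) * (d ψ : ℂ) := by exact_mod_cast hw1 ψ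
    rw [hdθ', hd]
    field_simp
    linear_combination (ψ : G → ℂ) x * (-h2)

/-- **Principal blocks.** For `N` normal of odd index, `θ ∈ Irr(N)` and `χ ∈ Irr(G)` over `θ`, both
fixed by the power twist: `χ` is in the principal `2`-block of `G` iff `θ` is in the principal
`2`-block of `N`. -/
theorem mem_principalBlock_iff_of_fixed {M : Ideal AlgInt} (hM : IsPModular 2 M)
    (N : Subgroup G) [hN : N.Normal] [Fintype N] (hidx : Odd N.index)
    {k e : ℕ} (hk : KHyp G k e) (θ : IrrCharacter N)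
    (hθk : ∀ n : N, (θ : N → ℂ) (n ^ k) = (θ : N → ℂ) n) (χ : IrrCharacter G)
    (hχk : ∀ g : G, (χ : G → ℂ) (g ^ k) = (χ : G → ℂ) g)
    (hover : classInner (fun n : N => (χ : G → ℂ) n) (θ : N → ℂ) ≠ 0) :
    χ ∈ principalBlock M G ↔ θ ∈ principalBlock M N := by
  classical
  haveI : Fintype (IrrCharacter G) := Fintype.ofFinite _
  have hMp := isPrime_of_isPModular hM
  obtain ⟨w, hwover, hwσ, hwsum, hwΘ⟩ := exists_weight N hk θ.2 hθk
  let σ := powPerm k e hk
  have hfixed_eq : ∀ ψ : IrrCharacter G, σ ψ = ψ → w ψ ≠ 0 → ψ = χ := fun ψ hψ hw =>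
    unique_fixed_over N hidx hk χ ψ hχk ((powPerm_eq_iff k e hk ψ).1 hψ) θ.2 hover (hwover ψ hw)
  have hχfix : σ χ = χ := (powPerm_eq_iff k e hk χ).2 hχk
  haveI : Fact (Nat.Prime 2) := ⟨Nat.prime_two⟩
  have hpar : ∀ v : IrrCharacter G → ℕ, (∀ ψ, v (σ ψ) = v ψ) → (∀ ψ, w ψ = 0 → v ψ = 0) →
      ∑ ψ, v ψ ≡ v χ [MOD 2] := by
    intro v hvσ hv0
    have hmod := sum_modEq_sum_fixed_perm 2 e σ (powPerm_pow k e hk) v hvσ
    have : ∑ x ∈ Finset.univ.filter (fun x => σ x = x), v x = v χ := by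
      apply Finset.sum_eq_single_of_mem χ (by simp [hχfix])
      intro ψ hψ hne
      apply hv0
      by_contra hw
      exact hne (hfixed_eq ψ (Finset.mem_filter.1 hψ).2 hw)
    rwa [this] at hmod
  have hwχ : w χ % 2 = 1 := by
    have h1 := hpar w hwσ (fun _ h => h)
    rw [hwsum] at h1
    have h2 := Nat.odd_iff.1 hidx
    have h3 : N.index % 2 = w χ % 2 := h1
    omega
  -- the weight restricted to the principal block
  let v : IrrCharacter G → ℕ := fun ψ => if ψ ∈ principalBlock M G then w ψ else 0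
  have hstab : ∀ ψ : IrrCharacter G, ψ ∈ principalBlock M G → σ ψ ∈ principalBlock M G :=
    fun ψ hψ => powIrr_mem_principalBlock k hk.cop hψ
  have hiter : ∀ (n : ℕ) (ψ : IrrCharacter G), ψ ∈ principalBlock M G →
      (σ ^ n) ψ ∈ principalBlock M G := by
    intro n
    induction n with
    | zero => intro ψ hψ; simpa using hψ
    | succ n ih =>
      intro ψ hψ
      rw [pow_succ, Equiv.Perm.mul_apply]
      exact ih _ (hstab ψ hψ)
  have hstab' : ∀ ψ : IrrCharacter G, σ ψ ∈ principalBlock M G ↔ ψ ∈ principalBlock M G := by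
    intro ψ
    constructor
    · intro h
      have h1 := hiter (2 ^ e - 1) (σ ψ) h
      have h2 : (σ ^ (2 ^ e - 1)) (σ ψ) = ψ := by
        rw [← Equiv.Perm.mul_apply, ← pow_succ, Nat.sub_add_cancel Nat.one_le_two_pow,
          powPerm_pow]
        rfl
      rwa [h2] at h1
    · exact hstab ψ
  have hvσ : ∀ ψ, v (σ ψ) = v ψ := by
    intro ψ
    show (if σ ψ ∈ principalBlock M G then w (σ ψ) else 0) =
      if ψ ∈ principalBlock M G then w ψ else 0
    rw [hwσ]
    exact if_congr (hstab' ψ) rfl rfl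
  have hW := hpar v hvσ (fun ψ h => by simp [v, h])
  have hvχ : v χ = if χ ∈ principalBlock M G then w χ else 0 := rfl
  -- the analytic identity
  have hθ1 : (θ : N → ℂ) 1 ≠ 0 := by
    obtain ⟨n, hn, hnpos, _⟩ := irr_degree_nat θ
    rw [hn]
    exact_mod_cast hnpos.ne'
  have hident : ∑ ψ : IrrCharacter G, (w ψ : ℂ) * omega (ψ : G → ℂ) (oddInd G) =
      (N.index : ℂ) * omega (θ : N → ℂ) (oddInd N) := by
    have h1 : ∑ x : G, oddInd G x * indFun N (θ : N → ℂ) x =
        (θ : N → ℂ) 1 * ∑ ψ : IrrCharacter G, (w ψ : ℂ) * omega (ψ : G → ℂ) (oddInd G) := by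
      simp_rw [hwΘ]
      unfold omega
      calc ∑ x : G, oddInd G x * ((θ : N → ℂ) 1 *
            ∑ ψ : IrrCharacter G, (w ψ : ℂ) * ((ψ : G → ℂ) x / (ψ : G → ℂ) 1))
          = ∑ x : G, ∑ ψ : IrrCharacter G, (θ : N → ℂ) 1 * ((w ψ : ℂ) *
              (oddInd G x * (ψ : G → ℂ) x / (ψ : G → ℂ) 1)) := by
            apply Finset.sum_congr rfl
            intro x _
            rw [Finset.mul_sum, Finset.mul_sum]
            apply Finset.sum_congr rfl
            intro ψ _
            ring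
        _ = ∑ ψ : IrrCharacter G, ∑ x : G, (θ : N → ℂ) 1 * ((w ψ : ℂ) *
              (oddInd G x * (ψ : G → ℂ) x / (ψ : G → ℂ) 1)) := Finset.sum_comm
        _ = (θ : N → ℂ) 1 * ∑ ψ : IrrCharacter G, (w ψ : ℂ) *
              ((∑ x : G, oddInd G x * (ψ : G → ℂ) x) / (ψ : G → ℂ) 1) := by
            rw [Finset.mul_sum]
            apply Finset.sum_congr rfl
            intro ψ _
            rw [Finset.sum_div, Finset.mul_sum, Finset.mul_sum]
    have h2 : ∑ x : G, oddInd G x * indFun N (θ : N → ℂ) x =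
        (Nat.card G : ℂ) * classInner (indFun N (θ : N → ℂ)) (oddInd G) := by
      rw [Helper25.classInner_def, ← mul_assoc, mul_inv_cancel₀ Helper25.card_ne_zero_complex,
        one_mul]
      apply Finset.sum_congr rfl
      intro x _
      rw [conj_oddInd, mul_comm]
    have h3 : classInner (indFun N (θ : N → ℂ)) (oddInd G) =
        (Nat.card N : ℂ)⁻¹ * ((θ : N → ℂ) 1 * omega (θ : N → ℂ) (oddInd N)) := by
      rw [Helper25.frobenius_reciprocity N _ _ oddInd_isClassFunction, Helper25.classInner_def]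
      congr 1
      unfold omega
      rw [mul_div_cancel₀ _ hθ1]
      apply Finset.sum_congr rfl
      intro n _
      rw [oddInd_coe, conj_oddInd, mul_comm]
    have hNne : (Nat.card N : ℂ) ≠ 0 := by
      exact_mod_cast (Nat.card_pos (α := N)).ne'
    have hcard : (Nat.card G : ℂ) = (Nat.card N : ℂ) * (N.index : ℂ) := by
      exact_mod_cast (Subgroup.card_mul_index N).symm
    have h4 : (θ : N → ℂ) 1 * ∑ ψ : IrrCharacter G, (w ψ : ℂ) * omega (ψ : G → ℂ) (oddInd G) =
        (θ : N → ℂ) 1 * ((N.index : ℂ) * omega (θ : N → ℂ) (oddInd N)) := by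
      rw [← h1, h2, h3, hcard]
      field_simp
    exact mul_left_cancel₀ hθ1 h4
  -- numbers of elements of odd order
  obtain ⟨g₀, hg₀odd, hg₀⟩ := sum_oddInd_odd (G := G)
  obtain ⟨n₀, hn₀odd, hn₀⟩ := sum_oddInd_odd (G := N)
  -- the congruence
  have hlhs : MemLocalIdeal M (((g₀ * ∑ ψ, v ψ : ℕ) : ℂ) -
      ∑ ψ : IrrCharacter G, (w ψ : ℂ) * omega (ψ : G → ℂ) (oddInd G)) := by
    have h1 : ((g₀ * ∑ ψ, v ψ : ℕ) : ℂ) -
        ∑ ψ : IrrCharacter G, (w ψ : ℂ) * omega (ψ : G → ℂ) (oddInd G) =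
        ∑ ψ : IrrCharacter G, ((g₀ : ℂ) * (v ψ : ℂ) - (w ψ : ℂ) * omega (ψ : G → ℂ) (oddInd G)) := by
      rw [Finset.sum_sub_distrib]
      push_cast
      rw [Finset.mul_sum]
    rw [h1]
    apply memLocalIdeal_sum hMp
    intro ψ _
    by_cases hψ : ψ ∈ principalBlock M G
    · have h2 : (v ψ : ℂ) = (w ψ : ℂ) := by simp [v, hψ]
      have h3 := omega_oddInd_sub_mem hM ψ hψ
      rw [hg₀] at h3
      have h4 : (g₀ : ℂ) * (v ψ : ℂ) - (w ψ : ℂ) * omega (ψ : G → ℂ) (oddInd G) =
          (w ψ : ℂ) * ((g₀ : ℂ) - omega (ψ : G → ℂ) (oddInd G)) := by rw [h2]; ring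
      rw [h4]
      exact memLocalIdeal_mul_left hMp (memLocalRing_natCast hMp _) h3
    · have h2 : (v ψ : ℂ) = 0 := by simp [v, hψ]
      rw [h2, omega_oddInd_eq_zero hM ψ hψ, mul_zero, mul_zero, sub_zero]
      exact memLocalIdeal_zero hMp
  rw [hident] at hlhs
  have hkey : (∑ ψ, v ψ) % 2 = 1 ↔ θ ∈ principalBlock M N := by
    constructor
    · intro hodd
      by_contra hθ
      rw [omega_oddInd_eq_zero hM θ hθ, mul_zero, sub_zero] at hlhs
      have h1 := (memLocalIdeal_natCast_iff hM _).1 hlhs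
      have h2 := Nat.odd_iff.1 hg₀odd
      have h3 : (g₀ * ∑ ψ, v ψ) % 2 = 0 := Nat.mod_eq_zero_of_dvd h1
      rw [Nat.mul_mod, h2, hodd] at h3
      exact absurd h3 (by norm_num)
    · intro hθ
      have h1 := omega_oddInd_sub_mem hM θ hθ
      rw [hn₀] at h1
      have h2 : MemLocalIdeal M ((N.index : ℂ) * ((n₀ : ℂ) - omega (θ : N → ℂ) (oddInd N))) :=
        memLocalIdeal_mul_left hMp (memLocalRing_natCast hMp _) h1
      have h3 := memLocalIdeal_sub hMp hlhs h2
      have h4 : ((g₀ * ∑ ψ, v ψ : ℕ) : ℂ) - (N.index : ℂ) * omega (θ : N → ℂ) (oddInd N) -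
          (N.index : ℂ) * ((n₀ : ℂ) - omega (θ : N → ℂ) (oddInd N)) =
          (((g₀ * ∑ ψ, v ψ : ℕ) : ℤ) - ((N.index * n₀ : ℕ) : ℤ) : ℤ) := by
        push_cast
        ring
      rw [h4] at h3
      have h5 := (memLocalIdeal_intCast_iff hM _).1 h3
      have h6 := Nat.odd_iff.1 hg₀odd
      have h7 := Nat.odd_iff.1 hn₀odd
      have h8 := Nat.odd_iff.1 hidx
      have h9 : (g₀ * ∑ ψ, v ψ) % 2 = (N.index * n₀) % 2 := by omega
      rw [Nat.mul_mod, Nat.mul_mod N.index, h6, h7, h8] at h9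
      simpa using h9
  rw [← hkey]
  have hW' : (∑ ψ, v ψ) % 2 = v χ % 2 := hW
  rw [hW', hvχ]
  constructor
  · intro h
    rw [if_pos h]
    exact hwχ
  · intro h
    by_contra hχ
    rw [if_neg hχ] at h
    exact absurd h (by norm_num)

end Block

end Cfsg.Agent.Lib.Helper75
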