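import Mathlib
import Cfsg.Agent.Lib.Helper75.OddIndex
import Cfsg.Agent.S0886
import Cfsg.Agent.S0888

/-!
# Extension of invariant characters fixed by a Galois automorphism of 2-power order

If `N` is normal of odd index in `G` and `θ ∈ Irr(N)` is `G`-invariant and fixed by the power
twist `g ↦ g ^ k` (see `KHyp`), then `θ` has an extension to `G` fixed by the power twist.
-/

set_option autoImplicit false
set_option linter.style.haveILetI false
set_option linter.unusedSectionVars false

namespace Cfsg.Agent.Lib.Helper75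

open Cfsg
open scoped ComplexConjugate

universe u

section Transport

variable {G : Type u} [Group G]

theorem resSub_invariant (N P : Subgroup G) [hN : N.Normal] (θ : N → ℂ)
    (hinv : ∀ (g : G) (n : N), θ ⟨g * n * g⁻¹, hN.conj_mem n n.2 g⟩ = θ n)
    [hN' : (N.subgroupOf P).Normal] :
    ∀ (g : P) (n : N.subgroupOf P),
      resSub N P θ ⟨g * n * g⁻¹, hN'.conj_mem n n.2 g⟩ = resSub N P θ n := by
  intro g n
  exact hinv (g : G) ⟨((n : P) : G), Subgroup.mem_subgroupOf.mp n.2⟩

theorem resSub_pow (N P : Subgroup G) (θ : N → ℂ) (k : ℕ) (hθk : ∀ n : N, θ (n ^ k) = θ n)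
    (n : N.subgroupOf P) : resSub N P θ (n ^ k) = resSub N P θ n := by
  have := hθk ⟨((n : P) : G), Subgroup.mem_subgroupOf.mp n.2⟩
  exact this

theorem resSub_ext_iff (N P : Subgroup G) (hNP : N ≤ P) (θ : N → ℂ) (η : P → ℂ) :
    (∀ n' : N.subgroupOf P, η n' = resSub N P θ n') ↔ ∀ n : N, η ⟨n, hNP n.2⟩ = θ n := by
  constructor
  · intro h n
    exact h ⟨⟨n, hNP n.2⟩, Subgroup.mem_subgroupOf.mpr n.2⟩
  · intro h n'
    exact h ⟨((n' : P) : G), Subgroup.mem_subgroupOf.mp n'.2⟩

end Transport

section PGroup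

open Cfsg.Agent.Lib.Helper3

/-- **Prime power index.** An invariant irreducible character of a normal subgroup of odd prime
power index fixed by the power twist has an extension fixed by the power twist. -/
theorem exists_fixed_extension_pgroup : ∀ (a : ℕ) (G : Type u) [Group G] [Fintype G]
    (N : Subgroup G) [hN : N.Normal] (q : ℕ) (_ : q.Prime) (_ : N.index = q ^ a)
    (_ : Odd N.index) (k e : ℕ) (_ : KHyp G k e) (θ : N → ℂ) (_ : IsIrrCharacter N θ)
    (_ : ∀ (g : G) (n : N), θ ⟨g * n * g⁻¹, hN.conj_mem n n.2 g⟩ = θ n)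
    (_ : ∀ n : N, θ (n ^ k) = θ n),
    ∃ χ : G → ℂ, IsIrrCharacter G χ ∧ (∀ n : N, χ n = θ n) ∧ ∀ g : G, χ (g ^ k) = χ g := by
  intro a
  induction a with
  | zero =>
    intro G _ _ N hN q hq hidx hodd k e hk θ hθ hinv hθk
    rw [pow_zero] at hidx
    have hN1 : N = ⊤ := Subgroup.index_eq_one.1 hidx
    have hmem : ∀ g : G, g ∈ N := fun g => by rw [hN1]; trivial
    let f : G →* N :=
      { toFun := fun g => ⟨g, hmem g⟩
        map_one' := rfl
        map_mul' := fun _ _ => rfl }
    have hf : Function.Surjective f := fun n => ⟨n, Subtype.ext rfl⟩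
    refine ⟨fun g => θ (f g), Helper79.isIrrCharacter_comp_surjective hθ f hf, ?_, ?_⟩
    · intro n
      rfl
    · intro g
      exact hθk (f g)
  | succ a ih =>
    intro G _ _ N hN q hq hidx hodd k e hk θ hθ hinv hθk
    classical
    haveI : Fact q.Prime := ⟨hq⟩
    -- a normal subgroup `M ⊇ N` of index `q`
    have hcardQ : Nat.card (G ⧸ N) = q ^ (a + 1) := by rw [← Subgroup.index_eq_card]; exact hidx
    obtain ⟨K, hK⟩ := Sylow.exists_subgroup_card_pow_prime (G := G ⧸ N) q (n := a)
      (by rw [hcardQ]; exact pow_dvd_pow q (Nat.le_succ a))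
    have hKidx : K.index = q := by
      have h1 := Subgroup.card_mul_index K
      rw [hK, hcardQ, pow_succ] at h1
      exact Nat.eq_of_mul_eq_mul_left (pow_pos hq.pos a) h1
    haveI hKn : K.Normal := by
      apply Subgroup.normal_of_index_eq_minFac_card
      rw [hKidx, hcardQ, Nat.Prime.pow_minFac hq (Nat.succ_ne_zero a)]
    obtain ⟨M, hMdef⟩ : ∃ M : Subgroup G, M = K.comap (QuotientGroup.mk' N) := ⟨_, rfl⟩
    haveI hMn : M.Normal := by rw [hMdef]; exact Subgroup.Normal.comap hKn _
    have hNM : N ≤ M := by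
      intro n hn
      rw [hMdef, Subgroup.mem_comap]
      have : (QuotientGroup.mk' N) n = 1 := (QuotientGroup.eq_one_iff n).2 hn
      rw [this]
      exact K.one_mem
    have hMidx : M.index = q := by
      rw [hMdef, Subgroup.index_comap_of_surjective K (QuotientGroup.mk'_surjective N), hKidx]
    have hrel : N.relIndex M = q ^ a := by
      have h1 := Subgroup.relIndex_mul_index hNM
      rw [hMidx, hidx, pow_succ] at h1
      exact Nat.eq_of_mul_eq_mul_right hq.pos h1
    have hqodd : Odd q := by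
      rw [hidx] at hodd
      exact Odd.of_dvd_nat hodd (dvd_pow_self q (Nat.succ_ne_zero a))
    -- the copy of `N` inside `M`
    haveI : Fintype M := Fintype.ofFinite _
    haveI : Fintype N := Fintype.ofFinite _
    haveI : Fintype (N.subgroupOf M) := Fintype.ofFinite _
    haveI hN' : (N.subgroupOf M).Normal := Subgroup.Normal.subgroupOf hN M
    have hidx' : (N.subgroupOf M).index = q ^ a := hrel
    have hodd' : Odd (N.subgroupOf M).index := by rw [hidx']; exact hqodd.pow
    have hkM : KHyp M k e := hk.subgroup M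
    have hθ' : IsIrrCharacter (N.subgroupOf M) (resSub N M θ) := isIrrCharacter_resSub hNM hθ
    have hinv' := resSub_invariant N M θ hinv
    have hθk' := resSub_pow N M θ k hθk
    obtain ⟨η, hη, hηN, hηk⟩ := ih M (N.subgroupOf M) q hq hidx' hodd' k e hkM (resSub N M θ) hθ'
      hinv' hθk'
    -- `η` is `G`-invariant
    have hηres : (fun n : N.subgroupOf M => η n) = resSub N M θ := funext hηN
    have hover : classInner (fun n : N.subgroupOf M => η n) (resSub N M θ) ≠ 0 := by
      rw [hηres, classInner_irr hθ' hθ', if_pos rfl]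
      exact one_ne_zero
    have hηinv : ∀ (g : G) (m : M), η ⟨g * m * g⁻¹, hMn.conj_mem m m.2 g⟩ = η m := by
      intro g m
      have hcη : IsIrrCharacter M (conjFun M g η) := conjFun_isIrrCharacter M g hη
      have hcηk : ∀ x : M, conjFun M g η (x ^ k) = conjFun M g η x := by
        intro x
        have h1 := congrFun (conjFun_pow M g η k) x
        have h2 : (fun n : M => η (n ^ k)) = η := funext hηk
        rw [h2] at h1
        exact h1.symm
      have hcηN : ∀ n : N.subgroupOf M, conjFun M g η n = resSub N M θ n := by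
        intro n
        rw [conjFun_apply]
        have hmem : (⟨g * ((n : M) : G) * g⁻¹, hMn.conj_mem _ (n : M).2 g⟩ : M) ∈ N.subgroupOf M :=
          Subgroup.mem_subgroupOf.mpr
            (hN.conj_mem _ (Subgroup.mem_subgroupOf.mp n.2) g)
        have h1 := hηN ⟨_, hmem⟩
        rw [h1]
        exact hinv g ⟨((n : M) : G), Subgroup.mem_subgroupOf.mp n.2⟩
      have hcover : classInner (fun n : N.subgroupOf M => conjFun M g η n) (resSub N M θ) ≠ 0 := by
        have : (fun n : N.subgroupOf M => conjFun M g η n) = resSub N M θ := funext hcηN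
        rw [this, classInner_irr hθ' hθ', if_pos rfl]
        exact one_ne_zero
      have huniq := unique_fixed_over (N.subgroupOf M) hodd' hkM ⟨η, hη⟩ ⟨conjFun M g η, hcη⟩
        hηk hcηk hθ' hover hcover
      have h3 : conjFun M g η = η := congrArg Subtype.val huniq
      have h4 := congrFun h3 m
      rw [conjFun_apply] at h4
      exact h4
    -- extend to `G`
    have hcyc : IsCyclic (G ⧸ M) := by
      apply isCyclic_of_prime_card (p := q)
      rw [← Subgroup.index_eq_card, hMidx]
    obtain ⟨χ₀, hχ₀, hχ₀M⟩ := Cfsg.Agent.S0886.result M hcyc η hη hηinv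
    have hoddM : Odd M.index := by rw [hMidx]; exact hqodd
    obtain ⟨χ₁, hχ₁, hχ₁M, hχ₁k⟩ :=
      exists_fixed_extension_of_extension M hoddM hk hη hηk hχ₀ hχ₀M
    refine ⟨χ₁, hχ₁, ?_, hχ₁k⟩
    intro n
    have h1 := hχ₁M ⟨n, hNM n.2⟩
    have h2 := (resSub_ext_iff N M hNM θ η).1 hηN n
    rw [← h2, ← h1]

/-- **Odd index.** An invariant irreducible character of a normal subgroup of odd index fixed by
the power twist has an extension fixed by the power twist. -/
theorem exists_fixed_extension {G : Type u} [Group G] [Fintype G] (N : Subgroup G)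
    [hN : N.Normal] [Fintype N] (hodd : Odd N.index) {k e : ℕ} (hk : KHyp G k e) {θ : N → ℂ}
    (hθ : IsIrrCharacter N θ)
    (hinv : ∀ (g : G) (n : N), θ ⟨g * n * g⁻¹, hN.conj_mem n n.2 g⟩ = θ n)
    (hθk : ∀ n : N, θ (n ^ k) = θ n) :
    ∃ χ : G → ℂ, IsIrrCharacter G χ ∧ (∀ n : N, χ n = θ n) ∧ ∀ g : G, χ (g ^ k) = χ g := by
  classical
  have hsyl : ∀ p : ℕ, p.Prime → ∃ (P : Subgroup G) (hNP : N ≤ P) (η : P → ℂ),
      Nat.Coprime P.index p ∧ (∃ j : ℕ, N.relIndex P = p ^ j) ∧ IsIrrCharacter P η ∧
        ∀ n : N, η ⟨(n : G), hNP n.2⟩ = θ n := by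
    intro p hp
    haveI : Fact p.Prime := ⟨hp⟩
    obtain ⟨S⟩ : Nonempty (Sylow p (G ⧸ N)) := inferInstance
    obtain ⟨P, hPdef⟩ : ∃ P : Subgroup G,
        P = (S : Subgroup (G ⧸ N)).comap (QuotientGroup.mk' N) := ⟨_, rfl⟩
    have hNP : N ≤ P := by
      intro n hn
      rw [hPdef, Subgroup.mem_comap]
      have : (QuotientGroup.mk' N) n = 1 := (QuotientGroup.eq_one_iff n).2 hn
      rw [this]
      exact (S : Subgroup (G ⧸ N)).one_mem
    have hPidx : P.index = (S : Subgroup (G ⧸ N)).index := by
      rw [hPdef, Subgroup.index_comap_of_surjective _ (QuotientGroup.mk'_surjective N)]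
    have hcop : Nat.Coprime P.index p := by
      rw [hPidx]
      exact ((Nat.Prime.coprime_iff_not_dvd hp).2 S.not_dvd_index).symm
    obtain ⟨j, hj⟩ := IsPGroup.exists_card_eq S.isPGroup'
    have hrel : N.relIndex P = p ^ j := by
      have h1 := Subgroup.relIndex_mul_index hNP
      have h2 := Subgroup.card_mul_index (S : Subgroup (G ⧸ N))
      rw [← Subgroup.index_eq_card] at h2
      rw [hPidx] at h1
      rw [hj] at h2
      have hpos : 0 < (S : Subgroup (G ⧸ N)).index :=
        Nat.pos_of_ne_zero Subgroup.index_ne_zero_of_finite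
      exact Nat.eq_of_mul_eq_mul_right hpos (h1.trans h2.symm)
    haveI : Fintype P := Fintype.ofFinite _
    haveI hN' : (N.subgroupOf P).Normal := Subgroup.Normal.subgroupOf hN P
    have hodd' : Odd (N.subgroupOf P).index :=
      Odd.of_dvd_nat hodd (Subgroup.relIndex_dvd_index_of_le hNP)
    obtain ⟨η, hη, hηN, _⟩ := exists_fixed_extension_pgroup j P (N.subgroupOf P) p hp hrel hodd'
      k e (hk.subgroup P) (resSub N P θ) (isIrrCharacter_resSub hNP hθ)
      (resSub_invariant N P θ hinv) (resSub_pow N P θ k hθk)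
    exact ⟨P, hNP, η, hcop, ⟨j, hrel⟩, hη, (resSub_ext_iff N P hNP θ η).1 hηN⟩
  obtain ⟨χ₀, hχ₀, hχ₀N⟩ := Cfsg.Agent.S0888.result N θ hθ hinv hsyl
  exact exists_fixed_extension_of_extension N hodd hk hθ hθk hχ₀ hχ₀N

end PGroup

end Cfsg.Agent.Lib.Helper75
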