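import Cfsg.Agent.Lib.Helper3.Ortho
import Cfsg.Agent.Lib.Helper3.CharOps
import Cfsg.Agent.Lib.Helper79.Basic
import Mathlib

/-! # S4427 hive (architect helper56): leaf P3-L7, the endgame (helper75) -/

set_option autoImplicit false
set_option linter.unusedSectionVars false

namespace Cfsg.Agent.Lib.P3

open Cfsg Cfsg.Agent.Lib.Helper3
open scoped ComplexConjugate

universe u

section

variable {G : Type u} [Group G] [Fintype G]

/-- the class function `p^a · 1_{p-regular}` -/
noncomputable def p3_L7_u (p a : ℕ) : G → ℂ := fun g => if p ∣ orderOf g then 0 else ((p : ℂ) ^ a)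

theorem p3_L7_u_class (p a : ℕ) : IsClassFunction G (p3_L7_u (G := G) p a) := by
  intro g h
  unfold p3_L7_u
  have : orderOf (h * g * h⁻¹) = orderOf g := by
    have := orderOf_injective (MulAut.conj h).toMonoidHom (MulAut.conj h).injective g
    simpa using this
  rw [this]

theorem p3_L7_endgame [Fintype (IrrCharacter G)] (p a n : ℕ) (hp : p.Prime)
    (hG : Nat.card G = p ^ a * n) (hn : ¬ p ∣ n)
    (hcount : Nat.card {g : G // ¬ p ∣ orderOf g} = n)
    (d : IrrCharacter G → ℕ)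
    (hvan : ∀ g : G, p ∣ orderOf g → ∑ χ : IrrCharacter G, (d χ : ℂ) * (χ : G → ℂ) g = 0)
    (hmean : ∑ g : G, ∑ χ : IrrCharacter G, (d χ : ℂ) * (χ : G → ℂ) g = (Nat.card G : ℂ))
    (hnorm : ∑ χ : IrrCharacter G, (d χ) ^ 2 ≤ p ^ a) :
    ∃ N : Subgroup G, N.Normal ∧ Nat.card N = n := by
  classical
  set u : G → ℂ := p3_L7_u p a with hu
  set Φ : G → ℂ := ∑ χ : IrrCharacter G, (d χ : ℂ) • (χ : G → ℂ) with hΦ
  have hΦg : ∀ g, Φ g = ∑ χ : IrrCharacter G, (d χ : ℂ) * (χ : G → ℂ) g := by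
    intro g
    rw [hΦ, Finset.sum_apply]
    apply Finset.sum_congr rfl
    intro χ _
    rw [Pi.smul_apply, smul_eq_mul]
  have hpa : ((p : ℂ) ^ a) ≠ 0 := pow_ne_zero _ (by exact_mod_cast hp.ne_zero)
  have hcardG : (Nat.card G : ℂ) = (p : ℂ) ^ a * (n : ℂ) := by rw [hG]; push_cast; ring
  have hn0 : (n : ℂ) ≠ 0 := by
    intro h
    have : n = 0 := by exact_mod_cast h
    exact hn (this ▸ dvd_zero p)
  have hcardG0 : (Nat.card G : ℂ) ≠ 0 := by rw [hcardG]; exact mul_ne_zero hpa hn0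
  -- the expansion of `u`
  set c : IrrCharacter G → ℂ := fun χ => classInner u (χ : G → ℂ) with hc
  have hexp : u = ∑ χ : IrrCharacter G, c χ • (χ : G → ℂ) := classFunction_eq_sum (p3_L7_u_class p a)
  -- `⟨u, u⟩ = p^a`
  have huu : classInner u u = (p : ℂ) ^ a := by
    unfold classInner
    have h1 : ∑ g : G, u g * conj (u g) =
        ∑ g : G, if ¬ p ∣ orderOf g then ((p : ℂ) ^ a * (p : ℂ) ^ a) else 0 := by
      apply Finset.sum_congr rfl
      intro g _
      rw [hu]
      unfold p3_L7_u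
      by_cases h : p ∣ orderOf g
      · simp [h]
      · simp [h]
    rw [h1, Finset.sum_ite, Finset.sum_const_zero, add_zero, Finset.sum_const, nsmul_eq_mul]
    have h2 : (Finset.univ.filter fun g : G => ¬ p ∣ orderOf g).card = n := by
      rw [← hcount, Nat.card_eq_fintype_card, Fintype.card_subtype]
    rw [h2, hcardG]
    field_simp
  -- `⟨Φ, u⟩ = p^a`
  have hΦu : classInner Φ u = (p : ℂ) ^ a := by
    unfold classInner
    have h1 : ∑ g : G, Φ g * conj (u g) = (p : ℂ) ^ a * ∑ g : G, Φ g := by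
      rw [Finset.mul_sum]
      apply Finset.sum_congr rfl
      intro g _
      rw [hu]
      unfold p3_L7_u
      by_cases h : p ∣ orderOf g
      · rw [hΦg, hvan g h]; simp
      · simp [h, mul_comm]
    have h2 : ∑ g : G, Φ g = (Nat.card G : ℂ) := by
      rw [← hmean]
      apply Finset.sum_congr rfl
      intro g _
      exact hΦg g
    rw [h1, h2]
    field_simp
  -- Parseval
  have P1 : classInner u u = ∑ χ : IrrCharacter G, c χ * conj (c χ) := by
    conv_lhs => rw [hexp]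
    exact classInner_sum_sum c c
  have P2 : classInner Φ u = ∑ χ : IrrCharacter G, (d χ : ℂ) * conj (c χ) := by
    conv_lhs => rw [hexp]
    exact classInner_sum_sum (fun χ => (d χ : ℂ)) c
  -- `∑ |d - c|² = ∑ d² - p^a`
  have hsum : ∑ χ : IrrCharacter G, ((d χ : ℂ) - c χ) * conj ((d χ : ℂ) - c χ) =
      ((∑ χ : IrrCharacter G, (d χ) ^ 2 : ℕ) : ℂ) - (p : ℂ) ^ a := by
    have e1 : ∀ χ : IrrCharacter G, ((d χ : ℂ) - c χ) * conj ((d χ : ℂ) - c χ) =
        ((d χ : ℂ)) ^ 2 - (d χ : ℂ) * conj (c χ) - conj ((d χ : ℂ) * conj (c χ)) + c χ * conj (c χ) := by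
      intro χ
      simp only [map_sub, map_mul, Complex.conj_natCast, Complex.conj_conj]
      ring
    rw [Finset.sum_congr rfl (fun χ _ => e1 χ), Finset.sum_add_distrib, Finset.sum_sub_distrib,
      Finset.sum_sub_distrib, ← map_sum, ← P2, ← P1, hΦu, huu]
    push_cast
    simp only [map_pow, Complex.conj_natCast]
    ring
  have hre : ∑ χ : IrrCharacter G, Complex.normSq ((d χ : ℂ) - c χ) =
      ((∑ χ : IrrCharacter G, (d χ) ^ 2 : ℕ) : ℝ) - (p : ℝ) ^ a := by
    have : ((∑ χ : IrrCharacter G, Complex.normSq ((d χ : ℂ) - c χ) : ℝ) : ℂ) =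
        ((((∑ χ : IrrCharacter G, (d χ) ^ 2 : ℕ) : ℝ) - (p : ℝ) ^ a : ℝ) : ℂ) := by
      have hsum' := hsum
      push_cast at hsum'
      push_cast
      rw [← hsum']
      apply Finset.sum_congr rfl
      intro χ _
      rw [Complex.mul_conj]
    exact_mod_cast this
  have hle : ∑ χ : IrrCharacter G, Complex.normSq ((d χ : ℂ) - c χ) ≤ 0 := by
    rw [hre, sub_nonpos]
    exact_mod_cast hnorm
  have hzero : ∀ χ : IrrCharacter G, c χ = (d χ : ℂ) := by
    intro χ
    have h0 := (Finset.sum_eq_zero_iff_of_nonneg (fun χ _ => Complex.normSq_nonneg _)).1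
      (le_antisymm hle (Finset.sum_nonneg fun χ _ => Complex.normSq_nonneg _)) χ (Finset.mem_univ _)
    have := Complex.normSq_eq_zero.1 h0
    exact (sub_eq_zero.1 this).symm
  -- `u` is a character
  have huΦ : u = Φ := by
    rw [hexp, hΦ]
    apply Finset.sum_congr rfl
    intro χ _
    rw [hzero χ]
  have hchar : IsCharacter G u := by
    rw [huΦ, hΦ]
    apply IsCharacter.sum
    intro χ _
    exact IsCharacter.nsmul (IsIrrCharacter.isCharacter χ.2) (d χ)
  obtain ⟨N, hN, hmem⟩ := Cfsg.Agent.Lib.Helper79.exists_normal_ker hchar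
  refine ⟨N, hN, ?_⟩
  rw [← hcount]
  apply Nat.card_congr
  apply Equiv.subtypeEquivRight
  intro g
  rw [← SetLike.mem_coe, SetLike.mem_coe, hmem g, hu]
  unfold p3_L7_u
  have h1 : ¬ p ∣ orderOf (1 : G) := by
    rw [orderOf_one]
    exact hp.one_lt.ne' ∘ Nat.dvd_one.1
  rw [if_neg h1]
  by_cases h : p ∣ orderOf g
  · simp [h, hpa.symm]
  · simp [h]

end

end Cfsg.Agent.Lib.P3
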