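import Mathlib
import Cfsg.Agent.Lib.Helper12.PsDefs
import Cfsg.Agent.Lib.Helper54.CgCG8
import Cfsg.Agent.Lib.Helper49.CgCG8c
import Cfsg.Agent.Lib.Helper65.PsDrCore
import Cfsg.Agent.Lib.Helper75.PsD

/-!
# Ps hive (S4321, route B): leaf psB.  The centralizer of a `b`-like `p`-element `g` is
`C(P_g) P_g`.
-/

set_option autoImplicit false

namespace Cfsg.Agent.Lib.Helper12.Ps

open Subgroup Cfsg.Agent.Lib.Helper22.Cg

universe u

/-- private copy of `psDr` (= `psDr_core` fed with `psD`), under an aux name. -/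
theorem psB_dr {G : Type u} [Group G] [Finite G] (p : ℕ) [Fact p.Prime] (g : G) (P : Sylow p G)
    (hP : ∀ y ∈ P, g * y = y * g)
    (hv : ∀ v : G, g * v = v * g → ¬ p ∣ orderOf v →
      ∃ P' : Sylow p G, (∀ y ∈ P', g * y = y * g) ∧ (∀ y ∈ P', v * y = y * v)) :
    ∀ w : G, g * w = w * g →
      ∃ y ∈ P, ∃ c : G, g * c = c * g ∧ (∀ y' ∈ P, c * y' = y' * c) ∧ w = c * y :=
  psDr_core p g P (fun PH => psD p PH) hP hv

/-- PSB. (psDr, cg8, cg8c) the centralizer of a `b`-like `p`-element `g` is `C(P_g) P_g`. -/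
theorem psB {G : Type u} [Group G] [Finite G] (p : ℕ) [Fact p.Prime] (b : G)
    (hNL : ∀ z : G, p ∣ orderOf z → p ∣ cs z → (cs z).Coprime (cs b))
    (g : G) (hg : ∃ n : ℕ, orderOf g = p ^ n) (hg1 : g ≠ 1) (hgb : ¬ (cs g).Coprime (cs b))
    (Pg : Sylow p G) (hPg : ∀ y ∈ Pg, g * y = y * g) :
    ∀ w : G, g * w = w * g →
      ∃ y ∈ Pg, ∃ c : G, g * c = c * g ∧ (∀ y' ∈ Pg, c * y' = y' * c) ∧ w = c * y := by
  have hp : p.Prime := Fact.out
  obtain ⟨n, hn⟩ := hg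
  have hn0 : n ≠ 0 := by
    rintro rfl
    rw [pow_zero, orderOf_eq_one_iff] at hn
    exact hg1 hn
  have hpg : p ∣ orderOf g := by
    rw [hn]
    exact dvd_pow_self p hn0
  apply psB_dr p g Pg hPg
  intro v hgv hpv
  have hcop : (orderOf g).Coprime (orderOf v) := by
    rw [hn]
    exact Nat.Coprime.pow_left n ((Nat.Prime.coprime_iff_not_dvd hp).2 hpv)
  obtain ⟨hd1, -⟩ := cg8 g v hgv hcop
  -- `z = g * v` is `p`-singular
  have hzord : p ∣ orderOf (g * v) := by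
    have hcomm : Commute g v := hgv
    rw [hcomm.orderOf_mul_eq_mul_orderOf_of_coprime hcop]
    exact dvd_mul_of_dvd_left hpg _
  have hncop : ¬ (cs (g * v)).Coprime (cs b) := fun h => hgb (Nat.Coprime.coprime_dvd_left hd1 h)
  have hpz : ¬ p ∣ cs (g * v) := fun h => hncop (hNL _ hzord h)
  obtain ⟨Q, hQ⟩ := cg8c p (g * v) hpz
  obtain ⟨i, hi⟩ := cg8_pow g v hgv hcop
  obtain ⟨j, hj⟩ := cg8_pow v g hgv.symm hcop.symm
  rw [← hgv] at hj
  refine ⟨Q, fun y hy => ?_, fun y hy => ?_⟩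
  · have h : Commute (g * v) y := hQ y hy
    have h2 := h.pow_left i
    rw [hi] at h2
    exact h2
  · have h : Commute (g * v) y := hQ y hy
    have h2 := h.pow_left j
    rw [hj] at h2
    exact h2

end Cfsg.Agent.Lib.Helper12.Ps
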