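import Mathlib

/-!
# Elementary facts on a subgroup isomorphic to the quaternion group of order eight
-/

set_option autoImplicit false

universe u

namespace Cfsg.Agent.Lib.Helper75

open QuaternionGroup

variable {G : Type u} [Group G] {S : Subgroup G} (e : S ≃* QuaternionGroup 2)

/-- The embedding of `Q₈` onto `S`. -/
noncomputable def q8hom : QuaternionGroup 2 →* G := S.subtype.comp e.symm.toMonoidHom

include e

theorem q8hom_apply (y : QuaternionGroup 2) : q8hom e y = ((e.symm y : S) : G) := rfl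

theorem q8hom_mem (y : QuaternionGroup 2) : q8hom e y ∈ S := (e.symm y).2

theorem q8hom_injective : Function.Injective (q8hom e) := by
  intro y y' h
  have h1 : (e.symm y : S) = e.symm y' := Subtype.ext h
  exact e.symm.injective h1

theorem q8hom_surj {x : G} (hx : x ∈ S) : ∃ y : QuaternionGroup 2, q8hom e y = x :=
  ⟨e ⟨x, hx⟩, by rw [q8hom_apply, MulEquiv.symm_apply_apply]⟩

/-- The central involution of `S`. -/
noncomputable def q8z : G := q8hom e (a 2)

/-- An element of order four of `S`. -/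
noncomputable def q8a : G := q8hom e (a 1)

theorem q8z_mem : q8z e ∈ S := q8hom_mem e _

theorem q8a_mem : q8a e ∈ S := q8hom_mem e _

theorem q8z_ne_one : q8z e ≠ 1 := by
  intro h
  have h1 : q8hom e (a 2) = q8hom e 1 := by rw [map_one]; exact h
  have h2 := q8hom_injective e h1
  revert h2
  decide

theorem q8z_sq : q8z e ^ 2 = 1 := by
  unfold q8z
  rw [← map_pow]
  have : (a 2 : QuaternionGroup 2) ^ 2 = 1 := by decide
  rw [this, map_one]

theorem q8z_mul_self : q8z e * q8z e = 1 := by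
  rw [← sq]; exact q8z_sq e

theorem q8a_sq : q8a e ^ 2 = q8z e := by
  unfold q8z q8a
  rw [← map_pow]
  have : (a 1 : QuaternionGroup 2) ^ 2 = a 2 := by decide
  rw [this]

theorem q8a_sq_ne_one : q8a e ^ 2 ≠ 1 := by
  rw [q8a_sq]; exact q8z_ne_one e

theorem q8_pow_four {x : G} (hx : x ∈ S) : x ^ 4 = 1 := by
  obtain ⟨y, rfl⟩ := q8hom_surj e hx
  rw [← map_pow]
  have : ∀ y : QuaternionGroup 2, y ^ 4 = 1 := by decide
  rw [this y, map_one]

theorem q8_eq_of_sq {x : G} (hx : x ∈ S) (h : x ^ 2 = 1) : x = 1 ∨ x = q8z e := by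
  obtain ⟨y, rfl⟩ := q8hom_surj e hx
  rw [← map_pow] at h
  have h1 : y ^ 2 = 1 := q8hom_injective e (by rw [h, map_one])
  have : ∀ y : QuaternionGroup 2, y ^ 2 = 1 → y = 1 ∨ y = a 2 := by decide
  rcases this y h1 with rfl | rfl
  · left; exact map_one _
  · right; rfl

theorem q8_sq {x : G} (hx : x ∈ S) : x ^ 2 = 1 ∨ x ^ 2 = q8z e := by
  obtain ⟨y, rfl⟩ := q8hom_surj e hx
  rw [← map_pow]
  have : ∀ y : QuaternionGroup 2, y ^ 2 = 1 ∨ y ^ 2 = a 2 := by decide
  rcases this y with h | h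
  · left; rw [h, map_one]
  · right; rw [h]; rfl

theorem q8z_comm {x : G} (hx : x ∈ S) : q8z e * x = x * q8z e := by
  obtain ⟨y, rfl⟩ := q8hom_surj e hx
  unfold q8z
  rw [← map_mul, ← map_mul]
  have : ∀ y : QuaternionGroup 2, a 2 * y = y * a 2 := by decide
  rw [this y]

theorem q8_mem_zpowers_of_comm {x u : G} (hx : x ∈ S) (hu : u ∈ S) (h2 : x ^ 2 ≠ 1)
    (hc : u * x = x * u) : u ∈ Subgroup.zpowers x := by
  obtain ⟨y, rfl⟩ := q8hom_surj e hx
  obtain ⟨v, rfl⟩ := q8hom_surj e hu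
  have h2' : y ^ 2 ≠ 1 := by
    intro h
    apply h2
    rw [← map_pow, h, map_one]
  have hc' : v * y = y * v := by
    apply q8hom_injective e
    rw [map_mul, map_mul]
    exact hc
  have : ∀ y v : QuaternionGroup 2, y ^ 2 ≠ 1 → v * y = y * v →
      (v = 1 ∨ v = y ∨ v = y ^ 2 ∨ v = y ^ 3) := by decide
  rcases this y v h2' hc' with rfl | rfl | rfl | rfl
  · rw [map_one]; exact one_mem _
  · exact Subgroup.mem_zpowers _
  · rw [map_pow]; exact Subgroup.pow_mem _ (Subgroup.mem_zpowers _) _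
  · rw [map_pow]; exact Subgroup.pow_mem _ (Subgroup.mem_zpowers _) _

theorem q8_exists_inv {x : G} (hx : x ∈ S) : ∃ s ∈ S, s * x * s⁻¹ = x⁻¹ := by
  obtain ⟨y, rfl⟩ := q8hom_surj e hx
  have : ∀ y : QuaternionGroup 2, ∃ s : QuaternionGroup 2, s * y * s⁻¹ = y⁻¹ := by decide
  obtain ⟨s, hs⟩ := this y
  refine ⟨q8hom e s, q8hom_mem e s, ?_⟩
  rw [← map_inv, ← map_mul, ← map_mul, hs, map_inv]

theorem card_q8 : Nat.card S = 8 := by
  rw [Nat.card_congr e.toEquiv, Nat.card_eq_fintype_card, QuaternionGroup.card]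

/-- An element of `S` whose square is not one has order four. -/
theorem q8_orderOf_eq_four {x : G} (hx : x ∈ S) (h2 : x ^ 2 ≠ 1) : orderOf x = 4 := by
  have h4 := q8_pow_four e hx
  have hd : orderOf x ∣ 2 ^ 2 := orderOf_dvd_of_pow_eq_one (by norm_num; exact h4)
  obtain ⟨k, hk, hk'⟩ := (Nat.dvd_prime_pow Nat.prime_two).mp hd
  interval_cases k
  · exfalso; apply h2
    have : x = 1 := orderOf_eq_one_iff.mp (by rw [hk']; norm_num)
    rw [this, one_pow]
  · exfalso; apply h2
    have := pow_orderOf_eq_one x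
    rw [hk'] at this
    simpa using this
  · rw [hk']; norm_num

end Cfsg.Agent.Lib.Helper75
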