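import Mathlib

/-!
# Odd-order elements of a group and of its quotient by a central subgroup of order two
-/

set_option autoImplicit false
set_option linter.unusedSectionVars false

universe u

namespace Cfsg.Agent.Lib.Helper75

variable {G : Type u} [Group G]

theorem pow_odd_of_mul_self {w : G} (hw2 : w * w = 1) {n : ℕ} (hn : Odd n) : w ^ n = w := by
  obtain ⟨k, rfl⟩ := hn
  rw [pow_succ, pow_mul, sq, hw2, one_pow, one_mul]

open Classical in
/-- Summing over the elements of odd order of `G` a function of the image in the quotient by the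
centre (of order two) amounts to summing over the elements of odd order of the quotient. -/
theorem sum_regular_quotient [Fintype G] [Fintype (G ⧸ Subgroup.center G)] {w : G}
    (hwc : w ∈ Subgroup.center G) (hw2 : w * w = 1)
    (hall : ∀ v ∈ Subgroup.center G, v = 1 ∨ v = w) {A : Type*} [AddCommMonoid A]
    (f : G ⧸ Subgroup.center G → A) :
    ∑ g : G, (if ¬ 2 ∣ orderOf g then f (g : G ⧸ Subgroup.center G) else 0) =
      ∑ q : G ⧸ Subgroup.center G, (if ¬ 2 ∣ orderOf q then f q else 0) := by
  rw [← Finset.sum_filter, ← Finset.sum_filter]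
  have hcomm : ∀ g : G, g * w = w * g := fun g => Subgroup.mem_center_iff.mp hwc g
  have hmulpow : ∀ (g : G) (n : ℕ), (g * w) ^ n = g ^ n * w ^ n := fun g n =>
    (show Commute g w from hcomm g).mul_pow n
  refine Finset.sum_nbij (fun g : G => (g : G ⧸ Subgroup.center G)) ?_ ?_ ?_ ?_
  · intro g hg
    rw [Finset.mem_filter] at hg ⊢
    refine ⟨Finset.mem_univ _, fun h => hg.2 (h.trans ?_)⟩
    exact orderOf_map_dvd (QuotientGroup.mk' (Subgroup.center G)) g
  · intro g hg g' hg' hgg'
    rw [Finset.mem_coe, Finset.mem_filter] at hg hg'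
    have h1 : g⁻¹ * g' ∈ Subgroup.center G := (QuotientGroup.eq (s := Subgroup.center G)).mp hgg'
    rcases hall _ h1 with h2 | h2
    · rw [inv_mul_eq_one] at h2
      exact h2
    · have h3 : g' = g * w := by rw [← h2]; group
      have hn : Odd (orderOf g) := Nat.odd_iff.mpr (Nat.two_dvd_ne_zero.mp hg.2)
      have hn' : Odd (orderOf g') := Nat.odd_iff.mpr (Nat.two_dvd_ne_zero.mp hg'.2)
      have h4 : (g * w) ^ (orderOf g * orderOf g') = 1 := by
        rw [← h3, mul_comm, pow_mul, pow_orderOf_eq_one, one_pow]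
      rw [hmulpow, pow_mul, pow_orderOf_eq_one, one_pow, one_mul,
        pow_odd_of_mul_self hw2 (hn.mul hn')] at h4
      rw [h3, h4, mul_one]
  · intro q hq
    rw [Finset.mem_coe, Finset.mem_filter] at hq
    obtain ⟨g, rfl⟩ := QuotientGroup.mk_surjective q
    have hn : Odd (orderOf (g : G ⧸ Subgroup.center G)) :=
      Nat.odd_iff.mpr (Nat.two_dvd_ne_zero.mp hq.2)
    set n := orderOf (g : G ⧸ Subgroup.center G) with hndef
    have h1 : g ^ n ∈ Subgroup.center G := by
      rw [← QuotientGroup.eq_one_iff, QuotientGroup.mk_pow, hndef]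
      exact pow_orderOf_eq_one _
    rcases hall _ h1 with h2 | h2
    · refine ⟨g, ?_, rfl⟩
      rw [Finset.mem_coe, Finset.mem_filter]
      refine ⟨Finset.mem_univ _, fun h => ?_⟩
      have := h.trans (orderOf_dvd_of_pow_eq_one h2)
      exact (Nat.not_even_iff_odd.mpr hn) (even_iff_two_dvd.mpr this)
    · refine ⟨g * w, ?_, ?_⟩
      · rw [Finset.mem_coe, Finset.mem_filter]
        refine ⟨Finset.mem_univ _, fun h => ?_⟩
        have h3 : (g * w) ^ n = 1 := by
          rw [hmulpow, h2, pow_odd_of_mul_self hw2 hn, hw2]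
        have := h.trans (orderOf_dvd_of_pow_eq_one h3)
        exact (Nat.not_even_iff_odd.mpr hn) (even_iff_two_dvd.mpr this)
      · show ((g * w : G) : G ⧸ Subgroup.center G) = (g : G ⧸ Subgroup.center G)
        rw [QuotientGroup.mk_mul, (QuotientGroup.eq_one_iff w).mpr hwc, mul_one]
  · intro g _
    rfl

end Cfsg.Agent.Lib.Helper75
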