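import Cfsg.Agent.Lib.Helper75.Q8Cent
import Cfsg.Agent.Lib.Helper75.Q8Reg
import Cfsg.Agent.Lib.Helper75.KleinRank
import Cfsg.Agent.Lib.Helper76.CentralChar
import Cfsg.Agent.Lib.Helper80.Gagola6
import Cfsg.Agent.Lib.Helper16.WBO
import Cfsg.Agent.Lib.Helper77.ThirdMain

/-!
# The principal `2`-block of a group with quaternion Sylow `2`-subgroups of order eight:
the `2`-regular rank
-/

set_option autoImplicit false
set_option linter.unusedSectionVars false
set_option linter.style.haveILetI false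

universe u

namespace Cfsg.Agent.Lib.Helper75

open Cfsg Cfsg.Agent.Lib.Helper77 Cfsg.Agent.Lib.Helper81 Cfsg.Agent.Lib.Helper80
open scoped ComplexConjugate

section general

variable {H : Type u} [Group H] [Fintype H]

open Classical in
/-- `|H| · l(B₀)` as a sum over the elements of odd order. -/
theorem card_mul_blockRank_principal [Fintype (IrrCharacter H)] {M : Ideal AlgInt}
    (hM : IsPModular 2 M) :
    (Nat.card H : ℂ) * (blockRank 2 (principalBlock M H) : ℂ) =
      ∑ x : H, if ¬ 2 ∣ orderOf x then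
        ∑ χ ∈ Finset.univ.filter (fun χ : IrrCharacter H => χ ∈ principalBlock M H),
          (χ : H → ℂ) x * conj ((χ : H → ℂ) x) else 0 := by
  haveI : Fact (Nat.Prime 2) := ⟨Nat.prime_two⟩
  have h1 := Cfsg.Agent.Lib.Helper74.card_mul_blockRank 2 M hM (oneIrr H)
  have h1' : (Nat.card H : ℂ) * (blockRank 2 (principalBlock M H) : ℂ) =
      ∑ x : H, ∑ χ ∈ Finset.univ.filter (fun χ : IrrCharacter H => χ ∈ principalBlock M H),
        pRegularPart 2 (χ : H → ℂ) x * (χ : H → ℂ) x⁻¹ := h1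
  rw [h1']
  refine Finset.sum_congr rfl fun x _ => ?_
  by_cases hx : 2 ∣ orderOf x
  · rw [if_neg (fun h => h hx)]
    refine Finset.sum_eq_zero fun χ _ => ?_
    rw [Cfsg.Agent.Lib.Helper74.pRegularPart_apply, if_neg (fun h => h hx), zero_mul]
  · rw [if_pos hx]
    refine Finset.sum_congr rfl fun χ _ => ?_
    rw [Cfsg.Agent.Lib.Helper74.pRegularPart_apply, if_pos hx,
      Cfsg.Agent.Lib.Helper3.IsCharacter.inv
        (Cfsg.Agent.Lib.Helper3.IsIrrCharacter.isCharacter χ.2)]

/-- A central involution takes the value `± χ(1)`. -/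
theorem irr_central_invol (χ : IrrCharacter H) {z : H} (hz : z ∈ Subgroup.center H)
    (hz2 : z * z = 1) :
    (χ : H → ℂ) z = (χ : H → ℂ) 1 ∨ (χ : H → ℂ) z = - (χ : H → ℂ) 1 := by
  have h1 := Cfsg.Agent.Lib.Helper76.irr_mul_central χ z hz z
  rw [hz2] at h1
  have h0 : (χ : H → ℂ) 1 ≠ 0 := Cfsg.Agent.Lib.Helper80.irr_one_ne_zero χ
  have h2 : ((χ : H → ℂ) z) ^ 2 = ((χ : H → ℂ) 1) ^ 2 := by
    field_simp at h1
    exact h1.symm
  exact sq_eq_sq_iff_eq_or_eq_neg.mp h2

theorem irr_mul_central_of_eq (χ : IrrCharacter H) {z : H} (hz : z ∈ Subgroup.center H)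
    (h : (χ : H → ℂ) z = (χ : H → ℂ) 1) (g : H) : (χ : H → ℂ) (g * z) = (χ : H → ℂ) g := by
  rw [Cfsg.Agent.Lib.Helper76.irr_mul_central χ z hz g, h,
    div_self (Cfsg.Agent.Lib.Helper80.irr_one_ne_zero χ), one_mul]

theorem irr_mul_central_of_neg (χ : IrrCharacter H) {z : H} (hz : z ∈ Subgroup.center H)
    (h : (χ : H → ℂ) z = - (χ : H → ℂ) 1) (g : H) :
    (χ : H → ℂ) (g * z) = - (χ : H → ℂ) g := by
  rw [Cfsg.Agent.Lib.Helper76.irr_mul_central χ z hz g, h, neg_div,
    div_self (Cfsg.Agent.Lib.Helper80.irr_one_ne_zero χ), neg_one_mul]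

open Classical in
/-- For a central involution `z` and an element `x` of odd order, the characters of the principal
`2`-block trivial at `z` carry half of the column norm of `x`. -/
theorem sum_principalBlock_eq_two_mul [Fintype (IrrCharacter H)] {M : Ideal AlgInt}
    (hM : IsPModular 2 M) {z : H} (hz : z ∈ Subgroup.center H) (hz2 : z * z = 1)
    (hz1 : z ≠ 1) {x : H} (hx : ¬ 2 ∣ orderOf x) :
    ∑ χ ∈ Finset.univ.filter (fun χ : IrrCharacter H => χ ∈ principalBlock M H),
        (χ : H → ℂ) x * conj ((χ : H → ℂ) x) =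
      2 * ∑ χ ∈ (Finset.univ.filter (fun χ : IrrCharacter H => χ ∈ principalBlock M H)).filter
          (fun χ : IrrCharacter H => (χ : H → ℂ) z = (χ : H → ℂ) 1),
        (χ : H → ℂ) x * conj ((χ : H → ℂ) x) := by
  haveI : Fact (Nat.Prime 2) := ⟨Nat.prime_two⟩
  set B := Finset.univ.filter (fun χ : IrrCharacter H => χ ∈ principalBlock M H) with hB
  have hoz : orderOf z = 2 := orderOf_eq_prime (by rw [sq]; exact hz2) hz1
  have hxz : 2 ∣ orderOf (x * z) := by
    have hcomm : Commute x z := Subgroup.mem_center_iff.mp hz x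
    have hcop : (orderOf x).Coprime (orderOf z) := by
      rw [hoz]
      exact (Nat.Prime.coprime_iff_not_dvd Nat.prime_two).mpr hx |>.symm
    rw [hcomm.orderOf_mul_eq_mul_orderOf_of_coprime hcop, hoz]
    exact dvd_mul_left 2 _
  have hwbo := Cfsg.Agent.Lib.Helper16.weak_block_orthogonality_finset hM (oneIrr H) hx hxz
  have hwbo' : ∑ χ ∈ B, (χ : H → ℂ) x * conj ((χ : H → ℂ) (x * z)) = 0 := hwbo
  rw [← Finset.sum_filter_add_sum_filter_not B
    (fun χ : IrrCharacter H => (χ : H → ℂ) z = (χ : H → ℂ) 1)] at hwbo'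
  have h1 : ∑ χ ∈ B.filter (fun χ : IrrCharacter H => (χ : H → ℂ) z = (χ : H → ℂ) 1),
      (χ : H → ℂ) x * conj ((χ : H → ℂ) (x * z)) =
      ∑ χ ∈ B.filter (fun χ : IrrCharacter H => (χ : H → ℂ) z = (χ : H → ℂ) 1),
      (χ : H → ℂ) x * conj ((χ : H → ℂ) x) := by
    refine Finset.sum_congr rfl fun χ hχ => ?_
    rw [irr_mul_central_of_eq χ hz (Finset.mem_filter.mp hχ).2]
  have h2 : ∑ χ ∈ B.filter (fun χ : IrrCharacter H => ¬ (χ : H → ℂ) z = (χ : H → ℂ) 1),
      (χ : H → ℂ) x * conj ((χ : H → ℂ) (x * z)) =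
      - ∑ χ ∈ B.filter (fun χ : IrrCharacter H => ¬ (χ : H → ℂ) z = (χ : H → ℂ) 1),
      (χ : H → ℂ) x * conj ((χ : H → ℂ) x) := by
    rw [← Finset.sum_neg_distrib]
    refine Finset.sum_congr rfl fun χ hχ => ?_
    have hne := (Finset.mem_filter.mp hχ).2
    rcases irr_central_invol χ hz hz2 with h | h
    · exact absurd h hne
    · rw [irr_mul_central_of_neg χ hz h, map_neg, mul_neg]
  rw [h1, h2] at hwbo'
  rw [← Finset.sum_filter_add_sum_filter_not B (fun χ : IrrCharacter H => (χ : H → ℂ) z = (χ : H → ℂ) 1)]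
  linear_combination -hwbo'

end general

section quotient

variable {G : Type u} [Group G] [Fintype G]

open Classical in
/-- Inflation from the quotient by the centre (of order two) respects the principal `2`-block. -/
theorem inflateIrr_mem_principalBlock_iff [Fintype (G ⧸ Subgroup.center G)]
    {M : Ideal AlgInt} (hM : IsPModular 2 M) {w : G}
    (hwc : w ∈ Subgroup.center G) (hw2 : w * w = 1)
    (hall : ∀ v ∈ Subgroup.center G, v = 1 ∨ v = w)
    (ψ : IrrCharacter (G ⧸ Subgroup.center G)) :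
    inflateIrr (Subgroup.center G) ψ ∈ principalBlock M G ↔
      ψ ∈ principalBlock M (G ⧸ Subgroup.center G) := by
  haveI : Fact (Nat.Prime 2) := ⟨Nat.prime_two⟩
  have hMp : M.IsPrime := hM.2.1.isPrime
  symm
  apply mem_principalBlock_iff_of_cong hM
  have heq : omega (ψ : G ⧸ Subgroup.center G → ℂ) (regInd 2) =
      omega (inflateIrr (Subgroup.center G) ψ : G → ℂ) (regInd 2) := by
    unfold omega
    have h1 : (inflateIrr (Subgroup.center G) ψ : G → ℂ) 1 =
        (ψ : G ⧸ Subgroup.center G → ℂ) 1 := by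
      rw [inflateIrr_apply, QuotientGroup.mk_one]
    rw [h1]
    congr 1
    have h2 := sum_regular_quotient hwc hw2 hall (ψ : G ⧸ Subgroup.center G → ℂ)
    have h3 : ∀ g : G, regInd 2 g * (inflateIrr (Subgroup.center G) ψ : G → ℂ) g =
        if ¬ 2 ∣ orderOf g then (ψ : G ⧸ Subgroup.center G → ℂ) (g : G ⧸ Subgroup.center G)
        else 0 := by
      intro g
      rw [inflateIrr_apply]
      unfold regInd
      by_cases h : 2 ∣ orderOf g
      · rw [if_pos h, if_neg (fun h' => h' h), zero_mul]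
      · rw [if_neg h, if_pos h, one_mul]
    have h4 : ∀ q : G ⧸ Subgroup.center G, regInd 2 q * (ψ : G ⧸ Subgroup.center G → ℂ) q =
        if ¬ 2 ∣ orderOf q then (ψ : G ⧸ Subgroup.center G → ℂ) q else 0 := by
      intro q
      unfold regInd
      by_cases h : 2 ∣ orderOf q
      · rw [if_pos h, if_neg (fun h' => h' h), zero_mul]
      · rw [if_neg h, if_pos h, one_mul]
    rw [Finset.sum_congr rfl fun g _ => h3 g, Finset.sum_congr rfl fun q _ => h4 q, h2]
  rw [heq, sub_self]
  exact memLocalIdeal_zero hMp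

open Classical in
/-- Summing over the characters of the principal block trivial at `w` is summing over the
inflations of the principal block of the quotient. -/
theorem sum_filter_eq_sum_inflate [Fintype (G ⧸ Subgroup.center G)]
    [Fintype (IrrCharacter G)] [Fintype (IrrCharacter (G ⧸ Subgroup.center G))]
    {M : Ideal AlgInt} (hM : IsPModular 2 M) {w : G}
    (hwc : w ∈ Subgroup.center G) (hw2 : w * w = 1)
    (hall : ∀ v ∈ Subgroup.center G, v = 1 ∨ v = w) (h : IrrCharacter G → ℂ) :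
    ∑ χ ∈ (Finset.univ.filter (fun χ : IrrCharacter G => χ ∈ principalBlock M G)).filter
        (fun χ : IrrCharacter G => (χ : G → ℂ) w = (χ : G → ℂ) 1), h χ =
      ∑ ψ ∈ Finset.univ.filter (fun ψ : IrrCharacter (G ⧸ Subgroup.center G) =>
        ψ ∈ principalBlock M (G ⧸ Subgroup.center G)), h (inflateIrr (Subgroup.center G) ψ) := by
  symm
  refine Finset.sum_nbij (fun ψ => inflateIrr (Subgroup.center G) ψ) ?_ ?_ ?_ ?_
  · intro ψ hψ
    rw [Finset.mem_filter] at hψ
    rw [Finset.mem_filter, Finset.mem_filter]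
    refine ⟨⟨Finset.mem_univ _, (inflateIrr_mem_principalBlock_iff hM hwc hw2 hall ψ).mpr hψ.2⟩,
      ?_⟩
    rw [inflateIrr_apply, inflateIrr_apply, (QuotientGroup.eq_one_iff w).mpr hwc,
      QuotientGroup.mk_one]
  · intro ψ _ ψ' _ hh
    exact inflateIrr_injective _ hh
  · intro χ hχ
    rw [Finset.mem_coe, Finset.mem_filter, Finset.mem_filter] at hχ
    obtain ⟨⟨-, hχB⟩, hχw⟩ := hχ
    have hker : ∀ v ∈ Subgroup.center G, (χ : G → ℂ) v = (χ : G → ℂ) 1 := by
      intro v hv
      rcases hall v hv with rfl | rfl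
      · rfl
      · exact hχw
    obtain ⟨ψ, hψ, hval⟩ :=
      Cfsg.Agent.Lib.Helper79.isIrrCharacter_deflate χ.2 (Subgroup.center G) hker
    have hinf : inflateIrr (Subgroup.center G) ⟨ψ, hψ⟩ = χ := by
      apply Subtype.ext
      funext g
      exact hval g
    refine ⟨⟨ψ, hψ⟩, ?_, hinf⟩
    rw [Finset.mem_coe, Finset.mem_filter]
    refine ⟨Finset.mem_univ _, ?_⟩
    rw [← inflateIrr_mem_principalBlock_iff hM hwc hw2 hall, hinf]
    exact hχB
  · intro ψ _
    rfl

end quotient

end Cfsg.Agent.Lib.Helper75
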