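import Cfsg.Agent.Lib.Helper75.Q8Fusion

/-!
# The centralizer of an element of order four (quaternion Sylow `2`-subgroups of order eight)
-/

set_option autoImplicit false
set_option linter.unusedSectionVars false
set_option linter.style.haveILetI false

universe u

namespace Cfsg.Agent.Lib.Helper75

open Cfsg

variable {G : Type u} [Group G] [Finite G] (S : Sylow 2 G)
  (e : (S : Subgroup G) ≃* QuaternionGroup 2)

include e

/-- The centralizer of the element `a` of order four has a normal `2`-complement of index four. -/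
theorem index_pPrimeCore_centralizer_q8a :
    (pPrimeCore 2 (Subgroup.centralizer ({q8a e} : Set G))).index = 4 := by
  haveI : Fact (Nat.Prime 2) := ⟨Nat.prime_two⟩
  set a := q8a e with ha
  set C := Subgroup.centralizer ({a} : Set G) with hC
  have haC : a ∈ C := by
    rw [hC, Subgroup.mem_centralizer_singleton_iff]
  let a' : C := ⟨a, haC⟩
  have hoa : orderOf a = 4 := orderOf_q8a S e
  have hoa' : orderOf a' = 4 := by
    rw [← hoa]; exact Subgroup.orderOf_mk a haC
  have hpz : IsPGroup 2 (Subgroup.zpowers a') := by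
    apply IsPGroup.of_card (n := 2)
    rw [Nat.card_zpowers, hoa']; norm_num
  obtain ⟨P', hP'⟩ := hpz.exists_le_sylow
  -- every element of `P'` is a power of `a`
  have hpow : ∀ u ∈ (P' : Subgroup C), (u : G) ∈ Subgroup.zpowers a := by
    intro u hu
    have hB : IsPGroup 2 ((P' : Subgroup C).map C.subtype) := P'.isPGroup'.map _
    obtain ⟨c, hc⟩ := Cfsg.Agent.Lib.Helper50.exists_conj_mem_sylow S hB
    have haB : a ∈ (P' : Subgroup C).map C.subtype :=
      ⟨a', hP' (Subgroup.mem_zpowers a'), rfl⟩
    have huB : (u : G) ∈ (P' : Subgroup C).map C.subtype := ⟨u, hu, rfl⟩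
    have h1 := hc a haB
    have h2 := hc (u : G) huB
    have h3 : (c * a * c⁻¹) ^ 2 ≠ 1 := by
      rw [conj_pow]
      intro h
      apply q8a_sq_ne_one e
      have : a ^ 2 = c⁻¹ * (c * a ^ 2 * c⁻¹) * c := by group
      rw [this, h]; group
    have hua : (u : G) * a = a * (u : G) := Subgroup.mem_centralizer_singleton_iff.mp u.2
    have h4 : (c * (u : G) * c⁻¹) * (c * a * c⁻¹) = (c * a * c⁻¹) * (c * (u : G) * c⁻¹) := by
      have e1 : (c * (u : G) * c⁻¹) * (c * a * c⁻¹) = c * ((u : G) * a) * c⁻¹ := by group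
      have e2 : (c * a * c⁻¹) * (c * (u : G) * c⁻¹) = c * (a * (u : G)) * c⁻¹ := by group
      rw [e1, e2, hua]
    have h5 := q8_mem_zpowers_of_comm e h1 h2 h3 h4
    obtain ⟨k, hk⟩ := Subgroup.mem_zpowers_iff.mp h5
    rw [Subgroup.mem_zpowers_iff]
    refine ⟨k, ?_⟩
    have h6 : (c * a * c⁻¹) ^ k = c * a ^ k * c⁻¹ := conj_zpow
    rw [h6] at hk
    have : a ^ k = c⁻¹ * (c * a ^ k * c⁻¹) * c := by group
    rw [this, hk]; group
  have hcentral : ∀ u ∈ (P' : Subgroup C), ∀ n : C, n * u = u * n := by
    intro u hu n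
    obtain ⟨k, hk⟩ := Subgroup.mem_zpowers_iff.mp (hpow u hu)
    apply Subtype.ext
    show (n : G) * (u : G) = (u : G) * (n : G)
    rw [← hk]
    have hna : (n : G) * a = a * (n : G) := Subgroup.mem_centralizer_singleton_iff.mp n.2
    exact (Commute.zpow_right (show Commute (n : G) a from hna) k).eq
  have hNC : Subgroup.normalizer ((P' : Subgroup C) : Set C) ≤
      Subgroup.centralizer ((P' : Subgroup C) : Set C) := by
    intro n _
    rw [Subgroup.mem_centralizer_iff]
    intro u hu
    exact (hcentral u hu n).symm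
  have hcompl := Cfsg.Agent.Lib.Helper50.pPrimeCore_isComplement' P' hNC
  have h1 := hcompl.symm.index_eq_card
  rw [h1]
  have hPeq : (P' : Subgroup C) = Subgroup.zpowers a' := by
    apply le_antisymm _ hP'
    intro u hu
    obtain ⟨k, hk⟩ := Subgroup.mem_zpowers_iff.mp (hpow u hu)
    rw [Subgroup.mem_zpowers_iff]
    refine ⟨k, ?_⟩
    apply Subtype.ext
    rw [← hk]
    simp [a']
  rw [hPeq, Nat.card_zpowers, hoa']

theorem factorization_centralizer_q8a :
    (Nat.card (Subgroup.centralizer ({q8a e} : Set G))).factorization 2 = 2 := by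
  have h1 := (pPrimeCore 2 (Subgroup.centralizer ({q8a e} : Set G))).card_mul_index
  rw [index_pPrimeCore_centralizer_q8a S e] at h1
  have hcop := Cfsg.Agent.Lib.Helper30.pPrimeCore_card_coprime
    (G := Subgroup.centralizer ({q8a e} : Set G)) 2
  rw [← h1]
  have hne : Nat.card (pPrimeCore 2 (Subgroup.centralizer ({q8a e} : Set G))) ≠ 0 :=
    Nat.card_pos.ne'
  rw [Nat.factorization_mul hne (by norm_num)]
  have h2 : (Nat.card (pPrimeCore 2 (Subgroup.centralizer ({q8a e} : Set G)))).factorization 2
      = 0 := by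
    apply Nat.factorization_eq_zero_of_not_dvd
    intro hd
    have := Nat.Coprime.eq_one_of_dvd hcop.symm hd
    omega
  have h3 : (4 : ℕ).factorization 2 = 2 := by
    have : (4 : ℕ) = 2 ^ 2 := by norm_num
    rw [this, Nat.Prime.factorization_pow Nat.prime_two]
    simp
  simp only [Finsupp.coe_add, Pi.add_apply, h2, h3]

end Cfsg.Agent.Lib.Helper75
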