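import Cfsg.Agent.Lib.Helper75.Q8Main

/-!
# Counting the characters of the principal `2`-block for quaternion Sylow `2`-subgroups of
order eight
-/

set_option autoImplicit false
set_option linter.unusedSectionVars false
set_option linter.style.haveILetI false

universe u

namespace Cfsg.Agent.Lib.Helper75

open Cfsg Cfsg.Agent.Lib.Helper77 Cfsg.Agent.Lib.Helper81 Cfsg.Agent.Lib.Helper80
open scoped ComplexConjugate

variable {G : Type u} [Group G] [Fintype G]

open Classical in
/-- The section term of a central element. -/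
theorem central_section_term {x : G} (hx : x ∈ Subgroup.center G) (F : G → ℂ) :
    ((Subgroup.centralizer ({x} : Set G)).index : ℂ) *
      ∑ᶠ c : Subgroup.centralizer ({x} : Set G),
        pRegularPart 2 (fun c : Subgroup.centralizer ({x} : Set G) => F (x * (c : G))) c =
      ∑ g : G, if ¬ 2 ∣ orderOf g then F (x * g) else 0 := by
  have htop : Subgroup.centralizer ({x} : Set G) = ⊤ := by
    rw [Subgroup.eq_top_iff']
    intro g
    rw [Subgroup.mem_centralizer_singleton_iff]
    exact Subgroup.mem_center_iff.mp hx g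
  have hidx : (Subgroup.centralizer ({x} : Set G)).index = 1 := by
    rw [htop, Subgroup.index_top]
  rw [hidx, Nat.cast_one, one_mul]
  haveI : Fintype (Subgroup.centralizer ({x} : Set G)) := Fintype.ofFinite _
  rw [finsum_eq_sum_of_fintype]
  rw [Finset.sum_subtype (Finset.univ : Finset G)
    (p := fun g : G => g ∈ Subgroup.centralizer ({x} : Set G))
    (fun g => by simp [htop])
    (fun g => if ¬ 2 ∣ orderOf g then F (x * g) else 0)]
  refine Finset.sum_congr rfl fun c _ => ?_
  rw [Cfsg.Agent.Lib.Helper74.pRegularPart_apply, Subgroup.orderOf_coe]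

open Classical in
/-- The principal `2`-block has seven characters. -/
theorem card_principalBlock_q8 [Fintype (IrrCharacter G)] {M : Ideal AlgInt}
    (hM : IsPModular 2 M) (S : Sylow 2 G) (e : (S : Subgroup G) ≃* QuaternionGroup 2)
    (hZ : Nat.card (Subgroup.center G) = 2)
    (hO : ∀ N : Subgroup G, N.Normal → Odd (Nat.card N) → N = ⊥)
    (hG : (S : Subgroup G) ≠ ⊤) :
    (Finset.univ.filter (fun χ : IrrCharacter G => χ ∈ principalBlock M G)).card = 7 := by
  haveI : Fact (Nat.Prime 2) := ⟨Nat.prime_two⟩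
  have hGne : (Nat.card G : ℂ) ≠ 0 := Nat.cast_ne_zero.mpr Nat.card_pos.ne'
  have hzc := q8z_mem_center S e hZ
  have hrank := blockRank_principal_q8 hM S e hZ hO hG
  set z := q8z e with hzdef
  set a := q8a e with hadef
  set B := Finset.univ.filter (fun χ : IrrCharacter G => χ ∈ principalBlock M G) with hBdef
  set F : G → ℂ := fun g => ∑ χ ∈ B, (χ : G → ℂ) g * conj ((χ : G → ℂ) g) with hFdef
  have hF : IsClassFunction G F := by
    intro g h
    show ∑ χ ∈ B, (χ : G → ℂ) (h * g * h⁻¹) * conj ((χ : G → ℂ) (h * g * h⁻¹)) =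
      ∑ χ ∈ B, (χ : G → ℂ) g * conj ((χ : G → ℂ) g)
    refine Finset.sum_congr rfl fun χ _ => ?_
    rw [Cfsg.Agent.Lib.Helper3.IsCharacter.isClassFunction
      (Cfsg.Agent.Lib.Helper3.IsIrrCharacter.isCharacter χ.2) g h]
  -- total
  have htot : ∑ g : G, F g = (Nat.card G : ℂ) * (B.card : ℂ) := by
    rw [hFdef, Finset.sum_comm]
    have h1a : ∀ χ ∈ B, ∑ g : G, (χ : G → ℂ) g * conj ((χ : G → ℂ) g) = (Nat.card G : ℂ) := by
      intro χ _
      have h2 := Cfsg.Agent.Lib.Helper3.classInner_irr χ.2 χ.2
      unfold Cfsg.classInner at h2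
      rw [if_pos rfl] at h2
      rw [← mul_one (Nat.card G : ℂ), ← h2, ← mul_assoc, mul_inv_cancel₀ hGne, one_mul]
    rw [Finset.sum_congr rfl h1a, Finset.sum_const, nsmul_eq_mul, mul_comm]
  -- invariance under central translation
  have hFc : ∀ {x : G}, x ∈ Subgroup.center G → ∀ g : G, F (x * g) = F g := by
    intro x hx g
    show ∑ χ ∈ B, (χ : G → ℂ) (x * g) * conj ((χ : G → ℂ) (x * g)) =
      ∑ χ ∈ B, (χ : G → ℂ) g * conj ((χ : G → ℂ) g)
    refine Finset.sum_congr rfl fun χ _ => ?_
    rw [Complex.mul_conj, Complex.mul_conj,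
      Cfsg.Agent.Lib.Helper3.irr_normSq_center_mul χ.2 hx g]
  have hcentral : ∀ {x : G}, x ∈ Subgroup.center G →
      ((Subgroup.centralizer ({x} : Set G)).index : ℂ) *
      ∑ᶠ c : Subgroup.centralizer ({x} : Set G),
        pRegularPart 2 (fun c : Subgroup.centralizer ({x} : Set G) => F (x * (c : G))) c =
      (Nat.card G : ℂ) * 3 := by
    intro x hx
    rw [central_section_term hx F]
    have h1 := card_mul_blockRank_principal (H := G) hM
    rw [hrank] at h1
    have h1' : (Nat.card G : ℂ) * 3 = ∑ g : G, if ¬ 2 ∣ orderOf g then F g else 0 := by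
      exact_mod_cast h1
    rw [h1']
    refine Finset.sum_congr rfl fun g _ => ?_
    rw [hFc hx g]
  -- sections
  have hoz : orderOf z = 2 := orderOf_q8z S e
  have hoa : orderOf a = 4 := orderOf_q8a S e
  have hz1 : z ≠ 1 := q8z_ne_one e
  have ha1 : a ≠ 1 := by
    intro h
    rw [h, orderOf_one] at hoa
    omega
  have haz : a ≠ z := by
    intro h
    rw [h, hoz] at hoa
    omega
  have hX : ∀ x ∈ ({1, z, a} : Finset G), ∃ k : ℕ, orderOf x = 2 ^ k := by
    intro x hx
    rw [Finset.mem_insert, Finset.mem_insert, Finset.mem_singleton] at hx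
    rcases hx with rfl | rfl | rfl
    · exact ⟨0, by rw [orderOf_one, pow_zero]⟩
    · exact ⟨1, by rw [hoz, pow_one]⟩
    · exact ⟨2, by rw [hoa]; norm_num⟩
  have hXrep : ∀ g : G, (∃ k : ℕ, orderOf g = 2 ^ k) →
      ∃! x, x ∈ ({1, z, a} : Finset G) ∧ IsConj g x := fun g hg => q8_reps S e hZ hO hG g hg
  have hsec := sum_eq_sum_sections Nat.prime_two ({1, z, a} : Finset G) hX hXrep F hF
  rw [Finset.sum_insert (by
      rw [Finset.mem_insert, Finset.mem_singleton, not_or]
      exact ⟨fun h => hz1 h.symm, fun h => ha1 h.symm⟩),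
    Finset.sum_pair (fun h => haz h.symm)] at hsec
  rw [hcentral (one_mem _), hcentral hzc, htot] at hsec
  -- the term of `a`
  have hta : ((Subgroup.centralizer ({a} : Set G)).index : ℂ) *
      ∑ᶠ c : Subgroup.centralizer ({a} : Set G),
        pRegularPart 2 (fun c : Subgroup.centralizer ({a} : Set G) => F (a * (c : G))) c =
      (Nat.card G : ℂ) := by
    haveI : Fintype (Subgroup.centralizer ({a} : Set G)) := Fintype.ofFinite _
    haveI : Fintype (IrrCharacter (Subgroup.centralizer ({a} : Set G))) := Fintype.ofFinite _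
    rw [finsum_eq_sum_of_fintype]
    have hx : ∃ k : ℕ, orderOf a = 2 ^ k := ⟨2, by rw [hoa]; norm_num⟩
    have hidx4 := index_pPrimeCore_centralizer_q8a S e
    have hidx : ∃ k : ℕ, (pPrimeCore 2 (Subgroup.centralizer ({a} : Set G))).index = 2 ^ k :=
      ⟨2, by rw [hidx4]; norm_num⟩
    haveI hKn : (pPrimeCore 2 (Subgroup.centralizer ({a} : Set G))).Normal :=
      Cfsg.Agent.Lib.Helper22.pPrimeCore_normal' 2 _
    have hterm : ∀ c : Subgroup.centralizer ({a} : Set G),
        pRegularPart 2 (fun c : Subgroup.centralizer ({a} : Set G) => F (a * (c : G))) c =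
        if c ∈ pPrimeCore 2 (Subgroup.centralizer ({a} : Set G)) then (4 : ℂ) else 0 := by
      intro c
      rw [Cfsg.Agent.Lib.Helper74.pRegularPart_apply]
      by_cases hc : 2 ∣ orderOf c
      · rw [if_neg (fun h => h hc), if_neg]
        intro hcK
        have hcop := Cfsg.Agent.Lib.Helper30.pPrimeCore_card_coprime
          (G := Subgroup.centralizer ({a} : Set G)) 2
        have h1 : orderOf c ∣ Nat.card (pPrimeCore 2 (Subgroup.centralizer ({a} : Set G))) := by
          have := orderOf_dvd_natCard (⟨c, hcK⟩ : pPrimeCore 2 (Subgroup.centralizer ({a} : Set G)))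
          rwa [← Subgroup.orderOf_coe] at this
        have h2 : 2 ∣ Nat.card (pPrimeCore 2 (Subgroup.centralizer ({a} : Set G))) := hc.trans h1
        have := Nat.Coprime.eq_one_of_dvd hcop.symm h2
        norm_num at this
      · rw [if_pos hc, if_pos (Cfsg.Agent.Lib.Helper16.mem_of_regular_of_index _
          (show (pPrimeCore 2 (Subgroup.centralizer ({a} : Set G))).index = 2 ^ 2 by
            rw [hidx4]; norm_num) hc)]
        have h1 := sum_principalBlock_section_of_pnilpotent hM hx hidx c hc
        rw [factorization_centralizer_q8a S e] at h1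
        show ∑ χ ∈ B, (χ : G → ℂ) (a * (c : G)) * conj ((χ : G → ℂ) (a * (c : G))) = 4
        rw [h1]
        norm_num
    rw [Finset.sum_congr rfl fun c _ => hterm c, ← Finset.sum_filter, Finset.sum_const,
      nsmul_eq_mul]
    have hcardK : (Finset.univ.filter (fun c : Subgroup.centralizer ({a} : Set G) =>
        c ∈ pPrimeCore 2 (Subgroup.centralizer ({a} : Set G)))).card =
        Nat.card (pPrimeCore 2 (Subgroup.centralizer ({a} : Set G))) := by
      rw [Nat.card_eq_fintype_card, Fintype.card_subtype]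
    rw [hcardK]
    have h5 := (pPrimeCore 2 (Subgroup.centralizer ({a} : Set G))).card_mul_index
    rw [hidx4] at h5
    have h6 := (Subgroup.centralizer ({a} : Set G)).card_mul_index
    have h7 : (Nat.card (pPrimeCore 2 (Subgroup.centralizer ({a} : Set G))) : ℂ) * 4 =
        (Nat.card (Subgroup.centralizer ({a} : Set G)) : ℂ) := by exact_mod_cast h5
    rw [h7, mul_comm]
    exact_mod_cast h6
  rw [hta] at hsec
  have h8 : (Nat.card G : ℂ) * (B.card : ℂ) = (Nat.card G : ℂ) * 7 := by
    rw [hsec]; ring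
  have h9 := mul_left_cancel₀ hGne h8
  exact_mod_cast h9

end Cfsg.Agent.Lib.Helper75
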