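import Cfsg.Agent.Lib.Helper75.Q8Quot

/-!
# Fusion of elements of order four and centralizers, for quaternion Sylow `2`-subgroups of order eight
-/

set_option autoImplicit false
set_option linter.unusedSectionVars false
set_option linter.style.haveILetI false

universe u

namespace Cfsg.Agent.Lib.Helper75

open Cfsg

variable {G : Type u} [Group G] [Finite G] (S : Sylow 2 G)
  (e : (S : Subgroup G) ≃* QuaternionGroup 2)

include e

theorem orderOf_q8z : orderOf (q8z e) = 2 :=
  orderOf_eq_prime (q8z_sq e) (q8z_ne_one e)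

theorem orderOf_q8a : orderOf (q8a e) = 4 :=
  q8_orderOf_eq_four e (q8a_mem e) (q8a_sq_ne_one e)

/-- An element of order four squares to `z`. -/
theorem sq_eq_q8z_of_orderOf_four (hzc : q8z e ∈ Subgroup.center G) {g : G}
    (hg : orderOf g = 4) : g ^ 2 = q8z e := by
  have h4 : g ^ 4 = 1 := by rw [← hg]; exact pow_orderOf_eq_one g
  have h22 : (g ^ 2) ^ 2 = 1 := by rw [← pow_mul]; exact h4
  rcases q8_all_sq S e hzc h22 with h | h
  · exfalso
    have := orderOf_dvd_of_pow_eq_one h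
    rw [hg] at this
    omega
  · exact h

/-- The image of an element of order four in the quotient by the centre is an involution. -/
theorem orderOf_mk_of_orderOf_four (hZ : Nat.card (Subgroup.center G) = 2) {g : G}
    (hg : orderOf g = 4) :
    orderOf (QuotientGroup.mk' (Subgroup.center G) g) = 2 := by
  have hzc := q8z_mem_center S e hZ
  apply orderOf_eq_prime
  · rw [← map_pow, sq_eq_q8z_of_orderOf_four S e hzc hg]
    exact (QuotientGroup.eq_one_iff _).mpr hzc
  · intro h
    have hgc : g ∈ Subgroup.center G := (QuotientGroup.eq_one_iff _).mp h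
    rcases center_eq S e hZ hgc with h1 | h1
    · rw [h1, orderOf_one] at hg; omega
    · rw [h1, orderOf_q8z S e] at hg; omega

/-- All elements of order four are conjugate. -/
theorem isConj_of_orderOf_four (hZ : Nat.card (Subgroup.center G) = 2)
    (hO : ∀ N : Subgroup G, N.Normal → Odd (Nat.card N) → N = ⊥)
    (hG : (S : Subgroup G) ≠ ⊤) {g : G} (hg : orderOf g = 4) : IsConj g (q8a e) := by
  haveI : Fact (Nat.Prime 2) := ⟨Nat.prime_two⟩
  have hzc := q8z_mem_center S e hZ
  let P : Sylow 2 (G ⧸ Subgroup.center G) := default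
  have H := kleinHyp_quotient S e hZ hO hG P
  have h1 := H.one _ _ (orderOf_mk_of_orderOf_four S e hZ hg)
    (orderOf_mk_of_orderOf_four S e hZ (orderOf_q8a S e))
  obtain ⟨cbar, hc⟩ := isConj_iff.mp h1
  obtain ⟨c, rfl⟩ := QuotientGroup.mk'_surjective _ cbar
  rw [← map_inv, ← map_mul, ← map_mul] at hc
  have h2 : (c * g * c⁻¹)⁻¹ * q8a e ∈ Subgroup.center G := by
    have := (QuotientGroup.eq (s := Subgroup.center G)).mp hc
    exact this
  rcases center_eq S e hZ h2 with h3 | h3
  · have h4 : c * g * c⁻¹ = q8a e := by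
      have : q8a e = (c * g * c⁻¹) * ((c * g * c⁻¹)⁻¹ * q8a e) := by group
      rw [this, h3, mul_one]
    exact isConj_iff.mpr ⟨c, h4⟩
  · -- `c g c⁻¹ = a z⁻¹ = a⁻¹`
    have h4 : c * g * c⁻¹ = (q8a e)⁻¹ := by
      have h5 : q8a e = (c * g * c⁻¹) * ((c * g * c⁻¹)⁻¹ * q8a e) := by group
      rw [h3] at h5
      have h6 : q8a e * q8a e = q8z e := by rw [← sq]; exact q8a_sq e
      have h7 : c * g * c⁻¹ = q8a e * (q8z e)⁻¹ := by
        rw [eq_mul_inv_iff_mul_eq]; exact h5.symm
      rw [h7, ← h6]; group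
    obtain ⟨s, -, hs⟩ := q8_exists_inv e (q8a_mem e)
    have h8 : IsConj g (q8a e)⁻¹ := isConj_iff.mpr ⟨c, h4⟩
    have h9 : IsConj (q8a e) (q8a e)⁻¹ := isConj_iff.mpr ⟨s, hs⟩
    exact h8.trans h9.symm

open Classical in
/-- `1`, `z`, `a` represent the classes of `2`-elements. -/
theorem q8_reps (hZ : Nat.card (Subgroup.center G) = 2)
    (hO : ∀ N : Subgroup G, N.Normal → Odd (Nat.card N) → N = ⊥)
    (hG : (S : Subgroup G) ≠ ⊤) (g : G) (hg : ∃ k : ℕ, orderOf g = 2 ^ k) :
    ∃! x, x ∈ ({1, q8z e, q8a e} : Finset G) ∧ IsConj g x := by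
  haveI : Fact (Nat.Prime 2) := ⟨Nat.prime_two⟩
  haveI : Fintype G := Fintype.ofFinite G
  have hzc := q8z_mem_center S e hZ
  have huniq : ∀ x ∈ ({1, q8z e, q8a e} : Finset G), ∀ y ∈ ({1, q8z e, q8a e} : Finset G),
      orderOf x = orderOf y → x = y := by
    intro x hx y hy hxy
    simp only [Finset.mem_insert, Finset.mem_singleton] at hx hy
    rcases hx with rfl | rfl | rfl <;> rcases hy with rfl | rfl | rfl <;>
      first
      | rfl
      | (exfalso
         simp only [orderOf_one, orderOf_q8z S e, orderOf_q8a S e] at hxy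
         omega)
  have hord : ∀ x y : G, IsConj x y → orderOf x = orderOf y := by
    intro x y h
    obtain ⟨c, hc⟩ := isConj_iff.mp h
    rw [← hc, orderOf_conj_eq]
  have hex : ∃ x, x ∈ ({1, q8z e, q8a e} : Finset G) ∧ IsConj g x := by
    obtain ⟨c, hc⟩ := Cfsg.Agent.Lib.Helper70.exists_conj_mem_sylow S g hg
    by_cases h2 : (c * g * c⁻¹) ^ 2 = 1
    · rcases q8_eq_of_sq e hc h2 with h3 | h3
      · exact ⟨1, by simp, isConj_iff.mpr ⟨c, h3⟩⟩
      · exact ⟨q8z e, by simp, isConj_iff.mpr ⟨c, h3⟩⟩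
    · have h4 := q8_orderOf_eq_four e hc h2
      rw [orderOf_conj_eq] at h4
      exact ⟨q8a e, by simp, isConj_of_orderOf_four S e hZ hO hG h4⟩
  obtain ⟨x, hx, hgx⟩ := hex
  refine ⟨x, ⟨hx, hgx⟩, ?_⟩
  rintro y ⟨hy, hgy⟩
  exact huniq y hy x hx (by rw [← hord _ _ hgy, ← hord _ _ hgx])

end Cfsg.Agent.Lib.Helper75
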