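import Cfsg.Agent.Lib.Helper75.Q8Block
import Cfsg.Agent.Lib.Helper3.HHCount

/-!
# The principal `2`-block of a group with quaternion Sylow `2`-subgroups of order eight has
seven characters (given that the centre has order two)
-/

set_option autoImplicit false
set_option linter.unusedSectionVars false
set_option linter.style.haveILetI false

universe u

namespace Cfsg.Agent.Lib.Helper75

open Cfsg Cfsg.Agent.Lib.Helper77 Cfsg.Agent.Lib.Helper81 Cfsg.Agent.Lib.Helper80
open scoped ComplexConjugate

variable {G : Type u} [Group G] [Fintype G]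

open Classical in
/-- The `2`-regular rank of the principal `2`-block is three. -/
theorem blockRank_principal_q8 [Fintype (IrrCharacter G)] {M : Ideal AlgInt}
    (hM : IsPModular 2 M) (S : Sylow 2 G) (e : (S : Subgroup G) ≃* QuaternionGroup 2)
    (hZ : Nat.card (Subgroup.center G) = 2)
    (hO : ∀ N : Subgroup G, N.Normal → Odd (Nat.card N) → N = ⊥)
    (hG : (S : Subgroup G) ≠ ⊤) : blockRank 2 (principalBlock M G) = 3 := by
  haveI : Fact (Nat.Prime 2) := ⟨Nat.prime_two⟩
  haveI : Fintype (G ⧸ Subgroup.center G) := Fintype.ofFinite _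
  haveI : Fintype (IrrCharacter (G ⧸ Subgroup.center G)) := Fintype.ofFinite _
  have hzc := q8z_mem_center S e hZ
  have hz2 := q8z_mul_self e
  have hz1 := q8z_ne_one e
  have hall : ∀ v ∈ Subgroup.center G, v = 1 ∨ v = q8z e := fun v hv => center_eq S e hZ hv
  let P : Sylow 2 (G ⧸ Subgroup.center G) := default
  have H := kleinHyp_quotient S e hZ hO hG P
  have hnt : ∃ zb : G ⧸ Subgroup.center G, zb ∈ (P : Subgroup (G ⧸ Subgroup.center G)) ∧
      zb ≠ 1 := by
    by_contra hcon
    have hbot : (P : Subgroup (G ⧸ Subgroup.center G)) = ⊥ := by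
      rw [Subgroup.eq_bot_iff_forall]
      intro x hx
      by_contra hx1
      exact hcon ⟨x, hx, hx1⟩
    have hc : Nat.card (P : Subgroup (G ⧸ Subgroup.center G)) = 1 := by
      rw [hbot]
      exact Subgroup.card_bot
    have hP' : Nat.card (P : Subgroup (G ⧸ Subgroup.center G)) = 4 := H.card
    omega
  obtain ⟨zb, hzbP, hzb1⟩ := hnt
  have hbar : blockRank 2 (principalBlock M (G ⧸ Subgroup.center G)) = 3 :=
    H.blockRank_principal hM hzbP hzb1
  have hG' := card_mul_blockRank_principal (H := G) hM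
  have hQ' := card_mul_blockRank_principal (H := G ⧸ Subgroup.center G) hM
  rw [hbar] at hQ'
  have h1 : ∀ x : G, (if ¬ 2 ∣ orderOf x then
        ∑ χ ∈ Finset.univ.filter (fun χ : IrrCharacter G => χ ∈ principalBlock M G),
          (χ : G → ℂ) x * conj ((χ : G → ℂ) x) else 0) =
      if ¬ 2 ∣ orderOf x then
        (fun q : G ⧸ Subgroup.center G => 2 * ∑ ψ ∈ Finset.univ.filter
          (fun ψ : IrrCharacter (G ⧸ Subgroup.center G) =>
            ψ ∈ principalBlock M (G ⧸ Subgroup.center G)),
          (ψ : G ⧸ Subgroup.center G → ℂ) q * conj ((ψ : G ⧸ Subgroup.center G → ℂ) q))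
          (x : G ⧸ Subgroup.center G) else 0 := by
    intro x
    by_cases hx : 2 ∣ orderOf x
    · rw [if_neg (fun h => h hx), if_neg (fun h => h hx)]
    · rw [if_pos hx, if_pos hx, sum_principalBlock_eq_two_mul hM hzc hz2 hz1 hx,
        sum_filter_eq_sum_inflate hM hzc hz2 hall
          (fun χ : IrrCharacter G => (χ : G → ℂ) x * conj ((χ : G → ℂ) x))]
      rfl
  have h5 := sum_regular_quotient hzc hz2 hall
    (fun q : G ⧸ Subgroup.center G => 2 * ∑ ψ ∈ Finset.univ.filter
          (fun ψ : IrrCharacter (G ⧸ Subgroup.center G) =>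
            ψ ∈ principalBlock M (G ⧸ Subgroup.center G)),
          (ψ : G ⧸ Subgroup.center G → ℂ) q * conj ((ψ : G ⧸ Subgroup.center G → ℂ) q))
  rw [Finset.sum_congr rfl (fun x _ => h1 x), h5] at hG'
  have h2 : ∀ q : G ⧸ Subgroup.center G, (if ¬ 2 ∣ orderOf q then
        2 * ∑ ψ ∈ Finset.univ.filter
          (fun ψ : IrrCharacter (G ⧸ Subgroup.center G) =>
            ψ ∈ principalBlock M (G ⧸ Subgroup.center G)),
          (ψ : G ⧸ Subgroup.center G → ℂ) q * conj ((ψ : G ⧸ Subgroup.center G → ℂ) q)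
        else 0) =
      2 * (if ¬ 2 ∣ orderOf q then ∑ ψ ∈ Finset.univ.filter
          (fun ψ : IrrCharacter (G ⧸ Subgroup.center G) =>
            ψ ∈ principalBlock M (G ⧸ Subgroup.center G)),
          (ψ : G ⧸ Subgroup.center G → ℂ) q * conj ((ψ : G ⧸ Subgroup.center G → ℂ) q)
        else 0) := by
    intro q
    by_cases hq : 2 ∣ orderOf q
    · rw [if_neg (fun h => h hq), if_neg (fun h => h hq), mul_zero]
    · rw [if_pos hq, if_pos hq]
  rw [Finset.sum_congr rfl (fun q _ => h2 q), ← Finset.mul_sum, ← hQ'] at hG'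
  have hcard : (Nat.card G : ℂ) = (Nat.card (G ⧸ Subgroup.center G) : ℂ) * 2 := by
    have := Subgroup.card_eq_card_quotient_mul_card_subgroup (Subgroup.center G)
    rw [hZ] at this
    exact_mod_cast this
  have hGne : (Nat.card G : ℂ) ≠ 0 := Nat.cast_ne_zero.mpr Nat.card_pos.ne'
  have h3 : (Nat.card G : ℂ) * (blockRank 2 (principalBlock M G) : ℂ) = (Nat.card G : ℂ) * 3 := by
    rw [hG', hcard]
    push_cast
    ring
  have h4 := mul_left_cancel₀ hGne h3
  exact_mod_cast h4

end Cfsg.Agent.Lib.Helper75
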