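import Cfsg.Agent.Lib.Helper75.Q8Sylow

/-!
# The quotient by the centre of a group with quaternion Sylow `2`-subgroups of order eight
-/

set_option autoImplicit false
set_option linter.unusedSectionVars false
set_option linter.style.haveILetI false

universe u

namespace Cfsg.Agent.Lib.Helper75

open Cfsg

variable {G : Type u} [Group G] [Finite G] (S : Sylow 2 G)
  (e : (S : Subgroup G) ≃* QuaternionGroup 2)

include e

/-- The `2'`-core is trivial. -/
theorem pPrimeCore_eq_bot_of_hO
    (hO : ∀ N : Subgroup G, N.Normal → Odd (Nat.card N) → N = ⊥) : pPrimeCore 2 G = ⊥ := by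
  apply hO _ (Cfsg.Agent.Lib.Helper22.pPrimeCore_normal' 2 G)
  exact (Cfsg.Agent.Lib.Helper30.pPrimeCore_card_coprime (G := G) 2).odd_of_right

/-- The quotient by the centre has no normal subgroup of order `|G : S|`. -/
theorem no_normal_complement_quotient (hZ : Nat.card (Subgroup.center G) = 2)
    (hO : ∀ N : Subgroup G, N.Normal → Odd (Nat.card N) → N = ⊥)
    (hG : (S : Subgroup G) ≠ ⊤) :
    ¬ ∃ N : Subgroup (G ⧸ Subgroup.center G), N.Normal ∧ Nat.card N = (S : Subgroup G).index := by
  haveI : Fact (Nat.Prime 2) := ⟨Nat.prime_two⟩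
  rintro ⟨N, hN, hNc⟩
  set g₀ := (S : Subgroup G).index with hg₀
  have hodd : Odd g₀ := odd_index S e
  have hzc := q8z_mem_center S e hZ
  set K : Subgroup G := N.comap (QuotientGroup.mk' (Subgroup.center G)) with hK
  haveI hKn : K.Normal := hN.comap _
  have hKidx : K.index = 4 := by
    rw [hK, Subgroup.index_comap_of_surjective N (QuotientGroup.mk'_surjective _)]
    have h1 := N.card_mul_index
    rw [hNc, card_quotient_center S e hZ] at h1
    have hpos : 0 < g₀ := hodd.pos
    nlinarith
  have hKcard : Nat.card K = 2 * g₀ := by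
    have h1 := K.card_mul_index
    rw [hKidx, card_eq_eight_mul S e] at h1
    omega
  -- a Sylow 2-subgroup of `K` is central
  let P' : Sylow 2 K := default
  have hcentral : ∀ u ∈ (P' : Subgroup K), ∀ n : K, n * u = u * n := by
    intro u hu n
    obtain ⟨k, hk⟩ := (IsPGroup.iff_orderOf.mp P'.isPGroup') ⟨u, hu⟩
    have hk' : orderOf u = 2 ^ k := by
      rw [← hk]; exact (Subgroup.orderOf_mk u hu).symm
    have hd : 2 ^ k ∣ 2 * g₀ := by
      rw [← hk', ← hKcard]; exact orderOf_dvd_natCard u
    have hk1 : k ≤ 1 := by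
      by_contra hcon
      have h2 : 2 ^ 2 ∣ 2 ^ k := pow_dvd_pow 2 (by omega)
      have h3 : 4 ∣ 2 * g₀ := by
        have : (2 : ℕ) ^ 2 = 4 := by norm_num
        rw [← this]; exact h2.trans hd
      obtain ⟨m, hm⟩ := hodd
      omega
    have hu2 : (u : G) ^ 2 = 1 := by
      have h4 : orderOf u ∣ 2 := by
        rw [hk']
        interval_cases k <;> norm_num
      have h5 : u ^ 2 = 1 := orderOf_dvd_iff_pow_eq_one.mp h4
      have := congrArg Subtype.val h5
      simpa using this
    have hucen : (u : G) ∈ Subgroup.center G := by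
      rcases q8_all_sq S e hzc hu2 with h | h
      · rw [h]; exact one_mem _
      · rw [h]; exact hzc
    apply Subtype.ext
    show (n : G) * (u : G) = (u : G) * (n : G)
    exact (Subgroup.mem_center_iff.mp hucen (n : G))
  have hNC : Subgroup.normalizer ((P' : Subgroup K) : Set K) ≤
      Subgroup.centralizer ((P' : Subgroup K) : Set K) := by
    intro n _
    rw [Subgroup.mem_centralizer_iff]
    intro u hu
    exact (hcentral u hu n).symm
  have hcompl := Cfsg.Agent.Lib.Helper50.pPrimeCore_isComplement' P' hNC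
  have hcore : pPrimeCore 2 K = ⊥ := by
    have h1 := Cfsg.Agent.Lib.Helper49.pPrimeCore_map_subtype_le 2 K
    rw [pPrimeCore_eq_bot_of_hO S e hO, le_bot_iff] at h1
    exact (Subgroup.map_eq_bot_iff_of_injective _ K.subtype_injective).mp h1
  rw [hcore, Subgroup.isComplement'_bot_left] at hcompl
  have hKp : IsPGroup 2 K := by
    have := P'.isPGroup'
    rw [hcompl] at this
    exact IsPGroup.of_equiv this Subgroup.topEquiv
  obtain ⟨m, hm⟩ := IsPGroup.iff_card.mp hKp
  rw [hKcard] at hm
  have hg1 : g₀ = 1 := by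
    rcases m with _ | m
    · exfalso; rw [pow_zero] at hm; omega
    · rw [pow_succ, mul_comm] at hm
      have h2 : g₀ = 2 ^ m := by omega
      rcases m with _ | m
      · simpa using h2
      · exfalso
        rw [h2, pow_succ] at hodd
        exact (Nat.not_odd_iff_even.mpr (even_two.mul_left _)) hodd
  exact hG (Subgroup.index_eq_one.mp hg1)

/-- The Klein four hypothesis for the quotient by the centre. -/
theorem kleinHyp_quotient (hZ : Nat.card (Subgroup.center G) = 2)
    (hO : ∀ N : Subgroup G, N.Normal → Odd (Nat.card N) → N = ⊥)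
    (hG : (S : Subgroup G) ≠ ⊤) (P : Sylow 2 (G ⧸ Subgroup.center G)) :
    KleinHyp (G ⧸ Subgroup.center G) P :=
  kleinHyp_of_no_normal_complement (odd_index S e) (card_quotient_center S e hZ)
    (no_normal_complement_quotient S e hZ hO hG) P

end Cfsg.Agent.Lib.Helper75
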