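import Cfsg.Agent.Lib.Helper75.Q8Basic
import Cfsg.Agent.Lib.Helper75.KleinFusion
import Cfsg.Agent.Lib.Helper50.Burnside
import Cfsg.Agent.Lib.Helper50.Basic
import Cfsg.Agent.Lib.Helper49.ZStarMin
import Cfsg.Agent.Lib.Helper30.PPrimeCore
import Cfsg.Agent.Lib.Helper22.Fitting
import Cfsg.Agent.Lib.Helper70.ClassGraph3

/-!
# Finite groups with quaternion Sylow `2`-subgroups of order eight and centre of order two
-/

set_option autoImplicit false
set_option linter.unusedSectionVars false
set_option linter.style.haveILetI false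

universe u

namespace Cfsg.Agent.Lib.Helper75

open Cfsg

variable {G : Type u} [Group G] [Finite G] (S : Sylow 2 G)
  (e : (S : Subgroup G) ≃* QuaternionGroup 2)

include e

/-- Every element of square one is `1` or `z`, if `z` is central. -/
theorem q8_all_sq (hzc : q8z e ∈ Subgroup.center G) {g : G} (h : g ^ 2 = 1) :
    g = 1 ∨ g = q8z e := by
  haveI : Fact (Nat.Prime 2) := ⟨Nat.prime_two⟩
  haveI : Fintype G := Fintype.ofFinite G
  have hd : orderOf g ∣ 2 ^ 1 := orderOf_dvd_of_pow_eq_one (by rw [pow_one]; exact h)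
  obtain ⟨k, -, hk⟩ := (Nat.dvd_prime_pow Nat.prime_two).mp hd
  obtain ⟨c, hc⟩ := Cfsg.Agent.Lib.Helper70.exists_conj_mem_sylow S g ⟨k, hk⟩
  have h2 : (c * g * c⁻¹) ^ 2 = 1 := by
    rw [conj_pow, h]; group
  have hback : g = c⁻¹ * (c * g * c⁻¹) * c := by group
  rcases q8_eq_of_sq e hc h2 with h3 | h3
  · left
    rw [hback, h3]; group
  · right
    rw [hback, h3]
    have := Subgroup.mem_center_iff.mp hzc c
    rw [mul_assoc, ← this]; group

/-- The centre of order two consists of `1` and `z`. -/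
theorem q8z_mem_center (hZ : Nat.card (Subgroup.center G) = 2) : q8z e ∈ Subgroup.center G := by
  haveI : Fact (Nat.Prime 2) := ⟨Nat.prime_two⟩
  have hp : IsPGroup 2 (Subgroup.center G) := IsPGroup.of_card (n := 1) (by rw [hZ, pow_one])
  have hle : Subgroup.center G ≤ (S : Subgroup G) := hp.le_sylow_of_normal S
  have hne : Subgroup.center G ≠ ⊥ := by
    intro h
    rw [h, Subgroup.card_bot] at hZ
    omega
  obtain ⟨w, hw, hw1⟩ := (Subgroup.ne_bot_iff_exists_ne_one).mp hne |>.imp
    (fun w => fun h => h) |> fun ⟨w, h⟩ => (⟨(w : G), w.2, fun h1 => h (Subtype.ext h1)⟩ :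
      ∃ w : G, w ∈ Subgroup.center G ∧ w ≠ 1)
  have hw2 : w ^ 2 = 1 := by
    have h1 : (⟨w, hw⟩ : Subgroup.center G) ^ Nat.card (Subgroup.center G) = 1 :=
      pow_card_eq_one'
    rw [hZ] at h1
    have := congrArg Subtype.val h1
    simpa using this
  rcases q8_eq_of_sq e (hle hw) hw2 with h | h
  · exact absurd h hw1
  · rw [← h]; exact hw

theorem center_eq (hZ : Nat.card (Subgroup.center G) = 2) {w : G}
    (hw : w ∈ Subgroup.center G) : w = 1 ∨ w = q8z e := by
  haveI : Fact (Nat.Prime 2) := ⟨Nat.prime_two⟩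
  have hp : IsPGroup 2 (Subgroup.center G) := IsPGroup.of_card (n := 1) (by rw [hZ, pow_one])
  have hle : Subgroup.center G ≤ (S : Subgroup G) := hp.le_sylow_of_normal S
  have hw2 : w ^ 2 = 1 := by
    have h1 : (⟨w, hw⟩ : Subgroup.center G) ^ Nat.card (Subgroup.center G) = 1 :=
      pow_card_eq_one'
    rw [hZ] at h1
    have := congrArg Subtype.val h1
    simpa using this
  exact q8_eq_of_sq e (hle hw) hw2

/-- `|G| = 8 · |G : S|`. -/
theorem card_eq_eight_mul : Nat.card G = 8 * (S : Subgroup G).index := by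
  rw [← (S : Subgroup G).card_mul_index, card_q8 e]

theorem odd_index : Odd (S : Subgroup G).index := by
  haveI : Fact (Nat.Prime 2) := ⟨Nat.prime_two⟩
  have := S.not_dvd_index
  exact Nat.odd_iff.mpr (Nat.two_dvd_ne_zero.mp this)

theorem card_quotient_center (hZ : Nat.card (Subgroup.center G) = 2) :
    Nat.card (G ⧸ Subgroup.center G) = 4 * (S : Subgroup G).index := by
  have h1 := Subgroup.card_eq_card_quotient_mul_card_subgroup (Subgroup.center G)
  rw [hZ, card_eq_eight_mul S e] at h1
  omega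

end Cfsg.Agent.Lib.Helper75
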