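import Mathlib
import Cfsg.Prelude.Def_Blocks
import Cfsg.Agent.Lib.Helper75.OddIndexBlock
import Cfsg.Agent.Lib.Helper16.DefectVal
import Cfsg.Agent.Lib.Helper80.IrrApi
import Cfsg.Agent.Lib.Helper81.Irr

/-!
# A real `2`-block of full defect is the principal block (Gow)

If `χ` has odd degree and its block is stable under the inversion of the elements of odd order,
then the central character of `χ` at the sum of the elements of odd order is `≡ 1`; hence `χ` lies
in the principal `2`-block.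
-/

set_option autoImplicit false
set_option linter.style.haveILetI false
set_option linter.unusedSectionVars false

namespace Cfsg.Agent.Lib.Helper75

open Cfsg
open Cfsg.Agent.Lib.Helper3 Cfsg.Agent.Lib.Helper77 Cfsg.Agent.Lib.Helper81
open scoped ComplexConjugate

universe u

section Gow

variable {G : Type u} [Group G]

theorem isConj_inv_inv {g h : G} (hh : IsConj g h) : IsConj g⁻¹ h⁻¹ := by
  rw [isConj_iff] at hh ⊢
  obtain ⟨c, hc⟩ := hh
  refine ⟨c, ?_⟩
  rw [← hc]
  group

theorem orderOf_eq_of_isConj {g h : G} (hh : IsConj g h) : orderOf h = orderOf g := by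
  rw [isConj_iff] at hh
  obtain ⟨c, rfl⟩ := hh
  rw [← MulAut.conj_apply]
  exact (MulAut.conj c).orderOf_eq g

theorem isClassFunction_indicator (P : G → Prop) [DecidablePred P]
    (hP : ∀ g h : G, P (h * g * h⁻¹) ↔ P g) :
    IsClassFunction G (fun g => if P g then (1 : ℂ) else 0) := by
  intro g h
  exact if_congr (hP g h) rfl rfl

variable [Fintype G]

/-- The class size of a real element of odd order other than `1` is even. -/
theorem even_index_centralizer_of_real {g : G} (hodd : ¬ 2 ∣ orderOf g) (hne : g ≠ 1)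
    (hreal : IsConj g g⁻¹) : 2 ∣ (Subgroup.centralizer ({g} : Set G)).index := by
  classical
  rw [Helper80.index_centralizer_eq_card_conj]
  have hinv : ∀ h : G, IsConj g h → IsConj g h⁻¹ := fun h hh => hreal.trans (isConj_inv_inv hh)
  let f : Function.End {h : G // IsConj g h} := fun h => ⟨h.1⁻¹, hinv h.1 h.2⟩
  have hf : f ^ 2 ^ 1 = 1 := by
    rw [pow_one, pow_two]
    funext h
    apply Subtype.ext
    show (h.1⁻¹)⁻¹ = h.1
    exact inv_inv _
  haveI : Fact (Nat.Prime 2) := ⟨Nat.prime_two⟩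
  have hmod := Equiv.Perm.card_fixedPoints_modEq (p := 2) (n := 1) hf
  have hempty : IsEmpty (Function.fixedPoints f) := by
    constructor
    rintro ⟨h, hh⟩
    have h1 : h.1⁻¹ = h.1 := congrArg Subtype.val hh
    have h2 : h.1 ^ 2 = 1 := by
      rw [pow_two]
      nth_rewrite 1 [← h1]
      exact inv_mul_cancel h.1
    have h3 : orderOf h.1 ∣ 2 := orderOf_dvd_of_pow_eq_one h2
    have h4 : orderOf h.1 = orderOf g := orderOf_eq_of_isConj h.2
    rcases (Nat.dvd_prime Nat.prime_two).1 h3 with h5 | h5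
    · have h6 : h.1 = 1 := orderOf_eq_one_iff.1 h5
      have h7 := h.2
      rw [h6] at h7
      exact hne (isConj_one_right.1 h7.symm)
    · apply hodd
      rw [← h4, h5]
  have h0 : Fintype.card (Function.fixedPoints f) = 0 := Fintype.card_eq_zero
  rw [h0] at hmod
  rw [Nat.card_eq_fintype_card]
  exact (Nat.modEq_zero_iff_dvd).1 hmod

/-- **Gow's congruence.** -/
theorem omega_oddInd_sub_one_mem {M : Ideal AlgInt} (hM : IsPModular 2 M) (χ χ' : IrrCharacter G)
    (hdeg : Odd (charDegree (χ : G → ℂ))) (hsame : SameBlock M (χ : G → ℂ) (χ' : G → ℂ))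
    (hinv : ∀ g : G, ¬ 2 ∣ orderOf g → (χ' : G → ℂ) g = (χ : G → ℂ) g⁻¹) :
    MemLocalIdeal M (omega (χ : G → ℂ) (oddInd G) - 1) := by
  classical
  have hMp := isPrime_of_isPModular hM
  have hχcf : IsClassFunction G (χ : G → ℂ) :=
    IsCharacter.isClassFunction (IsIrrCharacter.isCharacter χ.2)
  have hχ'cf : IsClassFunction G (χ' : G → ℂ) :=
    IsCharacter.isClassFunction (IsIrrCharacter.isCharacter χ'.2)
  let e := Fintype.equivFin (ConjClasses G)
  let c : G → Fin (Fintype.card (ConjClasses G)) := fun g => e (ConjClasses.mk g)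
  have hc_conj : ∀ g h : G, c (h * g * h⁻¹) = c g := by
    intro g h
    show e (ConjClasses.mk (h * g * h⁻¹)) = e (ConjClasses.mk g)
    congr 1
    rw [ConjClasses.mk_eq_mk_iff_isConj]
    exact (isConj_iff.2 ⟨h, rfl⟩).symm
  have hc_conj' : ∀ g h : G, c (h * g * h⁻¹)⁻¹ = c g⁻¹ := by
    intro g h
    have : (h * g * h⁻¹)⁻¹ = h * g⁻¹ * h⁻¹ := by group
    rw [this, hc_conj]
  have hord_conj : ∀ g h : G, orderOf (h * g * h⁻¹) = orderOf g := by
    intro g h
    rw [← MulAut.conj_apply]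
    exact (MulAut.conj h).orderOf_eq g
  have hone_conj : ∀ g h : G, h * g * h⁻¹ = 1 ↔ g = 1 := by
    intro g h
    constructor
    · intro h1
      have : g = h⁻¹ * (h * g * h⁻¹) * h := by group
      rw [this, h1]; group
    · rintro rfl; group
  let a₁ : G → ℂ := fun g => if g = 1 then 1 else 0
  let aR : G → ℂ := fun g => if (¬ 2 ∣ orderOf g ∧ g ≠ 1 ∧ c g = c g⁻¹) then 1 else 0
  let aP : G → ℂ := fun g => if (¬ 2 ∣ orderOf g ∧ c g < c g⁻¹) then 1 else 0
  let aM : G → ℂ := fun g => if (¬ 2 ∣ orderOf g ∧ c g⁻¹ < c g) then 1 else 0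
  have ha₁cf : IsClassFunction G a₁ := isClassFunction_indicator _ hone_conj
  have haRcf : IsClassFunction G aR := isClassFunction_indicator _ (fun g h => by
    rw [hord_conj, hc_conj, hc_conj', ne_eq, ne_eq, hone_conj])
  have haPcf : IsClassFunction G aP := isClassFunction_indicator _ (fun g h => by
    rw [hord_conj, hc_conj, hc_conj'])
  have haPloc : ∀ g, MemLocalRing M (aP g) := by
    intro g
    show MemLocalRing M (if (¬ 2 ∣ orderOf g ∧ c g < c g⁻¹) then 1 else 0)
    split_ifs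
    · exact memLocalRing_one hMp
    · exact memLocalRing_zero hMp
  have hsplit : oddInd G = a₁ + aR + aP + aM := by
    funext g
    show (if ¬ 2 ∣ orderOf g then (1 : ℂ) else 0) = (if g = 1 then 1 else 0) +
      (if (¬ 2 ∣ orderOf g ∧ g ≠ 1 ∧ c g = c g⁻¹) then 1 else 0) +
      (if (¬ 2 ∣ orderOf g ∧ c g < c g⁻¹) then 1 else 0) +
      (if (¬ 2 ∣ orderOf g ∧ c g⁻¹ < c g) then 1 else 0)
    by_cases hodd : 2 ∣ orderOf g
    · have h1 : g ≠ 1 := by
        rintro rfl
        rw [orderOf_one] at hodd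
        exact absurd hodd (by norm_num)
      simp [hodd, h1]
    · by_cases h1 : g = 1
      · subst h1
        simp
      · rcases lt_trichotomy (c g) (c g⁻¹) with h | h | h
        · simp [hodd, h1, h, h.ne, h.not_gt]
        · simp [hodd, h1, h]
        · simp [hodd, h1, h, h.ne', h.not_gt]
  have hχ1 : (χ : G → ℂ) 1 ≠ 0 := by
    rw [irr_apply_one_eq_charDegree]
    exact_mod_cast irr_charDegree_ne_zero χ
  -- (1)
  have h1 : omega (χ : G → ℂ) a₁ = 1 := by
    unfold omega
    have : ∑ g : G, a₁ g * (χ : G → ℂ) g = (χ : G → ℂ) 1 := by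
      simp [a₁]
    rw [this, div_self hχ1]
  -- (2)
  have hχ'1 : (χ' : G → ℂ) 1 = (χ : G → ℂ) 1 := by
    have := hinv 1 (by rw [orderOf_one]; norm_num)
    rwa [inv_one] at this
  have h2 : omega (χ : G → ℂ) aM = omega (χ' : G → ℂ) aP := by
    unfold omega
    rw [hχ'1]
    congr 1
    refine Fintype.sum_equiv (Equiv.inv G) _ _ ?_
    intro g
    show aM g * (χ : G → ℂ) g = aP g⁻¹ * (χ' : G → ℂ) g⁻¹
    show (if (¬ 2 ∣ orderOf g ∧ c g⁻¹ < c g) then (1 : ℂ) else 0) * (χ : G → ℂ) g =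
      (if (¬ 2 ∣ orderOf g⁻¹ ∧ c g⁻¹ < c g⁻¹⁻¹) then (1 : ℂ) else 0) * (χ' : G → ℂ) g⁻¹
    rw [orderOf_inv, inv_inv]
    by_cases hcond : ¬ 2 ∣ orderOf g ∧ c g⁻¹ < c g
    · rw [if_pos hcond, hinv g⁻¹ (by rw [orderOf_inv]; exact hcond.1), inv_inv]
    · rw [if_neg hcond, zero_mul, zero_mul]
  -- (3)
  have h3 : MemLocalIdeal M (omega (χ : G → ℂ) aP + omega (χ' : G → ℂ) aP) := by
    have h31 := memLocalIdeal_omega_sub hMp hχcf hχ'cf hsame haPcf haPloc
    have h32 : MemLocalRing M (omega (χ : G → ℂ) aP) := memLocalRing_omega hMp χ.2 haPcf haPloc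
    have h33 : MemLocalIdeal M (((2 : ℕ) : ℂ)) := (memLocalIdeal_natCast_iff hM 2).2 (dvd_refl 2)
    have h34 := memLocalIdeal_mul_right hMp h33 h32
    have h35 := memLocalIdeal_sub hMp h34 h31
    have : ((2 : ℕ) : ℂ) * omega (χ : G → ℂ) aP -
        (omega (χ : G → ℂ) aP - omega (χ' : G → ℂ) aP) =
        omega (χ : G → ℂ) aP + omega (χ' : G → ℂ) aP := by push_cast; ring
    rwa [this] at h35
  -- (4)
  have h4 : MemLocalIdeal M (omega (χ : G → ℂ) aR) := by
    rw [omega_eq_sum_conjClasses hχcf haRcf]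
    apply memLocalIdeal_sum hMp
    intro cc _
    show MemLocalIdeal M ((if (¬ 2 ∣ orderOf (Quotient.out cc) ∧ Quotient.out cc ≠ 1 ∧
      c (Quotient.out cc) = c (Quotient.out cc)⁻¹) then (1 : ℂ) else 0) *
        centralChar (χ : G → ℂ) (Quotient.out cc))
    by_cases hcond : ¬ 2 ∣ orderOf (Quotient.out cc) ∧ Quotient.out cc ≠ 1 ∧
      c (Quotient.out cc) = c (Quotient.out cc)⁻¹
    · rw [if_pos hcond, one_mul]
      obtain ⟨hodd, hne, hceq⟩ := hcond
      have hreal : IsConj (Quotient.out cc) (Quotient.out cc)⁻¹ := by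
        rw [← ConjClasses.mk_eq_mk_iff_isConj]
        exact e.injective hceq
      obtain ⟨t, ht⟩ := even_index_centralizer_of_real hodd hne hreal
      unfold centralChar
      rw [ht, irr_apply_one_eq_charDegree]
      have h41 : MemLocalIdeal M (((2 : ℕ) : ℂ)) := (memLocalIdeal_natCast_iff hM 2).2 (dvd_refl 2)
      have h42 : MemLocalRing M ((χ : G → ℂ) (Quotient.out cc)) :=
        memLocalRing_algInt hMp ⟨_, Helper80.irr_isIntegral χ _⟩
      have h43 : MemLocalRing M (((charDegree (χ : G → ℂ) : ℕ) : ℂ)⁻¹) :=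
        memLocalRing_inv_natCast hM (fun hd => by
          have := Nat.odd_iff.1 hdeg
          omega)
      have h44 : MemLocalRing M ((t : ℂ) * (χ : G → ℂ) (Quotient.out cc) *
          ((charDegree (χ : G → ℂ) : ℕ) : ℂ)⁻¹) :=
        memLocalRing_mul hMp (memLocalRing_mul hMp (memLocalRing_natCast hMp t) h42) h43
      have h45 := memLocalIdeal_mul_right hMp h41 h44
      have : ((2 : ℕ) : ℂ) * ((t : ℂ) * (χ : G → ℂ) (Quotient.out cc) *
          ((charDegree (χ : G → ℂ) : ℕ) : ℂ)⁻¹) =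
          ((2 * t : ℕ) : ℂ) * (χ : G → ℂ) (Quotient.out cc) / ((charDegree (χ : G → ℂ) : ℕ) : ℂ) := by
        push_cast
        ring
      rwa [this] at h45
    · rw [if_neg hcond, zero_mul]
      exact memLocalIdeal_zero hMp
  -- total
  have htotal : omega (χ : G → ℂ) (oddInd G) - 1 =
      omega (χ : G → ℂ) aR + (omega (χ : G → ℂ) aP + omega (χ' : G → ℂ) aP) := by
    rw [hsplit, omega_add, omega_add, omega_add, h1, h2]
    ring
  rw [htotal]
  exact memLocalIdeal_add hMp h4 h3

/-- **Gow.** A `2`-block of full defect which is stable under a power twist inverting the elements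
of odd order is the principal block. -/
theorem eq_principalBlock_of_stable {M : Ideal AlgInt} (hM : IsPModular 2 M) (k : ℕ)
    (hk₂ : ∀ g : G, Odd (orderOf g) → g ^ k = g⁻¹) (B : Set (IrrCharacter G))
    (hB : IsPBlock M B) (hdef : blockDefect 2 B = (Nat.card G).factorization 2)
    (hstab : ∀ χ ∈ B, ∃ ψ ∈ B, ∀ g : G, (ψ : G → ℂ) g = (χ : G → ℂ) (g ^ k)) :
    B = principalBlock M G := by
  classical
  haveI : Fact (Nat.Prime 2) := ⟨Nat.prime_two⟩
  have hMp := isPrime_of_isPModular hM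
  obtain ⟨χ₀, rfl⟩ := hB
  have hne : (blockOf M (χ₀ : G → ℂ)).Nonempty := ⟨χ₀, sameBlock_refl hMp _⟩
  have hmin : Helper16.minDegVal 2 (blockOf M (χ₀ : G → ℂ)) = 0 := by
    have h1 := Helper16.blockDefect_eq 2 (blockOf M (χ₀ : G → ℂ))
    have h2 := Helper16.minDegVal_le_card 2 hne
    rw [hdef] at h1
    omega
  obtain ⟨χ, hχB, hχval⟩ := Helper16.exists_minDegVal 2 hne
  rw [hmin] at hχval
  have hdeg : Odd (charDegree (χ : G → ℂ)) := by
    have hne0 := irr_charDegree_ne_zero χ
    rcases (Nat.factorization_eq_zero_iff _ _).1 hχval with h | h | h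
    · exact absurd Nat.prime_two h
    · exact Nat.odd_iff.2 (by omega)
    · exact absurd h hne0
  obtain ⟨χ', hχ'B, hχ'⟩ := hstab χ hχB
  have hsame : SameBlock M (χ : G → ℂ) (χ' : G → ℂ) :=
    sameBlock_trans hMp (sameBlock_symm hχB) hχ'B
  have hinv : ∀ g : G, ¬ 2 ∣ orderOf g → (χ' : G → ℂ) g = (χ : G → ℂ) g⁻¹ := by
    intro g hg
    rw [hχ', hk₂ g (Nat.odd_iff.2 (by omega))]
  have hcong := omega_oddInd_sub_one_mem hM χ χ' hdeg hsame hinv
  have hχB₀ : χ ∈ principalBlock M G := by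
    by_contra hnot
    rw [omega_oddInd_eq_zero hM χ hnot, zero_sub] at hcong
    have := memLocalIdeal_neg hcong
    rw [neg_neg] at this
    exact not_memLocalIdeal_one hMp this
  have h10 : SameBlock M (fun _ : G => (1 : ℂ)) (χ₀ : G → ℂ) :=
    sameBlock_trans hMp hχB₀ (sameBlock_symm hχB)
  ext ψ
  show SameBlock M (χ₀ : G → ℂ) (ψ : G → ℂ) ↔ SameBlock M (fun _ : G => (1 : ℂ)) (ψ : G → ℂ)
  exact ⟨fun h => sameBlock_trans hMp h10 h, fun h => sameBlock_trans hMp (sameBlock_symm h10) h⟩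

end Gow

end Cfsg.Agent.Lib.Helper75
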