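import Cfsg.Agent.Lib.Helper75.DefectOne4

/-!
# The second main theorem for class functions
-/

set_option autoImplicit false

universe u

namespace Cfsg.Agent.Lib.Helper75

open Cfsg Cfsg.Agent.Lib.Helper77 Cfsg.Agent.Lib.Helper76
open scoped ComplexConjugate

variable {G : Type u} [Group G] [Fintype G]

open Classical in
/-- For `ζ` outside the block `B`, the part of `c ↦ ζ (x c)` belonging to the blocks of `C(x)`
that induce `B` vanishes at `p`-regular elements. -/
theorem section_part_eq_zero [Fintype (IrrCharacter G)] {p : ℕ} [Fact p.Prime]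
    {M : Ideal AlgInt} (hM : IsPModular p M) {x : G} (hx : ∃ k : ℕ, orderOf x = p ^ k)
    [Fintype (Subgroup.centralizer ({x} : Set G))]
    [Fintype (IrrCharacter (Subgroup.centralizer ({x} : Set G)))]
    {B : Set (IrrCharacter G)} (ζ : IrrCharacter G) (hζ : ζ ∉ B)
    (y : Subgroup.centralizer ({x} : Set G)) (hy : ¬ p ∣ orderOf y) :
    ∑ ψ ∈ Finset.univ.filter (fun ψ : IrrCharacter (Subgroup.centralizer ({x} : Set G)) =>
        IsInducedBlock M (Subgroup.centralizer ({x} : Set G))
          (blockOf M (ψ : Subgroup.centralizer ({x} : Set G) → ℂ)) B),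
      classInner (fun c : Subgroup.centralizer ({x} : Set G) => (ζ : G → ℂ) (x * (c : G)))
          (ψ : Subgroup.centralizer ({x} : Set G) → ℂ) *
          (ψ : Subgroup.centralizer ({x} : Set G) → ℂ) y = 0 := by
  have hMp : M.IsPrime := hM.2.1.isPrime
  rw [sum_filter_blockOf hMp (fun b => IsInducedBlock M (Subgroup.centralizer ({x} : Set G)) b B)]
  refine Finset.sum_eq_zero fun b hb => ?_
  obtain ⟨hb1, hb2⟩ := Finset.mem_filter.mp hb
  rw [← blockPart_eq_sum]
  refine Cfsg.Agent.S0923.result p M hM x hx (blockOf M (ζ : G → ℂ)) ⟨ζ, rfl⟩ ζ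
    (self_mem_blockOf hMp ζ) b (mem_blocksFinset.mp hb1) ?_ y hy
  intro hind
  apply hζ
  rw [isInducedBlock_unique hMp hb2 hind]
  exact self_mem_blockOf hMp ζ

open Classical in
/-- **Second main theorem for class functions.**  For a class function `θ` of `G`, a `p`-element
`x` with centralizer `C`, a block `B` and a `p`-regular `y ∈ C`: the value at `x y` of the
`B`-part of `θ` is the value at `y` of the part of `c ↦ θ (x c)` belonging to the blocks of `C`
inducing `B`. -/
theorem sum_block_classInner_section [Fintype (IrrCharacter G)] {p : ℕ} [Fact p.Prime]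
    {M : Ideal AlgInt} (hM : IsPModular p M) {x : G} (hx : ∃ k : ℕ, orderOf x = p ^ k)
    [Fintype (Subgroup.centralizer ({x} : Set G))]
    [Fintype (IrrCharacter (Subgroup.centralizer ({x} : Set G)))]
    {B : Set (IrrCharacter G)} (hB : IsPBlock M B)
    {θ : G → ℂ} (hθ : IsClassFunction G θ)
    (y : Subgroup.centralizer ({x} : Set G)) (hy : ¬ p ∣ orderOf y) :
    ∑ χ ∈ Finset.univ.filter (fun χ : IrrCharacter G => χ ∈ B),
      classInner θ (χ : G → ℂ) * (χ : G → ℂ) (x * (y : G)) =
    ∑ ψ ∈ Finset.univ.filter (fun ψ : IrrCharacter (Subgroup.centralizer ({x} : Set G)) =>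
        IsInducedBlock M (Subgroup.centralizer ({x} : Set G))
          (blockOf M (ψ : Subgroup.centralizer ({x} : Set G) → ℂ)) B),
      classInner (fun c : Subgroup.centralizer ({x} : Set G) => θ (x * (c : G)))
          (ψ : Subgroup.centralizer ({x} : Set G) → ℂ) *
          (ψ : Subgroup.centralizer ({x} : Set G) → ℂ) y := by
  -- expand the shifted function
  have h1 : (fun c : Subgroup.centralizer ({x} : Set G) => θ (x * (c : G))) =
      ∑ ζ : IrrCharacter G, classInner θ (ζ : G → ℂ) •
        (fun c : Subgroup.centralizer ({x} : Set G) => (ζ : G → ℂ) (x * (c : G))) := by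
    funext c
    have h2 := congrFun (Cfsg.Agent.Lib.Helper3.classFunction_eq_sum hθ) (x * (c : G))
    rw [Finset.sum_apply] at h2
    rw [Finset.sum_apply]
    simp only [Pi.smul_apply, smul_eq_mul] at h2 ⊢
    exact h2
  rw [h1]
  simp only [Cfsg.Agent.Lib.Helper3.classInner_sum_left,
    Cfsg.Agent.Lib.Helper3.classInner_smul_left, Finset.sum_mul]
  rw [Finset.sum_comm]
  rw [Finset.sum_filter]
  refine Finset.sum_congr rfl fun ζ _ => ?_
  simp only [mul_assoc]
  rw [← Finset.mul_sum]
  by_cases hζ : ζ ∈ B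
  · rw [if_pos hζ, section_value_eq hM hx hB ζ hζ y hy]
  · rw [if_neg hζ, section_part_eq_zero hM hx ζ hζ y hy, mul_zero]

end Cfsg.Agent.Lib.Helper75
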