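import Cfsg.Agent.Lib.Helper77.SectionNorm

/-!
# The isometry on a `p`-section for an arbitrary union of blocks of the centralizer
-/

set_option autoImplicit false

universe u

namespace Cfsg.Agent.Lib.Helper75

open Cfsg Cfsg.Agent.Lib.Helper77
open scoped ComplexConjugate

variable {G : Type u} [Group G] [Fintype G]

open Classical in
/-- The isometry on a `p`-section, for a set `S` of irreducible characters of the centralizer `C`
of the `p`-element `z` such that `∑_{χ ∈ S} χ(c) conj χ(y)` vanishes at the `p`-singular `c`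
(for instance a union of blocks, `y` being `p`-regular): the squared norms of the `S`-parts of the
functions `c ↦ ζ (z c)` at `y`, summed over all irreducible characters `ζ` of `G`, give the squared
norms of the members of `S` at `y`. -/
theorem sum_setPart_mul_conj [Fintype (IrrCharacter G)] {p : ℕ} (hp : p.Prime)
    {z : G} (hz : ∃ k : ℕ, orderOf z = p ^ k)
    [Fintype (Subgroup.centralizer ({z} : Set G))]
    [Fintype (IrrCharacter (Subgroup.centralizer ({z} : Set G)))]
    (S : Finset (IrrCharacter (Subgroup.centralizer ({z} : Set G))))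
    (y : Subgroup.centralizer ({z} : Set G))
    (hS0 : ∀ c : Subgroup.centralizer ({z} : Set G), p ∣ orderOf c →
      ∑ χ ∈ S, (χ : Subgroup.centralizer ({z} : Set G) → ℂ) c *
        conj ((χ : Subgroup.centralizer ({z} : Set G) → ℂ) y) = 0) :
    ∑ ζ : IrrCharacter G,
      (∑ χ ∈ S, classInner (fun c : Subgroup.centralizer ({z} : Set G) => (ζ : G → ℂ) (z * (c : G)))
          (χ : Subgroup.centralizer ({z} : Set G) → ℂ) *
          (χ : Subgroup.centralizer ({z} : Set G) → ℂ) y) *
      conj (∑ χ ∈ S, classInner (fun c : Subgroup.centralizer ({z} : Set G) => (ζ : G → ℂ) (z * (c : G)))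
          (χ : Subgroup.centralizer ({z} : Set G) → ℂ) *
          (χ : Subgroup.centralizer ({z} : Set G) → ℂ) y) =
    ∑ χ ∈ S, (χ : Subgroup.centralizer ({z} : Set G) → ℂ) y *
        conj ((χ : Subgroup.centralizer ({z} : Set G) → ℂ) y) := by
  have hnC : (Nat.card (Subgroup.centralizer ({z} : Set G)) : ℂ) ≠ 0 := Nat.cast_ne_zero.mpr Nat.card_pos.ne'
  set θ : (Subgroup.centralizer ({z} : Set G)) → ℂ := fun c => ∑ χ ∈ S, (χ : (Subgroup.centralizer ({z} : Set G)) → ℂ) c * conj ((χ : (Subgroup.centralizer ({z} : Set G)) → ℂ) y) with hθ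
  have hconjθ : ∀ c, conj (θ c) = ∑ χ ∈ S, conj ((χ : (Subgroup.centralizer ({z} : Set G)) → ℂ) c) * (χ : (Subgroup.centralizer ({z} : Set G)) → ℂ) y := by
    intro c
    rw [hθ]
    simp only [map_sum, map_mul, Complex.conj_conj]
  -- (i)
  have hv : ∀ ζ : IrrCharacter G,
      (∑ χ ∈ S, classInner (fun c : Subgroup.centralizer ({z} : Set G) => (ζ : G → ℂ) (z * (c : G)))
          (χ : Subgroup.centralizer ({z} : Set G) → ℂ) *
          (χ : Subgroup.centralizer ({z} : Set G) → ℂ) y) =
        (Nat.card (Subgroup.centralizer ({z} : Set G)) : ℂ)⁻¹ * ∑ c : (Subgroup.centralizer ({z} : Set G)), (ζ : G → ℂ) (z * (c : G)) * conj (θ c) := by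
    intro ζ
    unfold classInner
    simp_rw [hconjθ, Finset.mul_sum, Finset.sum_mul]
    rw [Finset.sum_comm]
    refine Finset.sum_congr rfl fun c _ => ?_
    refine Finset.sum_congr rfl fun χ _ => ?_
    ring
  -- (ii)
  have hθ0 : ∀ c : (Subgroup.centralizer ({z} : Set G)), p ∣ orderOf c → θ c = 0 := hS0
  -- (iii)
  have hθχ : ∀ χ : IrrCharacter (Subgroup.centralizer ({z} : Set G)), ∑ c : (Subgroup.centralizer ({z} : Set G)), θ c * conj ((χ : (Subgroup.centralizer ({z} : Set G)) → ℂ) c) =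
      (Nat.card (Subgroup.centralizer ({z} : Set G)) : ℂ) * (if χ ∈ S then conj ((χ : (Subgroup.centralizer ({z} : Set G)) → ℂ) y) else 0) := by
    intro χ
    have h1 : ∀ χ' : IrrCharacter (Subgroup.centralizer ({z} : Set G)), ∑ c : (Subgroup.centralizer ({z} : Set G)), (χ' : (Subgroup.centralizer ({z} : Set G)) → ℂ) c * conj ((χ : (Subgroup.centralizer ({z} : Set G)) → ℂ) c) =
        (Nat.card (Subgroup.centralizer ({z} : Set G)) : ℂ) * (if χ' = χ then 1 else 0) := by
      intro χ'
      have h2 := Cfsg.Agent.Lib.Helper3.classInner_irr χ'.2 χ.2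
      unfold classInner at h2
      have h3 : ((χ' : (Subgroup.centralizer ({z} : Set G)) → ℂ) = (χ : (Subgroup.centralizer ({z} : Set G)) → ℂ)) ↔ χ' = χ := Subtype.ext_iff.symm
      simp only [h3] at h2
      rw [← h2, ← mul_assoc, mul_inv_cancel₀ hnC, one_mul]
    simp_rw [hθ, Finset.sum_mul]
    rw [Finset.sum_comm]
    have h4 : ∀ χ' ∈ S, ∑ c : (Subgroup.centralizer ({z} : Set G)), (χ' : (Subgroup.centralizer ({z} : Set G)) → ℂ) c * conj ((χ' : (Subgroup.centralizer ({z} : Set G)) → ℂ) y) *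
        conj ((χ : (Subgroup.centralizer ({z} : Set G)) → ℂ) c) =
        (Nat.card (Subgroup.centralizer ({z} : Set G)) : ℂ) * (if χ' = χ then conj ((χ' : (Subgroup.centralizer ({z} : Set G)) → ℂ) y) else 0) := by
      intro χ' _
      have h5 : ∀ c : (Subgroup.centralizer ({z} : Set G)), (χ' : (Subgroup.centralizer ({z} : Set G)) → ℂ) c * conj ((χ' : (Subgroup.centralizer ({z} : Set G)) → ℂ) y) * conj ((χ : (Subgroup.centralizer ({z} : Set G)) → ℂ) c) =
          conj ((χ' : (Subgroup.centralizer ({z} : Set G)) → ℂ) y) * ((χ' : (Subgroup.centralizer ({z} : Set G)) → ℂ) c * conj ((χ : (Subgroup.centralizer ({z} : Set G)) → ℂ) c)) := fun c => by ring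
      rw [Finset.sum_congr rfl fun c _ => h5 c, ← Finset.mul_sum, h1]
      split_ifs <;> ring
    rw [Finset.sum_congr rfl h4, ← Finset.mul_sum]
    congr 1
    by_cases hχ : χ ∈ S
    · rw [if_pos hχ, Finset.sum_eq_single χ]
      · rw [if_pos rfl]
      · intro χ' _ hne
        rw [if_neg hne]
      · intro hnot
        exact absurd hχ hnot
    · rw [if_neg hχ]
      refine Finset.sum_eq_zero fun χ' hχ' => ?_
      rw [if_neg]
      rintro rfl
      exact hχ hχ'
  -- (iv)
  have hK : ∀ c c' : (Subgroup.centralizer ({z} : Set G)), conj (θ c) * θ c' *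
      ∑ ζ : IrrCharacter G, (ζ : G → ℂ) (z * (c : G)) * conj ((ζ : G → ℂ) (z * (c' : G))) =
      conj (θ c) * θ c' *
      ∑ χ : IrrCharacter (Subgroup.centralizer ({z} : Set G)), (χ : (Subgroup.centralizer ({z} : Set G)) → ℂ) c * conj ((χ : (Subgroup.centralizer ({z} : Set G)) → ℂ) c') := by
    intro c c'
    by_cases hc : p ∣ orderOf c
    · rw [hθ0 c hc, map_zero, zero_mul, zero_mul, zero_mul]
    by_cases hc' : p ∣ orderOf c'
    · rw [hθ0 c' hc', mul_zero, zero_mul, zero_mul]
    congr 1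
    rw [Cfsg.Agent.Lib.Helper3.column_orthogonality, Cfsg.Agent.Lib.Helper3.column_orthogonality]
    by_cases hcc : IsConj c c'
    · rw [if_pos hcc, if_pos ((isConj_mul_iff_of_pRegular hp hz c c' hc hc').mpr hcc),
        card_centralizer_mul_of_pRegular hp hz c hc]
    · rw [if_neg hcc, if_neg (fun h => hcc ((isConj_mul_iff_of_pRegular hp hz c c' hc hc').mp h))]
  -- (v)
  have hsumχ : ∀ c : (Subgroup.centralizer ({z} : Set G)), ∑ χ : IrrCharacter (Subgroup.centralizer ({z} : Set G)), (χ : (Subgroup.centralizer ({z} : Set G)) → ℂ) c *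
      ((Nat.card (Subgroup.centralizer ({z} : Set G)) : ℂ) * (if χ ∈ S then conj ((χ : (Subgroup.centralizer ({z} : Set G)) → ℂ) y) else 0)) =
      (Nat.card (Subgroup.centralizer ({z} : Set G)) : ℂ) * θ c := by
    intro c
    rw [hθ]
    show _ = (Nat.card (Subgroup.centralizer ({z} : Set G)) : ℂ) * ∑ χ ∈ S, (χ : (Subgroup.centralizer ({z} : Set G)) → ℂ) c * conj ((χ : (Subgroup.centralizer ({z} : Set G)) → ℂ) y)
    rw [Finset.mul_sum, ← Finset.sum_filter_add_sum_filter_not Finset.univ (fun χ => χ ∈ S)]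
    have e1 : ∑ χ ∈ Finset.univ.filter (fun χ : IrrCharacter (Subgroup.centralizer ({z} : Set G)) => ¬ χ ∈ S),
        (χ : (Subgroup.centralizer ({z} : Set G)) → ℂ) c *
      ((Nat.card (Subgroup.centralizer ({z} : Set G)) : ℂ) * (if χ ∈ S then conj ((χ : (Subgroup.centralizer ({z} : Set G)) → ℂ) y) else 0)) = 0 := by
      refine Finset.sum_eq_zero fun χ hχ => ?_
      rw [if_neg (Finset.mem_filter.mp hχ).2, mul_zero, mul_zero]
    rw [e1, add_zero]
    have e2 : Finset.univ.filter (fun χ : IrrCharacter (Subgroup.centralizer ({z} : Set G)) => χ ∈ S) = S := by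
      ext χ
      simp
    rw [e2]
    refine Finset.sum_congr rfl fun χ hχ => ?_
    rw [if_pos hχ]
    ring
  have hL : ∀ ζ : IrrCharacter G,
      (∑ χ ∈ S, classInner (fun c : Subgroup.centralizer ({z} : Set G) => (ζ : G → ℂ) (z * (c : G)))
          (χ : Subgroup.centralizer ({z} : Set G) → ℂ) *
          (χ : Subgroup.centralizer ({z} : Set G) → ℂ) y) *
        conj (∑ χ ∈ S, classInner (fun c : Subgroup.centralizer ({z} : Set G) => (ζ : G → ℂ) (z * (c : G)))
          (χ : Subgroup.centralizer ({z} : Set G) → ℂ) *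
          (χ : Subgroup.centralizer ({z} : Set G) → ℂ) y) =
      (Nat.card (Subgroup.centralizer ({z} : Set G)) : ℂ)⁻¹ * (Nat.card (Subgroup.centralizer ({z} : Set G)) : ℂ)⁻¹ * ∑ c : (Subgroup.centralizer ({z} : Set G)), ∑ c' : (Subgroup.centralizer ({z} : Set G)), conj (θ c) * θ c' *
        ((ζ : G → ℂ) (z * (c : G)) * conj ((ζ : G → ℂ) (z * (c' : G)))) := by
    intro ζ
    rw [hv ζ, map_mul, map_inv₀, map_natCast, map_sum]
    simp only [map_mul, Complex.conj_conj]
    rw [mul_mul_mul_comm, Finset.sum_mul_sum]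
    congr 1
    refine Finset.sum_congr rfl fun c _ => ?_
    refine Finset.sum_congr rfl fun c' _ => ?_
    ring
  rw [Finset.sum_congr rfl fun ζ _ => hL ζ, ← Finset.mul_sum, Finset.sum_comm]
  have h6 : ∀ c : (Subgroup.centralizer ({z} : Set G)), ∑ ζ : IrrCharacter G, ∑ c' : (Subgroup.centralizer ({z} : Set G)), conj (θ c) * θ c' *
      ((ζ : G → ℂ) (z * (c : G)) * conj ((ζ : G → ℂ) (z * (c' : G)))) =
      (Nat.card (Subgroup.centralizer ({z} : Set G)) : ℂ) * (conj (θ c) * θ c) := by
    intro c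
    rw [Finset.sum_comm]
    simp_rw [← Finset.mul_sum]
    rw [Finset.sum_congr rfl fun c' _ => hK c c']
    simp_rw [Finset.mul_sum]
    rw [Finset.sum_comm]
    have h7 : ∀ χ : IrrCharacter (Subgroup.centralizer ({z} : Set G)), ∑ c' : (Subgroup.centralizer ({z} : Set G)), conj (θ c) * θ c' *
        ((χ : (Subgroup.centralizer ({z} : Set G)) → ℂ) c * conj ((χ : (Subgroup.centralizer ({z} : Set G)) → ℂ) c')) =
        conj (θ c) * ((χ : (Subgroup.centralizer ({z} : Set G)) → ℂ) c *
          ((Nat.card (Subgroup.centralizer ({z} : Set G)) : ℂ) * (if χ ∈ S then conj ((χ : (Subgroup.centralizer ({z} : Set G)) → ℂ) y) else 0))) := by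
      intro χ
      rw [← hθχ χ, Finset.mul_sum, Finset.mul_sum]
      refine Finset.sum_congr rfl fun c' _ => ?_
      ring
    rw [Finset.sum_congr rfl fun χ _ => h7 χ, ← Finset.mul_sum, hsumχ]
    ring
  rw [Finset.sum_congr rfl fun c _ => h6 c, ← Finset.mul_sum]
  have h8 : ∑ c : (Subgroup.centralizer ({z} : Set G)), conj (θ c) * θ c = (Nat.card (Subgroup.centralizer ({z} : Set G)) : ℂ) *
      ∑ χ ∈ S, (χ : (Subgroup.centralizer ({z} : Set G)) → ℂ) y * conj ((χ : (Subgroup.centralizer ({z} : Set G)) → ℂ) y) := by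
    simp_rw [hconjθ, Finset.sum_mul]
    rw [Finset.sum_comm, Finset.mul_sum]
    refine Finset.sum_congr rfl fun χ hχ => ?_
    have h9 : ∀ c : (Subgroup.centralizer ({z} : Set G)), conj ((χ : (Subgroup.centralizer ({z} : Set G)) → ℂ) c) * (χ : (Subgroup.centralizer ({z} : Set G)) → ℂ) y * θ c =
        (χ : (Subgroup.centralizer ({z} : Set G)) → ℂ) y * (θ c * conj ((χ : (Subgroup.centralizer ({z} : Set G)) → ℂ) c)) := fun c => by ring
    rw [Finset.sum_congr rfl fun c _ => h9 c, ← Finset.mul_sum, hθχ χ, if_pos hχ]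
    ring
  rw [h8]
  field_simp

end Cfsg.Agent.Lib.Helper75
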