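import Mathlib
import Cfsg.Agent.Lib.Helper41.SpBNDefs
import Cfsg.Agent.Lib.Helper40.SpGen1
import Cfsg.Agent.S0765

/-! S2545 SpBN hive (helper41), leaf TOP (helper75). -/

set_option autoImplicit false

namespace Cfsg.Agent.Lib.Helper41.SpBN

open Matrix Cfsg Cfsg.Agent.Lib.Helper13

variable {F : Type*} [Field F] {m : ℕ}

/-- `symJ` is monomial (permutation `Sum.swap`) -/
theorem top_symJ_mem_N : SymplecticGroup.symJ (Fin m) F ∈ Nsp F m := by
  refine ⟨swapPerm m, fun s => eta F s.swap, ?_⟩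
  intro a s
  change Matrix.J (Fin m) F a s = _
  rw [J_apply_eq, swapPerm_apply]
  by_cases h : s = a.swap
  · subst h
    simp
  · rw [if_neg h, if_neg]
    intro h'
    apply h
    rw [h', Sum.swap_swap]

theorem top_J_mulVec (e : Fin m → F) :
    (SymplecticGroup.symJ (Fin m) F).1 *ᵥ (Sum.elim e 0) = Sum.elim (0 : Fin m → F) e := by
  change Matrix.J (Fin m) F *ᵥ _ = _
  ext a
  rcases a with i | i
  · simp [Matrix.J, Matrix.mulVec, dotProduct, Fintype.sum_sum_type, Matrix.one_apply]
  · simp [Matrix.J, Matrix.mulVec, dotProduct, Fintype.sum_sum_type, Matrix.one_apply]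

theorem top_transv_mem_B (e : Fin m → F) (c : F) :
    sympTransvElt m (Sum.elim e 0) c ∈ Bsp F m := by
  have key : ∀ j : Fin m, Cfsg.sympTransvection m (Sum.elim e (0 : Fin m → F)) c *ᵥ
      Pi.single (Sum.inl j) 1 = Pi.single (Sum.inl j) 1 := by
    intro j
    rw [sympTransvection_mulVec, sympForm_expand]
    simp
  have entry : ∀ (a : Idx m) (j : Fin m),
      (sympTransvElt m (Sum.elim e (0 : Fin m → F)) c).1 a (Sum.inl j) =
        (Pi.single (Sum.inl j) 1 : Idx m → F) a := by
    intro a j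
    have := congrFun (key j) a
    rw [Matrix.mulVec_single_one, Matrix.col_apply] at this
    exact this
  rw [mem_Bsp_iff]
  constructor
  · intro i j hji
    rw [entry, Pi.single_apply, if_neg]
    intro h
    have := Sum.inl.inj h
    subst this
    omega
  · intro i j
    rw [entry, Pi.single_apply, if_neg (by simp)]

/-- LEAF TOP: `H = B ⊔ N` contains every symplectic transvection: `sympTransvElt m (Sum.elim e 0) c ∈ B`
(its matrix is `fromBlocks 1 * 0 1`), `sympTransvElt m (Sum.elim 0 f) c` is its conjugate under `symJ ∈ N`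
(helper40 `SpGen.conj_transv`), so `SpGen.TT_top` gives all transvections, and `S0765.result` gives `⊤`. -/
theorem B_sup_N : Bsp F m ⊔ Nsp F m = ⊤ := by
  have hL : ∀ e : Fin m → F, Sum.elim e 0 ∈ Cfsg.Agent.Lib.Helper40.SpGen.TT m (Bsp F m ⊔ Nsp F m) :=
    fun e c => Subgroup.mem_sup_left (top_transv_mem_B e c)
  have hR : ∀ f : Fin m → F,
      Sum.elim (0 : Fin m → F) f ∈ Cfsg.Agent.Lib.Helper40.SpGen.TT m (Bsp F m ⊔ Nsp F m) := by
    intro f
    have := Cfsg.Agent.Lib.Helper40.SpGen.mulVec_mem_TT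
      (Subgroup.mem_sup_right (top_symJ_mem_N (F := F) (m := m))) (hL f)
    rwa [top_J_mulVec] at this
  have hall := fun v => Cfsg.Agent.Lib.Helper40.SpGen.TT_top hL hR v
  rw [eq_top_iff, ← Cfsg.Agent.S0765.result (F := F) m, Subgroup.closure_le]
  rintro A ⟨w, c, hA⟩
  have : A = sympTransvElt m w c := Subtype.ext hA
  rw [this]
  exact hall w c

end Cfsg.Agent.Lib.Helper41.SpBN
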