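import Cfsg.Agent.Lib.Helper75.St_T3

/-! # ST-T2: the `B`-orbits on `G ⧸ P_J` are represented by the right-`J`-reduced elements
(helper75, for helper6's Steinberg hive) -/

set_option autoImplicit false

namespace Cfsg.Agent.Lib.Helper6.St

open Cfsg Cfsg.Agent.Lib.Helper6 Cfsg.Agent.Lib.Helper6.Exch

section G
variable {G : Type*} [Group G] (P : Cfsg.BNPair G)

/-- `g P_J` lies in the `B`-orbit of `ḋ P_J` iff `g ∈ B ḋ P_J` -/
lemma t2_mem_orbit_iff (J : Set P.S) (d : Wg P) (g : G) :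
    (QuotientGroup.mk g : G ⧸ P.parabolic (Subtype.val '' J)) ∈ MulAction.orbit P.B (rJ P J d) ↔
      ∃ b ∈ P.B, ∃ p ∈ P.parabolic (Subtype.val '' J),
        g = b * ((Quotient.out d : P.N) : G) * p := by
  rw [MulAction.mem_orbit_iff]
  constructor
  · rintro ⟨b, hb⟩
    unfold rJ at hb
    change ((b : G) • (QuotientGroup.mk ((Quotient.out d : P.N) : G) :
      G ⧸ P.parabolic (Subtype.val '' J))) = _ at hb
    rw [MulAction.Quotient.smul_mk, smul_eq_mul, QuotientGroup.eq] at hb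
    refine ⟨b, b.2, _, hb, ?_⟩
    group
  · rintro ⟨b, hb, p, hp, rfl⟩
    refine ⟨⟨b, hb⟩, ?_⟩
    unfold rJ
    change ((b : G) • (QuotientGroup.mk ((Quotient.out d : P.N) : G) :
      G ⧸ P.parabolic (Subtype.val '' J))) = _
    rw [MulAction.Quotient.smul_mk, smul_eq_mul, QuotientGroup.eq]
    have : (b * ((Quotient.out d : P.N) : G))⁻¹ * (b * ((Quotient.out d : P.N) : G) * p) = p := by
      group
    rw [this]
    exact hp

theorem existsUnique_rred_orbit (J : Set P.S) (x : G ⧸ P.parabolic (Subtype.val '' J)) :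
    ∃! d : {d : Wg P // RRed (S0320.sig P) J d}, x ∈ MulAction.orbit P.B (rJ P J d.1) := by
  obtain ⟨g, rfl⟩ := QuotientGroup.mk_surjective x
  -- existence
  obtain ⟨w, hw, -⟩ := exists_unique_Cw P g
  obtain ⟨d, v, hd, hv, rfl⟩ := exists_rred (exSys_sig P) J w
  obtain ⟨y, hy, z, hz, rfl⟩ := Cw_mul_superset P d v hw
  have hzP : z ∈ P.parabolic (Subtype.val '' J) := by
    have : z ∈ (P.parabolic (Subtype.val '' J) : Set G) := by
      rw [parabolic_eq_iUnion]
      simp only [Set.mem_iUnion]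
      exact ⟨v, hv, hz⟩
    exact this
  have hy' : y ∈ C P ((Quotient.out d : P.N) : G) := hy
  rw [mem_C] at hy'
  obtain ⟨b1, hb1, b2, hb2, rfl⟩ := hy'
  refine ⟨⟨d, hd⟩, ?_, ?_⟩
  · show _ ∈ MulAction.orbit P.B (rJ P J d)
    rw [t2_mem_orbit_iff]
    refine ⟨b1, hb1, b2 * z, (P.parabolic _).mul_mem (B_le_parabolic _ hb2) hzP, ?_⟩
    group
  · rintro ⟨d', hd'⟩ hx
    change _ ∈ MulAction.orbit P.B (rJ P J d') at hx
    rw [t2_mem_orbit_iff] at hx
    obtain ⟨b, hb, p, hp, he⟩ := hx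
    -- `b1 ḋ b2 z = b ḋ' p`, so `ḋ' = (b⁻¹ b1 ḋ) (b2 z p⁻¹)`
    have h1 : ((Quotient.out d' : P.N) : G) =
        (b⁻¹ * b1 * ((Quotient.out d : P.N) : G)) * (b2 * z * p⁻¹) := by
      have : ((Quotient.out d' : P.N) : G) =
          b⁻¹ * (b * ((Quotient.out d' : P.N) : G) * p) * p⁻¹ := by group
      rw [this, ← he]; group
    have h2 : b⁻¹ * b1 * ((Quotient.out d : P.N) : G) ∈ Cw P d :=
      mul_mem_C_left P (P.B.mul_mem (P.B.inv_mem hb) hb1) (self_mem_C P _)
    have h3 : b2 * z * p⁻¹ ∈ (P.parabolic (Subtype.val '' J) : Set G) :=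
      (P.parabolic _).mul_mem ((P.parabolic _).mul_mem (B_le_parabolic _ hb2) hzP)
        ((P.parabolic _).inv_mem hp)
    rw [parabolic_eq_iUnion] at h3
    simp only [Set.mem_iUnion] at h3
    obtain ⟨v', hv', h3'⟩ := h3
    have hadd := rred_add (exSys_sig P) J hd hv'
    have h4 := Cw_mul_of_add P hadd h2 h3'
    rw [← h1] at h4
    have h5 : ((Quotient.out d' : P.N) : G) ∈ Cw P d' := self_mem_C P _
    have h6 : d * v' = d' := (exists_unique_Cw P _).unique h4 h5
    have h7 : d = d' := by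
      apply rred_unique (exSys_sig P) J hd hd'
      rw [← h6]
      simpa using hv'
    exact Subtype.ext h7.symm

end G

end Cfsg.Agent.Lib.Helper6.St
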