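import Cfsg.Agent.Lib.Helper80.St_T0
import Cfsg.Agent.Lib.Helper93.St_SG2
import Cfsg.Agent.Lib.Helper31.St_SW3

/-! # ST-T3: the stabilizer in `B` of the point `ḋ P_J` (helper75, for helper6's Steinberg hive) -/

set_option autoImplicit false

namespace Cfsg.Agent.Lib.Helper6.St

open Cfsg Cfsg.Agent.Lib.Helper6 Cfsg.Agent.Lib.Helper6.Exch

section G
variable {G : Type*} [Group G] (P : Cfsg.BNPair G)

/-- `b ḋ P_J = ḋ P_J` iff `ḋ⁻¹ b ḋ ∈ P_J` -/
lemma t3_smul_rJ_eq_iff (J : Set P.S) (d : Wg P) (b : P.B) :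
    b • rJ P J d = rJ P J d ↔
      ((Quotient.out d : P.N) : G)⁻¹ * (b : G) * ((Quotient.out d : P.N) : G) ∈
        P.parabolic (Subtype.val '' J) := by
  unfold rJ
  change ((b : G) • (QuotientGroup.mk ((Quotient.out d : P.N) : G) :
    G ⧸ P.parabolic (Subtype.val '' J))) = _ ↔ _
  rw [MulAction.Quotient.smul_mk, smul_eq_mul, eq_comm, QuotientGroup.eq, mul_assoc]

/-- membership in `B ∩ ḋ B ḋ⁻¹` -/
lemma t3_mem_Bw_iff (d : Wg P) (b : P.B) :
    (b : G) ∈ Bw P d ↔
      ((Quotient.out d : P.N) : G)⁻¹ * (b : G) * ((Quotient.out d : P.N) : G) ∈ P.B := by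
  unfold Bw
  rw [Subgroup.mem_inf, Subgroup.mem_map]
  constructor
  · rintro ⟨_, c, hc, hcb⟩
    have h1 : (b : G) = ((Quotient.out d : P.N) : G) * c * ((Quotient.out d : P.N) : G)⁻¹ := by
      rw [← hcb]; rfl
    rw [h1]
    have h2 : ((Quotient.out d : P.N) : G)⁻¹ *
        (((Quotient.out d : P.N) : G) * c * ((Quotient.out d : P.N) : G)⁻¹) *
        ((Quotient.out d : P.N) : G) = c := by group
    rw [h2]; exact hc
  · intro h
    refine ⟨b.2, _, h, ?_⟩
    show ((Quotient.out d : P.N) : G) *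
      (((Quotient.out d : P.N) : G)⁻¹ * (b : G) * ((Quotient.out d : P.N) : G)) *
      ((Quotient.out d : P.N) : G)⁻¹ = b
    group

/-- for right-`J`-reduced `d`: `ḋ p ∈ B ḋ B` with `p ∈ P_J` forces `p ∈ B` -/
lemma t3_mem_B_of_mul_mem (J : Set P.S) {d : Wg P} (hd : RRed (S0320.sig P) J d) {x p : G}
    (hx : x ∈ Cw P d) (hp : p ∈ P.parabolic (Subtype.val '' J)) (hxp : x * p ∈ Cw P d) :
    p ∈ P.B := by
  have hp' : p ∈ (P.parabolic (Subtype.val '' J) : Set G) := hp
  rw [parabolic_eq_iUnion] at hp'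
  simp only [Set.mem_iUnion] at hp'
  obtain ⟨v, hv, hpv⟩ := hp'
  have hadd := rred_add (exSys_sig P) J hd hv
  have h4 := Cw_mul_of_add P hadd hx hpv
  have h7 : d * v = d := (exists_unique_Cw P (x * p)).unique h4 hxp
  have hv1 : v = 1 := by simpa using h7
  rw [hv1, Cw_one] at hpv
  exact hpv

theorem stabilizer_rJ (J : Set P.S) {d : Wg P} (hd : RRed (S0320.sig P) J d) :
    MulAction.stabilizer P.B (rJ P J d) = (Bw P d).subgroupOf P.B := by
  ext b
  rw [MulAction.mem_stabilizer_iff, Subgroup.mem_subgroupOf, t3_smul_rJ_eq_iff, t3_mem_Bw_iff]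
  constructor
  · intro hp
    have h3 : ((Quotient.out d : P.N) : G) ∈ Cw P d := self_mem_C P _
    apply t3_mem_B_of_mul_mem P J hd h3 hp
    have h5 : ((Quotient.out d : P.N) : G) *
        (((Quotient.out d : P.N) : G)⁻¹ * (b : G) * ((Quotient.out d : P.N) : G)) =
        (b : G) * ((Quotient.out d : P.N) : G) := by group
    rw [h5]
    exact mul_mem_C_left P b.2 (self_mem_C P _)
  · intro h
    exact B_le_parabolic _ h

end G

end Cfsg.Agent.Lib.Helper6.St
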