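import Mathlib
import Cfsg.Agent.Lib.Helper86.StnSymDefs

/-! # Stn hive (S2401), sub-hive Stn-SYM, leaf SYM-C4 (helper75): core of `ww_one_conj_hh`
with the Layer A statements as hypotheses. -/

set_option autoImplicit false

namespace Cfsg.Agent.Lib.Helper41.Stn

variable {K : Type*} [Field K] {n : ℕ}

/-- `w(1) w(1) = h(-1)⁻¹` from `ww_inv`. -/
theorem c4_ww_one_sq {i j : Fin n}
    (Hinv : ∀ t : K, (ww i j t)⁻¹ = ww i j (-t)) :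
    ww i j (1 : K) * ww i j 1 = (hh i j (-1))⁻¹ := by
  have h1 : ww i j (-1 : K) = (ww i j 1)⁻¹ := (Hinv 1).symm
  unfold hh
  rw [h1, mul_inv_rev, inv_inv]

/-- `h_ji(z) = h_ij(-z⁻¹) h_ij(-1)⁻¹`. -/
theorem c4_hh_swap {i j : Fin n}
    (Hsym : ∀ {t : K}, t ≠ 0 → ww j i t = ww i j (-t⁻¹))
    (Heq : ∀ t : K, ww i j t = hh i j t * ww i j 1)
    (Hinv : ∀ t : K, (ww i j t)⁻¹ = ww i j (-t))
    {z : K} (hz : z ≠ 0) :
    hh j i z = hh i j (-z⁻¹) * (hh i j (-1))⁻¹ := by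
  have h1 : hh j i z = ww j i z * ww j i (-1) := rfl
  have hm1 : (-1 : K) ≠ 0 := neg_ne_zero.mpr one_ne_zero
  have h2 : ww j i (-1 : K) = ww i j 1 := by
    rw [Hsym hm1]
    congr 1
    rw [inv_neg, inv_one, neg_neg]
  rw [h1, Hsym hz, h2, Heq (-z⁻¹), mul_assoc, c4_ww_one_sq Hinv]

/-- SYM-C4 core. -/
theorem c4_core {i j : Fin n} (hij : i ≠ j) {t : K} (ht : t ≠ 0)
    (Hwh : ∀ {u : K}, u ≠ 0 → ww i j 1 * hh i j u * (ww i j 1)⁻¹ =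
      hh (Equiv.swap i j i) (Equiv.swap i j j) (mu i j 1 i / mu i j 1 j * u) *
        (hh (Equiv.swap i j i) (Equiv.swap i j j) (mu i j 1 i / mu i j 1 j))⁻¹)
    (Hsym : ∀ {t : K}, t ≠ 0 → ww j i t = ww i j (-t⁻¹))
    (Heq : ∀ t : K, ww i j t = hh i j t * ww i j 1)
    (Hinv : ∀ t : K, (ww i j t)⁻¹ = ww i j (-t))
    (Hone : hh i j (1 : K) = 1) :
    ww i j 1 * hh i j t * (ww i j 1)⁻¹ = hh i j t⁻¹ := by
  have hm1 : (-1 : K) ≠ 0 := neg_ne_zero.mpr one_ne_zero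
  have hmt : (-t : K) ≠ 0 := neg_ne_zero.mpr ht
  have hmu : mu i j (1 : K) i / mu i j 1 j = -1 := by
    have hji : j ≠ i := fun h => hij h.symm
    simp [mu, hji]
  rw [Hwh ht, Equiv.swap_apply_left, Equiv.swap_apply_right, hmu,
    c4_hh_swap Hsym Heq Hinv hm1]
  have e1 : (-1 : K) * t = -t := by ring
  rw [e1, c4_hh_swap Hsym Heq Hinv hmt]
  have e2 : -(-t : K)⁻¹ = t⁻¹ := by rw [inv_neg, neg_neg]
  have e3 : -(-1 : K)⁻¹ = 1 := by rw [inv_neg, inv_one, neg_neg]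
  rw [e2, e3, Hone]
  group

end Cfsg.Agent.Lib.Helper41.Stn
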