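import Mathlib
import Cfsg.Agent.Lib.Helper86.StnSymDefs
import Cfsg.Agent.Lib.Helper13.Stn_WINV
import Cfsg.Agent.Lib.Helper13.Stn_HONE
import Cfsg.Agent.Lib.Helper95.Stn_WWW
import Cfsg.Agent.Lib.Helper95.Stn_WSYMM
import Cfsg.Agent.Lib.Helper97.Stn_WHHcore
import Cfsg.Agent.Lib.Helper75.Stn_SYMC4core

/-! # Stn hive (S2401), sub-hive Stn-SYM, leaf SYM-C4 (helper75): `ww_one_conj_hh`,
exact skeleton name and statement (tools/helper86/StnSymSkel.lean.txt).  Uses `whh_core`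
(helper97) + `ww_conj_ww` (helper95) directly, so it does not wait for the `ww_conj_hh` wrapper. -/

set_option autoImplicit false

namespace Cfsg.Agent.Lib.Helper41.Stn

open Matrix

variable {K : Type*} [Field K] {n : ℕ}

/-- SYM-C4 -/
theorem ww_one_conj_hh (hn : 3 ≤ n) {i j : Fin n} (hij : i ≠ j) {t : K} (ht : t ≠ 0) :
    ww i j 1 * hh i j t * (ww i j 1)⁻¹ = hh i j t⁻¹ :=
  c4_core hij ht
    (fun {_} hu => whh_core (K := K) (n := n) ww_inv
      (fun {_ _} hab {_} hs {_ _} hkl {_} hv => ww_conj_ww hn hab hs hkl hv)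
      hij one_ne_zero hij hu)
    (fun {_} hs => ww_symm hn hij hs)
    (ww_eq_hh_mul i j) (ww_inv i j) (hh_one i j)

end Cfsg.Agent.Lib.Helper41.Stn
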