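import Mathlib
import Cfsg.Prelude.Def_GeometricClasses
import Cfsg.Agent.Lib.Helper44.UfDefs

set_option autoImplicit false
open scoped MatrixGroups
open Matrix

/-! S5982 Uf hive (helper44), leaf UF-X1 (helper75). -/

namespace Cfsg.Agent.Lib.Helper44.Uf

universe v

variable {F : Type v} [Field F]

/-- block embedding `M ↦ diag(M, 1)` -/
def x1_emb (i k : ℕ) :
    Matrix (Fin i) (Fin i) F →* Matrix (Fin i ⊕ Fin k) (Fin i ⊕ Fin k) F where
  toFun M := Matrix.fromBlocks M 0 0 1
  map_one' := Matrix.fromBlocks_one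
  map_mul' A B := by
    rw [Matrix.fromBlocks_multiply]
    simp

/-- the block embedding into `Fin n`-matrices along `e` -/
def x1_phi {i k n : ℕ} (e : Fin i ⊕ Fin k ≃ Fin n) :
    Matrix (Fin i) (Fin i) F →* Matrix (Fin n) (Fin n) F :=
  (MonoidHomClass.toMonoidHom (Matrix.reindexAlgEquiv F F e)).comp (x1_emb i k)

theorem x1_phi_apply {i k n : ℕ} (e : Fin i ⊕ Fin k ≃ Fin n) (M : Matrix (Fin i) (Fin i) F) :
    x1_phi e M = Matrix.reindex e e (Matrix.fromBlocks M 0 0 1) := rfl

theorem x1_phi_apply' {i k n : ℕ} (e : Fin i ⊕ Fin k ≃ Fin n) (M : Matrix (Fin i) (Fin i) F) :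
    x1_phi e M = Matrix.reindexAlgEquiv F F e (Matrix.fromBlocks M 0 0 1) := rfl

theorem x1_phi_injective {i k n : ℕ} (e : Fin i ⊕ Fin k ≃ Fin n) :
    Function.Injective (x1_phi (F := F) e) := by
  intro A B hAB
  rw [x1_phi_apply, x1_phi_apply] at hAB
  have := (Matrix.reindex e e).injective hAB
  exact (Matrix.fromBlocks_inj.1 this).1

theorem x1_phi_det {i k n : ℕ} (e : Fin i ⊕ Fin k ≃ Fin n) (M : Matrix (Fin i) (Fin i) F) :
    (x1_phi e M).det = M.det := by
  rw [x1_phi_apply, Matrix.det_reindex_self, Matrix.det_fromBlocks_zero₂₁, Matrix.det_one, mul_one]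

theorem x1_phi_rank {i k n : ℕ} (e : Fin i ⊕ Fin k ≃ Fin n) (M : Matrix (Fin i) (Fin i) F) :
    (x1_phi e M - 1).rank ≤ i := by
  have h0 : (Matrix.fromBlocks M 0 0 1 - Matrix.fromBlocks 1 0 0 1 :
      Matrix (Fin i ⊕ Fin k) (Fin i ⊕ Fin k) F) = Matrix.fromBlocks (M - 1) 0 0 0 := by
    ext (a | a) (b | b) <;> simp [Matrix.one_apply]
  have h1 : x1_phi e M - 1 = Matrix.reindex e e (Matrix.fromBlocks (M - 1) 0 0 0) := by
    have : (1 : Matrix (Fin n) (Fin n) F) = x1_phi e 1 := (map_one _).symm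
    rw [this, x1_phi_apply', x1_phi_apply', ← map_sub, h0, Matrix.coe_reindexAlgEquiv]
  have h2 : Matrix.fromBlocks (M - 1) (0 : Matrix (Fin i) (Fin k) F) (0 : Matrix (Fin k) (Fin i) F)
      (0 : Matrix (Fin k) (Fin k) F) =
      Matrix.fromRows (M - 1) (0 : Matrix (Fin k) (Fin i) F) *
        Matrix.fromCols (1 : Matrix (Fin i) (Fin i) F) (0 : Matrix (Fin i) (Fin k) F) := by
    rw [Matrix.fromRows_mul_fromCols]
    simp
  rw [h1, Matrix.rank_reindex, h2]
  refine (Matrix.rank_mul_le_left _ _).trans ?_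
  refine (Matrix.rank_le_card_width _).trans ?_
  simp

/-- UF-X1 : an element of order `r` of `SL_n(q)` supported on `i` coordinates
(Cauchy in `GL_i(q)`, whose order is divisible by `q^i - 1`; block embedding) -/
theorem exists_small_support [Fintype F] {n : ℕ} (r i : ℕ) (hr : r.Prime) (hi1 : 1 ≤ i) (hin : i ≤ n)
    (hri : r ∣ Fintype.card F ^ i - 1) (hr1 : ¬ r ∣ Fintype.card F - 1) :
    ∃ x : GL (Fin n) F, x ∈ Cfsg.Geo.specialLinear (Fin n) F ∧ x ^ r = 1 ∧ x ≠ 1 ∧
      ((x : Matrix (Fin n) (Fin n) F) - 1).rank ≤ i := by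
  have : Fact r.Prime := ⟨hr⟩
  -- Cauchy in `GL_i(q)`
  have hdvd : r ∣ Nat.card (GL (Fin i) F) := by
    rw [Matrix.card_GL_field]
    refine dvd_trans ?_ (Finset.dvd_prod_of_mem _ (Finset.mem_univ (⟨0, by omega⟩ : Fin i)))
    simpa using hri
  obtain ⟨y, hy⟩ := exists_prime_orderOf_dvd_card' r hdvd
  have hyr : y ^ r = 1 := by rw [← hy]; exact pow_orderOf_eq_one y
  have hy1 : y ≠ 1 := by
    rintro rfl
    rw [orderOf_one] at hy
    exact hr.one_lt.ne hy
  -- `det y = 1`
  have hdet : Matrix.GeneralLinearGroup.det y = 1 := by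
    have h1 : (Matrix.GeneralLinearGroup.det y) ^ r = 1 := by rw [← map_pow, hyr, map_one]
    have h2 : (Matrix.GeneralLinearGroup.det y) ^ (Fintype.card F - 1) = 1 := by
      have := pow_card_eq_one' (G := Fˣ) (x := Matrix.GeneralLinearGroup.det y)
      rwa [Nat.card_units, Nat.card_eq_fintype_card] at this
    have h3 := pow_gcd_eq_one.2 ⟨h1, h2⟩
    rwa [(Nat.Prime.coprime_iff_not_dvd hr).2 hr1, pow_one] at h3
  have hdet' : (y : Matrix (Fin i) (Fin i) F).det = 1 := by
    have := congrArg Units.val hdet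
    simpa using this
  -- the block embedding
  let e : Fin i ⊕ Fin (n - i) ≃ Fin n := finSumFinEquiv.trans (finCongr (by omega))
  refine ⟨Units.map (x1_phi e) y, ?_, ?_, ?_, ?_⟩
  · change Matrix.GeneralLinearGroup.det _ = 1
    apply Units.ext
    rw [Matrix.GeneralLinearGroup.val_det_apply, Units.coe_map, Units.val_one]
    change (x1_phi e (y : Matrix (Fin i) (Fin i) F)).det = 1
    rw [x1_phi_det, hdet']
  · rw [← map_pow, hyr, map_one]
  · intro h
    apply hy1
    apply Units.ext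
    have := congrArg Units.val h
    rw [Units.coe_map, Units.val_one] at this
    apply x1_phi_injective e
    rw [Units.val_one, map_one]
    exact this
  · rw [Units.coe_map]
    exact x1_phi_rank e _

end Cfsg.Agent.Lib.Helper44.Uf
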